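import Cfsg.Agent.FixBN.OfBN

/-!
# Automorphisms of order two of a group with a split (B, N)-pair act on the building
-/

set_option autoImplicit false

namespace Cfsg.Agent.FixBN.TwOfBN

open Cfsg Cfsg.Agent.LieExceptional.BNPairCore Cfsg.Agent.Tits.Core Cfsg.Agent.Tits.Core.Bldg Cfsg.Agent.Tits.OfBN
  Cfsg.Agent.Schreier.BNSch Cfsg.Agent.Tits.OppRes Cfsg.Agent.FixBN.OfBN

variable {K : Type*} [Group K] {P : Cfsg.BNPair K}

/-! ### Automorphisms preserving `B` -/

theorem wt_eq_wt_iff {g g' : K} : wt P g = wt P g' ↔ ∃ b ∈ P.B, ∃ b' ∈ P.B, g' = b * g * b' := by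
  constructor
  · intro h
    obtain ⟨n, hn⟩ := exists_mem_C P g
    rw [wt_of_mem P hn] at h
    obtain ⟨b₁, hb₁, b₂, hb₂, h1⟩ := mem_C.1 hn
    obtain ⟨c₁, hc₁, c₂, hc₂, h2⟩ := mem_C.1 (mem_C_of_wt P h.symm)
    refine ⟨c₁ * b₁⁻¹, mul_mem hc₁ (inv_mem hb₁), b₂⁻¹ * c₂, mul_mem (inv_mem hb₂) hc₂, ?_⟩
    rw [h1, h2]; group
  · rintro ⟨b, hb, b', hb', rfl⟩
    rw [wt_mul_right P _ hb', wt_mul_left P _ hb]

section

variable (α : K ≃* K) (hα : ∀ b, α b ∈ P.B ↔ b ∈ P.B)

include hα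

theorem wt_map_iff {g g' : K} : wt P (α g) = wt P (α g') ↔ wt P g = wt P g' := by
  rw [wt_eq_wt_iff, wt_eq_wt_iff]
  constructor
  · rintro ⟨b, hb, b', hb', h⟩
    refine ⟨α.symm b, ?_, α.symm b', ?_, ?_⟩
    · rw [← hα, α.apply_symm_apply]; exact hb
    · rw [← hα, α.apply_symm_apply]; exact hb'
    · apply α.injective
      rw [h, map_mul, map_mul, α.apply_symm_apply, α.apply_symm_apply]
  · rintro ⟨b, hb, b', hb', h⟩
    exact ⟨α b, (hα b).2 hb, α b', (hα b').2 hb', by rw [h, map_mul, map_mul]⟩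

omit hα in
/-- The map induced on the Weyl group. -/
noncomputable def fW (P : Cfsg.BNPair K) (α : K ≃* K) (w : WP P) : WP P := wt P (α (w.out : K))

theorem fW_wt (g : K) : fW P α (wt P g) = wt P (α g) := by
  unfold fW
  rw [wt_map_iff α hα]
  obtain ⟨n, hn⟩ := exists_mem_C P g
  rw [wt_of_mem P hn]
  apply wt_of_mem P (n := n)
  have h1 : (QuotientGroup.mk (QuotientGroup.mk n : WP P).out : WP P) = QuotientGroup.mk n := Quotient.out_eq' _
  rw [mk_eq_iff] at h1
  have h2 : (((QuotientGroup.mk n : WP P).out : P.N) : K) =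
      1 * (n : K) * ((((QuotientGroup.mk n : WP P).out : P.N) : K)⁻¹ * n)⁻¹ := by group
  rw [mem_C]
  exact ⟨1, one_mem _, _, inv_mem h1, h2⟩

omit hα in
theorem exists_wt (w : WP P) : ∃ g : K, wt P g = w := by
  induction w using QuotientGroup.induction_on with
  | H n => exact ⟨n, wt_of_mem P (self_mem_C _)⟩

theorem fW_injective : Function.Injective (fW P α) := by
  intro v w h
  obtain ⟨g, rfl⟩ := exists_wt v
  obtain ⟨g', rfl⟩ := exists_wt w
  rw [fW_wt α hα, fW_wt α hα] at h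
  exact (wt_map_iff α hα).1 h

variable [hN : ((P.B ⊓ P.N).subgroupOf P.N).Normal]

theorem fW_one : fW P α 1 = 1 := by
  have h1 : wt P (1 : K) = 1 := wt_of_mem P (n := 1) (self_mem_C _)
  rw [← h1, fW_wt α hα, map_one]

variable {I : Type*} {M : CoxeterMatrix I} (e : I ≃ P.S) (cs : CoxeterSystem M (WP P))
  (hcs : ∀ i, cs.simple i = QuotientGroup.mk (⟨(e i : K), P.subset (e i).2⟩ : P.N))

include hcs

omit hα in
theorem wt_e (i : I) : wt P (e i : K) = cs.simple i := by
  rw [hcs]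
  exact wt_of_mem P (self_mem_C _)

theorem exists_type (i : I) : ∃ j, wt P (α (e i : K)) = cs.simple j := by
  have h1 : P.B.map (α : MulAut K).toMonoidHom = P.B := by
    ext x
    constructor
    · rintro ⟨b, hb, rfl⟩
      exact (hα b).2 hb
    · intro hx
      refine ⟨α.symm x, ?_, α.apply_symm_apply x⟩
      show α.symm x ∈ P.B
      rw [← hα, α.apply_symm_apply]
      exact hx
  obtain ⟨t, ht, h2⟩ := exists_map_eq P (α : MulAut K) h1 (e i).2
  have h3 : α (e i : K) ∈ P.parabolic {t} := by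
    rw [← h2]
    exact ⟨_, mem_parabolic_self P _, rfl⟩
  refine ⟨e.symm ⟨t, ht⟩, ?_⟩
  rcases mem_parabolic_singleton P ht h3 with h | ⟨b, hb, b', hb', h⟩
  · exfalso
    rw [hα] at h
    exact Schreier.BNSch.not_mem_B P (e i).2 h
  · rw [h, wt_mul_right P _ hb', wt_mul_left P _ hb]
    have := wt_e e cs hcs (e.symm ⟨t, ht⟩)
    rwa [Equiv.apply_symm_apply] at this

/-- The type permutation. -/
noncomputable def sigma (i : I) : I := (exists_type α hα e cs hcs i).choose

theorem sigma_spec (i : I) : wt P (α (e i : K)) = cs.simple (sigma α hα e cs hcs i) :=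
  (exists_type α hα e cs hcs i).choose_spec

theorem fW_simple (i : I) : fW P α (cs.simple i) = cs.simple (sigma α hα e cs hcs i) := by
  rw [← wt_e e cs hcs, fW_wt α hα, sigma_spec]

theorem fW_mul_simple (w : WP P) (i : I) : fW P α (w * cs.simple i) = fW P α w * cs.simple (sigma α hα e cs hcs i) := by
  obtain ⟨n, rfl⟩ := QuotientGroup.mk_surjective w
  have hw : (QuotientGroup.mk n : WP P) = wt P (n : K) := (wt_of_mem P (self_mem_C _)).symm
  have hws : (QuotientGroup.mk n : WP P) * cs.simple i = wt P ((n : K) * (e i : K)) := by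
    rw [hcs, ← QuotientGroup.mk_mul]
    exact (wt_of_mem P (n := n * ⟨(e i : K), P.subset (e i).2⟩) (self_mem_C _)).symm
  rw [hws, hw, fW_wt α hα, fW_wt α hα]
  have hne : wt P (α ((n : K) * (e i : K))) ≠ wt P (α (n : K)) := by
    intro h
    rw [wt_map_iff α hα, ← hws, ← hw] at h
    have h1 := mul_eq_left.1 h
    have h2 := cs.length_simple i
    rw [h1, cs.length_one] at h2
    exact absurd h2 (by norm_num)
  obtain ⟨m, hm⟩ := exists_mem_C P (α (n : K))
  have hj := sigma_spec α hα e cs hcs i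
  set j := sigma α hα e cs hcs i
  have hj' := mem_C_of_wt P (n := ⟨(e j : K), P.subset (e j).2⟩) (by rw [hj, hcs])
  rcases mem_C_mul_right hm hj' (e j).2 with h | h
  · rw [map_mul, wt_of_mem P (n := m * ⟨(e j : K), P.subset (e j).2⟩) h, wt_of_mem P hm, hcs, QuotientGroup.mk_mul]
  · exfalso
    apply hne
    rw [map_mul, wt_of_mem P h, wt_of_mem P hm]

theorem fW_mul (v w : WP P) : fW P α (v * w) = fW P α v * fW P α w := by
  obtain ⟨ω, rfl⟩ := cs.wordProd_surjective w
  induction ω using List.reverseRecOn with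
  | nil => rw [cs.wordProd_nil, mul_one, fW_one α hα, mul_one]
  | append_singleton ω i ih =>
    rw [cs.wordProd_append, cs.wordProd_singleton, ← mul_assoc, fW_mul_simple α hα e cs hcs, ih,
      fW_mul_simple α hα e cs hcs, mul_assoc]

end

/-! ### Automorphisms of order two -/

variable {p : ℕ} {U : Subgroup K} (S : Split P p U)

include S

/-- `N_K(B) = B`. -/
theorem mem_of_conj {x : K} (h : ∀ b ∈ P.B, x⁻¹ * b * x ∈ P.B) [Finite K] [Fact p.Prime] : x ∈ P.B := by
  have h1 : U.map (MulAut.conj x⁻¹).toMonoidHom ≤ U := by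
    rintro _ ⟨u, hu, rfl⟩
    obtain ⟨k, hk⟩ := S.isP ⟨u, hu⟩
    have hk' : u ^ p ^ k = 1 := by simpa using congrArg Subtype.val hk
    have h2 : (MulAut.conj x⁻¹).toMonoidHom u = x⁻¹ * u * x := by simp
    rw [h2]
    apply S.mem_of_pow (h u (S.le hu)) (n := k)
    rw [← h2, ← map_pow, hk', map_one]
  have h7 : U.map (MulAut.conj x⁻¹).toMonoidHom = U :=
    Subgroup.eq_of_le_of_card_ge h1
      (le_of_eq (Nat.card_congr (U.equivMapOfInjective (MulAut.conj x⁻¹).toMonoidHom
        (MulAut.conj x⁻¹).injective).toEquiv))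
  have h8 : x⁻¹ ∈ Subgroup.normalizer (U : Set K) := by
    rw [Subgroup.mem_normalizer_iff]
    intro d
    constructor
    · intro hd
      rw [← h7]
      exact ⟨d, hd, rfl⟩
    · intro hd
      rw [← h7] at hd
      obtain ⟨y, hy, hyd⟩ := hd
      have : y = d := (MulAut.conj x⁻¹).injective hyd
      rwa [← this]
  rw [S.normalizer_eq] at h8
  simpa using inv_mem h8

/-- `τ B` is a conjugate of `B`. -/
theorem exists_conj [Finite K] [Fact p.Prime] (τ : K ≃* K) : ∃ g : K, ∀ b, g⁻¹ * τ b * g ∈ P.B ↔ b ∈ P.B := by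
  obtain ⟨x, hx⟩ := OfBN.exists_fix S (U.map τ.toMonoidHom) (S.isP.map _)
  have hle := OfBN.max S x (U.map τ.toMonoidHom) (S.isP.map _) hx
  obtain ⟨g, rfl⟩ := QuotientGroup.mk_surjective x
  -- `α = conj g⁻¹ ∘ τ`
  set α : K ≃* K := τ.trans (MulAut.conj g⁻¹) with hα
  have hα' : ∀ b, α b = g⁻¹ * τ b * g := by
    intro b
    rw [hα]
    simp
  have h1 : U.map α.toMonoidHom ≤ U := by
    rintro _ ⟨u, hu, rfl⟩
    have h2 := (mem_UU S).1 (hle ⟨u, hu, rfl⟩)
    show α u ∈ U
    rw [hα']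
    exact h2
  have h7 : U.map α.toMonoidHom = U :=
    Subgroup.eq_of_le_of_card_ge h1
      (le_of_eq (Nat.card_congr (U.equivMapOfInjective α.toMonoidHom α.injective).toEquiv))
  have hU : ∀ u, α u ∈ U ↔ u ∈ U := by
    intro u
    constructor
    · intro h
      rw [← h7] at h
      obtain ⟨y, hy, hyu⟩ := h
      have : y = u := α.injective hyu
      rwa [← this]
    · intro h
      exact h1 ⟨u, h, rfl⟩
  refine ⟨g, fun b => ?_⟩
  rw [← hα', ← S.normalizer_eq, Subgroup.mem_normalizer_iff, Subgroup.mem_normalizer_iff]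
  constructor
  · intro h u
    have := h (α u)
    rw [← map_inv, ← map_mul, ← map_mul, hU, hU] at this
    exact this
  · intro h u
    have := h (α.symm u)
    rw [← hU, α.apply_symm_apply, ← hU (b * α.symm u * b⁻¹), map_mul, map_mul, map_inv, α.apply_symm_apply] at this
    exact this

/-- **Automorphisms of order two.** -/
theorem exists_tw [Finite K] [Fact p.Prime] [hN : ((P.B ⊓ P.N).subgroupOf P.N).Normal]
    {I : Type*} {M : CoxeterMatrix I} (e : I ≃ P.S) (cs : CoxeterSystem M (WP P))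
    (hcs : ∀ i, cs.simple i = QuotientGroup.mk (⟨(e i : K), P.subset (e i).2⟩ : P.N))
    (τ : K ≃* K) (hτ : ∀ g, τ (τ g) = g) : ∃ t : Tw (bldg P e cs hcs) K, t.τ = τ := by
  have hI : Finite I := finite_I e
  have hC : Cox cs := inferInstance
  obtain ⟨g, hg⟩ := exists_conj S τ
  set α : K ≃* K := τ.trans (MulAut.conj g⁻¹) with hαdef
  have hα' : ∀ b, α b = g⁻¹ * τ b * g := by
    intro b
    rw [hαdef]
    simp
  have hα : ∀ b, α b ∈ P.B ↔ b ∈ P.B := fun b => by rw [hα']; exact hg b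
  -- `τ g * g ∈ B`
  have hgB : τ g * g ∈ P.B := by
    apply mem_of_conj S
    intro b hb
    have h1 : (τ g * g)⁻¹ * b * (τ g * g) = α (α b) := by
      rw [hα', hα', map_mul, map_mul, hτ, map_inv]; group
    rw [h1, hα, hα]
    exact hb
  have hαα : ∀ x, wt P (α (α x)) = wt P x := by
    intro x
    have h1 : α (α x) = (τ g * g)⁻¹ * x * (τ g * g) := by
      rw [hα', hα', map_mul, map_mul, hτ, map_inv]; group
    rw [h1, wt_mul_right P _ hgB, wt_mul_left P _ (inv_mem hgB)]
  -- the action on chambers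
  have hθwd : ∀ a b : K, a⁻¹ * b ∈ P.B → (QuotientGroup.mk (τ a * g) : K ⧸ P.B) = QuotientGroup.mk (τ b * g) := by
    intro a b h
    rw [OfBN.mk_eq]
    have h1 : (τ a * g)⁻¹ * (τ b * g) = α (a⁻¹ * b) := by
      rw [hα', map_mul, map_inv]; group
    rw [h1, hα]
    exact h
  set θ₀ : K ⧸ P.B → K ⧸ P.B := Quotient.lift (fun a : K => (QuotientGroup.mk (τ a * g) : K ⧸ P.B))
    (fun a b h => hθwd a b (QuotientGroup.leftRel_apply.1 h)) with hθ₀
  have hθ : ∀ a : K, θ₀ (QuotientGroup.mk a) = QuotientGroup.mk (τ a * g) := fun a => rfl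
  have hθθ : ∀ x, θ₀ (θ₀ x) = x := by
    intro x
    induction x using QuotientGroup.induction_on with
    | _ a =>
    rw [hθ, hθ, OfBN.mk_eq, map_mul, hτ]
    have h1 : (a * τ g * g)⁻¹ * a = (τ g * g)⁻¹ := by group
    rw [h1]
    exact inv_mem hgB
  have hff : ∀ w : WP P, fW P α (fW P α w) = w := by
    intro w
    obtain ⟨x, rfl⟩ := exists_wt w
    rw [fW_wt α hα, fW_wt α hα, hαα]
  refine ⟨⟨τ, ⟨θ₀, θ₀, hθθ, hθθ⟩, ⟨⟨fW P α, fW P α, hff, hff⟩, fW_mul α hα e cs hcs⟩, sigma α hα e cs hcs,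
    ?_, ?_, ?_, hτ, hθθ, ?_⟩, rfl⟩
  · exact fun i => fW_simple α hα e cs hcs i
  · intro x y
    induction x using QuotientGroup.induction_on with
    | _ a =>
    induction y using QuotientGroup.induction_on with
    | _ b =>
    show (bldg P e cs hcs).δ (θ₀ (QuotientGroup.mk a)) (θ₀ (QuotientGroup.mk b)) = fW P α _
    rw [hθ, hθ, bldg_δ_mk, bldg_δ_mk, fW_wt α hα]
    congr 1
    rw [hα', map_mul, map_inv]; group
  · intro k x
    induction x using QuotientGroup.induction_on with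
    | _ a =>
    show θ₀ (k • QuotientGroup.mk a) = τ k • θ₀ (QuotientGroup.mk a)
    rw [OfBN.smul_mk, hθ, hθ, OfBN.smul_mk, map_mul, mul_assoc]
  · intro i
    apply hC.inj
    rw [← fW_simple α hα e cs hcs, ← fW_simple α hα e cs hcs, hff]

end Cfsg.Agent.FixBN.TwOfBN
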