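import Cfsg.Agent.FixBN.Fix
import Cfsg.Agent.FixBN.TwOfBN
import Cfsg.Agent.S0320
/-!
THEOREM FIX for groups with a split (B,N)-pair of odd characteristic.
-/

set_option autoImplicit false

namespace Cfsg.Agent.FixBN

open Cfsg.Agent.Tits.Core Cfsg.Agent.Tits.OfBN Cfsg.Agent.Schreier.BNSch

/-- The building data of an automorphism of order two of a group with a split (B,N)-pair. -/
theorem exists_data {K : Type*} [Group K] [Finite K] {p : ℕ} [hp : Fact p.Prime]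
    {P : Cfsg.BNPair K} {U : Subgroup K} (h : Split P p U) (τ : K ≃* K) (hτ : ∀ g, τ (τ g) = g) :
    ∃ (_ : ((P.B ⊓ P.N).subgroupOf P.N).Normal) (M : CoxeterMatrix P.S)
      (cs : CoxeterSystem M (WP P)) (hcs : ∀ i, cs.simple i =
        QuotientGroup.mk (⟨((Equiv.refl P.S i : P.S) : K), P.subset (Equiv.refl P.S i).2⟩ : P.N))
      (_ : Finite P.S) (_ : Finite (WP P))
      (_ : Sys (bldg P (Equiv.refl P.S) cs hcs) K p) (t : Tw (bldg P (Equiv.refl P.S) cs hcs) K),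
      t.τ = τ ∧ (bldg P (Equiv.refl P.S) cs hcs).Thick := by
  have hN : ((P.B ⊓ P.N).subgroupOf P.N).Normal := normal_subgroupOf P
  obtain ⟨M, cs, hcs⟩ := S0320.result P
  obtain ⟨t, ht⟩ := TwOfBN.exists_tw h (Equiv.refl P.S) cs hcs τ hτ
  exact ⟨hN, M, cs, hcs, OfBN.finite_I (Equiv.refl P.S), inferInstance,
    OfBN.sys (Equiv.refl P.S) cs hcs h, t, ht, thick P (Equiv.refl P.S) cs hcs⟩

/-- **THEOREM FIX** for split (B,N)-pairs. -/
theorem fix_of_split {K : Type*} [Group K] [Finite K] {p : ℕ} [hp : Fact p.Prime] (hp2 : p ≠ 2)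
    {P : Cfsg.BNPair K} {U : Subgroup K} (h : Split P p U) (τ : K ≃* K)
    (hτ : ∀ g, τ (τ g) = g) {X : Subgroup K} (hX : ∀ x ∈ X, τ x = x)
    (hnorm : ∀ g, τ g = g → ∀ x ∈ X, g * x * g⁻¹ ∈ X) (hodd : Odd (Nat.card X)) :
    ¬ p ∣ Nat.card X ∧
      ∀ v, τ v = v → (∃ n : ℕ, v ^ p ^ n = 1) → ∀ x ∈ X, v * x = x * v := by
  obtain ⟨hN, M, cs, hcs, hI, hW, S, t, ht, hth⟩ := exists_data h τ hτ
  have hcent : ∀ g, g ∈ t.cent ↔ τ g = g := fun g => by rw [t.mem_cent, ht]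
  obtain ⟨h1, h2⟩ := fix S t hth hp2 (X := X) (fun x hx => (hcent x).2 (hX x hx))
    (fun g hg => hnorm g ((hcent g).1 hg)) hodd
  refine ⟨h1, fun v hv hn x hx => ?_⟩
  obtain ⟨n, hn⟩ := hn
  refine h2 (Subgroup.zpowers v) ((Subgroup.zpowers_le).2 ((hcent v).2 hv)) ?_ v
    (Subgroup.mem_zpowers v) x hx
  obtain ⟨k, _, hk⟩ := (Nat.dvd_prime_pow hp.out).1 (orderOf_dvd_of_pow_eq_one hn)
  rw [IsPGroup.iff_card]
  exact ⟨k, by rw [Nat.card_zpowers, hk]⟩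

/-- **THEOREM FIX** for groups with `HasSplit`. -/
theorem fix_of_hasSplit {K : Type*} [Group K] [Finite K] {p : ℕ} [hp : Fact p.Prime] (hp2 : p ≠ 2)
    (h : HasSplit p K) (τ : K ≃* K) (hτ : ∀ g, τ (τ g) = g) {X : Subgroup K}
    (hX : ∀ x ∈ X, τ x = x) (hnorm : ∀ g, τ g = g → ∀ x ∈ X, g * x * g⁻¹ ∈ X)
    (hodd : Odd (Nat.card X)) :
    ¬ p ∣ Nat.card X ∧
      ∀ v, τ v = v → (∃ n : ℕ, v ^ p ^ n = 1) → ∀ x ∈ X, v * x = x * v := by
  obtain ⟨P, U, _, h⟩ := h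
  exact fix_of_split hp2 h τ hτ hX hnorm hodd

end Cfsg.Agent.FixBN
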