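import Cfsg.Agent.FixBN.Split
import Cfsg.Agent.Nodes.BNOf

/-!
# The (B, N)-pair of a root group datum is split
-/

set_option autoImplicit false
set_option linter.unusedSectionVars false

namespace Cfsg.Agent.FixBN.OfRGD

open CoxeterSystem Cfsg.Agent.ChevalleyStructure.CoxeterGeom Cfsg.Agent.Tits.Roots Cfsg.Agent.Tits.Core
  Cfsg.Agent.Tits.RootComb Cfsg.Agent.Nodes.Comb Cfsg.Agent.Nodes.Reps Cfsg.Agent.Nodes.BNOf Cfsg.Agent.Nodes.BNOf.RGD
  Cfsg.Agent.Schreier.BNSch Cfsg.Agent.FixBN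

variable {I W Y : Type*} [Fintype I] [DecidableEq I] [Group W] [Group Y] {M : CoxeterMatrix I}
variable {cs : CoxeterSystem M W} {A : I → I → ℤ} {h : IsCartan M A} {p : ℕ} {T : Subgroup Y} {n : I → Y}
  {X : (I → ℤ) → Subgroup Y} [Finite W]

theorem node (R : RGD cs h p T n X) (hgen : B cs h T X ⊔ NN cs R.nsys = ⊤) (i : I) :
    Node (R.bnPair hgen) (Sup X (Pos cs h)) (n i) (Sup X (PosNe cs h i)) := by
  have hVU : Sup X (PosNe cs h i) ≤ Sup X (Pos cs h) := Sup_mono fun z hz => ⟨hz.1, hz.2.1⟩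
  have hconj_s : ∀ v ∈ Sup X (PosNe cs h i), (n i)⁻¹ * v * n i ∈ Sup X (PosNe cs h i) := by
    intro v hv
    rw [← R.cj_n_V i] at hv
    exact mem_cj.1 hv
  have hconj_s' : ∀ v ∈ Sup X (PosNe cs h i), n i * v * (n i)⁻¹ ∈ Sup X (PosNe cs h i) := by
    intro v hv
    rw [← R.cj_n_V i]
    exact conj_mem_cj.2 hv
  -- the key fact: `X_{-i} ∩ B = 1`
  have hneg : ∀ x ∈ X (-sr i), x ∈ B cs h T X → x = 1 := by
    intro x hx hxB
    by_contra hne
    obtain ⟨a, ha, t, ht, b, hb, e⟩ := R.rk1 i x hx hne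
    have h1 : n i = (a * t)⁻¹ * x * b⁻¹ := by rw [e]; group
    have h2 : n i ∈ B cs h T X := by
      rw [h1]
      exact mul_mem (mul_mem (inv_mem (mul_mem (X_le_B (isRoot_sr cs h i) (sr_nonneg i) ha) (T_le_B ht))) hxB)
        (inv_mem (X_le_B (isRoot_sr cs h i) (sr_nonneg i) hb))
    have h3 := R.eq_one_of_mem_B (rp_simple cs R.nsys i) h2
    have h4 := rep_simple_sr cs h i
    rw [h3, map_one, Module.End.one_apply] at h4
    have h5 := congrFun h4 i
    rw [Pi.neg_apply, sr_self] at h5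
    exact absurd h5 (by decide)
  refine ⟨hVU, ?_, ?_, hconj_s, ?_⟩
  · by_contra hcon
    push Not at hcon
    apply R.not_neg_le_B i
    intro x hx
    have h1 : (n i)⁻¹ * x * n i ∈ X (sr i) := by
      have := R.conj_mem' (rp_simple cs R.nsys i) (isRoot_sr cs h i).neg hx
      rwa [inv_simple, map_neg, rep_simple_sr, neg_neg] at this
    have h2 := hcon _ (le_Sup (S := Pos cs h) ⟨isRoot_sr cs h i, sr_nonneg i⟩ h1)
    have h3 := hconj_s' _ h2
    have h4 : n i * ((n i)⁻¹ * x * n i) * (n i)⁻¹ = x := by group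
    rw [h4] at h3
    exact U_le_B (hVU h3)
  · intro b hb v hv
    obtain ⟨v', hv', u, hu, t, ht, rfl⟩ := R.mem_B' i hb
    have h1 : t * v * t⁻¹ ∈ Sup X (PosNe cs h i) :=
      (Subgroup.mem_normalizer_iff.1 (R.T_le_normalizer (S := PosNe cs h i) (fun x hx => hx.1) ht) v).1 hv
    have h2 : u * (t * v * t⁻¹) * u⁻¹ ∈ Sup X (PosNe cs h i) :=
      (Subgroup.mem_normalizer_iff.1 (R.X_le_normalizer_V i hu) _).1 h1
    have h3 : v' * u * t * v * (v' * u * t)⁻¹ = v' * (u * (t * v * t⁻¹) * u⁻¹) * v'⁻¹ := by group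
    rw [h3]
    exact mul_mem (mul_mem hv' h2) (inv_mem hv')
  · intro u hu hus
    have hus : (n i)⁻¹ * u * n i ∈ B cs h T X := hus
    rw [R.Upos_eq i, sup_comm] at hu
    have h1 : u ∈ ((Sup X (PosNe cs h i) ⊔ X (sr i) : Subgroup Y) : Set Y) := hu
    rw [Subgroup.coe_mul_of_right_le_normalizer_left _ _ (R.X_le_normalizer_V i), Set.mem_mul] at h1
    obtain ⟨v, hv, x, hx, rfl⟩ := h1
    have h2 : (n i)⁻¹ * x * n i = ((n i)⁻¹ * v * n i)⁻¹ * ((n i)⁻¹ * (v * x) * n i) := by group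
    have h3 : (n i)⁻¹ * x * n i ∈ B cs h T X := by
      rw [h2]
      exact mul_mem (inv_mem (U_le_B (hVU (hconj_s v hv)))) hus
    have h4 : (n i)⁻¹ * x * n i ∈ X (-sr i) := by
      have := R.conj_mem' (rp_simple cs R.nsys i) (isRoot_sr cs h i) hx
      rwa [inv_simple, rep_simple_sr] at this
    have h5 := hneg _ h4 h3
    have h6 : x = n i * ((n i)⁻¹ * x * n i) * (n i)⁻¹ := by group
    rw [h6, h5, mul_one, mul_inv_cancel, mul_one]
    exact hv

/-- **Root group data give split (B, N)-pairs.** -/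
theorem split [Fact p.Prime] (R : RGD cs h p T n X) (hgen : B cs h T X ⊔ NN cs R.nsys = ⊤)
    (hcore : (B cs h T X).normalCore = ⊥) : Split (R.bnPair hgen) p (Sup X (Pos cs h)) where
  le := U_le_B
  norm b hb u hu := (Subgroup.mem_normalizer_iff.1 (R.B_le_normalizer_U hb) u).1 hu
  isP := R.isPGroup_Upos
  cover := by
    intro b hb
    obtain ⟨t, ht, u, hu, e⟩ := R.mem_B.1 (inv_mem (show b ∈ B cs h T X from hb))
    have h1 : b = u⁻¹ * t⁻¹ := by rw [← inv_inv b, e]; group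
    refine ⟨u⁻¹, inv_mem hu, ?_⟩
    have h2 : u⁻¹⁻¹ * b = t⁻¹ := by rw [h1]; group
    rw [h2]
    exact ⟨1, rp_of_mem (inv_mem ht)⟩
  tor := by
    refine ⟨Nat.card T, ?_, ?_⟩
    · intro hd
      have h1 := R.tcop
      have h2 : p ∣ Nat.gcd (Nat.card T) p := Nat.dvd_gcd hd dvd_rfl
      rw [h1] at h2
      exact (Fact.out : p.Prime).one_lt.ne' (Nat.dvd_one.1 h2)
    · intro t h1 h2
      have h3 : t ∈ T := by
        rw [← R.B_inf_NN]
        exact ⟨h1, h2⟩
      have h4 : (⟨t, h3⟩ : T) ^ Nat.card T = 1 := pow_card_eq_one'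
      exact congrArg Subtype.val h4
  node := by
    rintro _ ⟨i, rfl⟩
    exact ⟨_, node R hgen i⟩
  core := hcore

theorem hasSplit [Fact p.Prime] [Nonempty I] (R : RGD cs h p T n X) (hgen : B cs h T X ⊔ NN cs R.nsys = ⊤)
    (hcore : (B cs h T X).normalCore = ⊥) : HasSplit p Y :=
  ⟨R.bnPair hgen, _, Set.range_nonempty n, split R hgen hcore⟩

/-- For simple groups the core is trivial. -/
theorem hasSplit_of_isSimpleGroup [IsSimpleGroup Y] [Fact p.Prime] [Nonempty I] (R : RGD cs h p T n X)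
    (hgen : B cs h T X ⊔ NN cs R.nsys = ⊤) : HasSplit p Y := by
  refine hasSplit R hgen ?_
  rcases (inferInstance : (B cs h T X).normalCore.Normal).eq_bot_or_eq_top with h1 | h1
  · exact h1
  · exfalso
    obtain ⟨i⟩ := ‹Nonempty I›
    apply R.not_neg_le_B i
    intro x _
    have h2 : x ∈ (B cs h T X).normalCore := by rw [h1]; exact Subgroup.mem_top x
    exact Subgroup.normalCore_le _ h2

end Cfsg.Agent.FixBN.OfRGD
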