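import Mathlib
import Cfsg.Prelude.Def_Balance
import Cfsg.Agent.Intrinsic.Charac
import Cfsg.Agent.SignalizersComponents.ComponentImage
import Cfsg.Agent.S1301

/-!
# The soft reduction of the B-property to simple groups

`SB K`: for every automorphism `τ` of `K` with `τ² = 1`, every 2-component of `C_K(τ)` centralises
every normal subgroup of odd order of `C_K(τ)`.

`hasB_of_components`: if `SB (J / Z(J))` for every component `J` of `X / O(X)`, then `X` has the
B-property. Also `sb_of_quasisimple`: `SB (J / Z(J))` implies `SB J` for `J` quasisimple.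
-/

set_option autoImplicit false

namespace Cfsg.Agent.FixBN.Reduce

open Subgroup Cfsg Cfsg.Agent.Lib Cfsg.Agent.SignalizersComponents
open Cfsg.Agent.SignalizersComponents.IntrinsicBasic Cfsg.Agent.Intrinsic.Charac
open Cfsg.Agent.SignalizersComponents.PLayerAut
open scoped commutatorElement

/-! ### fixed points of an automorphism -/

section Fix

variable {K : Type*} [Group K]

/-- The fixed points of an automorphism. -/
def fixSub (τ : K ≃* K) : Subgroup K where
  carrier := {x | τ x = x}
  one_mem' := map_one τ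
  mul_mem' := fun {a b} (ha : τ a = a) (hb : τ b = b) => by
    change τ (a * b) = a * b
    rw [map_mul, ha, hb]
  inv_mem' := fun {a} (ha : τ a = a) => by
    change τ a⁻¹ = a⁻¹
    rw [map_inv, ha]

theorem mem_fixSub {τ : K ≃* K} {x : K} : x ∈ fixSub τ ↔ τ x = x := Iff.rfl

end Fix

/-- For every automorphism `τ` of `K` with `τ² = 1`, every 2-component of `C_K(τ)` centralises
every normal subgroup of odd order of `C_K(τ)`. -/
def SB (K : Type*) [Group K] : Prop :=
  ∀ τ : K ≃* K, (∀ x, τ (τ x) = x) → ∀ L : Subgroup ↥(fixSub τ), IsPComponent 2 L →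
    ∀ W : Subgroup ↥(fixSub τ), W.Normal → Odd (Nat.card W) → ⁅L, W⁆ = ⊥

/-! ### images of relative 2-components -/

section Map

variable {G G' : Type*} [Group G] [Group G']

theorem subgroupOf_map_eq (f : G →* G') {H L : Subgroup G} (hL : L ≤ H) :
    (L.subgroupOf H).map (f.subgroupMap H) = (L.map f).subgroupOf (H.map f) := by
  ext y
  constructor
  · rintro ⟨x, hx, rfl⟩
    exact ⟨x, hx, rfl⟩
  · intro hy
    obtain ⟨x, hx, hxy⟩ := (hy : (y : G') ∈ L.map f)
    exact ⟨⟨x, hL hx⟩, hx, Subtype.ext hxy⟩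

theorem subnormal_map (f : G →* G') {H L : Subgroup G} (hL : L ≤ H)
    (h : (L.subgroupOf H).IsSubnormal) : ((L.map f).subgroupOf (H.map f)).IsSubnormal := by
  rw [← subgroupOf_map_eq f hL]
  exact h.map (f.subgroupMap_surjective H)

theorem odd_map [Finite G] (f : G →* G') {W : Subgroup G} (h : Odd (Nat.card W)) :
    Odd (Nat.card (W.map f)) := by
  obtain ⟨k, hk⟩ := Subgroup.card_map_dvd (H := W) f
  rw [hk] at h
  exact (Nat.odd_mul.mp h).1

theorem pElem_map_le (f : G →* G') (L : Subgroup G) :
    (PComponents.pElem 2 L).map f ≤ PComponents.pElem 2 (L.map f) := by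
  rw [Subgroup.map_le_iff_le_comap]
  refine (Subgroup.closure_le _).mpr ?_
  rintro y ⟨hy, n, hn⟩
  exact PComponents.mem_pElem (n := n) ⟨y, hy, rfl⟩ (by rw [← map_pow, hn, map_one])

theorem eq_bot_of_odd_of_pElem [Finite G] {L : Subgroup G} (h : Odd (Nat.card L))
    (hL : PComponents.pElem 2 L = L) : L = ⊥ := by
  rw [← hL, eq_bot_iff]
  refine (Subgroup.closure_le _).mpr ?_
  rintro y ⟨hy, n, hn⟩
  exact eq_one_of_mem_odd h hy hn

/-- The image of a relative 2-component is trivial or a relative 2-component. -/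
theorem tc_map [Finite G] [Finite G'] (f : G →* G') {H L : Subgroup G} (h : TC H L) :
    L.map f = ⊥ ∨ TC (H.map f) (L.map f) := by
  obtain ⟨h1, h2, h3, h4⟩ := tc_iff.mp h
  have h5 : PComponents.pElem 2 (L.map f) = L.map f := by
    apply le_antisymm (PComponents.pElem_le _)
    conv_lhs => rw [← h4]
    exact pElem_map_le f L
  by_cases hb : L.map f = ⊥
  · exact Or.inl hb
  · right
    refine tc_iff.mpr ⟨Subgroup.map_mono h1, subnormal_map f h1 h2, ?_, h5⟩
    -- the quotient
    have hcore : oddCore ↥L ≤ (oddCore ↥(L.map f)).comap (f.subgroupMap L) := by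
      rw [← Subgroup.map_le_iff_le_comap]
      refine Cores.le_pPrimeCore ?_ ?_
      · exact (Cores.pPrimeCore_normal 2).map _ (f.subgroupMap_surjective L)
      · exact (Cores.pPrimeCore_coprime 2).coprime_dvd_left (Subgroup.card_map_dvd _ _)
    let g : ↥L ⧸ oddCore ↥L →* ↥(L.map f) ⧸ oddCore ↥(L.map f) :=
      QuotientGroup.map _ _ (f.subgroupMap L) hcore
    have hg : Function.Surjective g := by
      intro y
      obtain ⟨y, rfl⟩ := QuotientGroup.mk'_surjective _ y
      obtain ⟨x, rfl⟩ := f.subgroupMap_surjective L y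
      exact ⟨QuotientGroup.mk x, rfl⟩
    refine ComponentImage.isQuasisimple_of_surjective h3 g hg ?_
    rw [← not_subsingleton_iff_nontrivial]
    intro hs
    rw [QuotientGroup.subsingleton_iff] at hs
    apply hb
    refine eq_bot_of_odd_of_pElem ?_ h5
    have h6 := Cores.pPrimeCore_coprime (G := ↥(L.map f)) 2
    change (Nat.card (oddCore ↥(L.map f))).Coprime 2 at h6
    rw [hs, Nat.card_congr (Subgroup.topEquiv (G := ↥(L.map f))).toEquiv] at h6
    exact Nat.coprime_two_right.mp h6

end Map

/-! ### the relative form of `SB` -/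

section SB

variable {K : Type*} [Group K]

theorem SB.tc [Finite K] (h : SB K) {τ : K ≃* K} (hτ : ∀ x, τ (τ x) = x) {L W : Subgroup K}
    (hL : TC (fixSub τ) L) (hW : W ≤ fixSub τ) (hWn : (W.subgroupOf (fixSub τ)).IsSubnormal)
    (hWo : Odd (Nat.card W)) : ⁅L, W⁆ = ⊥ := by
  have h1 := h τ hτ (L.subgroupOf (fixSub τ)) hL.comp (oddCore ↥(fixSub τ))
    (Cores.pPrimeCore_normal 2) (Nat.coprime_two_right.mp (Cores.pPrimeCore_coprime 2))
  rw [commutator_eq_bot_iff_le_centralizer] at h1 ⊢
  intro x hx
  rw [mem_centralizer_iff]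
  intro w hw
  have h2 := le_relCore_of_subnormal hW hWn hWo hw
  obtain ⟨h3, h4⟩ := mem_relCore.mp h2
  have h5 := h1 (show (⟨x, hL.le hx⟩ : fixSub τ) ∈ L.subgroupOf (fixSub τ) from hx)
  rw [mem_centralizer_iff] at h5
  exact congrArg Subtype.val (h5 _ h4)

theorem sb_of_tc (h : ∀ τ : K ≃* K, (∀ x, τ (τ x) = x) → ∀ L W : Subgroup K, TC (fixSub τ) L →
    W ≤ fixSub τ → (W.subgroupOf (fixSub τ)).Normal → Odd (Nat.card W) → ⁅L, W⁆ = ⊥) : SB K := by
  intro τ hτ L hL W hWn hWo
  have h1 := h τ hτ (L.map (fixSub τ).subtype) (W.map (fixSub τ).subtype) (tc_of_subtype hL)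
    (map_subtype_le _) ?_ ?_
  · rw [← Subgroup.map_commutator] at h1
    exact (Subgroup.map_eq_bot_iff_of_injective _ (fixSub τ).subtype_injective).mp h1
  · rw [subgroupOf, comap_map_eq_self_of_injective (fixSub τ).subtype_injective]
    exact hWn
  · rw [Nat.card_congr (W.equivMapOfInjective _ (fixSub τ).subtype_injective).toEquiv.symm]
    exact hWo

/-- the key lemma: a homomorphism to a group with `SB` -/
theorem commutator_le_ker {E Q : Type*} [Group E] [Group Q] [Finite E] [Finite Q] (hQ : SB Q)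
    (τ : E ≃* E) (f : E →* Q)
    (h : (∃ τ' : Q ≃* Q, (∀ x, τ' (τ' x) = x) ∧ (∀ x, f (τ x) = τ' (f x)) ∧
      ⁅fixSub τ', fixSub τ'⁆ ≤ (fixSub τ).map f) ∨ (IsSimpleGroup Q ∧ (fixSub τ).map f = ⊤))
    {L W : Subgroup E} (hL : TC (fixSub τ) L) (hW : W ≤ fixSub τ)
    (hWn : (W.subgroupOf (fixSub τ)).IsSubnormal) (hWo : Odd (Nat.card W)) : ⁅L, W⁆ ≤ f.ker := by
  rcases tc_map f hL with hb | hT
  · rw [Subgroup.map_eq_bot_iff] at hb
    exact (Subgroup.commutator_mono hb le_rfl).trans (Subgroup.commutator_le_left _ _)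
  · have h1 := subnormal_map f hW hWn
    have h2 := odd_map f hWo
    rw [← Subgroup.map_eq_bot_iff, Subgroup.map_commutator]
    rcases h with ⟨τ', hτ', hf, hc⟩ | ⟨hs, htop⟩
    · have h3 : (fixSub τ).map f ≤ fixSub τ' := by
        rintro _ ⟨x, hx, rfl⟩
        change τ' (f x) = f x
        rw [← hf, (hx : τ x = x)]
      have h4 : (((fixSub τ).map f).subgroupOf (fixSub τ')).Normal := by
        constructor
        intro n hn g
        rw [mem_subgroupOf] at hn ⊢
        have h5 : ⁅(g : Q), (n : Q)⁆ ∈ (fixSub τ).map f :=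
          hc (Subgroup.commutator_mem_commutator g.2 n.2)
        have h6 := mul_mem h5 hn
        rw [commutatorElement_def, inv_mul_cancel_right] at h6
        exact h6
      refine hQ.tc hτ' (extend hT h3 h4.isSubnormal) ((Subgroup.map_mono hW).trans h3) ?_ h2
      have h5 : (((W.map f).subgroupOf ((fixSub τ).map f)).map (inclusion h3)).IsSubnormal := by
        have h6 : (((W.map f).subgroupOf ((fixSub τ).map f)).map
            (inclusion h3).rangeRestrict).IsSubnormal :=
          h1.map (inclusion h3).rangeRestrict_surjective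
        have h7 := h6.trans' (by rw [inclusion_range]; exact h4.isSubnormal)
        rwa [Subgroup.map_map, MonoidHom.subtype_comp_rangeRestrict] at h7
      convert h5 using 1
      ext x
      simp only [mem_subgroupOf, mem_map]
      constructor
      · rintro ⟨w, hw, hwx⟩
        exact ⟨⟨x, by rw [← hwx]; exact ⟨w, hW hw, rfl⟩⟩, ⟨w, hw, hwx⟩, rfl⟩
      · rintro ⟨y, hy, rfl⟩
        exact hy
    · rw [htop] at h1 hT
      have hT' := tc_top_iff.mp hT
      have h3 : (W.map f).IsSubnormal := by
        have := h1.map (f := (Subgroup.topEquiv (G := Q)).toMonoidHom) Subgroup.topEquiv.surjective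
        convert this using 1
        ext x
        simp [mem_map, mem_subgroupOf]
      rcases h3.eq_bot_or_top_of_isSimpleGroup hs with h4 | h4
      · rw [h4, Subgroup.commutator_bot_right]
      · exfalso
        have h5 := even_card hT
        have h6 : Nat.card ↥(L.map f) ∣ Nat.card Q := Subgroup.card_subgroup_dvd_card _
        rw [h4, Nat.card_congr (Subgroup.topEquiv (G := Q)).toEquiv] at h2
        have h7 := (h5.trans h6)
        exact (Nat.not_even_iff_odd.mpr h2) (even_iff_two_dvd.mpr h7)

end SB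

end Cfsg.Agent.FixBN.Reduce
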