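import Mathlib
import Cfsg.Prelude.Def_Balance
import Cfsg.Prelude.Def_LieTypeChar
import Cfsg.Prelude.Def_Spor_He
import Cfsg.Agent.FixBN.Reduce
import Cfsg.Agent.SignalizersComponents.DistinctComponents
import Cfsg.Agent.SignalizersComponents.LayerBasic
import Cfsg.Agent.SignalizersComponents.PLayerAut
import Cfsg.Agent.Lib.Cores
import Cfsg.Agent.Lib.GenFitting

/-!
# From the Unbalanced Group Theorem to the B-property of simple groups

`UGT G` is the text of S1311 for the single group `G`. From `UGT (MulAut K)` and `SB` for the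
groups on the list of S1311 we get `SB K` for every nonabelian finite simple group `K`.
-/

set_option autoImplicit false

namespace Cfsg.Agent.FixBN.BTheorem

open Subgroup Cfsg Cfsg.Agent.Lib Cfsg.Agent.SignalizersComponents
open Cfsg.Agent.FixBN.Reduce Cfsg.Agent.Intrinsic.Charac
open scoped commutatorElement

universe u v

/-! ### transport of the predicate `IsLieTypeChar` -/

section Transport

variable {G : Type u} {H : Type v} [Group G] [Group H]

theorem nonempty_congr {T : Type*} [Group T] (e : G ≃* H) (h : Nonempty (G ≃* T)) :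
    Nonempty (H ≃* T) := h.map fun f => e.symm.trans f

theorem isLieTypeChar_congr {p : ℕ} (e : G ≃* H) (h : IsLieTypeChar p G) : IsLieTypeChar p H := by
  rcases h with h | h | h | h | h | h | h | h | ⟨hp, h⟩ | ⟨hp, h⟩ | ⟨hp, h⟩
  · obtain ⟨F, i1, i2, i3, n, h1, h2, h3⟩ := h
    exact Or.inl ⟨F, i1, i2, i3, n, h1, h2, nonempty_congr e h3⟩
  · obtain ⟨F, i1, i2, i3, n, h1, h2, h3⟩ := h
    exact Or.inr (Or.inl ⟨F, i1, i2, i3, n, h1, h2, nonempty_congr e h3⟩)
  · obtain ⟨F, i1, i2, i3, n, q, h1, h2, h3, h4⟩ := h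
    exact Or.inr (Or.inr (Or.inl ⟨F, i1, i2, i3, n, q, h1, h2, h3, nonempty_congr e h4⟩))
  · obtain ⟨F, i1, i2, i3, m, h1, h2, h3⟩ := h
    exact Or.inr (Or.inr (Or.inr (Or.inl ⟨F, i1, i2, i3, m, h1, h2, nonempty_congr e h3⟩)))
  · obtain ⟨F, i1, i2, i3, m, h1, h2⟩ := h
    exact Or.inr (Or.inr (Or.inr (Or.inr (Or.inl ⟨F, i1, i2, i3, m, h1, nonempty_congr e h2⟩))))
  · obtain ⟨F, i1, i2, i3, m, a, b, h1, h2, h3⟩ := h
    exact Or.inr (Or.inr (Or.inr (Or.inr (Or.inr (Or.inl
      ⟨F, i1, i2, i3, m, a, b, h1, h2, nonempty_congr e h3⟩)))))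
  · obtain ⟨F, i1, i2, i3, h1⟩ := h
    refine Or.inr (Or.inr (Or.inr (Or.inr (Or.inr (Or.inr (Or.inl ⟨F, i1, i2, i3, ?_⟩))))))
    rcases h1 with ⟨h0, h1⟩ | h1 | h1 | h1 | h1
    · exact Or.inl ⟨h0, nonempty_congr e h1⟩
    · exact Or.inr (Or.inl (nonempty_congr e h1))
    · exact Or.inr (Or.inr (Or.inl (nonempty_congr e h1)))
    · exact Or.inr (Or.inr (Or.inr (Or.inl (nonempty_congr e h1))))
    · exact Or.inr (Or.inr (Or.inr (Or.inr (nonempty_congr e h1))))
  · obtain ⟨F, i1, i2, i3, q, hq, h1⟩ := h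
    refine Or.inr (Or.inr (Or.inr (Or.inr (Or.inr (Or.inr (Or.inr (Or.inl
      ⟨F, i1, i2, i3, q, hq, ?_⟩)))))))
    rcases h1 with ⟨h0, h1⟩ | ⟨h0, h1⟩
    · exact Or.inl ⟨h0, nonempty_congr e h1⟩
    · exact Or.inr ⟨h0, nonempty_congr e h1⟩
  · refine Or.inr (Or.inr (Or.inr (Or.inr (Or.inr (Or.inr (Or.inr (Or.inr (Or.inl ⟨hp, ?_⟩))))))))
    obtain ⟨F, i1, i2, m, h1, h2, h3⟩ := h
    exact ⟨F, i1, i2, m, h1, h2, nonempty_congr e h3⟩
  · refine Or.inr (Or.inr (Or.inr (Or.inr (Or.inr (Or.inr (Or.inr (Or.inr (Or.inr (Or.inl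
      ⟨hp, ?_⟩)))))))))
    obtain ⟨F, i1, i2, m, h1, h2, h3⟩ := h
    exact ⟨F, i1, i2, m, h1, h2, nonempty_congr e h3⟩
  · refine Or.inr (Or.inr (Or.inr (Or.inr (Or.inr (Or.inr (Or.inr (Or.inr (Or.inr (Or.inr
      ⟨hp, ?_⟩)))))))))
    obtain ⟨F, i1, i2, m, h1, h2, h3⟩ := h
    exact ⟨F, i1, i2, m, h1, h2, nonempty_congr e h3⟩

end Transport


/-! ### transport of `SB` -/

section SBCongr

variable {K : Type u} {K' : Type v} [Group K] [Group K']

/-- The isomorphism of the fixed point groups. -/
def fixEquiv (e : K ≃* K') (τ : K' ≃* K') :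
    ↥(fixSub ((e.trans τ).trans e.symm)) ≃* ↥(fixSub τ) where
  toFun x := ⟨e x, by
    have := x.2
    rw [mem_fixSub] at this ⊢
    simp only [MulEquiv.trans_apply] at this
    rw [MulEquiv.symm_apply_eq] at this
    exact this⟩
  invFun y := ⟨e.symm y, by
    have := y.2
    rw [mem_fixSub] at this ⊢
    simp [this]⟩
  left_inv x := by
    apply Subtype.ext
    simp
  right_inv y := by
    apply Subtype.ext
    simp
  map_mul' x y := by
    apply Subtype.ext
    simp

theorem sb_congr (e : K ≃* K') (h : SB K) : SB K' := by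
  intro τ hτ L hL W hWn hWo
  let f := fixEquiv e τ
  have h1 := h ((e.trans τ).trans e.symm) (by intro x; simp [hτ]) (L.map f.symm.toMonoidHom)
    (PLayerAut.isPComponent_map_equiv 2 f.symm hL) (W.map f.symm.toMonoidHom)
    (hWn.map _ f.symm.surjective)
    (by rwa [Nat.card_congr (W.equivMapOfInjective _ f.symm.injective).toEquiv.symm])
  rw [← Subgroup.map_commutator] at h1
  exact (Subgroup.map_eq_bot_iff_of_injective _ f.symm.injective).mp h1

end SBCongr

/-! ### `F*(Aut K) = Inn K` -/

section Aut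

variable {K : Type u} [Group K]

theorem conj_injective (hc : center K = ⊥) : Function.Injective (MulAut.conj : K →* MulAut K) := by
  rw [injective_iff_map_eq_one]
  intro a ha
  have h1 : a ∈ center K := by
    rw [mem_center_iff]
    intro g
    have := congrArg (fun f : MulAut K => f g) ha
    simp only [MulAut.conj_apply, MulAut.one_apply] at this
    rw [mul_inv_eq_iff_eq_mul] at this
    exact this.symm
  rwa [hc, mem_bot] at h1

theorem conj_smul (φ : MulAut K) (g : K) : φ * MulAut.conj g * φ⁻¹ = MulAut.conj (φ g) := by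
  ext x
  simp [MulAut.mul_apply, MulAut.conj_apply]

theorem range_conj_normal : ((MulAut.conj : K →* MulAut K).range).Normal := by
  constructor
  rintro _ ⟨g, rfl⟩ φ
  exact ⟨φ g, (conj_smul φ g).symm⟩

theorem centralizer_range_conj (hc : center K = ⊥) :
    Subgroup.centralizer ((MulAut.conj : K →* MulAut K).range : Set (MulAut K)) = ⊥ := by
  rw [eq_bot_iff]
  intro φ hφ
  rw [mem_centralizer_iff] at hφ
  rw [mem_bot]
  ext x
  have h1 := hφ (MulAut.conj x) ⟨x, rfl⟩
  apply conj_injective hc
  rw [MulAut.one_apply, ← conj_smul, ← h1, mul_inv_cancel_right]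

theorem center_eq_bot [IsSimpleGroup K] (hna : ¬ IsMulCommutative K) : center K = ⊥ := by
  rcases (inferInstance : (center K).Normal).eq_bot_or_eq_top with h | h
  · exact h
  · exfalso
    apply hna
    refine ⟨⟨fun a b => ?_⟩⟩
    have : a ∈ center K := by rw [h]; trivial
    rw [mem_center_iff] at this
    exact (this b).symm

theorem isQuasisimple_of_simple [IsSimpleGroup K] (hna : ¬ IsMulCommutative K) :
    IsQuasisimple K := by
  have hc := center_eq_bot hna
  refine ⟨?_, ?_⟩
  · rcases (inferInstance : (commutator K).Normal).eq_bot_or_eq_top with h | h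
    · exfalso
      apply hna
      refine ⟨⟨fun a b => ?_⟩⟩
      have h1 : ⁅a, b⁆ ∈ commutator K := Subgroup.commutator_mem_commutator (mem_top a) (mem_top b)
      rw [h, mem_bot, commutatorElement_eq_one_iff_mul_comm] at h1
      exact h1
    · exact ⟨h⟩
  · have e : K ⧸ center K ≃* K :=
      (QuotientGroup.quotientMulEquivOfEq hc).trans QuotientGroup.quotientBot
    have : Nontrivial (K ⧸ center K) := e.surjective.nontrivial
    exact IsSimpleGroup.isSimpleGroup_of_surjective e.symm.toMonoidHom e.symm.surjective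

/-- A normal simple nonabelian subgroup with trivial centralizer is `F*(G)`. -/
theorem genFitting_eq {G : Type u} [Group G] [Finite G] {N : Subgroup G} (hN : N.Normal)
    (hs : IsSimpleGroup N) (hna : ¬ IsMulCommutative N)
    (hc : Subgroup.centralizer (N : Set G) = ⊥) : generalizedFittingSubgroup G = N := by
  have hcomp : IsComponent N := ⟨hN.isSubnormal, isQuasisimple_of_simple hna⟩
  apply le_antisymm
  · rw [GenFitting.genFitting_def]
    refine sup_le ?_ ?_
    · rw [GenFitting.layer_def]
      refine sSup_le fun L hL => ?_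
      by_cases h : L = N
      · exact h.le
      · have h1 := DistinctComponents.distinct_components_commute hL hcomp h
        rw [commutator_eq_bot_iff_le_centralizer, hc, le_bot_iff] at h1
        rw [h1]
        exact bot_le
    · have h1 : ⁅fittingSubgroup G, N⁆ = ⊥ := by
        have h2 := LayerBasic.commutator_layer_fitting G
        rw [Subgroup.commutator_comm] at h2
        rw [eq_bot_iff, ← h2]
        exact Subgroup.commutator_mono le_rfl (le_sSup hcomp)
      rw [commutator_eq_bot_iff_le_centralizer, hc, le_bot_iff] at h1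
      rw [h1]
      exact bot_le
  · exact GenFitting.component_le_genFitting hcomp

theorem genFitting_mulAut [Finite K] [IsSimpleGroup K] (hna : ¬ IsMulCommutative K) :
    generalizedFittingSubgroup (MulAut K) = (MulAut.conj : K →* MulAut K).range := by
  have hc := center_eq_bot hna
  have e : K ≃* (MulAut.conj : K →* MulAut K).range :=
    MonoidHom.ofInjective (conj_injective hc)
  have : Nontrivial (MulAut.conj : K →* MulAut K).range := e.symm.surjective.nontrivial
  refine genFitting_eq range_conj_normal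
    (IsSimpleGroup.isSimpleGroup_of_surjective e.toMonoidHom e.surjective) ?_
    (centralizer_range_conj hc)
  intro h
  apply hna
  refine ⟨⟨fun a b => ?_⟩⟩
  apply e.injective
  rw [map_mul, map_mul]
  exact h.is_comm.comm _ _

/-- `F*(Aut K) ≅ K`. -/
noncomputable def fstarEquiv [Finite K] [IsSimpleGroup K] (hna : ¬ IsMulCommutative K) :
    K ≃* ↥(generalizedFittingSubgroup (MulAut K)) :=
  (MonoidHom.ofInjective (conj_injective (center_eq_bot hna))).trans
    (MulEquiv.subgroupCongr (genFitting_mulAut hna).symm)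

/-- The core of the fixed points of `τ` is contained in the core of `C(τ)`. -/
theorem map_core_le [Finite K] {τ : MulAut K} {W : Subgroup ↥(fixSub τ)} (hWn : W.Normal)
    (hWo : Odd (Nat.card W)) :
    (W.map (fixSub τ).subtype).map (MulAut.conj : K →* MulAut K) ≤ centralizerPPrimeCore 2 τ := by
  have hW : W ≤ pPrimeCore 2 ↥(fixSub τ) :=
    Cores.le_pPrimeCore hWn (Nat.coprime_two_right.mpr hWo)
  refine (Subgroup.map_mono (Subgroup.map_mono hW)).trans ?_
  set C := Subgroup.centralizer ({τ} : Set (MulAut K)) with hC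
  have hle : ((fixSub τ).map (MulAut.conj : K →* MulAut K)) ≤ C := by
    rintro _ ⟨x, hx, rfl⟩
    rw [hC, mem_centralizer_singleton_iff]
    have h1 := conj_smul τ x
    rw [(hx : τ x = x)] at h1
    rw [mul_inv_eq_iff_eq_mul] at h1
    exact h1.symm
  set V : Subgroup (MulAut K) :=
    ((pPrimeCore 2 ↥(fixSub τ)).map (fixSub τ).subtype).map (MulAut.conj : K →* MulAut K) with hV
  have hVC : V ≤ C := (Subgroup.map_mono (map_subtype_le _)).trans hle
  have hVn : (V.subgroupOf C).Normal := by
    constructor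
    rintro ⟨v, hvC⟩ hv ⟨φ, hφ⟩
    rw [mem_subgroupOf] at hv ⊢
    obtain ⟨x, ⟨y, hy, rfl⟩, rfl⟩ := hv
    change φ * MulAut.conj _ * φ⁻¹ ∈ V
    rw [conj_smul]
    refine ⟨φ y, ?_, rfl⟩
    -- `φ` restricts to an automorphism of `fixSub τ`
    rw [hC, mem_centralizer_singleton_iff] at hφ
    have hcomm : ∀ z, τ (φ z) = φ (τ z) := fun z => by
      have := congrArg (fun f : MulAut K => f z) hφ
      simpa [MulAut.mul_apply] using this.symm
    have hcomm' : ∀ z, τ (φ.symm z) = φ.symm (τ z) := fun z => by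
      apply φ.injective
      rw [← hcomm, MulEquiv.apply_symm_apply, MulEquiv.apply_symm_apply]
    let ψ : ↥(fixSub τ) ≃* ↥(fixSub τ) :=
      { toFun := fun z => ⟨φ z, by rw [mem_fixSub, hcomm, z.2]⟩
        invFun := fun z => ⟨φ.symm z, by rw [mem_fixSub, hcomm', z.2]⟩
        left_inv := fun z => Subtype.ext (by simp)
        right_inv := fun z => Subtype.ext (by simp)
        map_mul' := fun z w => Subtype.ext (by simp) }
    have hch := Cores.pPrimeCore_characteristic (G := ↥(fixSub τ)) 2
    rw [characteristic_iff_map_eq] at hch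
    refine ⟨ψ y, ?_, rfl⟩
    rw [← hch ψ]
    exact ⟨y, hy, rfl⟩
  have hVo : (Nat.card (V.subgroupOf C)).Coprime 2 := by
    rw [Nat.card_congr (Subgroup.subgroupOfEquivOfLe hVC).toEquiv]
    refine Nat.Coprime.coprime_dvd_left (Subgroup.card_map_dvd _ _) ?_
    refine Nat.Coprime.coprime_dvd_left (Subgroup.card_map_dvd _ _) ?_
    exact Cores.pPrimeCore_coprime 2
  have h2 := Cores.le_pPrimeCore hVn hVo
  intro v hv
  exact ⟨⟨v, hVC hv⟩, h2 hv, rfl⟩

end Aut

/-! ### the theorem -/

/-- The text of S1311 for one group. -/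
def UGT (G : Type u) [Group G] : Prop :=
  IsSimpleGroup ↥(generalizedFittingSubgroup G) →
    ¬ IsMulCommutative ↥(generalizedFittingSubgroup G) →
    ∀ t : G, orderOf t = 2 → centralizerPPrimeCore 2 t ≠ ⊥ →
    (∃ p : ℕ, p.Prime ∧ p ≠ 2 ∧ IsLieTypeChar p ↥(generalizedFittingSubgroup G)) ∨
    (∃ n : ℕ, Odd n ∧ 7 ≤ n ∧
      Nonempty (↥(generalizedFittingSubgroup G) ≃* ↥(alternatingGroup (Fin n)))) ∨
    (∃ (F : Type) (_ : Field F) (_ : Fintype F), Fintype.card F = 4 ∧
      Nonempty (↥(generalizedFittingSubgroup G) ≃* Matrix.ProjectiveSpecialLinearGroup (Fin 3) F)) ∨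
    Spor.IsoHe ↥(generalizedFittingSubgroup G)

/-- The hypotheses on the groups on the list of S1311. -/
structure Known : Prop where
  lie : ∀ (K : Type u) [Group K] [Finite K], IsSimpleGroup K → ∀ p : ℕ, p.Prime → p ≠ 2 →
    IsLieTypeChar p K → SB K
  alt : ∀ n : ℕ, Odd n → 7 ≤ n → SB ↥(alternatingGroup (Fin n))
  psl : ∀ (F : Type) [Field F] [Fintype F], Fintype.card F = 4 →
    SB (Matrix.ProjectiveSpecialLinearGroup (Fin 3) F)
  he : SB Spor.He

/-- `SB K` for a nonabelian finite simple group `K`. -/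
theorem sb_of_ugt {K : Type u} [Group K] [Finite K] [IsSimpleGroup K]
    (hna : ¬ IsMulCommutative K) (hU : UGT (MulAut K)) (hk : Known.{u}) : SB K := by
  by_cases hbal : ∃ t : MulAut K, orderOf t = 2 ∧ centralizerPPrimeCore 2 t ≠ ⊥
  · obtain ⟨t, ht, htc⟩ := hbal
    have e := fstarEquiv hna
    have : Nontrivial ↥(generalizedFittingSubgroup (MulAut K)) := e.symm.surjective.nontrivial
    have hs : IsSimpleGroup ↥(generalizedFittingSubgroup (MulAut K)) :=
      IsSimpleGroup.isSimpleGroup_of_surjective e.toMonoidHom e.surjective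
    have hn : ¬ IsMulCommutative ↥(generalizedFittingSubgroup (MulAut K)) := by
      intro h
      apply hna
      refine ⟨⟨fun a b => ?_⟩⟩
      apply e.injective
      rw [map_mul, map_mul]
      exact h.is_comm.comm _ _
    rcases hU hs hn t ht htc with ⟨p, hp, hp2, h⟩ | ⟨n, hn1, hn2, ⟨f⟩⟩ | ⟨F, i1, i2, hF, ⟨f⟩⟩ | ⟨⟨f⟩⟩
    · exact hk.lie K inferInstance p hp hp2 (isLieTypeChar_congr e.symm h)
    · exact sb_congr (e.trans f).symm (hk.alt n hn1 hn2)
    · exact sb_congr (e.trans f).symm (hk.psl F hF)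
    · exact sb_congr (e.trans f).symm hk.he
  · push Not at hbal
    intro τ hτ L hL W hWn hWo
    have hc := center_eq_bot hna
    by_cases h1 : τ = 1
    · -- `τ = 1`
      subst h1
      have htop : fixSub (1 : MulAut K) = ⊤ := by
        rw [eq_top_iff]
        intro x _
        rfl
      have hTC := tc_of_subtype hL
      have he : 2 ∣ Nat.card K :=
        (even_card hTC).trans (Subgroup.card_subgroup_dvd_card _)
      have hn : (W.map (fixSub (1 : MulAut K)).subtype).Normal := by
        constructor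
        rintro _ ⟨w, hw, rfl⟩ g
        refine ⟨⟨g, by rw [htop]; trivial⟩ * w * ⟨g, by rw [htop]; trivial⟩⁻¹,
          hWn.conj_mem w hw _, rfl⟩
      rcases hn.eq_bot_or_eq_top with h | h
      · rw [(Subgroup.map_eq_bot_iff_of_injective _ (fixSub _).subtype_injective).mp h,
          Subgroup.commutator_bot_right]
      · exfalso
        have h2 : Odd (Nat.card ↥(W.map (fixSub (1 : MulAut K)).subtype)) := by
          rwa [Nat.card_congr
            (W.equivMapOfInjective _ (fixSub (1 : MulAut K)).subtype_injective).toEquiv.symm]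
        rw [h, Nat.card_congr (Subgroup.topEquiv (G := K)).toEquiv] at h2
        exact (Nat.not_even_iff_odd.mpr h2) (even_iff_two_dvd.mpr he)
    · have ho : orderOf (τ : MulAut K) = 2 := by
        refine orderOf_eq_prime ?_ h1
        ext x
        rw [pow_two, MulAut.mul_apply, MulAut.one_apply]
        exact hτ x
      have h2 := map_core_le hWn hWo
      rw [hbal τ ho, le_bot_iff, Subgroup.map_eq_bot_iff_of_injective _ (conj_injective hc),
        Subgroup.map_eq_bot_iff_of_injective _ (fixSub _).subtype_injective] at h2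
      rw [h2, Subgroup.commutator_bot_right]

/-- The B-property of `X` from `UGT` and the reduction `hasB_of_components`. -/
theorem hasB {X : Type u} [Group X] [Finite X]
    (hred : (∀ K : Subgroup (X ⧸ oddCore X), IsComponent K → SB (↥K ⧸ center ↥K)) →
      HasBProperty X)
    (hU : ∀ (G : Type u) [Group G] [Finite G], UGT G) (hk : Known.{u}) : HasBProperty X := by
  refine hred fun K hK => ?_
  have := hK.2.2
  have hna : ¬ IsMulCommutative (↥K ⧸ center ↥K) := by
    intro h
    have hp := hK.2.1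
    have h1 : Group.IsPerfect (↥K ⧸ center ↥K) :=
      Group.IsPerfect.ofSurjective (f := QuotientGroup.mk' (center ↥K))
        (QuotientGroup.mk'_surjective _)
    have h2 : commutator (↥K ⧸ center ↥K) = ⊥ := by
      rw [eq_bot_iff, commutator_def, Subgroup.commutator_le]
      intro a _ b _
      rw [mem_bot, commutatorElement_eq_one_iff_mul_comm]
      exact h.is_comm.comm a b
    have h3 := h1.commutator_eq_top
    rw [h2] at h3
    exact bot_ne_top h3
  exact sb_of_ugt hna (hU _) hk

end Cfsg.Agent.FixBN.BTheorem
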