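import Mathlib
import Cfsg.Agent.S0542

/-!
Sylow subgroups of subgroups, as subgroups of the ambient group.

`Syl p L A`: `A` is a Sylow `p`-subgroup of the subgroup `L`.
-/

set_option autoImplicit false
set_option linter.unusedSectionVars false

open scoped Pointwise

namespace Cfsg.Agent.FixBN.SylSub

variable {G : Type*} [Group G] {p : ℕ}

/-- `A` is a Sylow `p`-subgroup of the subgroup `L`. -/
def Syl (p : ℕ) (L A : Subgroup G) : Prop := A ≤ L ∧ Nat.card A = p ^ (Nat.card L).factorization p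

theorem Syl.le {L A : Subgroup G} (h : Syl p L A) : A ≤ L := h.1

theorem Syl.isP {L A : Subgroup G} (h : Syl p L A) : IsPGroup p A := IsPGroup.of_card h.2

theorem mem_smul {A : Subgroup G} {g x : G} : x ∈ MulAut.conj g • A ↔ g⁻¹ * x * g ∈ A := by
  rw [Subgroup.mem_pointwise_smul_iff_inv_smul_mem, ← map_inv, MulAut.smul_def, MulAut.conj_apply, inv_inv]

theorem conj_mem_smul {A : Subgroup G} {g x : G} (hx : x ∈ A) : g * x * g⁻¹ ∈ MulAut.conj g • A := by
  rw [mem_smul]
  have : g⁻¹ * (g * x * g⁻¹) * g = x := by group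
  rwa [this]

theorem smul_le_iff {A B : Subgroup G} {g : G} : MulAut.conj g • A ≤ B ↔ ∀ x ∈ A, g * x * g⁻¹ ∈ B := by
  constructor
  · intro h x hx
    exact h (conj_mem_smul hx)
  · intro h x hx
    have h1 := h _ (mem_smul.1 hx)
    have : g * (g⁻¹ * x * g) * g⁻¹ = x := by group
    rwa [this] at h1

theorem card_smul (A : Subgroup G) (g : G) : Nat.card ↥(MulAut.conj g • A) = Nat.card A :=
  Nat.card_congr (Subgroup.equivSMul (MulAut.conj g) A).toEquiv.symm

theorem smul_eq_of_mem {L : Subgroup G} {g : G} (hg : g ∈ L) : MulAut.conj g • L = L :=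
  Subgroup.conj_smul_eq_self_of_mem hg

theorem Syl.smul {L A : Subgroup G} (h : Syl p L A) (g : G) :
    Syl p (MulAut.conj g • L) (MulAut.conj g • A) := by
  refine ⟨?_, ?_⟩
  · exact Subgroup.pointwise_smul_le_pointwise_smul_iff.2 h.1
  · rw [card_smul, card_smul, h.2]

theorem Syl.smul_of_mem {L A : Subgroup G} (h : Syl p L A) {g : G} (hg : g ∈ L) :
    Syl p L (MulAut.conj g • A) := by
  have := h.smul g
  rwa [smul_eq_of_mem hg] at this

theorem Syl.card_eq {L A A' : Subgroup G} (h : Syl p L A) (h' : Syl p L A') :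
    Nat.card A = Nat.card A' := by rw [h.2, h'.2]

variable [Finite G]

theorem Syl.eq_of_le {L A A' : Subgroup G} (h : Syl p L A) (h' : Syl p L A') (hle : A ≤ A') : A = A' :=
  Subgroup.eq_of_le_of_card_ge hle (h'.card_eq h).le

theorem card_subgroupOf {A L : Subgroup G} (h : A ≤ L) : Nat.card ↥(A.subgroupOf L) = Nat.card A :=
  Nat.card_congr (Subgroup.subgroupOfEquivOfLe h).toEquiv

theorem map_subgroupOf {A L : Subgroup G} (h : A ≤ L) : (A.subgroupOf L).map L.subtype = A := by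
  rw [Subgroup.subgroupOf_map_subtype, inf_eq_left.2 h]

variable [hp : Fact p.Prime]

theorem Syl.exists_sylow {L A : Subgroup G} (h : Syl p L A) :
    ∃ Q : Sylow p ↥L, (Q : Subgroup ↥L) = A.subgroupOf L :=
  ⟨Sylow.ofCard (A.subgroupOf L) (by rw [card_subgroupOf h.1, h.2]), rfl⟩

theorem Syl.of_sylow {L : Subgroup G} (Q : Sylow p ↥L) : Syl p L ((Q : Subgroup ↥L).map L.subtype) := by
  refine ⟨Subgroup.map_subtype_le _, ?_⟩
  rw [Nat.card_congr ((Q : Subgroup ↥L).equivMapOfInjective L.subtype L.subtype_injective).toEquiv.symm]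
  exact Q.card_eq_multiplicity

theorem exists_syl (L : Subgroup G) : ∃ A, Syl p L A := ⟨_, Syl.of_sylow (default : Sylow p ↥L)⟩

/-- Every `p`-subgroup of `L` lies in a Sylow `p`-subgroup. -/
theorem exists_le {L V : Subgroup G} (hV : V ≤ L) (hVp : IsPGroup p V) : ∃ A, Syl p L A ∧ V ≤ A := by
  have h1 : IsPGroup p (V.subgroupOf L) :=
    hVp.of_equiv (Subgroup.subgroupOfEquivOfLe hV).symm
  obtain ⟨Q, hQ⟩ := h1.exists_le_sylow
  refine ⟨_, Syl.of_sylow Q, ?_⟩
  rw [← map_subgroupOf hV]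
  exact Subgroup.map_mono hQ

theorem Syl.card_le {L A V : Subgroup G} (h : Syl p L A) (hV : V ≤ L) (hVp : IsPGroup p V) :
    Nat.card V ≤ Nat.card A := by
  obtain ⟨A', hA', hle⟩ := exists_le hV hVp
  rw [h.card_eq hA']
  exact Subgroup.card_le_of_le hle

theorem Syl.of_max {L A : Subgroup G} (hA : A ≤ L) (hAp : IsPGroup p A)
    (hmax : ∀ V ≤ L, IsPGroup p V → Nat.card V ≤ Nat.card A) : Syl p L A := by
  obtain ⟨A', hA', hle⟩ := exists_le hA hAp
  have h1 : A = A' := Subgroup.eq_of_le_of_card_ge hle (hmax A' hA'.1 hA'.isP)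
  rw [h1]
  exact hA'

theorem Syl.exists_conj {L A A' : Subgroup G} (h : Syl p L A) (h' : Syl p L A') :
    ∃ l ∈ L, MulAut.conj l • A = A' := by
  obtain ⟨Q, hQ⟩ := h.exists_sylow
  obtain ⟨Q', hQ'⟩ := h'.exists_sylow
  obtain ⟨l, hl⟩ := MulAction.exists_smul_eq ↥L Q Q'
  refine ⟨l, l.2, ?_⟩
  have h1 : (Q' : Subgroup ↥L) = MulAut.conj l • (Q : Subgroup ↥L) := by rw [← hl]; rfl
  rw [hQ, hQ'] at h1
  have h2 : A' ≤ MulAut.conj (l : G) • A := by
    intro x hx
    have h3 : (⟨x, h'.1 hx⟩ : ↥L) ∈ A'.subgroupOf L := hx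
    rw [h1, mem_smul] at h3
    exact mem_smul.2 h3
  refine (Subgroup.eq_of_le_of_card_ge h2 ?_).symm
  rw [card_smul, h.card_eq h']

/-- The intersection of a Sylow subgroup with a subnormal subgroup. -/
theorem Syl.inf {X L P : Subgroup G} (hL : L ≤ X) (hsub : (L.subgroupOf X).IsSubnormal)
    (hP : Syl p X P) : Syl p L (L ⊓ P) := by
  obtain ⟨S, hS⟩ := hP.exists_sylow
  obtain ⟨Q, hQ⟩ := S0542.result p (L.subgroupOf X) hsub S
  refine ⟨inf_le_left, ?_⟩
  have h1 := Q.card_eq_multiplicity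
  rw [card_subgroupOf hL, hQ, hS] at h1
  rw [← h1]
  refine Nat.card_congr ⟨fun x => ⟨⟨⟨x.1, hL x.2.1⟩, x.2.1⟩, x.2.2⟩,
    fun x => ⟨x.1.1.1, x.1.2, x.2⟩, fun x => rfl, fun x => rfl⟩

/-- A subnormal `p`-subgroup is contained in every Sylow `p`-subgroup. -/
theorem Syl.le_of_subnormal {X A P : Subgroup G} (hA : A ≤ X) (hAp : IsPGroup p A)
    (hsub : (A.subgroupOf X).IsSubnormal) (hP : Syl p X P) : A ≤ P := by
  have h1 := Syl.inf hA hsub hP
  obtain ⟨n, hn⟩ := IsPGroup.iff_card.1 hAp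
  have h2 : Nat.card ↥(A ⊓ P) = Nat.card A := by
    rw [h1.2, hn, hp.out.factorization_pow]
    simp
  have h3 : A ⊓ P = A := Subgroup.eq_of_le_of_card_ge inf_le_left h2.ge
  exact inf_eq_left.1 h3

/-- A Sylow subgroup of a larger group contained in `M` is a Sylow subgroup of `M`. -/
theorem Syl.mono {X M P : Subgroup G} (hP : Syl p X P) (hPM : P ≤ M) (hM : M ≤ X) : Syl p M P :=
  Syl.of_max hPM hP.isP fun _ hV hVp => hP.card_le (hV.trans hM) hVp

/-- Intersection of a subnormal subgroup with a subgroup. -/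
theorem subnormal_inf {X L M : Subgroup G} (hM : M ≤ X) (hsub : (L.subgroupOf X).IsSubnormal) :
    ((L ⊓ M).subgroupOf M).IsSubnormal := by
  have h1 := hsub.comap (Subgroup.inclusion hM)
  have h2 : (L ⊓ M).subgroupOf M = (L.subgroupOf X).comap (Subgroup.inclusion hM) := by
    ext x
    simp only [Subgroup.mem_comap, Subgroup.mem_subgroupOf, Subgroup.mem_inf, Subgroup.coe_inclusion,
      SetLike.coe_mem, and_true]
  rw [h2]
  exact h1

theorem subnormal_of_le {X L M : Subgroup G} (hL : L ≤ M) (hM : M ≤ X)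
    (hsub : (L.subgroupOf X).IsSubnormal) : (L.subgroupOf M).IsSubnormal := by
  have h1 := subnormal_inf hM hsub
  rwa [inf_eq_left.2 hL] at h1

/-- A subgroup `A` of `H`, normal in `H`, with `H` subnormal in `M`, is subnormal in `M`. -/
theorem subnormal_trans {A H M : Subgroup G} (hA : A ≤ H) (_hH : H ≤ M)
    (hn : ∀ h ∈ H, ∀ a ∈ A, h * a * h⁻¹ ∈ A) (hsub : (H.subgroupOf M).IsSubnormal) :
    (A.subgroupOf M).IsSubnormal := by
  refine Subgroup.IsSubnormal.step _ (H.subgroupOf M) ?_ hsub ?_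
  · intro x hx
    exact hA hx
  · constructor
    intro x hx g
    exact hn _ g.2 _ hx

end Cfsg.Agent.FixBN.SylSub
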