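import Cfsg.Agent.FixBN.Split

/-!
Transport of (B,N)-pairs and of `Split` along an isomorphism.
-/

set_option autoImplicit false

namespace Cfsg.Agent.FixBN.Transport

open Cfsg.Agent.Schreier.BNSch

variable {K L : Type*} [Group K] [Group L] (e : K ≃* L)

/-- Transport of a (B,N)-pair along an isomorphism. -/
def mapBN (P : Cfsg.BNPair K) : Cfsg.BNPair L where
  B := P.B.map e.toMonoidHom
  N := P.N.map e.toMonoidHom
  S := e '' P.S
  sup_eq_top := by
    rw [← Subgroup.map_sup, P.sup_eq_top]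
    exact Subgroup.map_top_of_surjective _ e.surjective
  conj_mem := by
    rintro _ ⟨n, hn, rfl⟩ t ⟨ht1, ht2⟩
    change t ∈ P.B.map e.toMonoidHom at ht1
    change t ∈ P.N.map e.toMonoidHom at ht2
    rw [Subgroup.mem_map_equiv] at ht1 ht2
    rw [Subgroup.mem_map_equiv]
    have := P.conj_mem n hn (e.symm t) ⟨ht1, ht2⟩
    simpa using this
  subset := by
    rintro _ ⟨s, hs, rfl⟩
    exact ⟨s, P.subset hs, rfl⟩
  sq_mem := by
    rintro _ ⟨s, hs, rfl⟩
    exact ⟨s * s, P.sq_mem s hs, by simp⟩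
  inj := by
    rintro _ ⟨s, hs, rfl⟩ _ ⟨s', hs', rfl⟩ h
    rw [Subgroup.mem_map_equiv] at h
    have : s⁻¹ * s' ∈ P.B := by simpa using h
    rw [P.inj s hs s' hs' this]
  closure_sup := by
    have h1 : (P.B ⊓ P.N).map e.toMonoidHom = P.B.map e.toMonoidHom ⊓ P.N.map e.toMonoidHom :=
      Subgroup.map_inf _ _ _ e.injective
    have h2 : Subgroup.closure (e '' P.S) = (Subgroup.closure P.S).map e.toMonoidHom :=
      (MonoidHom.map_closure e.toMonoidHom P.S).symm
    rw [← h1, h2, ← Subgroup.map_sup, P.closure_sup]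
  mul_mem_union := by
    rintro _ ⟨s, hs, rfl⟩ _ ⟨n, hn, rfl⟩ b hb
    rw [Subgroup.mem_map_equiv] at hb
    have h1 := P.mul_mem_union s hs n hn (e.symm b) hb
    rcases h1 with h1 | h1
    · left
      rw [DoubleCoset.mem_doubleCoset] at h1 ⊢
      obtain ⟨x, hx, y, hy, h2⟩ := h1
      refine ⟨e x, ⟨x, hx, rfl⟩, e y, ⟨y, hy, rfl⟩, ?_⟩
      have h3 := congrArg e h2
      simpa using h3
    · right
      rw [DoubleCoset.mem_doubleCoset] at h1 ⊢
      obtain ⟨x, hx, y, hy, h2⟩ := h1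
      refine ⟨e x, ⟨x, hx, rfl⟩, e y, ⟨y, hy, rfl⟩, ?_⟩
      have h3 := congrArg e h2
      simpa using h3
  conj_ne := by
    rintro _ ⟨s, hs, rfl⟩ h
    apply P.conj_ne s hs
    ext x
    have h1 := Set.ext_iff.1 h (e x)
    constructor
    · rintro ⟨b, hb, rfl⟩
      have h2 : e (s * b * s) ∈ (fun b => e s * b * e s) '' ((P.B.map e.toMonoidHom : Subgroup L) : Set L) :=
        ⟨e b, ⟨b, hb, rfl⟩, by simp⟩
      have h3 := h1.1 h2
      rw [SetLike.mem_coe, Subgroup.mem_map_equiv] at h3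
      simpa using h3
    · intro hx
      obtain ⟨b, hb, h2⟩ := h1.2 ⟨x, hx, rfl⟩
      rw [SetLike.mem_coe, Subgroup.mem_map_equiv] at hb
      refine ⟨e.symm b, hb, ?_⟩
      apply e.injective
      simpa using h2

theorem split (P : Cfsg.BNPair K) {p : ℕ} {U : Subgroup K} (h : Split P p U) :
    Split (mapBN e P) p (U.map e.toMonoidHom) where
  le := Subgroup.map_mono h.le
  norm := by
    intro b hb u hu
    change b ∈ P.B.map e.toMonoidHom at hb
    rw [Subgroup.mem_map_equiv] at hb hu ⊢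
    have := h.norm _ hb _ hu
    simpa using this
  isP := h.isP.map _
  cover := by
    intro b hb
    change b ∈ P.B.map e.toMonoidHom at hb
    rw [Subgroup.mem_map_equiv] at hb
    obtain ⟨u, hu, hun⟩ := h.cover _ hb
    refine ⟨e u, ⟨u, hu, rfl⟩, ?_⟩
    change _ ∈ P.N.map e.toMonoidHom
    rw [Subgroup.mem_map_equiv]
    simpa using hun
  tor := by
    obtain ⟨m, hm, h1⟩ := h.tor
    refine ⟨m, hm, ?_⟩
    intro x hx hxN
    change x ∈ P.B.map e.toMonoidHom at hx
    change x ∈ P.N.map e.toMonoidHom at hxN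
    rw [Subgroup.mem_map_equiv] at hx hxN
    have h2 := h1 _ hx hxN
    have h3 := congrArg e h2
    simpa using h3
  node := by
    rintro _ ⟨s, hs, rfl⟩
    obtain ⟨V, hV⟩ := h.node s hs
    refine ⟨V.map e.toMonoidHom, ?_, ?_, ?_, ?_, ?_⟩
    · exact Subgroup.map_mono hV.le
    · obtain ⟨u, hu, huV⟩ := hV.ne
      refine ⟨e u, ⟨u, hu, rfl⟩, ?_⟩
      rw [Subgroup.mem_map_equiv]
      simpa using huV
    · intro b hb v hv
      change b ∈ P.B.map e.toMonoidHom at hb
      rw [Subgroup.mem_map_equiv] at hb hv ⊢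
      have := hV.conj_B _ hb _ hv
      simpa using this
    · intro v hv
      rw [Subgroup.mem_map_equiv] at hv ⊢
      have := hV.conj_s _ hv
      simpa using this
    · intro u hu h1
      change _ ∈ P.B.map e.toMonoidHom at h1
      rw [Subgroup.mem_map_equiv] at hu h1 ⊢
      exact hV.stab _ hu (by simpa using h1)
  core := by
    rw [eq_bot_iff]
    intro x hx
    rw [Subgroup.mem_bot]
    have h1 : e.symm x ∈ P.B.normalCore := by
      intro g
      have h2 := hx (e g)
      change _ ∈ P.B.map e.toMonoidHom at h2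
      rw [Subgroup.mem_map_equiv] at h2
      simpa using h2
    rw [h.core, Subgroup.mem_bot] at h1
    simpa using h1

/-- `HasSplit` is invariant under isomorphisms. -/
theorem hasSplit_congr (e : K ≃* L) {p : ℕ} (hK : HasSplit p K) : HasSplit p L := by
  obtain ⟨P, U, ⟨s, hs⟩, hS⟩ := hK
  exact ⟨mapBN e P, U.map e.toMonoidHom, ⟨e s, s, hs, rfl⟩, split e P hS⟩

end Cfsg.Agent.FixBN.Transport
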