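import Mathlib
import Cfsg.Agent.S1695
import Cfsg.Agent.SporadicB.HePerm.Final
import Cfsg.Agent.FixBN.HeData

/-!
# Stabilisers in the representation of the Held group on 2058 points

The points `0, 1, 32, 8` are a base, and the stabiliser of `0` is generated by the known words; its
orbits give an invariant colouring of the pairs of points.
-/

set_option autoImplicit false

namespace Cfsg.Agent.FixBN.HeStab

open Cfsg.Spor Cfsg.Spor.He Cfsg.Agent.SporadicB.HePerm Cfsg.Agent.FixBN.HeData

theorem card_he : Nat.card Cfsg.Spor.He = 4030387200 := Cfsg.Agent.S1695.result.2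

instance finite_he : Finite Cfsg.Spor.He :=
  Nat.finite_of_card_ne_zero (by rw [card_he]; norm_num)

theorem phi_injective : Function.Injective phi := (injective_of_card_le card_he.le).1

theorem card_phi_range : Nat.card phi.range = 4030387200 := (injective_of_card_le card_he.le).2.2

/-- the pointwise stabiliser of the last three base points -/
def fix3 (H : Subgroup (Equiv.Perm (Fin 2058))) : Subgroup (Equiv.Perm (Fin 2058)) :=
  H ⊓ fixer 1 ⊓ fixer 32 ⊓ fixer 8

/-- the estimate from the stabiliser chain, from the second base point on -/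
theorem chain3 (H : Subgroup (Equiv.Perm (Fin 2058))) (hH : ∀ w ∈ wordsK, (w.map pm).prod ∈ H) :
    1958400 * Nat.card (fix3 H) ≤ Nat.card H := by
  set H2 := H ⊓ fixer 1 with hH2
  set H3 := H2 ⊓ fixer 32 with hH3
  have hK := fixK
  have hL := fixL
  have hM := fixM
  rw [List.all_eq_true] at hK hL hM
  have e1 : Fin.ofNat 2058 (look Data.kOrd 1) = (1 : Fin 2058) := by rw [ordK1]; rfl
  have e2 : Fin.ofNat 2058 (look Data.lOrd 0) = (32 : Fin 2058) := by rw [ordL0]; rfl
  have e3 : Fin.ofNat 2058 (look Data.mOrd 0) = (8 : Fin 2058) := by rw [ordM0]; rfl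
  have hHL : ∀ w ∈ wordsL, (w.map pm).prod ∈ H := by
    intro w hw
    apply hH
    simp only [wordsL, List.mem_cons, List.not_mem_nil, or_false] at hw
    simp only [wordsK, List.mem_cons, List.not_mem_nil, or_false]
    tauto
  have hHM : ∀ w ∈ wordsM, (w.map pm).prod ∈ H := by
    intro w hw
    simp only [wordsM, List.mem_cons, List.not_mem_nil, or_false] at hw
    rcases hw with rfl | rfl
    · exact hHL [.a] (by simp [wordsL])
    · have h1 := hHL [.d] (by simp [wordsL])
      have h2 := hHL [.e] (by simp [wordsL])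
      have h3 := hHL [.a, .b, .a, .b] (by simp [wordsL])
      have h4 := H.mul_mem (H.mul_mem (H.mul_mem h1 h2) h1) h3
      simpa [mul_assoc] using h4
  have s1 : 1360 * Nat.card H2 ≤ Nat.card H := by
    refine le_trans (Nat.mul_le_mul_right _ (card_pts treeK1).ge) ?_
    apply chain_step H H2 (1 : Fin 2058) _ _ inf_le_left
    · intro k hk; exact mem_fixer.mp hk.2
    · intro y hy
      have := reach_pts treeK1 H hH y hy
      rwa [e1] at this
  have s2 : 360 * Nat.card H3 ≤ Nat.card H2 := by
    refine le_trans (Nat.mul_le_mul_right _ (card_pts treeL).ge) ?_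
    apply chain_step H2 H3 (32 : Fin 2058) _ _ inf_le_left
    · intro k hk; exact mem_fixer.mp hk.2
    · intro y hy
      have := reach_pts treeL H2 (fun w hw => by
        have h := hL w hw
        rw [Bool.and_eq_true] at h
        exact ⟨hHL w hw, mem_fixer.mpr (fix_of_act (by norm_num) (Nat.eq_of_beq_eq_true h.2))⟩) y hy
      rwa [e2] at this
  have s3 : 4 * Nat.card (fix3 H) ≤ Nat.card H3 := by
    refine le_trans (Nat.mul_le_mul_right _ (card_pts treeM).ge) ?_
    apply chain_step H3 (fix3 H) (8 : Fin 2058) _ _ inf_le_left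
    · intro k hk; exact mem_fixer.mp hk.2
    · intro y hy
      have := reach_pts treeM H3 (fun w hw => by
        have h := hM w hw
        rw [Bool.and_eq_true, Bool.and_eq_true] at h
        exact ⟨⟨hHM w hw, mem_fixer.mpr (fix_of_act (by norm_num) (Nat.eq_of_beq_eq_true h.2.1))⟩,
          mem_fixer.mpr (fix_of_act (by norm_num) (Nat.eq_of_beq_eq_true h.2.2))⟩) y hy
      rwa [e3] at this
  omega

theorem card_stab_le : Nat.card ↥(phi.range ⊓ fixer 0) ≤ 1958400 := by
  have e0 : Fin.ofNat 2058 (look Data.gOrd 0) = (0 : Fin 2058) := by rw [ordG0]; rfl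
  have s0 : 2058 * Nat.card ↥(phi.range ⊓ fixer 0) ≤ Nat.card phi.range := by
    refine le_trans (Nat.mul_le_mul_right _ (card_pts treeG).ge) ?_
    apply chain_step phi.range (phi.range ⊓ fixer 0) (0 : Fin 2058) _ _ inf_le_left
    · intro k hk; exact mem_fixer.mp hk.2
    · intro y hy
      have := reach_pts treeG phi.range (fun w _ => prod_mem_range w) y hy
      rwa [e0] at this
  rw [card_phi_range] at s0
  omega

theorem prod_mem_stab {w : List Gen} (hw : w ∈ wordsK) : (w.map pm).prod ∈ phi.range ⊓ fixer 0 := by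
  have hK := fixK
  rw [List.all_eq_true] at hK
  exact ⟨prod_mem_range w, mem_fixer.mpr (fix_of_act (by norm_num) (Nat.eq_of_beq_eq_true (hK w hw)))⟩

theorem inv_app (p : Equiv.Perm (Fin 2058)) (i : Fin 2058) : p⁻¹ (p i) = i := p.symm_apply_apply i

theorem app_inv (p : Equiv.Perm (Fin 2058)) (i : Fin 2058) : p (p⁻¹ i) = i := p.apply_symm_apply i

/-- The points `0, 1, 32, 8` are a base. -/
theorem fix3_eq_bot : fix3 (phi.range ⊓ fixer 0) = ⊥ := by
  have h1 := chain3 (phi.range ⊓ fixer 0) (fun w hw => prod_mem_stab hw)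
  have h2 := card_stab_le
  apply Subgroup.eq_bot_of_card_le
  omega

/-- The stabiliser of `0` is generated by the known words. -/
theorem stab_eq_closure :
    Subgroup.closure {p | ∃ w ∈ wordsK, (w.map pm).prod = p} = phi.range ⊓ fixer 0 := by
  have h1 := chain3 (Subgroup.closure {p | ∃ w ∈ wordsK, (w.map pm).prod = p})
    (fun w hw => Subgroup.subset_closure ⟨w, hw, rfl⟩)
  have h2 := card_stab_le
  have h3 : 0 < Nat.card (fix3 (Subgroup.closure {p | ∃ w ∈ wordsK, (w.map pm).prod = p})) :=
    Nat.card_pos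
  apply Subgroup.eq_of_le_of_card_ge
  · rw [Subgroup.closure_le]
    rintro p ⟨w, hw, rfl⟩
    exact prod_mem_stab hw
  · omega

/-- Elements of the Held group which agree on the base are equal. -/
theorem eq_of_base {x y : Cfsg.Spor.He} (h0 : phi x 0 = phi y 0) (h1 : phi x 1 = phi y 1)
    (h2 : phi x 32 = phi y 32) (h3 : phi x 8 = phi y 8) : x = y := by
  have hm : phi (x⁻¹ * y) ∈ fix3 (phi.range ⊓ fixer 0) := by
    have key : ∀ i : Fin 2058, phi x i = phi y i → phi (x⁻¹ * y) ∈ fixer i := by
      intro i hi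
      rw [mem_fixer, map_mul, map_inv, Equiv.Perm.mul_apply, ← hi]
      exact inv_app _ _
    exact ⟨⟨⟨⟨⟨_, rfl⟩, key 0 h0⟩, key 1 h1⟩, key 32 h2⟩, key 8 h3⟩
  rw [fix3_eq_bot, Subgroup.mem_bot] at hm
  have h4 : x⁻¹ * y = 1 := phi_injective (by rw [hm, map_one])
  exact (inv_mul_eq_one.mp h4)

/-- comparison of two words on the base -/
def chkB (v w : List Gen) : Bool :=
  and (and (Nat.beq (act v 0) (act w 0)) (Nat.beq (act v 1) (act w 1)))
    (and (Nat.beq (act v 32) (act w 32)) (Nat.beq (act v 8) (act w 8)))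

theorem eq_of_chkB {v w : List Gen} (h : chkB v w = true) : wd v = wd w := by
  unfold chkB at h
  rw [Bool.and_eq_true, Bool.and_eq_true, Bool.and_eq_true] at h
  obtain ⟨⟨h0, h1⟩, h2, h3⟩ := h
  apply eq_of_base
  · exact Fin.ext (by rw [phi_wd_apply, phi_wd_apply]; exact Nat.eq_of_beq_eq_true h0)
  · exact Fin.ext (by rw [phi_wd_apply, phi_wd_apply]; exact Nat.eq_of_beq_eq_true h1)
  · exact Fin.ext (by rw [phi_wd_apply, phi_wd_apply]; exact Nat.eq_of_beq_eq_true h2)
  · exact Fin.ext (by rw [phi_wd_apply, phi_wd_apply]; exact Nat.eq_of_beq_eq_true h3)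

/-! ### colours -/

/-- the orbit of a point under the stabiliser of `0` -/
def col (y : ℕ) : ℕ := look4 colT y

theorem chkCol : allBelow 2058 (fun y => wordsK.all fun w => Nat.beq (col (act w y)) (col y)) = true := by
  decide +kernel

/-- The colour is invariant under the stabiliser of `0`. -/
theorem col_inv {x : Cfsg.Spor.He} (hx : phi x 0 = 0) (y : Fin 2058) : col (phi x y) = col y := by
  have hm : phi x ∈ phi.range ⊓ fixer 0 := ⟨⟨x, rfl⟩, hx⟩
  rw [← stab_eq_closure] at hm
  generalize phi x = q at hm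
  clear hx
  revert y
  induction hm using Subgroup.closure_induction with
  | mem p hp =>
    obtain ⟨w, hw, rfl⟩ := hp
    intro y
    have h := of_allBelow chkCol y y.2
    rw [List.all_eq_true] at h
    rw [prod_apply]
    exact Nat.eq_of_beq_eq_true (h w hw)
  | one => intro y; rfl
  | mul p q _ _ hp hq => intro y; rw [Equiv.Perm.mul_apply, hp, hq]
  | inv p _ hp =>
    intro y
    have h := hp (p⁻¹ y)
    rw [app_inv] at h
    exact h.symm

/-- the generator with a given number applied to a point -/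
def stp (s i : ℕ) : ℕ := act (nth wordsG s) i

/-- the second point when the first one is moved to `0` along the spanning tree -/
def walk (n : ℕ) : ℕ → ℕ → ℕ :=
  Nat.rec (fun _ y => y) (fun _ ih x y =>
    bif Nat.beq x 0 then y else ih (stp (look4 stepT x) x) (stp (look4 stepT x) y)) n

theorem walk_zero (x y : ℕ) : walk 0 x y = y := rfl

theorem walk_succ (n x y : ℕ) : walk (n + 1) x y =
    bif Nat.beq x 0 then y else walk n (stp (look4 stepT x) x) (stp (look4 stepT x) y) := rfl

theorem stp_lt (s i : ℕ) (hi : i < 2058) : stp s i < 2058 := act_lt _ i hi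

/-- Moving along the spanning tree is the action of a group element. -/
theorem walk_spec (n : ℕ) : ∀ x : Fin 2058, ∃ g : Cfsg.Spor.He, ∀ y : Fin 2058,
    (phi g y : ℕ) = walk n x y := by
  induction n with
  | zero => intro x; exact ⟨1, fun y => by rw [map_one, walk_zero]; rfl⟩
  | succ n ih =>
    intro x
    by_cases hx : Nat.beq (x : ℕ) 0 = true
    · exact ⟨1, fun y => by rw [map_one, walk_succ, hx]; rfl⟩
    · obtain ⟨g, hg⟩ := ih ⟨stp (look4 stepT x) x, stp_lt _ _ x.2⟩
      refine ⟨g * wd (nth wordsG (look4 stepT x)), fun y => ?_⟩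
      have h1 : phi (wd (nth wordsG (look4 stepT x))) y =
          ⟨stp (look4 stepT x) y, stp_lt _ _ y.2⟩ := Fin.ext (phi_wd_apply _ _)
      rw [Bool.not_eq_true] at hx
      rw [map_mul, Equiv.Perm.mul_apply, h1, hg, walk_succ, hx]
      rfl

theorem chkWalk : allBelow 2058 (fun y => Nat.beq (walk 17 y y) 0) = true := by
  decide +kernel

/-- The colour of a pair of points. -/
def colr (x y : ℕ) : ℕ := col (walk 17 x y)

theorem colr_eq (g : Cfsg.Spor.He) {x : Fin 2058} (hx : phi g x = 0) (y : Fin 2058) :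
    colr x y = col (phi g y) := by
  obtain ⟨k, hk⟩ := walk_spec 17 x
  have h0 : phi k x = 0 := by
    apply Fin.ext
    rw [hk]
    exact Nat.eq_of_beq_eq_true (of_allBelow chkWalk x x.2)
  have h1 : phi (k * g⁻¹) 0 = 0 := by
    rw [map_mul, map_inv, Equiv.Perm.mul_apply, ← hx, inv_app, h0, hx]
  have h2 := col_inv h1 (phi g y)
  rw [map_mul, map_inv, Equiv.Perm.mul_apply, inv_app] at h2
  unfold colr
  rw [← hk, h2]

/-- The colour of a pair is invariant. -/
theorem colr_inv (c : Cfsg.Spor.He) (x y : Fin 2058) : colr (phi c x) (phi c y) = colr x y := by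
  obtain ⟨k, hk⟩ := walk_spec 17 x
  have h0 : phi k x = 0 := by
    apply Fin.ext
    rw [hk]
    exact Nat.eq_of_beq_eq_true (of_allBelow chkWalk x x.2)
  rw [colr_eq k h0, colr_eq (k * c⁻¹) (x := phi c x)]
  · rw [map_mul, map_inv, Equiv.Perm.mul_apply, inv_app]
  · rw [map_mul, map_inv, Equiv.Perm.mul_apply, inv_app, h0]

end Cfsg.Agent.FixBN.HeStab
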