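import Cfsg.Agent.FixBN.Reduce
import Cfsg.Agent.StandardComponent.AltAut
import Cfsg.Agent.SignalizersComponents.PCompQuot

/-!
# `SB (alternatingGroup (Fin n))`, `n ≥ 7`

An involutive automorphism `τ` of `A_n` is conjugation by `s` with `s² = 1`. Let `C` be the group of fixed points,
`W` a normal subgroup of odd order of `C`.

* `fix_moved` : `W` fixes every point moved by `s`;
* `fix_fixed` : if `s` has at least four fixed points, then `W` fixes all of them;
* if `s` has at most three fixed points, then a perfect subgroup of `C` fixes them.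
-/

set_option autoImplicit false

namespace Cfsg.Agent.FixBN.AltSB

open Equiv Equiv.Perm

/-! ### permutations of odd order -/

theorem sq_fix {α : Type*} {w : Perm α} (hw : ∃ j : ℕ, (w ^ 2) ^ j = w) {a : α} (h : w (w a) = a) : w a = a := by
  obtain ⟨j, hj⟩ := hw
  have h1 : (w ^ 2) a = a := by rw [pow_two]; exact h
  have h2 : ∀ j : ℕ, ((w ^ 2) ^ j) a = a := by
    intro j
    induction j with
    | zero => rfl
    | succ j ih => rw [pow_succ, Perm.mul_apply, h1, ih]
  have h3 := h2 j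
  rwa [hj] at h3

theorem eq_one_of_sq {G : Type*} [Group G] {w : G} (hw : ∃ j : ℕ, (w ^ 2) ^ j = w) (h : w ^ 2 = 1) : w = 1 := by
  obtain ⟨j, hj⟩ := hw
  rw [← hj, h, one_pow]

theorem exists_pow_of_odd {G : Type*} [Group G] [Finite G] {W : Subgroup G} (hW : Odd (Nat.card W)) {w : G}
    (hw : w ∈ W) : ∃ j : ℕ, (w ^ 2) ^ j = w := by
  obtain ⟨k, hk⟩ := hW
  refine ⟨k + 1, ?_⟩
  have h1 : w ^ Nat.card W = 1 := by
    have h2 : (⟨w, hw⟩ : W) ^ Nat.card W = 1 := pow_card_eq_one'
    exact congrArg Subtype.val h2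
  rw [← pow_mul, show 2 * (k + 1) = Nat.card W + 1 by omega, pow_succ, h1, one_mul]

/-! ### pairs of an involution -/

section Pairs

variable {α : Type*} [DecidableEq α] {s : Perm α} (hs : ∀ x, s (s x) = x)

include hs

theorem comm_s (a x : α) : swap a (s a) (s x) = s (swap a (s a) x) := by
  have h1 := Equiv.swap_apply_apply s a (s a)
  rw [hs, Equiv.swap_comm] at h1
  have h2 : swap a (s a) * s = s * swap a (s a) := by
    conv_lhs => rw [h1]
    group
  exact congrArg (fun f : Perm α => f x) h2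

theorem comm_pairs (p q : α) : Commute (swap p (s p)) (swap q (s q)) := by
  by_cases h1 : q = p
  · subst h1; exact Commute.refl _
  by_cases h2 : q = s p
  · subst h2
    rw [hs, Equiv.swap_comm (s p) p]
  apply Equiv.Perm.Disjoint.commute
  intro z
  by_cases h3 : z = p
  · subst h3
    right
    refine Equiv.swap_apply_of_ne_of_ne (fun h => h1 h.symm) fun h => h2 ?_
    rw [h, hs]
  by_cases h4 : z = s p
  · subst h4
    right
    exact Equiv.swap_apply_of_ne_of_ne (fun h => h2 h.symm) fun h => h1 (s.injective h).symm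
  left
  exact Equiv.swap_apply_of_ne_of_ne h3 h4

end Pairs

/-! ### the odd normal subgroup -/

section Main

variable {α : Type*} [DecidableEq α] [Fintype α] {s : Perm α} (hs : ∀ x, s (s x) = x) {W : Subgroup (Perm α)}
  (hc : ∀ w ∈ W, ∀ x, w (s x) = s (w x)) (hodd : ∀ w ∈ W, ∃ j : ℕ, (w ^ 2) ^ j = w)
  (hn : ∀ w ∈ W, ∀ u ∈ alternatingGroup α, (∀ x, u (s x) = s (u x)) → u * w * u⁻¹ ∈ W)

include hs hc hodd hn

/-- `W` fixes the points moved by `s`. -/
theorem fix_moved {w : Perm α} (hw : w ∈ W) {a : α} (ha : s a ≠ a) : w a = a := by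
  by_contra hne
  have h2 : w (w a) ≠ a := fun h => hne (sq_fix (hodd w hw) h)
  have hwb : w (s a) = s (w a) := hc w hw a
  have hx : w a ≠ s a := by
    intro h
    apply h2
    rw [h, hwb, h, hs]
  have hxy : w a ≠ s (w a) := by
    rw [← hwb]
    exact fun h => ha (w.injective h).symm
  have hu : swap a (s a) * swap (w a) (s (w a)) ∈ alternatingGroup α :=
    mul_mem_alternatingGroup_of_isSwap ⟨_, _, ha.symm, rfl⟩ ⟨_, _, hxy, rfl⟩
  have hus : ∀ x, (swap a (s a) * swap (w a) (s (w a))) (s x) = s ((swap a (s a) * swap (w a) (s (w a))) x) := by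
    intro x
    rw [Perm.mul_apply, Perm.mul_apply, comm_s hs, comm_s hs]
  set t1 := swap a (s a) with ht1
  set t2 := swap (w a) (s (w a)) with ht2
  set t3 := swap (w (w a)) (s (w (w a))) with ht3
  have e1 : w * t1 * w⁻¹ = t2 := by
    rw [ht1, ht2, ← hwb]
    exact (Equiv.swap_apply_apply w a (s a)).symm
  have e2 : w * t2 * w⁻¹ = t3 := by
    rw [ht2, ht3, ← hc w hw (w a)]
    exact (Equiv.swap_apply_apply w (w a) (s (w a))).symm
  have c12 : Commute t1 t2 := comm_pairs hs _ _
  have c13 : Commute t1 t3 := comm_pairs hs _ _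
  have c23 : Commute t2 t3 := comm_pairs hs _ _
  have s1 : t1 * t1 = 1 := Equiv.swap_mul_self _ _
  have s2 : t2 * t2 = 1 := Equiv.swap_mul_self _ _
  have s3 : t3 * t3 = 1 := Equiv.swap_mul_self _ _
  have i1 : t1⁻¹ = t1 := inv_eq_of_mul_eq_one_right s1
  have i2 : t2⁻¹ = t2 := inv_eq_of_mul_eq_one_right s2
  have hmem : t3 * t1 ∈ W := by
    have h3 : w * (t1 * t2 * w⁻¹ * (t1 * t2)⁻¹) ∈ W := mul_mem hw (hn _ (inv_mem hw) _ hu hus)
    have h4 : w * (t1 * t2 * w⁻¹ * (t1 * t2)⁻¹) = (w * t1 * w⁻¹) * (w * t2 * w⁻¹) * (t2⁻¹ * t1⁻¹) := by group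
    rw [h4, e1, e2, i1, i2] at h3
    have h5 : t2 * t3 * (t2 * t1) = t3 * t1 := by
      rw [c23.eq, mul_assoc, ← mul_assoc t2 t2, s2, one_mul]
    rwa [h5] at h3
  have hsq : (t3 * t1) ^ 2 = 1 := by
    rw [pow_two, mul_assoc, ← mul_assoc t1 t3, c13.eq, mul_assoc t3 t1, s1, mul_one, s3]
  have h31 : t3 * t1 = 1 := eq_one_of_sq (hodd _ hmem) hsq
  have h6 : t3 = t1 := by
    rw [← i1]; exact eq_inv_of_mul_eq_one_left h31
  have h7 : t3 a = s a := by rw [h6, ht1, Equiv.swap_apply_left]
  by_cases h8 : a = s (w (w a))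
  · -- `w² a = s a`
    have h9 : w (w a) = s a := by
      conv_rhs => rw [h8, hs]
    have h10 : w (w (w (w a))) = a := by
      rw [h9, hc w hw, hc w hw, h9, hs]
    have h11 : (w ^ 2) a = a := by
      refine sq_fix (w := w ^ 2) ?_ ?_
      · obtain ⟨j, hj⟩ := hodd w hw
        refine ⟨j, ?_⟩
        rw [← pow_mul, mul_comm 2 j, pow_mul, hj]
      · rw [pow_two]; exact h10
    exact h2 h11
  · rw [ht3, Equiv.swap_apply_of_ne_of_ne (fun h => h2 h.symm) h8] at h7
    exact ha h7.symm

end Main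

/-! ### odd normal subgroups of alternating groups -/

theorem alt_four : ∀ w : alternatingGroup (Fin 4), w ^ 2 = 1 ∨ ∃ u : alternatingGroup (Fin 4),
    u * w * u⁻¹ * w⁻¹ ≠ 1 ∧ (u * w * u⁻¹ * w⁻¹) ^ 2 = 1 := by
  decide +kernel

/-- A normal subgroup of odd order of `Alt(β)`, `|β| ≥ 4`, is trivial. -/
theorem alt_eq_bot {β : Type*} [Fintype β] [DecidableEq β] (h4 : 4 ≤ Nat.card β) (W : Subgroup (alternatingGroup β))
    [hW : W.Normal] (hodd : ∀ w ∈ W, ∃ j : ℕ, (w ^ 2) ^ j = w) : W = ⊥ := by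
  rcases h4.eq_or_lt with h | h
  · rw [Nat.card_eq_fintype_card] at h
    let e : alternatingGroup β ≃* alternatingGroup (Fin 4) :=
      Equiv.altCongrHom (Fintype.equivFinOfCardEq h.symm)
    rw [eq_bot_iff]
    intro w hw
    rw [Subgroup.mem_bot]
    rcases alt_four (e w) with h1 | ⟨u, h1, h2⟩
    · refine eq_one_of_sq (hodd w hw) (e.injective ?_)
      rw [map_pow, h1, map_one]
    · exfalso
      apply h1
      have h3 : e.symm u * w * (e.symm u)⁻¹ * w⁻¹ ∈ W := mul_mem (hW.conj_mem w hw _) (inv_mem hw)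
      have h4 : e.symm u * w * (e.symm u)⁻¹ * w⁻¹ = 1 := by
        refine eq_one_of_sq (hodd _ h3) (e.injective ?_)
        rw [map_pow, map_mul, map_mul, map_mul, map_inv, map_inv, e.apply_symm_apply, h2, map_one]
      have h5 := congrArg e h4
      rwa [map_mul, map_mul, map_mul, map_inv, map_inv, e.apply_symm_apply, map_one] at h5
  · have : IsSimpleGroup (alternatingGroup β) := alternatingGroup.isSimpleGroup h
    rcases hW.eq_bot_or_eq_top with h1 | h1
    · exact h1
    exfalso
    have hnt : Nontrivial β := by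
      rw [← Finite.one_lt_card_iff_nontrivial]; omega
    have hdvd : 2 ∣ Nat.card (alternatingGroup β) := by
      rw [nat_card_alternatingGroup]
      have h2 : Nat.factorial 4 ∣ Nat.factorial (Nat.card β) := Nat.factorial_dvd_factorial h4
      have h3 : Nat.factorial 4 = 24 := by decide
      rw [h3] at h2
      omega
    obtain ⟨x, hx⟩ := exists_prime_orderOf_dvd_card' 2 hdvd
    have h2 : x = 1 := eq_one_of_sq (hodd x (h1 ▸ Subgroup.mem_top x)) (by rw [← hx, pow_orderOf_eq_one])
    rw [h2, orderOf_one] at hx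
    omega

section Main2

variable {α : Type*} [DecidableEq α] [Fintype α] {s : Perm α} {W : Subgroup (Perm α)}
  (hc : ∀ w ∈ W, ∀ x, w (s x) = s (w x)) (hodd : ∀ w ∈ W, ∃ j : ℕ, (w ^ 2) ^ j = w)
  (hn : ∀ w ∈ W, ∀ u ∈ alternatingGroup α, (∀ x, u (s x) = s (u x)) → u * w * u⁻¹ ∈ W)

omit [Fintype α] in
theorem of_mem (f : Perm {x // s x = x}) {x : α} (hx : s x = x) : ofSubtype f x = (f ⟨x, hx⟩ : α) :=
  ofSubtype_apply_of_mem f hx

omit [Fintype α] in
theorem of_not_mem (f : Perm {x // s x = x}) {x : α} (hx : s x ≠ x) : ofSubtype f x = x :=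
  ofSubtype_apply_of_not_mem f hx

omit [Fintype α] in
/-- The elements of `Perm (Fix s)` commute with `s`. -/
theorem ofSubtype_comm (v : Perm {x // s x = x}) (x : α) : ofSubtype v (s x) = s (ofSubtype v x) := by
  by_cases hx : s x = x
  · have h1 : s (ofSubtype v x) = ofSubtype v x := (ofSubtype_apply_mem_iff_mem v x).2 hx
    rw [hx, h1]
  · rw [of_not_mem v hx, of_not_mem]
    intro h
    exact hx (s.injective h)

include hc hodd hn

/-- If `s` has at least four fixed points, then `W` fixes them. -/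
theorem fix_fixed (h4 : 4 ≤ Nat.card {x // s x = x}) {w : Perm α} (hw : w ∈ W) {a : α} (ha : s a = a) : w a = a := by
  have hF : ∀ w ∈ W, ∀ x, s x = x → s (w x) = w x := by
    intro w hw x hx
    rw [← hc w hw, hx]
  let W0 : Subgroup (alternatingGroup {x // s x = x}) :=
    W.comap (ofSubtype.comp (alternatingGroup {x // s x = x}).subtype)
  have hmem : ∀ v : alternatingGroup {x // s x = x}, v ∈ W0 ↔ ofSubtype (v : Perm {x // s x = x}) ∈ W :=
    fun v => Iff.rfl
  have halt : ∀ v : alternatingGroup {x // s x = x}, ofSubtype (v : Perm {x // s x = x}) ∈ alternatingGroup α := by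
    intro v
    rw [mem_alternatingGroup, sign_ofSubtype]
    exact mem_alternatingGroup.1 v.2
  have hW0 : W0.Normal := by
    constructor
    intro v hv u
    rw [hmem] at hv ⊢
    rw [Subgroup.coe_mul, Subgroup.coe_mul, Subgroup.coe_inv, map_mul, map_mul, map_inv]
    exact hn _ hv _ (halt u) (ofSubtype_comm _)
  have hbot : W0 = ⊥ := by
    refine alt_eq_bot h4 W0 fun v hv => ?_
    obtain ⟨j, hj⟩ := hodd _ ((hmem v).1 hv)
    refine ⟨j, ?_⟩
    apply Subtype.ext
    apply ofSubtype_injective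
    rw [Subgroup.coe_pow, Subgroup.coe_pow, map_pow, map_pow]
    exact hj
  -- `w` commutes with the alternating group of the fixed points
  have hcom : ∀ v : alternatingGroup {x // s x = x}, w * ofSubtype (v : Perm {x // s x = x}) * w⁻¹ =
      ofSubtype (v : Perm {x // s x = x}) := by
    intro v
    have hwF : ∀ x, s (w x) = w x ↔ s x = x := by
      intro x
      constructor
      · intro h
        rw [← hc w hw] at h
        exact w.injective h
      · exact hF w hw x
    let r : Perm {x // s x = x} := subtypePerm w hwF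
    have h1 : w * ofSubtype (v : Perm {x // s x = x}) * w⁻¹ = ofSubtype (r * v * r⁻¹ : Perm {x // s x = x}) := by
      rw [mul_inv_eq_iff_eq_mul]
      ext x
      rw [Perm.mul_apply, Perm.mul_apply]
      by_cases hx : s x = x
      · rw [of_mem _ hx, of_mem _ ((hwF x).2 hx), Perm.mul_apply, Perm.mul_apply]
        have h2 : (⟨w x, (hwF x).2 hx⟩ : {x // s x = x}) = r ⟨x, hx⟩ := rfl
        rw [h2, show r⁻¹ (r ⟨x, hx⟩) = ⟨x, hx⟩ from r.symm_apply_apply _]
        rfl
      · rw [of_not_mem _ hx, of_not_mem]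
        exact fun h => hx ((hwF x).1 h)
    have h2 : (r * v * r⁻¹ : Perm {x // s x = x}) ∈ alternatingGroup {x // s x = x} :=
      alternatingGroup.normal.conj_mem _ v.2 _
    have h3 : (⟨_, h2⟩ : alternatingGroup {x // s x = x}) * v⁻¹ ∈ W0 := by
      rw [hmem, Subgroup.coe_mul, Subgroup.coe_inv, map_mul, map_inv]
      change ofSubtype (r * v * r⁻¹ : Perm {x // s x = x}) * _ ∈ W
      rw [← h1]
      have h4 := mul_mem hw (hn _ (inv_mem hw) _ (halt v) (ofSubtype_comm _))
      have h5 : w * ofSubtype (v : Perm {x // s x = x}) * w⁻¹ * (ofSubtype (v : Perm {x // s x = x}))⁻¹ =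
        w * (ofSubtype (v : Perm {x // s x = x}) * w⁻¹ * (ofSubtype (v : Perm {x // s x = x}))⁻¹) := by group
      rw [h5]
      exact h4
    rw [hbot, Subgroup.mem_bot, mul_inv_eq_one] at h3
    have h6 : (r * v * r⁻¹ : Perm {x // s x = x}) = v := congrArg Subtype.val h3
    rw [h1, h6]
  by_contra hne
  have hwa : s (w a) = w a := hF w hw a ha
  obtain ⟨p, hp⟩ : ∃ p : {x // s x = x}, p ∉ ({⟨a, ha⟩, ⟨w a, hwa⟩} : Finset {x // s x = x}) := by
    by_contra hcon
    push Not at hcon
    have h1 : (Finset.univ : Finset {x // s x = x}) ⊆ {⟨a, ha⟩, ⟨w a, hwa⟩} := fun x _ => hcon x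
    have h2 := Finset.card_le_card h1
    have h3 := Finset.card_le_two (a := (⟨a, ha⟩ : {x // s x = x})) (b := ⟨w a, hwa⟩)
    rw [Finset.card_univ, ← Nat.card_eq_fintype_card] at h2
    omega
  obtain ⟨q, hq⟩ : ∃ q : {x // s x = x}, q ∉ ({⟨a, ha⟩, ⟨w a, hwa⟩, p} : Finset {x // s x = x}) := by
    by_contra hcon
    push Not at hcon
    have h1 : (Finset.univ : Finset {x // s x = x}) ⊆ {⟨a, ha⟩, ⟨w a, hwa⟩, p} := fun x _ => hcon x
    have h2 := Finset.card_le_card h1
    have h3 := Finset.card_le_three (a := (⟨a, ha⟩ : {x // s x = x})) (b := ⟨w a, hwa⟩) (c := p)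
    rw [Finset.card_univ, ← Nat.card_eq_fintype_card] at h2
    omega
  simp only [Finset.mem_insert, Finset.mem_singleton, not_or] at hp hq
  obtain ⟨hp1, hp2⟩ := hp
  obtain ⟨hq1, hq2, hq3⟩ := hq
  have h3 : (swap (⟨a, ha⟩ : {x // s x = x}) p * swap (⟨a, ha⟩ : {x // s x = x}) q).IsThreeCycle :=
    isThreeCycle_swap_mul_swap_same (Ne.symm hp1) (Ne.symm hq1) (Ne.symm hq3)
  have h4' := hcom ⟨_, h3.mem_alternatingGroup⟩
  rw [mul_inv_eq_iff_eq_mul] at h4'
  have h5 := congrArg (fun f : Perm α => f a) h4'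
  simp only [Perm.mul_apply] at h5
  rw [of_mem _ ha, of_mem _ hwa] at h5
  simp only [Perm.mul_apply] at h5
  have hne' : (⟨w a, hwa⟩ : {x // s x = x}) ≠ ⟨a, ha⟩ := fun h => hne (congrArg Subtype.val h)
  rw [swap_apply_left, swap_apply_of_ne_of_ne hq1 hq3, swap_apply_of_ne_of_ne hne' (Ne.symm hq2),
    swap_apply_of_ne_of_ne hne' (Ne.symm hp2)] at h5
  exact hq1 (Subtype.ext (w.injective h5))

end Main2

/-! ### at most three fixed points -/

section Main3

variable {α : Type*} [DecidableEq α] [Fintype α] {s : Perm α}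

/-- The centraliser of `s` acts on the fixed points. -/
def res (s : Perm α) (C : Subgroup (Perm α)) (hC : ∀ w ∈ C, ∀ x, w (s x) = s (w x)) :
    ↥C →* Perm {x // s x = x} :=
  MonoidHom.mk' (fun w => subtypePerm (w : Perm α) fun x => by
    rw [← hC w w.2]
    exact (w : Perm α).injective.eq_iff) fun _ _ => rfl

/-- A perfect subgroup fixes the fixed points of `s` if there are at most three. -/
theorem perfect_fix (C : Subgroup (Perm α)) (hC : ∀ w ∈ C, ∀ x, w (s x) = s (w x))
    (h3 : Nat.card {x // s x = x} ≤ 3) (L : Subgroup ↥C) (hL : ⁅L, L⁆ = L) {l : ↥C} (hl : l ∈ L) {a : α}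
    (ha : s a = a) : (l : Perm α) a = a := by
  have h1 : L.map (res s C hC) ≤ alternatingGroup {x // s x = x} := by
    rw [← hL, Subgroup.map_commutator, Subgroup.commutator_le]
    intro x _ y _
    rw [mem_alternatingGroup, map_commutatorElement, commutatorElement_eq_one_iff_mul_comm]
    exact mul_comm _ _
  have := alternatingGroup.isMulCommutative_of_card_le_three h3
  have h2 : L.map (res s C hC) = ⊥ := by
    rw [← hL, Subgroup.map_commutator, eq_bot_iff]
    refine (Subgroup.commutator_mono h1 h1).trans ?_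
    rw [Subgroup.commutator_le]
    intro x hx y hy
    rw [Subgroup.mem_bot, commutatorElement_eq_one_iff_mul_comm]
    exact congrArg Subtype.val (mul_comm' (⟨x, hx⟩ : alternatingGroup {x // s x = x}) ⟨y, hy⟩)
  have h4 : res s C hC l = 1 := by
    rw [← Subgroup.mem_bot, ← h2]
    exact ⟨l, hl, rfl⟩
  have h5 := congrArg (fun f : Perm {x // s x = x} => ((f ⟨a, ha⟩ : {x // s x = x}) : α)) h4
  exact h5

end Main3

/-! ### the conclusion -/

open Cfsg Cfsg.Agent.FixBN.Reduce in
/-- **The strong form of the B-property for the alternating groups.** -/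
theorem sb (n : ℕ) (hn : 7 ≤ n) : SB (alternatingGroup (Fin n)) := by
  obtain ⟨m, rfl⟩ : ∃ m, n = m + 2 := ⟨n - 2, by omega⟩
  intro τ hτ L hL W hW hWo
  obtain ⟨s, hs⟩ := StandardComponent.AltAut.exists_conj (m := m) (by omega) τ
  -- `s² = 1`
  have hs1 : s * s = 1 := by
    apply StandardComponent.AltAut.eq_one_of_centralizes (m := m) (by omega)
    intro x
    have h1 : s * s * (x : Perm (Fin (m + 2))) * (s * s)⁻¹ = s * (s * x * s⁻¹) * s⁻¹ := by group
    rw [h1, ← hs x, ← hs (τ x), hτ]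
  have hs2 : ∀ x, s (s x) = x := fun x => by
    rw [← Perm.mul_apply, hs1]; rfl
  -- the fixed points as permutations
  let C : Subgroup (Perm (Fin (m + 2))) := (fixSub τ).map (alternatingGroup (Fin (m + 2))).subtype
  have hmemC : ∀ u ∈ alternatingGroup (Fin (m + 2)), (∀ x, u (s x) = s (u x)) →
      ∃ c : ↥(fixSub τ), ((c : alternatingGroup (Fin (m + 2))) : Perm (Fin (m + 2))) = u := by
    intro u hu hus
    refine ⟨⟨⟨u, hu⟩, ?_⟩, rfl⟩
    rw [mem_fixSub]
    apply Subtype.ext
    rw [hs, mul_inv_eq_iff_eq_mul]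
    ext1 x
    exact (hus x).symm
  have hcomm : ∀ c : ↥(fixSub τ), ∀ x, ((c : alternatingGroup (Fin (m + 2))) : Perm (Fin (m + 2))) (s x) =
      s (((c : alternatingGroup (Fin (m + 2))) : Perm (Fin (m + 2))) x) := by
    intro c x
    have h1 := hs (c : alternatingGroup (Fin (m + 2)))
    rw [mem_fixSub.1 c.2, eq_mul_inv_iff_mul_eq] at h1
    exact congrArg (fun f : Perm (Fin (m + 2)) => f x) h1
  let f : ↥(fixSub τ) →* Perm (Fin (m + 2)) :=
    (alternatingGroup (Fin (m + 2))).subtype.comp (fixSub τ).subtype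
  have hf : Function.Injective f := (Subtype.val_injective).comp Subtype.val_injective
  have hWf : ∀ w ∈ W.map f, ∃ j : ℕ, (w ^ 2) ^ j = w := by
    rintro _ ⟨w, hw, rfl⟩
    obtain ⟨j, hj⟩ := exists_pow_of_odd hWo hw
    exact ⟨j, by rw [← map_pow, ← map_pow, hj]⟩
  have hWc : ∀ w ∈ W.map f, ∀ x, w (s x) = s (w x) := by
    rintro _ ⟨w, hw, rfl⟩ x
    exact hcomm w x
  have hWn : ∀ w ∈ W.map f, ∀ u ∈ alternatingGroup (Fin (m + 2)), (∀ x, u (s x) = s (u x)) →
      u * w * u⁻¹ ∈ W.map f := by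
    rintro _ ⟨w, hw, rfl⟩ u hu hus
    obtain ⟨c, rfl⟩ := hmemC u hu hus
    exact ⟨c * w * c⁻¹, hW.conj_mem w hw c, by rw [map_mul, map_mul, map_inv]; rfl⟩
  rw [Subgroup.commutator_eq_bot_iff_le_centralizer]
  intro l hl
  rw [Subgroup.mem_centralizer_iff]
  intro w hw
  apply hf
  rw [map_mul, map_mul]
  have hwm : ∀ a, s a ≠ a → f w a = a := fun a ha => fix_moved hs2 hWc hWf hWn ⟨w, hw, rfl⟩ ha
  by_cases h4 : 4 ≤ Nat.card {x // s x = x}
  · have h1 : f w = 1 := by
      ext1 a
      by_cases ha : s a = a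
      · exact fix_fixed hWc hWf hWn h4 ⟨w, hw, rfl⟩ ha
      · exact hwm a ha
    rw [h1, one_mul, mul_one]
  · have hL' : ⁅L, L⁆ = L :=
      Subgroup.isPerfect_iff.1 (SignalizersComponents.PCompQuot.perfect_of_pComponent hL)
    have hlf : ∀ a, s a = a → f l a = a := by
      intro a ha
      have h1 : ∀ w ∈ f.range, ∀ x, w (s x) = s (w x) := by
        rintro _ ⟨w, rfl⟩ x
        exact hcomm w x
      have h2 : ⁅L.map f.rangeRestrict, L.map f.rangeRestrict⁆ = L.map f.rangeRestrict := by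
        rw [← Subgroup.map_commutator, hL']
      exact perfect_fix f.range h1 (by omega) (L.map f.rangeRestrict) h2
        (l := f.rangeRestrict l) ⟨l, hl, rfl⟩ ha
    ext1 a
    rw [Perm.mul_apply, Perm.mul_apply]
    by_cases ha : s a = a
    · rw [hlf a ha, hlf]
      have h1 := hcomm w a
      rw [ha] at h1
      exact h1.symm
    · rw [hwm a ha, hwm]
      intro h
      have h1 := hcomm l a
      apply ha
      apply (f l).injective
      exact h1.trans h

end Cfsg.Agent.FixBN.AltSB
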