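import Mathlib
import Cfsg.Agent.S0144
import Cfsg.Agent.Lib.ElemAbGL
import Cfsg.Agent.Lib.SubnormalJoin
/-!
Perfect subgroups of groups whose order has small odd part centralise the odd normal subgroups
(base cases of the B-theorem).
-/

set_option autoImplicit false

namespace Cfsg.Agent.FixBN.SmallSB

open Subgroup
open scoped commutatorElement

/-- `n` is good for the pair `(p, k)`: a group of order dividing `|GL_k(p)|` and `n / p ^ k` is
solvable because its order has at most two prime divisors. -/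
def GoodAt (n p k : ℕ) : Prop :=
  ∀ d : ℕ, p ^ k * d ∣ n → d ∣ Nat.card (GL (Fin k) (ZMod p)) → ∃ i j : ℕ, d = 2 ^ i * 3 ^ j

/-- The numerical condition. -/
def Good (n : ℕ) : Prop := ∀ p k : ℕ, p.Prime → p ≠ 2 → 2 ≤ k → p ^ k ∣ n → GoodAt n p k

theorem exists_prime_of_minimal {G : Type*} [Group G] [Finite G] {V : Subgroup G}
    (hVn : V.Normal) (hne : V ≠ ⊥) (hsol : Group.IsSolvable V)
    (hmin : ∀ N : Subgroup G, N.Normal → N ≤ V → N = ⊥ ∨ N = V) :
    ∃ p : ℕ, p.Prime ∧ (∀ a ∈ V, ∀ b ∈ V, a * b = b * a) ∧ ∀ a ∈ V, a ^ p = 1 := by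
  have hnt : Nontrivial V := (Subgroup.nontrivial_iff_ne_bot V).mpr hne
  have hcomm : ⁅V, V⁆ = ⊥ := by
    rcases hmin ⁅V, V⁆ inferInstance (Subgroup.commutator_le_left V V) with h | h
    · exact h
    · exfalso
      have h1 := Group.IsSolvable.commutator_lt_top_of_nontrivial V
      have h2 : (commutator V).map V.subtype = ⁅V, V⁆ := by
        rw [commutator_def, Subgroup.map_commutator, ← MonoidHom.range_eq_map,
          Subgroup.range_subtype]
      rw [h] at h2
      apply h1.ne
      apply Subgroup.map_injective V.subtype_injective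
      rw [h2, ← MonoidHom.range_eq_map, Subgroup.range_subtype]
  have hab : ∀ a ∈ V, ∀ b ∈ V, a * b = b * a := by
    intro a ha b hb
    have : ⁅a, b⁆ ∈ (⊥ : Subgroup G) := hcomm ▸ Subgroup.commutator_mem_commutator ha hb
    rw [Subgroup.mem_bot, commutatorElement_eq_one_iff_mul_comm] at this
    exact this
  obtain ⟨p, hp, hpd⟩ := Nat.exists_prime_and_dvd (n := Nat.card V)
    (by rw [Ne, Subgroup.card_eq_one]; exact hne)
  have : Fact p.Prime := ⟨hp⟩
  let N : Subgroup G :=
    { carrier := {v | v ∈ V ∧ v ^ p = 1}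
      one_mem' := ⟨V.one_mem, one_pow _⟩
      mul_mem' := by
        rintro a b ⟨ha, ha'⟩ ⟨hb, hb'⟩
        refine ⟨V.mul_mem ha hb, ?_⟩
        have hcom : Commute a b := hab a ha b hb
        rw [hcom.mul_pow, ha', hb', one_mul]
      inv_mem' := by
        rintro a ⟨ha, ha'⟩
        refine ⟨V.inv_mem ha, ?_⟩
        rw [inv_pow, ha', inv_one] }
  have hNn : N.Normal := by
    refine ⟨?_⟩
    rintro a ⟨ha, ha'⟩ g
    refine ⟨hVn.conj_mem a ha g, ?_⟩
    rw [conj_pow, ha', mul_one, mul_inv_cancel]
  have hNV : N ≤ V := fun a ha => ha.1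
  have hN1 : N ≠ ⊥ := by
    intro h
    obtain ⟨x, hx⟩ := exists_prime_orderOf_dvd_card' p hpd
    have h1 : (x : G) ∈ N := ⟨x.2, by
      have := pow_orderOf_eq_one x
      rw [hx] at this
      exact_mod_cast congrArg Subtype.val this⟩
    rw [h, Subgroup.mem_bot] at h1
    have h2 : x = 1 := Subtype.ext h1
    rw [h2, orderOf_one] at hx
    exact hp.one_lt.ne hx
  rcases hmin N hNn hNV with h | h
  · exact absurd h hN1
  · exact ⟨p, hp, hab, fun a ha => (h.symm ▸ ha : a ∈ N).2⟩

theorem commutator_eq_bot_of_solvable_action {H : Type*} [Group H] {L N : Subgroup H} [N.Normal]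
    (hL : ⁅L, L⁆ = L) (hs : Group.IsSolvable (MulAut.conjNormal (H := N)).range) :
    ⁅L, N⁆ = ⊥ := by
  have h1 : L.map (MulAut.conjNormal (H := N)).rangeRestrict = ⊥ := by
    have hp : ⁅L.map (MulAut.conjNormal (H := N)).rangeRestrict,
        L.map (MulAut.conjNormal (H := N)).rangeRestrict⁆ =
        L.map (MulAut.conjNormal (H := N)).rangeRestrict := by
      rw [← map_commutator, hL]
    set A := L.map (MulAut.conjNormal (H := N)).rangeRestrict with hA
    have hsA : Group.IsSolvable A := inferInstance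
    by_contra hne
    have : Nontrivial A := (Subgroup.nontrivial_iff_ne_bot A).mpr hne
    have h1 := Group.IsSolvable.commutator_lt_top_of_nontrivial A
    have h2 : (commutator A).map A.subtype = ⁅A, A⁆ := by
      rw [commutator_def, Subgroup.map_commutator, ← MonoidHom.range_eq_map, Subgroup.range_subtype]
    rw [hp] at h2
    apply h1.ne
    apply Subgroup.map_injective A.subtype_injective
    rw [h2, ← MonoidHom.range_eq_map, Subgroup.range_subtype]
  rw [Subgroup.commutator_eq_bot_iff_le_centralizer]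
  intro l hl
  rw [Subgroup.mem_centralizer_iff]
  intro x hx
  have h2 : (MulAut.conjNormal (H := N)).rangeRestrict l = 1 := by
    have : (MulAut.conjNormal (H := N)).rangeRestrict l ∈
        L.map (MulAut.conjNormal (H := N)).rangeRestrict := ⟨l, hl, rfl⟩
    rw [h1, Subgroup.mem_bot] at this
    exact this
  have h3 : (MulAut.conjNormal l : MulAut N) = 1 := congrArg Subtype.val h2
  have h4 := congrArg (fun φ : MulAut N => ((φ ⟨x, hx⟩ : N) : H)) h3
  simp only [MulAut.conjNormal_apply, MulAut.one_apply] at h4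
  calc x * l = (l * x * l⁻¹) * l := by rw [h4]
    _ = l * x := by group

theorem isSolvable_range_of_minimal {H : Type*} [Group H] [Finite H] {n : ℕ} (hg : Good n)
    (hn : Nat.card H ∣ n) {N : Subgroup H} [N.Normal] {p : ℕ} (hp : p.Prime) (hp2 : p ≠ 2)
    (hab : ∀ a ∈ N, ∀ b ∈ N, a * b = b * a) (hpow : ∀ a ∈ N, a ^ p = 1) :
    Group.IsSolvable (MulAut.conjNormal (H := N)).range := by
  have : Fact p.Prime := ⟨hp⟩
  letI : CommGroup N := { (inferInstance : Group N) with
    mul_comm := fun a b => Subtype.ext (hab a a.2 b b.2) }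
  have hP : IsPGroup p N := fun a => ⟨1, by
    rw [pow_one]; exact Subtype.ext (hpow a a.2)⟩
  obtain ⟨k, hk⟩ := IsPGroup.iff_card.mp hP
  obtain ⟨e⟩ := Lib.ElemAbGL.mulAut_equiv_GL (V := N) p k (fun x => Subtype.ext (hpow x x.2)) hk
  -- the order of the image
  set X := (MulAut.conjNormal (H := N)).range with hX
  have hXd : Nat.card N * Nat.card X ∣ n := by
    have h1 : N ≤ (MulAut.conjNormal (H := N)).ker := by
      intro a ha
      rw [MonoidHom.mem_ker]
      ext x
      simp only [MulAut.conjNormal_apply, MulAut.one_apply]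
      rw [hab a ha x x.2]
      group
    have h2 : Nat.card X = (MulAut.conjNormal (H := N)).ker.index := by
      rw [hX, Subgroup.index_ker]
    have h3 := Subgroup.card_mul_index (MulAut.conjNormal (H := N)).ker
    have h4 : Nat.card N ∣ Nat.card (MulAut.conjNormal (H := N)).ker :=
      Subgroup.card_dvd_of_le h1
    rw [h2]
    exact ((Nat.mul_dvd_mul_right h4 _).trans (dvd_of_eq h3)).trans hn
  have hXg : Nat.card X ∣ Nat.card (GL (Fin k) (ZMod p)) := by
    rw [← Nat.card_congr e.toEquiv]
    exact Subgroup.card_subgroup_dvd_card X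
  by_cases hk2 : 2 ≤ k
  · have hpk : p ^ k ∣ n := hk ▸ (Dvd.intro _ rfl : Nat.card N ∣ _).trans hXd
    obtain ⟨i, j, hij⟩ := hg p k hp hp2 hk2 hpk (Nat.card X) (hk ▸ hXd) hXg
    exact Cfsg.Agent.S0144.result 2 3 i j Nat.prime_two Nat.prime_three hij
  · -- `GL_k` is commutative for `k ≤ 1`
    have hcomm : ∀ a b : GL (Fin k) (ZMod p), a * b = b * a := by
      intro a b
      have hk' : k = 0 ∨ k = 1 := by omega
      rcases hk' with rfl | rfl
      · exact Subsingleton.elim _ _
      · apply Units.ext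
        ext i j
        simp [Matrix.mul_apply, Subsingleton.elim i 0, Subsingleton.elim j 0, mul_comm]
    have h1 : ∀ a b : X, a * b = b * a := by
      intro a b
      apply Subtype.ext
      apply e.injective
      rw [Subgroup.coe_mul, Subgroup.coe_mul, map_mul, map_mul, hcomm]
    letI : CommGroup X := { (inferInstance : Group X) with mul_comm := h1 }
    infer_instance

universe u

theorem card_map_mk_lt {H : Type*} [Group H] [Finite H] {N W : Subgroup H} [N.Normal] (hNW : N ≤ W)
    (hN : N ≠ ⊥) : Nat.card (W.map (QuotientGroup.mk' N)) < Nat.card W := by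
  have h1 : N.relIndex W = Nat.card (W.map (QuotientGroup.mk' N)) := by
    have := Subgroup.relIndex_ker (K := W) (QuotientGroup.mk' N)
    rwa [QuotientGroup.ker_mk'] at this
  have h2 := Subgroup.card_mul_index (N.subgroupOf W)
  have h3 : Nat.card (N.subgroupOf W) = Nat.card N :=
    Nat.card_congr (Subgroup.subgroupOfEquivOfLe hNW).toEquiv
  have h4 : (N.subgroupOf W).index = N.relIndex W := rfl
  rw [h3, h4, h1] at h2
  have h5 : 1 < Nat.card N := (Subgroup.one_lt_card_iff_ne_bot N).2 hN
  have h6 : 0 < Nat.card (W.map (QuotientGroup.mk' N)) := Nat.card_pos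
  rw [← h2]
  nlinarith

/-- A perfect subgroup of a group of good order centralises every solvable normal subgroup of odd
order. -/
theorem commutator_eq_bot_of_good {n : ℕ} (hg : Good n) (m : ℕ) :
    ∀ (H : Type u) [Group H] [Finite H], Nat.card H ∣ n → ∀ (L W : Subgroup H), ⁅L, L⁆ = L →
      W.Normal → Odd (Nat.card W) → Group.IsSolvable W → Nat.card W = m → ⁅L, W⁆ = ⊥ := by
  induction m using Nat.strong_induction_on with
  | _ m ih =>
    intro H _ _ hn L W hL hW hodd hsW hm
    by_cases hne : W = ⊥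
    · rw [hne, Subgroup.commutator_bot_right]
    obtain ⟨N, hN, hNW, hN1, hmin⟩ := Lib.SubnormalJoin.exists_minimal_normal_le W hW hne
    have hsN : Group.IsSolvable N :=
      Group.isSolvable_of_isSolvable_injective (f := Subgroup.inclusion hNW) (Subgroup.inclusion_injective hNW)
    obtain ⟨p, hp, hab, hpow⟩ := exists_prime_of_minimal hN hN1 hsN hmin
    have hp2 : p ≠ 2 := by
      rintro rfl
      obtain ⟨x, hx, hx1⟩ : ∃ x ∈ N, x ≠ 1 := by
        by_contra hcon
        push Not at hcon
        exact hN1 ((Subgroup.eq_bot_iff_forall N).2 hcon)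
      have h1 : orderOf x = 2 := orderOf_eq_prime (hpow x hx) hx1
      have h2 : 2 ∣ Nat.card W := by
        rw [← h1, ← Subgroup.orderOf_mk x (hNW hx)]
        exact orderOf_dvd_natCard _
      exact (Nat.not_even_iff_odd.2 hodd) (even_iff_two_dvd.2 h2)
    have hLN : ⁅L, N⁆ = ⊥ := commutator_eq_bot_of_solvable_action hL
      (isSolvable_range_of_minimal hg hn hp hp2 hab hpow)
    -- the quotient
    have hq : ⁅L.map (QuotientGroup.mk' N), W.map (QuotientGroup.mk' N)⁆ = ⊥ := by
      refine ih _ (hm ▸ card_map_mk_lt hNW hN1) (H ⧸ N) ((Subgroup.card_quotient_dvd_card N).trans hn)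
        _ _ ?_ ?_ ?_ ?_ rfl
      · rw [← Subgroup.map_commutator, hL]
      · exact hW.map _ (QuotientGroup.mk'_surjective N)
      · exact Odd.of_dvd_nat hodd (Subgroup.card_map_dvd _ _)
      · exact Group.isSolvable_of_surjective (f := (QuotientGroup.mk' N).subgroupMap W)
          ((QuotientGroup.mk' N).subgroupMap_surjective W)
    have h1 : ⁅L, W⁆ ≤ N := by
      rw [← Subgroup.map_commutator, Subgroup.map_eq_bot_iff, QuotientGroup.ker_mk'] at hq
      exact hq
    have h2 : ⁅⁅L, W⁆, L⁆ = ⊥ := by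
      rw [eq_bot_iff]
      calc ⁅⁅L, W⁆, L⁆ ≤ ⁅N, L⁆ := Subgroup.commutator_mono h1 le_rfl
        _ = ⁅L, N⁆ := Subgroup.commutator_comm _ _
        _ = ⊥ := hLN
        _ ≤ ⊥ := le_rfl
    have h3 := Subgroup.commutator_commutator_eq_bot_of_rotate (H₁ := L) (H₂ := L) (H₃ := W) h2
      (by rw [Subgroup.commutator_comm W L]; exact h2)
    rwa [hL] at h3

end Cfsg.Agent.FixBN.SmallSB
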