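import Mathlib
import Cfsg.Agent.S0205
import Cfsg.Agent.FixBN.SmallSB
import Cfsg.Agent.FixBN.Reduce
import Cfsg.Agent.SignalizersComponents.PCompQuot

/-!
# The soft B-property of groups of good order

A 2-component of a group whose order divides a good number centralises every normal subgroup of
odd order.
-/

set_option autoImplicit false

namespace Cfsg.Agent.FixBN.GoodSB

open Subgroup Cfsg Cfsg.Agent.FixBN.Reduce Cfsg.Agent.FixBN.SmallSB
open Cfsg.Agent.SignalizersComponents
open scoped commutatorElement

universe u

/-- A 2-component of a group whose order divides a good number centralises every normal subgroup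
of odd order. -/
theorem commutator_eq_bot {n : ℕ} (hg : Good n) {H : Type u} [Group H] [Finite H]
    (hd : Nat.card H ∣ n) {L W : Subgroup H} (hL : IsPComponent 2 L) (hW : W.Normal)
    (hodd : Odd (Nat.card W)) : ⁅L, W⁆ = ⊥ :=
  commutator_eq_bot_of_good hg (Nat.card W) H hd L W
    (isPerfect_iff.mp (PCompQuot.perfect_of_pComponent hL)) hW hodd
    (Cfsg.Agent.S0205.result hodd) rfl

/-- If the orders of all fixed point groups of automorphisms `τ ≠ 1` with `τ² = 1` of the simple
group `K` divide a good number, then `SB K`. -/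
theorem sb_of_good {n : ℕ} (hg : Good n) {K : Type u} [Group K] [Finite K]
    (h : ∀ τ : K ≃* K, (∀ x, τ (τ x) = x) → Nat.card ↥(fixSub τ) ∣ n) : SB K :=
  fun τ hτ _ hL _ hW hodd => commutator_eq_bot hg (h τ hτ) hL hW hodd

/-- The same when the identity automorphism is not covered and `K` is simple of even order. -/
theorem sb_of_good_simple {n : ℕ} (hg : Good n) {K : Type u} [Group K] [Finite K] [IsSimpleGroup K]
    (heven : Even (Nat.card K))
    (h : ∀ τ : K ≃* K, (∀ x, τ (τ x) = x) → (∃ x, τ x ≠ x) → Nat.card ↥(fixSub τ) ∣ n) : SB K := by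
  intro τ hτ L hL W hW hodd
  by_cases hx : ∃ x, τ x ≠ x
  · exact commutator_eq_bot hg (h τ hτ hx) hL hW hodd
  · push Not at hx
    have htop : fixSub τ = ⊤ := by
      rw [Subgroup.eq_top_iff']
      exact fun x => hx x
    have e : ↥(fixSub τ) ≃* K := (MulEquiv.subgroupCongr htop).trans Subgroup.topEquiv
    have hs : IsSimpleGroup ↥(fixSub τ) := by
      have : Nontrivial ↥(fixSub τ) := e.toEquiv.nontrivial
      exact IsSimpleGroup.isSimpleGroup_of_surjective e.symm.toMonoidHom e.symm.surjective
    rcases hs.eq_bot_or_eq_top_of_normal W hW with h1 | h1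
    · rw [h1, Subgroup.commutator_bot_right]
    · exfalso
      rw [h1, Nat.card_congr Subgroup.topEquiv.toEquiv, Nat.card_congr e.toEquiv] at hodd
      exact (Nat.not_even_iff_odd.2 hodd) heven

end Cfsg.Agent.FixBN.GoodSB
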