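import Mathlib
import Cfsg.Agent.FixBN.HeStab

/-!
# The centraliser of a group of order 49 in the Held group

`P₁, P₂, Z` generate a Sylow 7-subgroup `7^(1+2)` of the Held group, the centraliser of `⟨P₂, Z⟩` is
`⟨P₂, Z⟩`, the elements `H, N` conjugate `P₂, Z` into `⟨P₁, P₂, Z⟩`, and `P₁, P₂, Z, H, N` generate the
Held group.
-/

set_option autoImplicit false

namespace Cfsg.Agent.FixBN.HeCent

open Cfsg.Spor Cfsg.Spor.He Cfsg.Agent.SporadicB.HePerm Cfsg.Agent.FixBN.HeData
open Cfsg.Agent.FixBN.HeStab

/-- first element of order 7 -/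
def P₁ : Cfsg.Spor.He := wd p1W
/-- second element of order 7 -/
def P₂ : Cfsg.Spor.He := wd p2W
/-- the central element of order 7 -/
def Z : Cfsg.Spor.He := wd zW
/-- an element of the normaliser of `⟨P₂, Z⟩` -/
def H : Cfsg.Spor.He := wd hW
/-- an element conjugating `⟨P₂, Z⟩` into `⟨P₁, P₂, Z⟩` -/
def N : Cfsg.Spor.He := wd nW

theorem wd_nil : wd [] = 1 := rfl

theorem wd_append (v w : List Gen) : wd (v ++ w) = wd v * wd w := by
  unfold wd
  rw [List.map_append, List.prod_append]

theorem wd_powWord (w : List Gen) (n : ℕ) : wd (powWord w n) = wd w ^ n := powWord_prod _ w n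

theorem wd_flatten (l : List (List Gen)) : wd l.flatten = (l.map wd).prod := by
  induction l with
  | nil => rfl
  | cons a l ih => rw [List.flatten_cons, wd_append, ih, List.map_cons, List.prod_cons]

/-! ### relations -/

theorem P₁_pow : P₁ ^ 7 = 1 := by
  have h := eq_of_chkB (v := powWord p1W 7) (w := []) (by decide +kernel)
  rwa [wd_powWord, wd_nil] at h

theorem P₂_pow : P₂ ^ 7 = 1 := by
  have h := eq_of_chkB (v := powWord p2W 7) (w := []) (by decide +kernel)
  rwa [wd_powWord, wd_nil] at h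

theorem Z_pow : Z ^ 7 = 1 := by
  have h := eq_of_chkB (v := powWord zW 7) (w := []) (by decide +kernel)
  rwa [wd_powWord, wd_nil] at h

theorem comm_P₂_Z : P₂ * Z = Z * P₂ := by
  have h := eq_of_chkB (v := p2W ++ zW) (w := zW ++ p2W) (by decide +kernel)
  rwa [wd_append, wd_append] at h

theorem comm_P₁_Z : P₁ * Z = Z * P₁ := by
  have h := eq_of_chkB (v := p1W ++ zW) (w := zW ++ p1W) (by decide +kernel)
  rwa [wd_append, wd_append] at h

theorem P₂_P₁ : P₂ * P₁ = P₁ * (P₂ * Z) := by
  have h := eq_of_chkB (v := p2W ++ p1W) (w := p1W ++ (p2W ++ zW)) (by decide +kernel)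
  rwa [wd_append, wd_append, wd_append] at h

theorem H_P₂ : H * P₂ = Z * H := by
  have h := eq_of_chkB (v := hW ++ p2W) (w := zW ++ hW) (by decide +kernel)
  rwa [wd_append, wd_append] at h

theorem H_Z : H * Z = P₂ ^ 6 * Z ^ 3 * H := by
  have h := eq_of_chkB (v := hW ++ zW) (w := powWord p2W 6 ++ powWord zW 3 ++ hW) (by decide +kernel)
  rwa [wd_append, wd_append, wd_append, wd_powWord, wd_powWord] at h

theorem N_P₂ : N * P₂ = Z * N := by
  have h := eq_of_chkB (v := nW ++ p2W) (w := zW ++ nW) (by decide +kernel)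
  rwa [wd_append, wd_append] at h

theorem N_Z : N * Z = P₁ ^ 5 * P₂ * N := by
  have h := eq_of_chkB (v := nW ++ zW) (w := powWord p1W 5 ++ p2W ++ nW) (by decide +kernel)
  rwa [wd_append, wd_append, wd_append, wd_powWord] at h

theorem V_p1 : wd p1V = P₁⁻¹ := by
  have h := eq_of_chkB (v := p1V ++ p1W) (w := []) (by decide +kernel)
  rw [wd_append, wd_nil] at h
  exact eq_inv_of_mul_eq_one_left h

theorem V_p2 : wd p2V = P₂⁻¹ := by
  have h := eq_of_chkB (v := p2V ++ p2W) (w := []) (by decide +kernel)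
  rw [wd_append, wd_nil] at h
  exact eq_inv_of_mul_eq_one_left h

theorem V_z : wd zV = Z⁻¹ := by
  have h := eq_of_chkB (v := zV ++ zW) (w := []) (by decide +kernel)
  rw [wd_append, wd_nil] at h
  exact eq_inv_of_mul_eq_one_left h

theorem V_h : wd hV = H⁻¹ := by
  have h := eq_of_chkB (v := hV ++ hW) (w := []) (by decide +kernel)
  rw [wd_append, wd_nil] at h
  exact eq_inv_of_mul_eq_one_left h

theorem V_n : wd nV = N⁻¹ := by
  have h := eq_of_chkB (v := nV ++ nW) (w := []) (by decide +kernel)
  rw [wd_append, wd_nil] at h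
  exact eq_inv_of_mul_eq_one_left h

/-- the generators as products -/
def prodOf : Gen → List (List Gen)
  | .a => ofA
  | .b => ofB
  | .c => ofC
  | .d => ofD
  | .e => ofE
  | .f => ofF
  | .g => ofG

theorem chkGen : (gens.all fun x => chkB (prodOf x).flatten [x]) = true := by decide +kernel

theorem of_eq (x : Gen) : (PresentedGroup.of x : Cfsg.Spor.He) = ((prodOf x).map wd).prod := by
  have h := chkGen
  rw [List.all_eq_true] at h
  have h1 := eq_of_chkB (h x (mem_gens x))
  rw [wd_flatten] at h1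
  rw [h1]
  unfold wd
  rw [List.map_cons, List.map_nil, List.prod_cons, List.prod_nil, mul_one]

theorem prodOf_mem (x : Gen) : ∀ v ∈ prodOf x,
    v ∈ [p1W, p1V, p2W, p2V, zW, zV, hW, hV, nW, nV] := by
  cases x <;> simp [prodOf, ofA, ofB, ofC, ofD, ofE, ofF, ofG]

/-- A subgroup containing `P₁, P₂, Z, H, N` is everything. -/
theorem eq_top_of_mem {S : Subgroup Cfsg.Spor.He} (h1 : P₁ ∈ S) (h2 : P₂ ∈ S) (h3 : Z ∈ S)
    (h4 : H ∈ S) (h5 : N ∈ S) : S = ⊤ := by
  have hw : ∀ v ∈ [p1W, p1V, p2W, p2V, zW, zV, hW, hV, nW, nV], wd v ∈ S := by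
    intro v hv
    simp only [List.mem_cons, List.not_mem_nil, or_false] at hv
    rcases hv with rfl | rfl | rfl | rfl | rfl | rfl | rfl | rfl | rfl | rfl
    · exact h1
    · rw [V_p1]; exact S.inv_mem h1
    · exact h2
    · rw [V_p2]; exact S.inv_mem h2
    · exact h3
    · rw [V_z]; exact S.inv_mem h3
    · exact h4
    · rw [V_h]; exact S.inv_mem h4
    · exact h5
    · rw [V_n]; exact S.inv_mem h5
  have hx : ∀ x : Gen, (PresentedGroup.of x : Cfsg.Spor.He) ∈ S := by
    intro x
    rw [of_eq]
    apply S.list_prod_mem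
    intro y hy
    obtain ⟨v, hv, rfl⟩ := List.mem_map.mp hy
    exact hw v (prodOf_mem x v hv)
  rw [eq_top_iff, ← PresentedGroup.closure_range_of, Subgroup.closure_le]
  rintro _ ⟨x, rfl⟩
  exact hx x

/-! ### the group of order 49 -/

/-- the elements of the group of order 49 -/
def el (i j : ℕ) : Cfsg.Spor.He := P₂ ^ i * Z ^ j

theorem wd_el (i j : ℕ) : wd (powWord p2W i ++ powWord zW j) = el i j := by
  rw [wd_append, wd_powWord, wd_powWord]; rfl

theorem el_pow (i j : ℕ) : el i j ^ 7 = 1 := by
  have hc : Commute (P₂ ^ i) (Z ^ j) := (show Commute P₂ Z from comm_P₂_Z).pow_pow i j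
  unfold el
  rw [hc.mul_pow, ← pow_mul, ← pow_mul, mul_comm i, mul_comm j, pow_mul, pow_mul, P₂_pow, Z_pow,
    one_pow, one_pow, one_mul]

theorem w35 : wd e35 = el 3 5 := by rw [← wd_el]; exact eq_of_chkB (by decide +kernel)
theorem w30 : wd e30 = el 3 0 := by rw [← wd_el]; exact eq_of_chkB (by decide +kernel)
theorem w60 : wd e60 = el 6 0 := by rw [← wd_el]; exact eq_of_chkB (by decide +kernel)
theorem w23 : wd f23 = el 2 3 := by rw [← wd_el]; exact eq_of_chkB (by decide +kernel)
theorem w42 : wd f42 = el 4 2 := by rw [← wd_el]; exact eq_of_chkB (by decide +kernel)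
theorem w52 : wd f52 = el 5 2 := by rw [← wd_el]; exact eq_of_chkB (by decide +kernel)
theorem w44 : wd f44 = el 4 4 := by rw [← wd_el]; exact eq_of_chkB (by decide +kernel)
theorem w56 : wd f56 = el 5 6 := by rw [← wd_el]; exact eq_of_chkB (by decide +kernel)
theorem w13 : wd f13 = el 1 3 := by rw [← wd_el]; exact eq_of_chkB (by decide +kernel)
theorem w22 : wd f22 = el 2 2 := by rw [← wd_el]; exact eq_of_chkB (by decide +kernel)
theorem w00 : wd [] = el 0 0 := by unfold el; rw [pow_zero, pow_zero, mul_one]; rfl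
theorem w10 : wd p2W = el 1 0 := by unfold el; rw [pow_one, pow_zero, mul_one]; rfl

section

variable {c : Cfsg.Spor.He} (h2 : c * P₂ = P₂ * c) (h3 : c * Z = Z * c)

include h2 h3

theorem comm_el (i j : ℕ) : c * el i j = el i j * c :=
  ((show Commute c P₂ from h2).pow_right i).mul_right ((show Commute c Z from h3).pow_right j)

theorem comm_apply {w : List Gen} {i j : ℕ} (hw : wd w = el i j) (y : Fin 2058) :
    phi c (phi (wd w) y) = phi (wd w) (phi c y) := by
  rw [← Equiv.Perm.mul_apply, ← Equiv.Perm.mul_apply, ← map_mul, ← map_mul, hw, comm_el h2 h3]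

end

/-- bounded existential quantifier -/
def anyBelow (n : ℕ) (p : ℕ → Bool) : Bool := Nat.rec false (fun k ih => or (p k) ih) n

theorem of_anyBelow {p : ℕ → Bool} : ∀ {n : ℕ}, anyBelow n p = true → ∃ i < n, p i = true := by
  intro n
  induction n with
  | zero => intro h; exact absurd (show false = true from h) (by decide)
  | succ k ih =>
    intro h
    have h' : or (p k) (anyBelow k p) = true := h
    rw [Bool.or_eq_true] at h'
    rcases h' with h1 | h1
    · exact ⟨k, Nat.lt_succ_self k, h1⟩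
    · obtain ⟨i, hi, hp⟩ := ih h1
      exact ⟨i, Nat.lt_succ_of_lt hi, hp⟩

/-! ### where the point `0` can go -/

/-- check (i) -/
def chk1 (y : ℕ) : Bool :=
  or (not (Nat.beq (colr y (act e35 y)) (col (act e35 0))))
    (or (not (Nat.beq (colr y (act e30 y)) (col (act e30 0))))
      (or (anyBelow 49 fun k => Nat.beq y (look orbA k)) (anyBelow 49 fun k => Nat.beq y (look orbB k))))

theorem chk1_all : allBelow 2058 chk1 = true := by decide +kernel

theorem chkA : (allBelow 49 fun k =>
    Nat.beq (look orbA k) (act (powWord p2W (k / 7) ++ powWord zW (k % 7)) 0)) = true := by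
  decide +kernel

theorem chkB' : (allBelow 49 fun k =>
    Nat.beq (look orbB k) (act (powWord p2W (k / 7) ++ powWord zW (k % 7)) 38)) = true := by
  decide +kernel

theorem colr_zero (y : Fin 2058) : colr (0 : Fin 2058) y = col y := by
  rw [colr_eq 1 (x := 0) (by rw [map_one]; rfl) y, map_one]; rfl

/-- the action of a word on a point -/
theorem act_eq (w : List Gen) (y : Fin 2058) : act w y = (phi (wd w) y : ℕ) := (phi_wd_apply w y).symm

theorem image_zero {c : Cfsg.Spor.He} (h2 : c * P₂ = P₂ * c) (h3 : c * Z = Z * c) :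
    (∃ i j : ℕ, phi c 0 = phi (el i j) 0) ∨ (∃ i j : ℕ, phi c 0 = phi (el i j) 38) := by
  have key : ∀ {w : List Gen} {i j : ℕ}, wd w = el i j →
      Nat.beq (colr (phi c 0) (act w (phi c 0))) (col (act w 0)) = true := by
    intro w i j hw
    have h0 : act w 0 = (phi (wd w) 0 : ℕ) := act_eq w 0
    rw [act_eq, ← comm_apply h2 h3 hw 0, colr_inv, colr_zero, h0]
    exact Nat.beq_refl _
  have h := of_allBelow chk1_all (phi c 0) (phi c 0).2
  unfold chk1 at h
  rw [key w35, key w30, Bool.not_true, Bool.false_or, Bool.false_or, Bool.or_eq_true] at h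
  rcases h with h | h
  · obtain ⟨k, hk, h⟩ := of_anyBelow h
    have h4 := Nat.eq_of_beq_eq_true (of_allBelow chkA k hk)
    left
    refine ⟨k / 7, k % 7, Fin.ext ?_⟩
    rw [Nat.eq_of_beq_eq_true h, h4, ← wd_el]
    exact act_eq _ 0
  · obtain ⟨k, hk, h⟩ := of_anyBelow h
    have h4 := Nat.eq_of_beq_eq_true (of_allBelow chkB' k hk)
    right
    refine ⟨k / 7, k % 7, Fin.ext ?_⟩
    rw [Nat.eq_of_beq_eq_true h, h4, ← wd_el]
    exact act_eq _ 38

/-! ### the point `0` does not go to `38` -/

/-- check (ii) -/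
def chk2 (y : ℕ) : Bool :=
  or (not (Nat.beq (col (act uW y)) (col 11)))
    (or (not (Nat.beq (col (act uW (act f44 y))) (col (act f44 11))))
      (not (Nat.beq (col (act uW (act f22 y))) (col (act f22 11)))))

theorem chk2_all : allBelow 2058 chk2 = true := by decide +kernel

theorem u_38 : act uW 38 = 0 := by decide +kernel

theorem not_38 {c : Cfsg.Spor.He} (h2 : c * P₂ = P₂ * c) (h3 : c * Z = Z * c) : phi c 0 ≠ 38 := by
  intro h0
  have hu : phi (wd uW * c) 0 = 0 := by
    rw [map_mul, Equiv.Perm.mul_apply, h0]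
    exact Fin.ext ((act_eq uW 38).symm.trans u_38)
  have key : ∀ {w : List Gen} {i j : ℕ}, wd w = el i j →
      Nat.beq (col (act uW (act w (phi c 11)))) (col (act w 11)) = true := by
    intro w i j hw
    have h1 : act w 11 = (phi (wd w) 11 : ℕ) := act_eq w 11
    rw [act_eq w, ← comm_apply h2 h3 hw 11, act_eq uW, ← Equiv.Perm.mul_apply, ← map_mul, col_inv hu, h1]
    exact Nat.beq_refl _
  have h := of_allBelow chk2_all (phi c 11) (phi c 11).2
  have e0 := key w00
  unfold chk2 at h
  rw [act_nil, act_nil] at e0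
  rw [e0, key w44, key w22] at h
  exact absurd h (by decide)

/-! ### the stabiliser of `0` -/

/-- check (iii) for the point `1` -/
def chk3 (y : ℕ) : Bool :=
  or (Nat.beq y 1) (or (not (Nat.beq (col (act f23 y)) (col (act f23 1))))
    (or (not (Nat.beq (col (act f42 y)) (col (act f42 1))))
      (not (Nat.beq (col (act f52 y)) (col (act f52 1))))))

/-- check (iii) for the point `32` -/
def chk4 (y : ℕ) : Bool :=
  or (Nat.beq y 32) (or (not (Nat.beq (col (act p2W y)) (col (act p2W 32))))
    (or (not (Nat.beq (col (act f44 y)) (col (act f44 32))))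
      (not (Nat.beq (col (act f56 y)) (col (act f56 32))))))

/-- check (iii) for the point `8` -/
def chk5 (y : ℕ) : Bool :=
  or (Nat.beq y 8) (or (not (Nat.beq (col y) (col 8)))
    (or (not (Nat.beq (col (act e60 y)) (col (act e60 8))))
      (not (Nat.beq (col (act f13 y)) (col (act f13 8))))))

theorem chk3_all : allBelow 2058 chk3 = true := by decide +kernel
theorem chk4_all : allBelow 2058 chk4 = true := by decide +kernel
theorem chk5_all : allBelow 2058 chk5 = true := by decide +kernel

theorem eq_one_of_fix {c : Cfsg.Spor.He} (h2 : c * P₂ = P₂ * c) (h3 : c * Z = Z * c)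
    (h0 : phi c 0 = 0) : c = 1 := by
  have key : ∀ (x : Fin 2058) {w : List Gen} {i j : ℕ}, wd w = el i j →
      Nat.beq (col (act w (phi c x))) (col (act w x)) = true := by
    intro x w i j hw
    rw [act_eq, ← comm_apply h2 h3 hw x, col_inv h0, act_eq]
    exact Nat.beq_refl _
  have e1 : phi (1 : Cfsg.Spor.He) = 1 := map_one phi
  apply eq_of_base
  · rw [h0, e1]; rfl
  · have h := of_allBelow chk3_all (phi c 1) (phi c 1).2
    have a1 : Nat.beq (col (act f23 (phi c 1))) (col (act f23 1)) = true := key 1 w23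
    have a2 : Nat.beq (col (act f42 (phi c 1))) (col (act f42 1)) = true := key 1 w42
    have a3 : Nat.beq (col (act f52 (phi c 1))) (col (act f52 1)) = true := key 1 w52
    unfold chk3 at h
    rw [a1, a2, a3, Bool.not_true, Bool.or_false, Bool.or_false, Bool.or_false] at h
    rw [e1]
    exact Fin.ext (Nat.eq_of_beq_eq_true h)
  · have h := of_allBelow chk4_all (phi c 32) (phi c 32).2
    have a1 : Nat.beq (col (act p2W (phi c 32))) (col (act p2W 32)) = true := key 32 w10
    have a2 : Nat.beq (col (act f44 (phi c 32))) (col (act f44 32)) = true := key 32 w44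
    have a3 : Nat.beq (col (act f56 (phi c 32))) (col (act f56 32)) = true := key 32 w56
    unfold chk4 at h
    rw [a1, a2, a3, Bool.not_true, Bool.or_false, Bool.or_false, Bool.or_false] at h
    rw [e1]
    exact Fin.ext (Nat.eq_of_beq_eq_true h)
  · have h := of_allBelow chk5_all (phi c 8) (phi c 8).2
    have a1 : Nat.beq (col (phi c 8)) (col 8) = true := key 8 w00
    have a2 : Nat.beq (col (act e60 (phi c 8))) (col (act e60 8)) = true := key 8 w60
    have a3 : Nat.beq (col (act f13 (phi c 8))) (col (act f13 8)) = true := key 8 w13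
    unfold chk5 at h
    rw [a1, a2, a3, Bool.not_true, Bool.or_false, Bool.or_false, Bool.or_false] at h
    rw [e1]
    exact Fin.ext (Nat.eq_of_beq_eq_true h)

/-- **The centraliser of the group `⟨P₂, Z⟩` of order 49 is this group.** -/
theorem eq_el_of_comm {c : Cfsg.Spor.He} (h2 : c * P₂ = P₂ * c) (h3 : c * Z = Z * c) :
    ∃ i j : ℕ, c = el i j := by
  have hcom : ∀ i j : ℕ, Commute (el i j)⁻¹ P₂ ∧ Commute (el i j)⁻¹ Z := by
    intro i j
    have a2 : Commute (el i j) P₂ :=
      ((Commute.refl P₂).pow_left i).mul_left ((show Commute Z P₂ from comm_P₂_Z.symm).pow_left j)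
    have a3 : Commute (el i j) Z :=
      ((show Commute P₂ Z from comm_P₂_Z).pow_left i).mul_left ((Commute.refl Z).pow_left j)
    exact ⟨a2.inv_left, a3.inv_left⟩
  rcases image_zero h2 h3 with ⟨i, j, h⟩ | ⟨i, j, h⟩
  · refine ⟨i, j, ?_⟩
    have h1 : (el i j)⁻¹ * c = 1 := by
      apply eq_one_of_fix
      · exact (hcom i j).1.mul_left (show Commute c P₂ from h2)
      · exact (hcom i j).2.mul_left (show Commute c Z from h3)
      · rw [map_mul, map_inv, Equiv.Perm.mul_apply, h, inv_app]
    exact (inv_mul_eq_one.mp h1).symm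
  · exfalso
    refine not_38 (c := (el i j)⁻¹ * c) ?_ ?_ ?_
    · exact (hcom i j).1.mul_left (show Commute c P₂ from h2)
    · exact (hcom i j).2.mul_left (show Commute c Z from h3)
    · rw [map_mul, map_inv, Equiv.Perm.mul_apply, h, inv_app]

end Cfsg.Agent.FixBN.HeCent
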