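import Cfsg.Agent.FixBN.SmallSB
/-!
The orders `20160` and `2 ^ 10 * 3 ^ 3 * 5 ^ 2 * 7 ^ 2 * 17` are good.
-/

set_option autoImplicit false

namespace Cfsg.Agent.FixBN.SmallNum

open SmallSB

theorem exists_of_dvd {d a b : ℕ} (h : d ∣ 2 ^ a * 3 ^ b) : ∃ i j : ℕ, d = 2 ^ i * 3 ^ j := by
  obtain ⟨x, y, hx, hy, rfl⟩ := (Nat.dvd_mul).1 h
  obtain ⟨i, -, rfl⟩ := (Nat.dvd_prime_pow Nat.prime_two).1 hx
  obtain ⟨j, -, rfl⟩ := (Nat.dvd_prime_pow Nat.prime_three).1 hy
  exact ⟨i, j, rfl⟩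

theorem card_GL (p k : ℕ) (hp : p.Prime) :
    Nat.card (GL (Fin k) (ZMod p)) = ∏ i : Fin k, (p ^ k - p ^ (i : ℕ)) := by
  have : Fact p.Prime := ⟨hp⟩
  rw [Matrix.card_GL_field]
  simp [ZMod.card]

/-- It is enough that the greatest common divisor divides `2 ^ a * 3 ^ b`. -/
theorem goodAt_of {n p k : ℕ} (hp : p.Prime) (a b c : ℕ) (hn : n = p ^ k * c)
    (hg : Nat.gcd c (∏ i : Fin k, (p ^ k - p ^ (i : ℕ))) ∣ 2 ^ a * 3 ^ b) : GoodAt n p k := by
  intro d h1 h2
  rw [hn] at h1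
  have h3 : d ∣ c := Nat.dvd_of_mul_dvd_mul_left (pow_pos hp.pos k) h1
  rw [card_GL p k hp] at h2
  exact exists_of_dvd ((Nat.dvd_gcd h3 h2).trans hg)

theorem pow_two_dvd {p k n : ℕ} (hk : 2 ≤ k) (h : p ^ k ∣ n) : p ^ 2 ∣ n := (pow_dvd_pow p hk).trans h

theorem good_20160 : Good 20160 := by
  intro p k hp hp2 hk h
  have h2 := pow_two_dvd hk h
  have h3 : p = 3 := by
    have h4 : p ∣ 2 ^ 6 * 3 ^ 2 * 5 * 7 := (dvd_pow_self p two_ne_zero).trans h2
    rcases hp.dvd_mul.1 h4 with h4 | h4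
    · rcases hp.dvd_mul.1 h4 with h4 | h4
      · rcases hp.dvd_mul.1 h4 with h4 | h4
        · exact absurd ((Nat.prime_dvd_prime_iff_eq hp Nat.prime_two).1 (hp.dvd_of_dvd_pow h4)) hp2
        · exact (Nat.prime_dvd_prime_iff_eq hp Nat.prime_three).1 (hp.dvd_of_dvd_pow h4)
      · have h5 := (Nat.prime_dvd_prime_iff_eq hp Nat.prime_five).1 h4
        subst h5
        norm_num at h2
    · have h5 := (Nat.prime_dvd_prime_iff_eq hp (by norm_num)).1 h4
      subst h5
      norm_num at h2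
  subst h3
  have hk2 : k = 2 := by
    have h5 : ¬ 3 ^ 3 ∣ 20160 := by norm_num
    by_contra hne
    exact h5 ((pow_dvd_pow 3 (by omega)).trans h)
  subst hk2
  exact goodAt_of Nat.prime_three 4 0 2240 (by norm_num) (by decide +kernel)

theorem good_he : Good 575769600 := by
  intro p k hp hp2 hk h
  have h2 := pow_two_dvd hk h
  have h4 : p ∣ 2 ^ 10 * 3 ^ 3 * 5 ^ 2 * 7 ^ 2 * 17 := (dvd_pow_self p two_ne_zero).trans h2
  rcases hp.dvd_mul.1 h4 with h4 | h4
  · rcases hp.dvd_mul.1 h4 with h4 | h4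
    · rcases hp.dvd_mul.1 h4 with h4 | h4
      · rcases hp.dvd_mul.1 h4 with h4 | h4
        · exact absurd ((Nat.prime_dvd_prime_iff_eq hp Nat.prime_two).1 (hp.dvd_of_dvd_pow h4)) hp2
        · have h5 := (Nat.prime_dvd_prime_iff_eq hp Nat.prime_three).1 (hp.dvd_of_dvd_pow h4)
          subst h5
          have hk2 : k = 2 ∨ k = 3 := by
            have h5 : ¬ 3 ^ 4 ∣ 575769600 := by norm_num
            by_contra hne
            exact h5 ((pow_dvd_pow 3 (by omega)).trans h)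
          rcases hk2 with rfl | rfl
          · exact goodAt_of Nat.prime_three 4 1 (575769600 / 9) (by norm_num) (by decide +kernel)
          · exact goodAt_of Nat.prime_three 5 0 (575769600 / 27) (by norm_num) (by decide +kernel)
      · have h5 := (Nat.prime_dvd_prime_iff_eq hp Nat.prime_five).1 (hp.dvd_of_dvd_pow h4)
        subst h5
        have hk2 : k = 2 := by
          have h5 : ¬ 5 ^ 3 ∣ 575769600 := by norm_num
          by_contra hne
          exact h5 ((pow_dvd_pow 5 (by omega)).trans h)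
        subst hk2
        exact goodAt_of Nat.prime_five 5 1 (575769600 / 25) (by norm_num) (by decide +kernel)
    · have h5 := (Nat.prime_dvd_prime_iff_eq hp (by norm_num)).1 (hp.dvd_of_dvd_pow h4)
      subst h5
      have hk2 : k = 2 := by
        have h5 : ¬ 7 ^ 3 ∣ 575769600 := by norm_num
        by_contra hne
        exact h5 ((pow_dvd_pow 7 (by omega)).trans h)
      subst hk2
      exact goodAt_of (by norm_num) 5 2 (575769600 / 49) (by norm_num) (by decide +kernel)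
  · have h5 := (Nat.prime_dvd_prime_iff_eq hp (by norm_num)).1 h4
    subst h5
    norm_num at h2

end Cfsg.Agent.FixBN.SmallNum
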