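import Mathlib
import Cfsg.Agent.FixBN.HeCent
import Cfsg.Agent.FixBN.SmallNum
import Cfsg.Agent.FixBN.GoodSB

/-!
# The base case of the Held group of the B-theorem

An automorphism `τ ≠ 1` of the Held group with `τ² = 1` does not centralise a Sylow 7-subgroup. So the
order of its fixed point group divides `|He| / 7`, which is a good number.
-/

set_option autoImplicit false

namespace Cfsg.Agent.FixBN.HeSB

open Subgroup Cfsg Cfsg.Agent.FixBN.Reduce Cfsg.Agent.FixBN.SmallNum Cfsg.Agent.FixBN.GoodSB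
open Cfsg.Agent.FixBN.HeStab Cfsg.Agent.FixBN.HeCent

/-- An element of odd order inverted and fixed by an automorphism is trivial. -/
theorem eq_one_of_pow {G : Type*} [Group G] {c : G} (h7 : c ^ 7 = 1) (h2 : c * c = 1) : c = 1 := by
  have h : c ^ 7 = (c * c) ^ 3 * c := by
    rw [← pow_two, ← pow_mul, ← pow_succ]
  rw [h2, one_pow, one_mul] at h
  rw [← h, h7]

section core

variable (σ : Spor.He ≃* Spor.He) (hσ : ∀ x, σ (σ x) = x) (h1 : σ P₁ = P₁) (h2 : σ P₂ = P₂)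
  (h3 : σ Z = Z)

include hσ h2 h3 in
/-- An element conjugating `P₂` and `Z` to fixed elements is fixed. -/
theorem fixed_of_conj {x a b : Spor.He} (ha : σ a = a) (hb : σ b = b) (hxa : x * P₂ = a * x)
    (hxb : x * Z = b * x) : σ x = x := by
  obtain ⟨c, hsx⟩ : ∃ c, σ x = x * c := ⟨x⁻¹ * σ x, by rw [mul_inv_cancel_left]⟩
  have c2 : c * P₂ = P₂ * c := by
    have e1 := congrArg σ hxa
    rw [map_mul, map_mul, h2, ha, hsx] at e1
    have e2 : x * (c * P₂) = x * (P₂ * c) := by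
      rw [← mul_assoc, ← mul_assoc, e1, hxa, mul_assoc]
    exact mul_left_cancel e2
  have c3 : c * Z = Z * c := by
    have e1 := congrArg σ hxb
    rw [map_mul, map_mul, h3, hb, hsx] at e1
    have e2 : x * (c * Z) = x * (Z * c) := by
      rw [← mul_assoc, ← mul_assoc, e1, hxb, mul_assoc]
    exact mul_left_cancel e2
  obtain ⟨i, j, hij⟩ := eq_el_of_comm c2 c3
  have hcf : σ c = c := by
    rw [hij]
    unfold el
    rw [map_mul, map_pow, map_pow, h2, h3]
  have hcc : c * c = 1 := by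
    have e1 := hσ x
    rw [hsx, map_mul, hcf, hsx, mul_assoc] at e1
    exact mul_eq_left.mp e1
  have h7 : c ^ 7 = 1 := by rw [hij]; exact el_pow i j
  rw [hsx, eq_one_of_pow h7 hcc, mul_one]

include hσ h1 h2 h3 in
/-- An automorphism `σ` with `σ² = 1` fixing `P₁, P₂, Z` is trivial. -/
theorem eq_id (x : Spor.He) : σ x = x := by
  have hf : ∀ {y : Spor.He}, y ∈ fixSub σ ↔ σ y = y := Iff.rfl
  have m1 : P₁ ∈ fixSub σ := h1
  have m2 : P₂ ∈ fixSub σ := h2
  have m3 : Z ∈ fixSub σ := h3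
  have m4 : H ∈ fixSub σ := fixed_of_conj σ hσ h2 h3 m3
    ((fixSub σ).mul_mem ((fixSub σ).pow_mem m2 6) ((fixSub σ).pow_mem m3 3)) H_P₂ H_Z
  have m5 : N ∈ fixSub σ := fixed_of_conj σ hσ h2 h3 m3
    ((fixSub σ).mul_mem ((fixSub σ).pow_mem m1 5) m2) N_P₂ N_Z
  have ht := eq_top_of_mem m1 m2 m3 m4 m5
  have hx : x ∈ fixSub σ := by rw [ht]; trivial
  exact hx

end core

/-! ### the Sylow 7-subgroup -/

/-- the Sylow 7-subgroup -/
def P : Subgroup Spor.He := zpowers P₁ ⊔ (zpowers P₂ ⊔ zpowers Z)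

theorem isPGroup_zpowers {x : Spor.He} (hx : x ^ 7 = 1) : IsPGroup 7 (zpowers x) := by
  rintro ⟨y, hy⟩
  obtain ⟨k, rfl⟩ := mem_zpowers_iff.mp hy
  refine ⟨1, Subtype.ext ?_⟩
  show (x ^ k) ^ (7 ^ 1) = 1
  rw [pow_one, ← zpow_natCast, ← zpow_mul, mul_comm, zpow_mul, zpow_natCast, hx, one_zpow]

theorem mem_normalizer_of_conj {K : Subgroup Spor.He} {x : Spor.He}
    (h : K ≤ K.comap (MulAut.conj x).toMonoidHom) : x ∈ normalizer (K : Set Spor.He) :=
  mem_normalizer_fintype fun _ hn => h hn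

theorem isPGroup_P : IsPGroup 7 P := by
  have hE : IsPGroup 7 ↥(zpowers P₂ ⊔ zpowers Z) := by
    apply IsPGroup.to_sup_of_normal_right' (isPGroup_zpowers P₂_pow) (isPGroup_zpowers Z_pow)
    rw [zpowers_le]
    apply mem_normalizer_of_conj
    rw [zpowers_le, mem_comap]
    have e : (MulAut.conj P₂).toMonoidHom Z = Z := by
      show P₂ * Z * P₂⁻¹ = Z
      rw [comm_P₂_Z, mul_inv_cancel_right]
    rw [e]
    exact mem_zpowers Z
  apply IsPGroup.to_sup_of_normal_right' (isPGroup_zpowers P₁_pow) hE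
  rw [zpowers_le, ← inv_mem_iff]
  apply mem_normalizer_of_conj
  rw [sup_le_iff, zpowers_le, zpowers_le, mem_comap, mem_comap]
  have m2 : P₂ ∈ zpowers P₂ ⊔ zpowers Z := mem_sup_left (mem_zpowers _)
  have m3 : Z ∈ zpowers P₂ ⊔ zpowers Z := mem_sup_right (mem_zpowers _)
  constructor
  · have e : (MulAut.conj P₁⁻¹).toMonoidHom P₂ = P₂ * Z := by
      show P₁⁻¹ * P₂ * P₁⁻¹⁻¹ = P₂ * Z
      rw [inv_inv, mul_assoc, P₂_P₁, inv_mul_cancel_left]
    rw [e]
    exact mul_mem m2 m3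
  · have e : (MulAut.conj P₁⁻¹).toMonoidHom Z = Z := by
      show P₁⁻¹ * Z * P₁⁻¹⁻¹ = Z
      rw [inv_inv, mul_assoc, ← comm_P₁_Z, inv_mul_cancel_left]
    rw [e]
    exact m3

theorem factorization_seven : (Nat.card Spor.He).factorization 7 = 3 := by
  have h7 : Nat.Prime 7 := by norm_num
  rw [card_he, show 4030387200 = 7 ^ 3 * 11750400 by norm_num,
    Nat.factorization_mul (by norm_num) (by norm_num), h7.factorization_pow, Finsupp.add_apply,
    Finsupp.single_eq_same, Nat.factorization_eq_zero_of_not_dvd (by norm_num)]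

/-- An automorphism `τ ≠ 1` with `τ² = 1` does not centralise a Sylow 7-subgroup. -/
theorem not_dvd (τ : Spor.He ≃* Spor.He) (hτ : ∀ x, τ (τ x) = x) (hne : ∃ x, τ x ≠ x) :
    ¬ 343 ∣ Nat.card ↥(fixSub τ) := by
  intro hd
  have : Fact (Nat.Prime 7) := ⟨by norm_num⟩
  obtain ⟨K, hK⟩ := Sylow.exists_subgroup_card_pow_prime (G := ↥(fixSub τ)) 7 (n := 3) hd
  have hQ : Nat.card (K.map (fixSub τ).subtype) = 7 ^ (Nat.card Spor.He).factorization 7 := by
    rw [factorization_seven, ← hK]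
    exact Nat.card_congr (K.equivMapOfInjective _ (fixSub τ).subtype_injective).toEquiv.symm
  obtain ⟨T, hT⟩ := isPGroup_P.exists_le_sylow
  obtain ⟨g, hg⟩ := MulAction.exists_smul_eq Spor.He (Sylow.ofCard (K.map (fixSub τ).subtype) hQ) T
  have hfix : ∀ p ∈ P, τ (g⁻¹ * p * g) = g⁻¹ * p * g := by
    intro p hp
    have h1 : p ∈ (T : Subgroup Spor.He) := hT hp
    rw [← hg, Sylow.coe_subgroup_smul, Sylow.coe_ofCard,
      Subgroup.mem_pointwise_smul_iff_inv_smul_mem] at h1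
    obtain ⟨y, -, hy⟩ := h1
    have h2 : g⁻¹ * p * g = (y : Spor.He) := by
      have h3 : (MulAut.conj g)⁻¹ • p = g⁻¹ * p * g := by
        rw [← map_inv]
        show g⁻¹ * p * g⁻¹⁻¹ = g⁻¹ * p * g
        rw [inv_inv]
      rw [← h3]
      exact hy.symm
    rw [h2]
    exact y.2
  let σ : Spor.He ≃* Spor.He := ((MulAut.conj g⁻¹).trans τ).trans (MulAut.conj g)
  have hσa : ∀ x, σ x = g * τ (g⁻¹ * x * g) * g⁻¹ := by
    intro x
    show g * τ (g⁻¹ * x * g⁻¹⁻¹) * g⁻¹ = g * τ (g⁻¹ * x * g) * g⁻¹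
    rw [inv_inv]
  have hσ : ∀ x, σ (σ x) = x := by
    intro x
    rw [hσa, hσa]
    have e : g⁻¹ * (g * τ (g⁻¹ * x * g) * g⁻¹) * g = τ (g⁻¹ * x * g) := by group
    rw [e, hτ]
    group
  have hσf : ∀ p ∈ P, σ p = p := by
    intro p hp
    rw [hσa, hfix p hp]
    group
  have hall := eq_id σ hσ (hσf _ (mem_sup_left (mem_zpowers _)))
    (hσf _ (mem_sup_right (mem_sup_left (mem_zpowers _))))
    (hσf _ (mem_sup_right (mem_sup_right (mem_zpowers _))))
  obtain ⟨x, hx⟩ := hne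
  apply hx
  have h1 := hall (g * x * g⁻¹)
  rw [hσa] at h1
  have e : g⁻¹ * (g * x * g⁻¹) * g = x := by group
  rw [e] at h1
  exact mul_left_cancel (mul_right_cancel h1)

theorem dvd_of_not_dvd {d : ℕ} (hd : d ∣ 4030387200) (h : ¬ 343 ∣ d) : d ∣ 575769600 := by
  have h0 : d ≠ 0 := by
    rintro rfl
    exact absurd (zero_dvd_iff.mp hd) (by norm_num)
  have h7 : Nat.Prime 7 := by norm_num
  obtain ⟨k, e, he, hde⟩ := Nat.exists_eq_pow_mul_and_not_dvd h0 7 (by norm_num)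
  have hk : k ≤ 2 := by
    by_contra hk
    exact h (hde ▸ Dvd.dvd.mul_right ((show 343 = 7 ^ 3 by norm_num) ▸ pow_dvd_pow 7 (by omega)) e)
  have hcop : Nat.Coprime e (7 ^ 3) := ((Nat.Prime.coprime_iff_not_dvd h7).mpr he).symm.pow_right 3
  have h1 : e ∣ 7 ^ 3 * 11750400 := (Dvd.intro_left (7 ^ k) hde.symm).trans (by exact hd)
  have h2 : e ∣ 11750400 := hcop.dvd_of_dvd_mul_left h1
  rw [hde, show 575769600 = 7 ^ 2 * 11750400 by norm_num]
  exact Nat.mul_dvd_mul (pow_dvd_pow 7 hk) h2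

/-- **The Held group has the soft B-property.** -/
theorem sb_he : SB Spor.He := by
  have hs : IsSimpleGroup Spor.He := Cfsg.Agent.S1695.result.1
  refine sb_of_good_simple good_he (by rw [card_he]; decide) fun τ hτ hne => ?_
  apply dvd_of_not_dvd _ (not_dvd τ hτ hne)
  rw [← card_he]
  exact Subgroup.card_subgroup_dvd_card _

end Cfsg.Agent.FixBN.HeSB
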