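import Mathlib
import Cfsg.Agent.S0243
import Cfsg.Agent.FixBN.SmallNum
import Cfsg.Agent.FixBN.GoodSB

/-!
# The base case `PSL(3,4)` of the B-theorem
-/

set_option autoImplicit false

namespace Cfsg.Agent.FixBN.L34SB

open Subgroup Cfsg Cfsg.Agent.FixBN.Reduce Cfsg.Agent.FixBN.SmallNum Cfsg.Agent.FixBN.GoodSB

/-- The order of `PSL(3,4)`. -/
theorem card_psl {F : Type} [Field F] [Fintype F] (hF : Fintype.card F = 4) :
    Nat.card (Matrix.ProjectiveSpecialLinearGroup (Fin 3) F) = 20160 := by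
  have h := Cfsg.Agent.S0243.result (F := F) (q := 4) hF 3 (by norm_num)
  simp only [Fin.prod_univ_three] at h
  have h2 : Nat.gcd 3 (4 - 1) * ((4 - 1) * Nat.card (Matrix.ProjectiveSpecialLinearGroup (Fin 3) F)) =
    (64 - 1) * (64 - 4) * (64 - 16) := h
  have h3 : Nat.gcd 3 (4 - 1) = 3 := by decide
  rw [h3] at h2
  omega

/-- The group `PSL(3,4)` has the soft B-property. -/
theorem sb_psl (F : Type) [Field F] [Fintype F] (hF : Fintype.card F = 4) :
    SB (Matrix.ProjectiveSpecialLinearGroup (Fin 3) F) := by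
  have hc := card_psl hF
  have : Finite (Matrix.ProjectiveSpecialLinearGroup (Fin 3) F) :=
    Nat.finite_of_card_ne_zero (by rw [hc]; norm_num)
  refine sb_of_good good_20160 fun τ _ => ?_
  rw [← hc]
  exact Subgroup.card_subgroup_dvd_card _

end Cfsg.Agent.FixBN.L34SB
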