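import Cfsg.Agent.FixBN.LieAll
import Cfsg.Agent.FixBN.AltSB
import Cfsg.Agent.FixBN.L34SB
import Cfsg.Agent.FixBN.HeSB
import Cfsg.Agent.FixBN.BTheorem

/-!
# The known unbalanced groups satisfy `SB`
-/

set_option autoImplicit false

namespace Cfsg.Agent.FixBN.KnownAll

universe u

/-- **The input `Known` of the reduction of S1726 to S1311.** -/
theorem known : BTheorem.Known.{u} where
  lie K _ _ hK p hp hp2 hL := LieAll.lie K hK p hp hp2 hL
  alt n _ hn := AltSB.sb n hn
  psl F _ _ hF := L34SB.sb_psl F hF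
  he := HeSB.sb_he

end Cfsg.Agent.FixBN.KnownAll
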