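import Mathlib
import Cfsg.Prelude.Def_Balance
import Cfsg.Agent.Lib.Cores
import Cfsg.Agent.Lib.PComponents
import Cfsg.Agent.SignalizersComponents.ComponentImage
import Cfsg.Agent.SignalizersComponents.CompBasic
import Cfsg.Agent.ClassificationK.PCompTransport

/-!
# From the B-property to the core-free form (S1726 ⟹ S1727)

`pLayer_eq_layer`: in a finite group whose 2-layer commutes with its core, 2-components are
components and conversely.  `of_hasB`: `HasBProperty X`, `O(X) = 1`, `t` an involution imply
`L_{2'}(C(t)) = E(C(t))`.  The Odd Order Theorem is an explicit hypothesis.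
-/

set_option autoImplicit false

namespace Cfsg.Agent.FixBN.BCoreFree

open Subgroup Cfsg
open scoped commutatorElement

theorem pLayer_eq_layer {C : Type*} [Group C] [Finite C]
    (hsolv : ∀ N : Subgroup C, Odd (Nat.card N) → Group.IsSolvable N)
    (hc : ⁅pLayer 2 C, oddCore C⁆ = ⊥) : pLayer 2 C = layer C := by
  apply le_antisymm
  · refine sSup_le fun K hK => ?_
    have h1 : IsComponent K := by
      refine ClassificationK.PCompTransport.isComponent_of_isPComponent 2 hK ?_
      rw [eq_bot_iff, ← hc]
      exact commutator_mono (Lib.PComponents.pcomp_le_pLayer hK) le_rfl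
    exact le_sSup h1
  · refine sSup_le fun K hK => ?_
    refine Lib.PComponents.pcomp_le_pLayer
      (SignalizersComponents.ComponentImage.isPComponent_of_isComponent hK ?_)
    intro hbot
    rw [Subgroup.map_eq_bot_iff, QuotientGroup.ker_mk'] at hbot
    have h1 : (Nat.card (pPrimeCore 2 C)).Coprime 2 := Lib.Cores.pPrimeCore_coprime 2
    have h2 : (Nat.card K).Coprime 2 := Nat.Coprime.coprime_dvd_left (card_dvd_of_le hbot) h1
    have h3 : Group.IsSolvable K := hsolv K (Nat.coprime_two_right.mp h2)
    have hperf := hK.2.1
    have h4 : Nontrivial K := by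
      have := hK.2.2
      by_contra hn
      rw [not_nontrivial_iff_subsingleton] at hn
      have : Subsingleton (K ⧸ center K) := inferInstance
      exact not_nontrivial_iff_subsingleton.mpr this hK.2.2.1
    exact Group.IsPerfect.not_isSolvable (G := K) h3

/-- The core-free form of the B-theorem from the B-property. -/
theorem of_hasB {X : Type*} [Group X] [Finite X] (hB : HasBProperty X)
    (hsolv : ∀ N : Subgroup X, Odd (Nat.card N) → Group.IsSolvable N)
    (hO : oddCore X = ⊥) (t : X) (ht : orderOf t = 2) :
    pLayer 2 ↥(centralizer ({t} : Set X)) = layer ↥(centralizer ({t} : Set X)) := by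
  apply pLayer_eq_layer
  · intro N hN
    have h1 := hsolv (N.map (centralizer ({t} : Set X)).subtype)
      (by rwa [card_map_of_injective (subtype_injective _)])
    have e := N.equivMapOfInjective _ (subtype_injective (centralizer ({t} : Set X)))
    exact Group.isSolvable_of_isSolvable_injective (f := e.toMonoidHom) e.injective
  · have h1 := hB t ht
    rw [hO, le_bot_iff, map_eq_bot_iff_of_injective _ (subtype_injective _)] at h1
    exact h1

end Cfsg.Agent.FixBN.BCoreFree
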