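import Cfsg.Agent.FixBN.Reduce

/-!
# The soft reduction of the B-property to simple groups: main theorems
-/

set_option autoImplicit false

namespace Cfsg.Agent.FixBN.Reduce

open Subgroup Cfsg Cfsg.Agent.Lib Cfsg.Agent.SignalizersComponents
open Cfsg.Agent.SignalizersComponents.IntrinsicBasic Cfsg.Agent.Intrinsic.Charac
open Cfsg.Agent.SignalizersComponents.PLayerAut
open scoped commutatorElement

/-! ### isomorphisms, central extensions -/

theorem SB.congr {K K' : Type*} [Group K] [Group K'] [Finite K] (e : K ≃* K') (h : SB K) :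
    SB K' := by
  have : Finite K' := Finite.of_equiv K e.toEquiv
  refine sb_of_tc fun τ' hτ' L W hL hW hWn hWo => ?_
  let τ : K ≃* K := (e.trans τ').trans e.symm
  have hτe : ∀ x, τ x = e.symm (τ' (e x)) := fun x => rfl
  have h1 := commutator_le_ker h τ' e.symm.toMonoidHom (Or.inl ⟨τ, ?_, ?_, ?_⟩) hL hW
    hWn.isSubnormal hWo
  · rwa [(MonoidHom.ker_eq_bot_iff _).mpr e.symm.injective, le_bot_iff] at h1
  · intro x
    rw [hτe, hτe, MulEquiv.apply_symm_apply, hτ', MulEquiv.symm_apply_apply]
  · intro x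
    change e.symm (τ' x) = e.symm (τ' (e (e.symm x)))
    rw [MulEquiv.apply_symm_apply]
  · have h2 : fixSub τ ≤ (fixSub τ').map e.symm.toMonoidHom := by
      intro x hx
      refine ⟨e x, ?_, e.symm_apply_apply x⟩
      have h3 : e.symm (τ' (e x)) = x := hx
      change τ' (e x) = e x
      have h4 := congrArg e h3
      rwa [MulEquiv.apply_symm_apply] at h4
    exact (Subgroup.commutator_le_self _).trans h2

/-- `[A, L, L] = 1` implies `[A, L] = 1` for a 2-component `L`. -/
theorem tc_perfect {G : Type*} [Group G] [Finite G] {H L : Subgroup G} (h : TC H L) :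
    Group.IsPerfect L := by
  have h1 := PCompQuot.perfect_of_pComponent h.comp
  exact Group.IsPerfect.ofSurjective (f := (subgroupOfEquivOfLe h.le).toMonoidHom)
    (subgroupOfEquivOfLe h.le).surjective

/-- **(R4)** a quasisimple group whose simple quotient has `SB` has `SB`. -/
theorem sb_of_quasisimple {K : Type*} [Group K] [Finite K] (h : SB (K ⧸ center K)) : SB K := by
  refine sb_of_tc fun τ hτ L W hL hW hWn hWo => ?_
  have hcen : (center K).map τ.toMonoidHom = center K := by
    ext x
    constructor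
    · rintro ⟨y, hy, rfl⟩
      rw [mem_center_iff]
      intro g
      have h1 := (mem_center_iff.mp hy) (τ.symm g)
      have h2 := congrArg τ h1
      simpa using h2
    · intro hx
      refine ⟨τ x, ?_, hτ x⟩
      rw [SetLike.mem_coe, mem_center_iff]
      intro g
      have h1 := (mem_center_iff.mp hx) (τ g)
      have h2 := congrArg τ h1
      rw [map_mul, map_mul, hτ] at h2
      exact h2
  let τ' : (K ⧸ center K) ≃* (K ⧸ center K) := QuotientGroup.congr (center K) (center K) τ hcen
  have hτ'mk : ∀ x : K, τ' (QuotientGroup.mk' (center K) x) = QuotientGroup.mk' (center K) (τ x) :=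
    fun x => rfl
  have h1 := commutator_le_ker h τ (QuotientGroup.mk' (center K)) (Or.inl ⟨τ', ?_, ?_, ?_⟩) hL hW
    hWn.isSubnormal hWo
  · rw [QuotientGroup.ker_mk'] at h1
    have h2 : ⁅⁅W, L⁆, L⁆ = ⊥ := by
      rw [commutator_comm W L, commutator_eq_bot_iff_le_centralizer]
      exact h1.trans (center_le_centralizer _)
    rw [commutator_comm]
    exact ComponentSolvable.commutator_eq_bot_of_perfect (tc_perfect hL) h2
  · intro x
    obtain ⟨x, rfl⟩ := QuotientGroup.mk'_surjective _ x
    rw [hτ'mk, hτ'mk, hτ]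
  · intro x
    rfl
  · rw [Subgroup.commutator_le]
    intro x hx y hy
    obtain ⟨x, rfl⟩ := QuotientGroup.mk'_surjective _ x
    obtain ⟨y, rfl⟩ := QuotientGroup.mk'_surjective _ y
    rw [mem_fixSub, hτ'mk, QuotientGroup.mk'_eq_mk'] at hx hy
    obtain ⟨z, hz, hxz⟩ := hx
    obtain ⟨w, hw, hyw⟩ := hy
    refine ⟨⁅x, y⁆, ?_, ?_⟩
    · have hx' : τ x = x * z⁻¹ := eq_mul_inv_of_mul_eq hxz
      have hy' : τ y = y * w⁻¹ := eq_mul_inv_of_mul_eq hyw
      have hz' : ∀ g, g * z⁻¹ = z⁻¹ * g := mem_center_iff.mp (inv_mem hz)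
      have hw' : ∀ g, g * w⁻¹ = w⁻¹ * g := mem_center_iff.mp (inv_mem hw)
      change τ ⁅x, y⁆ = ⁅x, y⁆
      rw [map_commutatorElement, hx', hy', commutatorElement_def, commutatorElement_def]
      rw [mul_inv_rev, mul_inv_rev, inv_inv, inv_inv]
      calc x * z⁻¹ * (y * w⁻¹) * (z * x⁻¹) * (w * y⁻¹)
          = x * (z⁻¹ * y) * w⁻¹ * z * x⁻¹ * w * y⁻¹ := by group
        _ = x * y * (z⁻¹ * w⁻¹) * z * x⁻¹ * w * y⁻¹ := by rw [← hz' y]; group
        _ = x * y * w⁻¹ * z⁻¹ * z * x⁻¹ * w * y⁻¹ := by rw [← hz' w⁻¹]; group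
        _ = x * y * (w⁻¹ * x⁻¹) * w * y⁻¹ := by group
        _ = x * y * x⁻¹ * y⁻¹ := by rw [← hw' x⁻¹]; group
    · exact map_commutatorElement _ _ _

/-! ### the layer -/

section Layer

variable {X : Type*} [Group X]

/-- `C_X(K)` covers `layer X / K` for a component `K`. -/
theorem exists_mul_of_mem_layer [Finite X] {K : Subgroup X} (hK : IsComponent K) {x : X} (hx : x ∈ layer X) :
    ∃ k ∈ K, ∃ c ∈ centralizer (K : Set X), k * c = x := by
  let M : Subgroup X :=
    { carrier := {x | ∃ k ∈ K, ∃ c ∈ centralizer (K : Set X), k * c = x}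
      one_mem' := ⟨1, one_mem _, 1, one_mem _, one_mul 1⟩
      mul_mem' := by
        rintro _ _ ⟨k, hk, c, hc, rfl⟩ ⟨k', hk', c', hc', rfl⟩
        refine ⟨k * k', mul_mem hk hk', c * c', mul_mem hc hc', ?_⟩
        have h1 : k' * c = c * k' := mem_centralizer_iff.mp hc k' hk'
        calc k * k' * (c * c') = k * (k' * c) * c' := by group
          _ = k * c * (k' * c') := by rw [h1]; group
      inv_mem' := by
        rintro _ ⟨k, hk, c, hc, rfl⟩
        refine ⟨k⁻¹, inv_mem hk, c⁻¹, inv_mem hc, ?_⟩
        have h1 : k⁻¹ * c⁻¹ = c⁻¹ * k⁻¹ := mem_centralizer_iff.mp (inv_mem hc) k⁻¹ (inv_mem hk)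
        rw [h1, mul_inv_rev] }
  have h1 : layer X ≤ M := by
    rw [Components.layer_le_iff]
    intro J hJ
    by_cases hJK : J = K
    · intro y hy
      exact ⟨y, hJK ▸ hy, 1, one_mem _, mul_one y⟩
    · intro y hy
      refine ⟨1, one_mem _, y, ?_, one_mul y⟩
      exact Components.component_le_centralizer_of_ne hJ hK hJK hy
  exact h1 hx

/-- Transport of relative 2-components to a subgroup. -/
theorem tc_subgroupOf {H L E : Subgroup X} (hT : TC H L) (hE : H ≤ E) :
    TC (H.subgroupOf E) (L.subgroupOf E) := by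
  refine ⟨fun x hx => hT.le hx, ?_⟩
  have h1 := isPComponent_map_equiv 2 (subgroupOfEquivOfLe hE).symm hT.comp
  convert h1 using 1
  ext x
  constructor
  · intro hx
    exact ⟨⟨(x : E), x.2⟩, hx, rfl⟩
  · rintro ⟨y, hy, rfl⟩
    exact hy

/-- The commutator does not change modulo central factors. -/
theorem commutator_mul {x y z w : X} (h1 : z * y = y * z) (h2 : z * w = w * z)
    (h3 : w * x = x * w) : ⁅x * z, y * w⁆ = ⁅x, y⁆ := by
  rw [commutatorElement_def, commutatorElement_def, mul_inv_rev, mul_inv_rev]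
  have h4 : z * y * w * z⁻¹ = y * w := by
    rw [h1, mul_assoc y z w, h2]
    group
  have h5 : w * x⁻¹ * w⁻¹ = x⁻¹ := by
    have h6 : x⁻¹ * w = w * x⁻¹ := by
      calc x⁻¹ * w = x⁻¹ * (w * x) * x⁻¹ := by group
        _ = w * x⁻¹ := by rw [h3]; group
    rw [← h6, mul_inv_cancel_right]
  calc x * z * (y * w) * (z⁻¹ * x⁻¹) * (w⁻¹ * y⁻¹)
      = x * (z * y * w * z⁻¹) * x⁻¹ * w⁻¹ * y⁻¹ := by group
    _ = x * y * (w * x⁻¹ * w⁻¹) * y⁻¹ := by rw [h4]; group
    _ = x * y * x⁻¹ * y⁻¹ := by rw [h5]

theorem layer_step [Finite X] {t : X} (ht : t * t = 1) {K : Subgroup X} (hK : IsComponent K)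
    (hSB : SB (↥K ⧸ center ↥K)) {L W : Subgroup X} (hL : TC (centralizer ({t} : Set X)) L)
    (hLl : L ≤ layer X) (hWL : W ≤ L)
    (hWn : (W.subgroupOf (centralizer ({t} : Set X))).IsSubnormal) (hWo : Odd (Nat.card W)) :
    ⁅L, W⁆ ≤ centralizer (K : Set X) := by
  have hEn : (layer X).Normal := Components.layer_normal X
  have hKE : K ≤ layer X := Components.component_le_layer hK
  have htinv : t⁻¹ = t := inv_eq_of_mul_eq_one_left ht
  have hnorm := Components.layer_le_normalizer_component hK
  -- the quotient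
  set N : Subgroup ↥(layer X) := (centralizer (K : Set X)).subgroupOf (layer X) with hNdef
  have hN : N.Normal := by
    constructor
    intro c hc g
    rw [hNdef, mem_subgroupOf] at hc ⊢
    have h1 := centralizer_le_normalizer (K : Set X)
    have h2 : (g : X) ∈ normalizer (K : Set X) := hnorm g.2
    rw [mem_centralizer_iff] at hc ⊢
    intro k hk
    have h3 : (g : X)⁻¹ * k * g ∈ K := by
      have := (mem_normalizer_iff.mp (inv_mem h2) k).mp hk
      rwa [inv_inv] at this
    have h4 := hc _ h3
    calc k * ((g * c * g⁻¹ : ↥(layer X)) : X) = g * ((g : X)⁻¹ * k * g * c) * (g : X)⁻¹ := by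
          push_cast; group
      _ = g * (c * ((g : X)⁻¹ * k * g)) * (g : X)⁻¹ := by rw [h4]
      _ = ((g * c * g⁻¹ : ↥(layer X)) : X) * k := by push_cast; group
  let f : ↥(layer X) →* ↥(layer X) ⧸ N := QuotientGroup.mk' N
  have hfker : ∀ x : ↥(layer X), f x = 1 ↔ (x : X) ∈ centralizer (K : Set X) := by
    intro x
    change (QuotientGroup.mk x : ↥(layer X) ⧸ N) = 1 ↔ _
    rw [QuotientGroup.eq_one_iff]
    rfl
  -- the isomorphism
  let ψ : ↥K →* ↥(layer X) ⧸ N := f.comp (inclusion hKE)
  have hψ : Function.Surjective ψ := by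
    intro q
    obtain ⟨x, rfl⟩ := QuotientGroup.mk'_surjective N q
    obtain ⟨k, hk, c, hc, hkc⟩ := exists_mul_of_mem_layer hK x.2
    refine ⟨⟨k, hk⟩, ?_⟩
    change f ⟨k, hKE hk⟩ = f x
    have hcE : c ∈ layer X := by
      have : c = k⁻¹ * x := by rw [← hkc]; group
      rw [this]
      exact mul_mem (inv_mem (hKE hk)) x.2
    have h1 : x = ⟨k, hKE hk⟩ * ⟨c, hcE⟩ := Subtype.ext hkc.symm
    rw [h1, map_mul, (hfker ⟨c, hcE⟩).mpr hc, mul_one]
  have hker : ψ.ker = center ↥K := by
    ext x
    rw [MonoidHom.mem_ker]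
    change f (inclusion hKE x) = 1 ↔ _
    rw [hfker, mem_center_iff, mem_centralizer_iff]
    constructor
    · intro h g
      exact Subtype.ext (h g g.2)
    · intro h g hg
      exact congrArg Subtype.val (h ⟨g, hg⟩)
  let e : ↥K ⧸ center ↥K ≃* ↥(layer X) ⧸ N :=
    (QuotientGroup.quotientMulEquivOfEq hker.symm).trans
      (QuotientGroup.quotientKerEquivOfSurjective ψ hψ)
  have hSB' : SB (↥(layer X) ⧸ N) := hSB.congr e
  have hsimple : IsSimpleGroup (↥(layer X) ⧸ N) := by
    have := hK.2.2
    have : Nontrivial (↥(layer X) ⧸ N) := e.symm.toEquiv.nontrivial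
    exact IsSimpleGroup.isSimpleGroup_of_surjective e.toMonoidHom e.surjective
  -- the automorphism
  let τ : ↥(layer X) ≃* ↥(layer X) := MulAut.conjNormal t
  have hτ : ∀ x, ((τ x : ↥(layer X)) : X) = t * x * t⁻¹ := fun x => MulAut.conjNormal_apply t x
  have hττ : ∀ x, τ (τ x) = x := by
    intro x
    apply Subtype.ext
    rw [hτ, hτ, htinv]
    calc t * (t * (x : X) * t) * t = (t * t) * x * (t * t) := by group
      _ = x := by rw [ht, one_mul, mul_one]
  have hfix : fixSub τ = (centralizer ({t} : Set X) ⊓ layer X).subgroupOf (layer X) := by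
    ext x
    rw [mem_fixSub, mem_subgroupOf, mem_inf, mem_centralizer_singleton_iff, Subtype.ext_iff, hτ]
    constructor
    · intro h
      refine ⟨?_, x.2⟩
      conv_lhs => rw [← h]
      group
    · rintro ⟨h, -⟩
      rw [← h, mul_inv_cancel_right]
  have hT : TC (fixSub τ) (L.subgroupOf (layer X)) := by
    rw [hfix]
    exact tc_subgroupOf (restrict hL inf_le_left (le_inf hL.le hLl)) inf_le_right
  have hWfix : W.subgroupOf (layer X) ≤ fixSub τ := fun x hx => hT.le (hWL hx)
  have hWn' : ((W.subgroupOf (layer X)).subgroupOf (fixSub τ)).IsSubnormal := by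
    have hmem : ∀ x : fixSub τ, ((x : ↥(layer X)) : X) ∈ centralizer ({t} : Set X) := by
      intro x
      exact (hfix.le x.2).1
    let j : ↥(fixSub τ) →* ↥(centralizer ({t} : Set X)) :=
      { toFun := fun x => ⟨((x : ↥(layer X)) : X), hmem x⟩
        map_one' := rfl
        map_mul' := fun _ _ => rfl }
    exact hWn.comap j
  have hWo' : Odd (Nat.card (W.subgroupOf (layer X))) := by
    rwa [Nat.card_congr (subgroupOfEquivOfLe (hWL.trans hLl)).toEquiv]
  have key : ⁅L.subgroupOf (layer X), W.subgroupOf (layer X)⁆ ≤ f.ker := by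
    refine commutator_le_ker hSB' τ f ?_ hT hWfix hWn' hWo'
    by_cases hKt : K.map (MulAut.conj t).toMonoidHom = K
    · left
      have hKc : ∀ k ∈ K, t * k * t⁻¹ ∈ K := by
        intro k hk
        rw [← hKt]
        exact ⟨k, hk, rfl⟩
      have hNτ : ∀ x : ↥(layer X), x ∈ N → τ x ∈ N := by
        intro x hx
        rw [hNdef, mem_subgroupOf, mem_centralizer_iff] at hx ⊢
        intro k hk
        have h1 := hx _ (hKc k hk)
        rw [hτ]
        rw [htinv] at h1 ⊢
        calc k * (t * (x : X) * t) = (t * t) * k * (t * (x : X) * t) := by rw [ht, one_mul]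
          _ = t * (t * k * t * x) * t := by group
          _ = t * (x * (t * k * t)) * t := by rw [h1]
          _ = t * x * t * k * (t * t) := by group
          _ = t * x * t * k := by rw [ht, mul_one]
      have hNmap : N.map τ.toMonoidHom = N := by
        apply le_antisymm
        · rintro _ ⟨x, hx, rfl⟩
          exact hNτ x hx
        · intro x hx
          exact ⟨τ x, hNτ x hx, hττ x⟩
      let τ' : (↥(layer X) ⧸ N) ≃* (↥(layer X) ⧸ N) := QuotientGroup.congr N N τ hNmap
      have hτ'f : ∀ x, τ' (f x) = f (τ x) := fun x => rfl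
      refine ⟨τ', ?_, fun x => (hτ'f x).symm, ?_⟩
      · intro q
        obtain ⟨x, rfl⟩ := QuotientGroup.mk'_surjective N q
        change τ' (τ' (f x)) = f x
        rw [hτ'f, hτ'f, hττ]
      · rw [Subgroup.commutator_le]
        intro a ha b hb
        obtain ⟨x, rfl⟩ := hψ a
        obtain ⟨y, rfl⟩ := hψ b
        have hz : ∀ x : K, ψ x ∈ fixSub τ' → (x : X)⁻¹ * (t * x * t⁻¹) ∈ centralizer (K : Set X) := by
          intro x hx
          have h1 : τ' (f (inclusion hKE x)) = f (inclusion hKE x) := hx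
          rw [hτ'f] at h1
          have h2 : f ((inclusion hKE x)⁻¹ * τ (inclusion hKE x)) = 1 := by
            rw [map_mul, h1, map_inv, inv_mul_cancel]
          rw [hfker] at h2
          have h3 : (((inclusion hKE x)⁻¹ * τ (inclusion hKE x) : ↥(layer X)) : X) =
              (x : X)⁻¹ * (t * x * t⁻¹) := by
            push_cast
            rw [hτ]
            rfl
          rwa [h3] at h2
        have hzK : ∀ x : K, (x : X)⁻¹ * (t * x * t⁻¹) ∈ K := fun x =>
          mul_mem (inv_mem x.2) (hKc x x.2)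
        have hx := hz x ha
        have hy := hz y hb
        refine ⟨⁅inclusion hKE x, inclusion hKE y⁆, ?_, map_commutatorElement _ _ _⟩
        change τ _ = _
        apply Subtype.ext
        rw [hτ]
        have hcoe : ((⁅inclusion hKE x, inclusion hKE y⁆ : ↥(layer X)) : X) = ⁅(x : X), (y : X)⁆ := rfl
        rw [hcoe]
        have h1 : t * ⁅(x : X), (y : X)⁆ * t⁻¹ = ⁅t * (x : X) * t⁻¹, t * (y : X) * t⁻¹⁆ := by
          rw [commutatorElement_def, commutatorElement_def]
          group
        have h2 : t * (x : X) * t⁻¹ = x * ((x : X)⁻¹ * (t * x * t⁻¹)) := by group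
        have h3 : t * (y : X) * t⁻¹ = y * ((y : X)⁻¹ * (t * y * t⁻¹)) := by group
        rw [h1, h2, h3]
        apply commutator_mul
        · exact (mem_centralizer_iff.mp hx y y.2).symm
        · exact (mem_centralizer_iff.mp hx _ (hzK y)).symm
        · exact (mem_centralizer_iff.mp hy x x.2).symm
    · right
      refine ⟨hsimple, ?_⟩
      rw [eq_top_iff]
      intro q _
      obtain ⟨k, rfl⟩ := hψ q
      have hc : ∀ k ∈ K, t * k * t⁻¹ ∈ centralizer (K : Set X) := by
        intro k hk
        exact Components.component_le_centralizer_of_ne (Components.isComponent_conj t hK) hK hKt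
          ⟨k, hk, rfl⟩
      refine ⟨inclusion hKE k * τ (inclusion hKE k), ?_, ?_⟩
      · change τ _ = _
        rw [map_mul, hττ]
        apply Subtype.ext
        push_cast
        rw [hτ]
        exact (mem_centralizer_iff.mp (hc k k.2) k k.2).symm
      · rw [map_mul]
        have h1 : f (τ (inclusion hKE k)) = 1 := by
          rw [hfker, hτ]
          exact hc k k.2
        rw [h1, mul_one]
        rfl
  rw [Subgroup.commutator_le]
  intro x hx y hy
  have h1 : ⁅(⟨x, hLl hx⟩ : ↥(layer X)), (⟨y, (hWL.trans hLl) hy⟩ : ↥(layer X))⁆ ∈ f.ker :=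
    key (Subgroup.commutator_mem_commutator hx hy)
  rw [MonoidHom.mem_ker, hfker] at h1
  exact h1

/-- L-balance for an involution. -/
theorem le_pLayer [Finite X] {t : X} (ht : t * t = 1) {L : Subgroup X}
    (hL : TC (centralizer ({t} : Set X)) L) : L ≤ pLayer 2 X := by
  have hC : centralizer ({t} : Set X) = centralizer ((zpowers t : Subgroup X) : Set X) := by
    ext x
    rw [mem_centralizer_singleton_iff, mem_centralizer_iff]
    constructor
    · rintro h _ ⟨n, rfl⟩
      exact ((Commute.zpow_right h n).eq).symm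
    · intro h
      exact (h t (mem_zpowers t)).symm
  rw [hC] at hL
  have hT : IsPGroup 2 ↥(zpowers t) := by
    rintro ⟨_, n, rfl⟩
    refine ⟨1, Subtype.ext ?_⟩
    change (t ^ n) ^ 2 ^ 1 = 1
    rw [pow_one, ← zpow_natCast, ← zpow_mul, mul_comm, zpow_mul, zpow_natCast, pow_two, ht,
      one_zpow]
  refine le_trans ?_ (Cfsg.Agent.S1301.result (zpowers t) hT)
  intro x hx
  exact ⟨⟨x, hL.le hx⟩, PComponents.pcomp_le_pLayer hL.comp hx, rfl⟩

theorem core_free [Finite X] (hO : oddCore X = ⊥)
    (h : ∀ K : Subgroup X, IsComponent K → SB (↥K ⧸ center ↥K)) {t : X} (ht : t * t = 1)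
    {L W : Subgroup X} (hL : TC (centralizer ({t} : Set X)) L)
    (hW : W ≤ centralizer ({t} : Set X)) (hWn : (W.subgroupOf (centralizer ({t} : Set X))).Normal)
    (hWo : Odd (Nat.card W)) : ⁅L, W⁆ = ⊥ := by
  have hperf := tc_perfect hL
  have hLl : L ≤ layer X := by
    refine (le_pLayer ht hL).trans (sSup_le fun J hJ => ?_)
    refine Components.component_le_layer
      (ClassificationK.PCompTransport.isComponent_of_isPComponent 2 hJ ?_)
    change ⁅J, oddCore X⁆ = ⊥
    rw [hO, commutator_bot_right]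
  have hLc : L ≤ centralizer ({t} : Set X) := hL.le
  -- `[L, W] ≤ W ⊓ L`
  have h1 : ⁅L, W⁆ ≤ W ⊓ L := by
    rw [Subgroup.commutator_le]
    intro x hx w hw
    have hxw : x * w * x⁻¹ ∈ W :=
      hWn.conj_mem ⟨w, hW hw⟩ hw ⟨x, hLc hx⟩
    have hwx : w * x⁻¹ * w⁻¹ ∈ L := by
      have h2 : (⟨w, hW hw⟩ : ↥(centralizer ({t} : Set X))) ∈
          normalizer ((L.subgroupOf (centralizer ({t} : Set X)) : Subgroup _) : Set _) := by
        apply PCompCore.pPrimeCore_le_normalizer hL.comp
        refine Cores.le_pPrimeCore hWn ?_ hw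
        rw [Nat.card_congr (subgroupOfEquivOfLe hW).toEquiv]
        exact Nat.coprime_two_right.mpr hWo
      exact (mem_normalizer_iff.mp h2 ⟨x⁻¹, hLc (L.inv_mem hx)⟩).mp (L.inv_mem hx)
    rw [commutatorElement_def]
    refine Subgroup.mem_inf.mpr ⟨W.mul_mem hxw (W.inv_mem hw), ?_⟩
    have h3 : x * w * x⁻¹ * w⁻¹ = x * (w * x⁻¹ * w⁻¹) := by group
    rw [h3]
    exact mul_mem hx hwx
  have hW0n : ((W ⊓ L).subgroupOf (centralizer ({t} : Set X))).IsSubnormal := by
    have : (W ⊓ L).subgroupOf (centralizer ({t} : Set X)) =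
        W.subgroupOf (centralizer ({t} : Set X)) ⊓ L.subgroupOf (centralizer ({t} : Set X)) := rfl
    rw [this]
    exact hWn.isSubnormal.inf hL.comp.1
  have hW0o : Odd (Nat.card ↥(W ⊓ L)) := by
    obtain ⟨k, hk⟩ := Subgroup.card_dvd_of_le (inf_le_left : W ⊓ L ≤ W)
    rw [hk] at hWo
    exact (Nat.odd_mul.mp hWo).1
  -- `[L, W ⊓ L] = 1`
  have h2 : ⁅W ⊓ L, L⁆ = ⊥ := by
    apply ComponentSolvable.commutator_eq_bot_of_perfect hperf
    rw [commutator_eq_bot_iff_le_centralizer, le_centralizer_iff]
    refine hLl.trans ?_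
    rw [Components.layer_le_iff]
    intro K hK
    rw [le_centralizer_iff, commutator_comm]
    exact layer_step ht hK (h K hK) hL hLl inf_le_right hW0n hW0o
  rw [commutator_comm]
  apply ComponentSolvable.commutator_eq_bot_of_perfect hperf
  rw [eq_bot_iff, ← h2]
  apply Subgroup.commutator_mono _ le_rfl
  rw [commutator_comm]
  exact h1

/-- Centralizers of involutions in quotients modulo odd normal subgroups. -/
theorem map_centralizer {N : Subgroup X} [N.Normal] (hN : Odd (Nat.card N)) {t : X}
    (ht : t * t = 1) : (centralizer ({t} : Set X)).map (QuotientGroup.mk' N) =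
      centralizer ({QuotientGroup.mk' N t} : Set (X ⧸ N)) := by
  apply le_antisymm
  · rintro _ ⟨x, hx, rfl⟩
    rw [SetLike.mem_coe, mem_centralizer_singleton_iff] at hx
    rw [mem_centralizer_singleton_iff, ← map_mul, ← map_mul, hx]
  · intro y hy
    obtain ⟨g, rfl⟩ := QuotientGroup.mk'_surjective N y
    rw [mem_centralizer_singleton_iff, ← map_mul, ← map_mul, QuotientGroup.mk'_eq_mk'] at hy
    obtain ⟨z, hz, hgz⟩ := hy
    -- `u = g t g⁻¹`, `r = u t ∈ N`
    have htinv : t⁻¹ = t := inv_eq_of_mul_eq_one_left ht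
    set r : X := g * t * g⁻¹ * t with hr
    have hrN : r ∈ N := by
      have h1 : r = (t * g) * z⁻¹ * (t * g)⁻¹ := by
        rw [← hgz, hr, htinv.symm]
        have : t * g = g * t * z := hgz.symm
        rw [htinv]
        calc g * t * g⁻¹ * t = g * t * (t * g)⁻¹ := by rw [mul_inv_rev, htinv]; group
          _ = g * t * (g * t * z)⁻¹ := by rw [this]
          _ = g * t * z * z⁻¹ * (g * t * z)⁻¹ := by group
      rw [h1]
      exact (inferInstance : N.Normal).conj_mem _ (inv_mem hz) _
    obtain ⟨k, hk⟩ := hN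
    have hrk : r ^ (2 * k + 1) = 1 := by
      rw [← hk]
      exact congrArg Subtype.val (pow_card_eq_one' (x := (⟨r, hrN⟩ : N)))
    have hinv : t * r * t = r⁻¹ := by
      rw [hr]
      calc t * (g * t * g⁻¹ * t) * t = t * (g * t * g⁻¹) * (t * t) := by group
        _ = t * (g * t * g⁻¹) := by rw [ht, mul_one]
        _ = t⁻¹ * (g * t⁻¹ * g⁻¹) := by rw [htinv]
        _ = (g * t * g⁻¹ * t)⁻¹ := by group
    have hpow : t * r ^ (k + 1) = (r⁻¹) ^ (k + 1) * t := by
      have h1 : ∀ n : ℕ, t * r ^ n = (r⁻¹) ^ n * t := by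
        intro n
        induction n with
        | zero => simp
        | succ n ih =>
          rw [pow_succ, ← mul_assoc, ih, pow_succ, mul_assoc, mul_assoc]
          congr 1
          rw [← hinv]
          calc t * r = t * r * (t * t) := by rw [ht, mul_one]
            _ = t * r * t * t := by group
      exact h1 _
    -- `w = r^(k+1)`
    have hw : r ^ (k + 1) * t * (r ^ (k + 1))⁻¹ = g * t * g⁻¹ := by
      have h1 : t * (r ^ (k + 1))⁻¹ = r ^ (k + 1) * t := by
        rw [← inv_pow]
        have h2 : r ^ (k + 1) * (t * r ^ (k + 1)) * (r ^ (k + 1))⁻¹ =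
            r ^ (k + 1) * ((r⁻¹) ^ (k + 1) * t) * (r ^ (k + 1))⁻¹ := by rw [hpow]
        have h3 : r ^ (k + 1) * (t * r ^ (k + 1)) * (r ^ (k + 1))⁻¹ = r ^ (k + 1) * t := by group
        have h4 : r ^ (k + 1) * ((r⁻¹) ^ (k + 1) * t) * (r ^ (k + 1))⁻¹ = t * (r⁻¹) ^ (k + 1) := by
          rw [inv_pow]; group
        rw [h3, h4] at h2
        exact h2.symm
      rw [mul_assoc, h1, ← mul_assoc, ← pow_add]
      have h2 : k + 1 + (k + 1) = (2 * k + 1) + 1 := by ring
      rw [h2, pow_succ, hrk, one_mul, hr]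
      calc g * t * g⁻¹ * t * t = g * t * g⁻¹ * (t * t) := by group
        _ = g * t * g⁻¹ := by rw [ht, mul_one]
    refine ⟨(r ^ (k + 1))⁻¹ * g, ?_, ?_⟩
    · rw [SetLike.mem_coe, mem_centralizer_singleton_iff]
      calc (r ^ (k + 1))⁻¹ * g * t = (r ^ (k + 1))⁻¹ * (g * t * g⁻¹) * g := by group
        _ = (r ^ (k + 1))⁻¹ * (r ^ (k + 1) * t * (r ^ (k + 1))⁻¹) * g := by rw [hw]
        _ = t * ((r ^ (k + 1))⁻¹ * g) := by group
    · rw [map_mul]
      have : QuotientGroup.mk' N (r ^ (k + 1))⁻¹ = 1 :=
        (QuotientGroup.eq_one_iff _).mpr (inv_mem (pow_mem hrN _))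
      rw [this, one_mul]

/-- **(R1)** -/
theorem hasB_of_components [Finite X]
    (h : ∀ K : Subgroup (X ⧸ oddCore X), IsComponent K → SB (↥K ⧸ center ↥K)) :
    HasBProperty X := by
  intro t ht
  have htt : t * t = 1 := by rw [← pow_two, ← ht]; exact pow_orderOf_eq_one t
  let π := QuotientGroup.mk' (oddCore X)
  have hodd : Odd (Nat.card (oddCore X)) :=
    Nat.coprime_two_right.mp (Cores.pPrimeCore_coprime 2)
  have hcore : oddCore (X ⧸ oddCore X) = ⊥ := PComponents.pPrimeCore_quotient_eq_bot 2
  have hC := map_centralizer hodd htt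
  have htt' : π t * π t = 1 := by rw [← map_mul, htt, map_one]
  set C := centralizer ({t} : Set X) with hCdef
  have hWle : relCore 2 C ≤ C := relCore_le 2 C
  have hWo : Odd (Nat.card (relCore 2 C)) := odd_card_relCore C
  have hWn : ((relCore 2 C).subgroupOf C).Normal := relCore_subgroupOf_normal C
  have key : pLayer 2 ↥C ≤ (centralizer (((relCore 2 C).map π : Subgroup _) : Set _)).comap
      (π.comp C.subtype) := by
    refine sSup_le fun L hL => ?_
    rw [← Subgroup.map_le_iff_le_comap, ← Subgroup.map_map]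
    rcases tc_map π (tc_of_subtype hL) with hb | hT
    · rw [hb]
      exact bot_le
    · rw [← commutator_eq_bot_iff_le_centralizer]
      rw [hC] at hT
      refine core_free hcore h htt' hT ?_ ?_ (odd_map π hWo)
      · rw [← hC]
        exact Subgroup.map_mono hWle
      · rw [← hC, ← subgroupOf_map_eq π hWle]
        exact hWn.map _ (π.subgroupMap_surjective C)
  have hgoal : ⁅(pLayer 2 ↥C).map (π.comp C.subtype), (oddCore ↥C).map (π.comp C.subtype)⁆ = ⊥ := by
    rw [commutator_eq_bot_iff_le_centralizer, Subgroup.map_le_iff_le_comap]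
    rw [← Subgroup.map_map (oddCore ↥C) π C.subtype]
    exact key
  rw [← Subgroup.map_commutator, ← Subgroup.map_map, Subgroup.map_eq_bot_iff,
    QuotientGroup.ker_mk'] at hgoal
  exact hgoal

end Layer

/-! ### composition factors, quasisimple `F*` -/

section Main

universe u

variable {X : Type u} [Group X]

/-- the central quotient of an image of a quasisimple group -/
theorem exists_central_equiv {F : Type*} {Q : Type*} [Group F] [Group Q] (hF : IsQuasisimple F)
    (f : F →* Q) (hf : Function.Surjective f) (hker : f.ker ≤ center F) :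
    Nonempty (F ⧸ center F ≃* Q ⧸ center Q) := by
  let g : F →* Q ⧸ center Q := (QuotientGroup.mk' (center Q)).comp f
  have hg : Function.Surjective g := (QuotientGroup.mk'_surjective _).comp hf
  have hgk : ∀ x, x ∈ g.ker ↔ f x ∈ center Q := by
    intro x
    rw [MonoidHom.mem_ker]
    exact QuotientGroup.eq_one_iff (f x)
  have hk : g.ker = center F := by
    apply le_antisymm
    · rcases ComponentSolvable.quasisimple_normal_cases hF (N := g.ker) inferInstance with h | h
      · exfalso
        have hQ : Nontrivial Q := by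
          by_contra hn
          rw [not_nontrivial_iff_subsingleton] at hn
          have h1 : f.ker = ⊤ := by
            rw [eq_top_iff]
            intro x _
            exact Subsingleton.elim _ _
          rw [h1, top_le_iff] at hker
          exact ComponentSolvable.quasisimple_center_ne_top hF hker
        have hQq := ComponentImage.isQuasisimple_of_surjective hF f hf hQ
        apply ComponentSolvable.quasisimple_center_ne_top hQq
        rw [eq_top_iff]
        intro y _
        obtain ⟨x, rfl⟩ := hf y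
        exact (hgk x).mp (h ▸ mem_top x)
      · exact h
    · intro x hx
      rw [hgk, mem_center_iff]
      intro y
      obtain ⟨y, rfl⟩ := hf y
      rw [← map_mul, ← map_mul, mem_center_iff.mp hx y]
  exact ⟨(QuotientGroup.quotientMulEquivOfEq hk.symm).trans
    (QuotientGroup.quotientKerEquivOfSurjective g hg)⟩

/-- **(R3)** A finite group all of whose nonabelian composition factors have `SB` has the
B-property. -/
theorem hasB_of_composition [Finite X] (h : IsCompositionKGroupWith (fun Y _ => SB Y) X) :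
    HasBProperty X := by
  apply hasB_of_components
  intro K hK
  let π := QuotientGroup.mk' (oddCore X)
  let H : Subgroup X := K.comap π
  have hH : H.IsSubnormal := hK.1.comap π
  let g : ↥H →* ↥K ⧸ center ↥K :=
    (QuotientGroup.mk' (center ↥K)).comp (π.subgroupComap K)
  have hg : Function.Surjective g := by
    refine (QuotientGroup.mk'_surjective _).comp ?_
    rintro ⟨y, hy⟩
    obtain ⟨x, rfl⟩ := QuotientGroup.mk'_surjective (oddCore X) y
    exact ⟨⟨x, hy⟩, rfl⟩
  have e : ↥H ⧸ g.ker ≃* ↥K ⧸ center ↥K := QuotientGroup.quotientKerEquivOfSurjective g hg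
  have hs : IsSimpleGroup (↥K ⧸ center ↥K) := hK.2.2
  have hs' : IsSimpleGroup (↥H ⧸ g.ker) := by
    have : Nontrivial (↥H ⧸ g.ker) := e.toEquiv.nontrivial
    exact IsSimpleGroup.isSimpleGroup_of_surjective e.symm.toMonoidHom e.symm.surjective
  have hna : ¬ IsMulCommutative (↥H ⧸ g.ker) := by
    intro hc
    have hK1 : IsMulCommutative (↥K ⧸ center ↥K) :=
      ⟨⟨fun a b => by
        apply e.symm.injective
        rw [map_mul, map_mul]
        exact hc.is_comm.comm _ _⟩⟩
    have := hK.2.1
    have hp : Group.IsPerfect (↥K ⧸ center ↥K) :=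
      Group.IsPerfect.ofSurjective (QuotientGroup.mk'_surjective (center ↥K))
    have h1 : (_root_.commutator (↥K ⧸ center ↥K)) = ⊥ := by
      rw [_root_.commutator_def, Subgroup.commutator_eq_bot_iff_le_centralizer]
      intro x _
      rw [mem_centralizer_iff]
      intro y _
      exact hK1.is_comm.comm y x
    rw [hp.commutator_eq_top] at h1
    exact top_ne_bot h1
  exact (h H hH g.ker hs' hna).congr e

/-- **(R2)** If `F*(X)` is quasisimple of even order and its central quotient has `SB`, then `X`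
has the B-property. -/
theorem hasB_of_quasisimple [Finite X] (hq : IsQuasisimple ↥(generalizedFittingSubgroup X))
    (heven : 2 ∣ Nat.card ↥(generalizedFittingSubgroup X))
    (h : SB (↥(generalizedFittingSubgroup X) ⧸ center ↥(generalizedFittingSubgroup X))) :
    HasBProperty X := by
  set F := generalizedFittingSubgroup X with hFdef
  have hFn : F.Normal := GenFitting.genFitting_normal
  have hCF : centralizer (F : Set X) ≤ F := GenFitting.centralizer_genFitting_le
  have hperf : Group.IsPerfect F := hq.1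
  -- `O(X) ≤ Z(F)`
  have h1 : oddCore X ⊓ F ≤ centralizer (F : Set X) := by
    rcases ComponentSolvable.quasisimple_normal_cases hq (N := (oddCore X).subgroupOf F)
      inferInstance with h1 | h1
    · exfalso
      rw [subgroupOf_eq_top] at h1
      have h2 := Subgroup.card_dvd_of_le h1
      have h3 : Nat.Coprime (Nat.card (oddCore X)) 2 := Cores.pPrimeCore_coprime 2
      exact (Nat.not_even_iff_odd.mpr (Nat.coprime_two_right.mp h3))
        (even_iff_two_dvd.mpr (heven.trans h2))
    · rintro x ⟨hx, hxF⟩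
      rw [mem_centralizer_iff]
      intro y hy
      have h2 := mem_center_iff.mp (h1 (show (⟨x, hxF⟩ : F) ∈ _ from hx)) ⟨y, hy⟩
      exact congrArg Subtype.val h2
  have h2 : ∀ A : Subgroup X, ⁅A, F⁆ ≤ oddCore X → A ≤ centralizer (F : Set X) := by
    intro A hA
    rw [← commutator_eq_bot_iff_le_centralizer]
    apply ComponentSolvable.commutator_eq_bot_of_perfect hperf
    rw [commutator_eq_bot_iff_le_centralizer]
    refine le_trans (le_inf hA ?_) h1
    exact Subgroup.commutator_le_right _ _
  have hOC : oddCore X ≤ centralizer (F : Set X) := h2 _ (Subgroup.commutator_le_left _ _)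
  apply hasB_of_components
  intro K hK
  let π := QuotientGroup.mk' (oddCore X)
  -- the component `F̄`
  have hFc : IsComponent (F.map π) := by
    rcases ComponentImage.map_eq_bot_or_isComponent (QuotientGroup.mk'_surjective (oddCore X))
      (⟨hFn.isSubnormal, hq⟩ : IsComponent F) with hb | hb
    · exfalso
      rw [Subgroup.map_eq_bot_iff, QuotientGroup.ker_mk'] at hb
      have h3 : center F = ⊤ := by
        rw [eq_top_iff]
        intro x _
        rw [mem_center_iff]
        intro y
        exact Subtype.ext (mem_centralizer_iff.mp (hOC (hb x.2)) y y.2)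
      exact ComponentSolvable.quasisimple_center_ne_top hq h3
    · exact hb
  have hKF : K = F.map π := by
    by_contra hne
    have h3 := Components.component_commutator_eq_bot_of_ne hK hFc hne
    have h4 : K.comap π ≤ centralizer (F : Set X) := by
      apply h2
      have h5 : (⁅K.comap π, F⁆).map π = ⊥ := by
        rw [Subgroup.map_commutator,
          Subgroup.map_comap_eq_self_of_surjective (QuotientGroup.mk'_surjective (oddCore X))]
        exact h3
      rwa [Subgroup.map_eq_bot_iff, QuotientGroup.ker_mk'] at h5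
    apply ComponentImage.commutator_ne_bot hK
    have h5 : ⁅K.comap π, K.comap π⁆ = ⊥ := by
      rw [commutator_eq_bot_iff_le_centralizer]
      refine h4.trans (centralizer_le ?_)
      exact h4.trans hCF
    rw [← Subgroup.map_comap_eq_self_of_surjective (QuotientGroup.mk'_surjective (oddCore X)) K,
      ← Subgroup.map_commutator]
    change (⁅K.comap π, K.comap π⁆).map _ = ⊥
    rw [h5, Subgroup.map_bot]
  subst hKF
  obtain ⟨e⟩ := exists_central_equiv hq (π.subgroupMap F) (π.subgroupMap_surjective F) (by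
    intro x hx
    have h3 : (x : X) ∈ oddCore X := by
      have h4 : π (x : X) = 1 := congrArg Subtype.val hx
      exact (QuotientGroup.eq_one_iff (x : X)).mp h4
    rw [mem_center_iff]
    intro y
    exact Subtype.ext (mem_centralizer_iff.mp (hOC h3) y y.2))
  exact h.congr e

/-- `SB` of a simple group follows from the nontrivial automorphisms -/
theorem sb_of_ne_refl {K : Type*} [Group K] [Finite K] [hs : IsSimpleGroup K]
    (h : ∀ τ : K ≃* K, (∀ x, τ (τ x) = x) → (∃ x, τ x ≠ x) → ∀ L W : Subgroup K,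
      TC (fixSub τ) L → W ≤ fixSub τ → (W.subgroupOf (fixSub τ)).Normal → Odd (Nat.card W) →
        ⁅L, W⁆ = ⊥) : SB K := by
  refine sb_of_tc fun τ hτ L W hL hW hWn hWo => ?_
  by_cases hne : ∃ x, τ x ≠ x
  · exact h τ hτ hne L W hL hW hWn hWo
  · push Not at hne
    have htop : fixSub τ = ⊤ := by
      rw [eq_top_iff]
      intro x _
      exact hne x
    have hWnor : W.Normal := by
      constructor
      intro w hw g
      have h1 := hWn.conj_mem ⟨w, hW hw⟩ hw ⟨g, hne g⟩
      exact h1
    rcases hWnor.eq_bot_or_eq_top with h1 | h1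
    · rw [h1, Subgroup.commutator_bot_right]
    · exfalso
      have h5 := even_card hL
      have h6 : Nat.card ↥L ∣ Nat.card K := Subgroup.card_subgroup_dvd_card _
      rw [h1, Nat.card_congr (Subgroup.topEquiv (G := K)).toEquiv] at hWo
      exact (Nat.not_even_iff_odd.mpr hWo) (even_iff_two_dvd.mpr (h5.trans h6))

/-- **(R5)** the input from THEOREM FIX and the anisotropic part. -/
theorem sb_of_fix {K : Type*} [Group K] [Finite K] [hs : IsSimpleGroup K]
    (h : ∀ τ : K ≃* K, (∀ x, τ (τ x) = x) → (∃ x, τ x ≠ x) → ∃ p : ℕ,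
      (∀ W : Subgroup K, W ≤ fixSub τ → (∀ g ∈ fixSub τ, ∀ w ∈ W, g * w * g⁻¹ ∈ W) →
        Odd (Nat.card W) → ∀ v ∈ fixSub τ, (∃ n, v ^ p ^ n = 1) → ∀ w ∈ W, v * w = w * v) ∧
      ∀ L : Subgroup K, L ≤ fixSub τ → ⁅L, L⁆ = L → L ≤ PComponents.pElem p (fixSub τ)) :
    SB K := by
  refine sb_of_ne_refl fun τ hτ hne L W hL hW hWn hWo => ?_
  obtain ⟨p, h1, h2⟩ := h τ hτ hne
  have hLp : ⁅L, L⁆ = L := Subgroup.isPerfect_iff.mp (tc_perfect hL)
  rw [commutator_eq_bot_iff_le_centralizer]
  refine (h2 L hL.le hLp).trans ((Subgroup.closure_le _).mpr ?_)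
  rintro v ⟨hv, hvn⟩
  rw [SetLike.mem_coe, mem_centralizer_iff]
  intro w hw
  refine (h1 W hW ?_ hWo v hv hvn w hw).symm
  intro g hg w hw
  exact hWn.conj_mem ⟨w, hW hw⟩ hw ⟨g, hg⟩

/-- solvable quotient version of the second input -/
theorem le_pElem_of_isSolvable {K : Type*} [Group K] {p : ℕ} {H N : Subgroup K} [hn : (N.subgroupOf H).Normal]
    (hN : N ≤ PComponents.pElem p H) (hsol : Group.IsSolvable (↥H ⧸ N.subgroupOf H)) {L : Subgroup K}
    (hL : L ≤ H) (hp : ⁅L, L⁆ = L) : L ≤ PComponents.pElem p H := by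
  refine le_trans ?_ hN
  let f : ↥L →* ↥H ⧸ N.subgroupOf H := (QuotientGroup.mk' (N.subgroupOf H)).comp (inclusion hL)
  have h1 : f.range = ⊥ := by
    have h2 : Group.IsPerfect ↥L := Subgroup.isPerfect_iff.mpr hp
    have h3 : Group.IsPerfect f.range := Group.IsPerfect.ofSurjective f.rangeRestrict_surjective
    by_contra hne
    have h4 : Nontrivial f.range := (Subgroup.nontrivial_iff_ne_bot _).mpr hne
    exact Group.IsPerfect.not_isSolvable f.range inferInstance
  intro x hx
  have h2 : f ⟨x, hx⟩ = 1 := by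
    have : f ⟨x, hx⟩ ∈ f.range := ⟨_, rfl⟩
    rw [h1] at this
    exact this
  exact (QuotientGroup.eq_one_iff (N := N.subgroupOf H) (⟨x, hL hx⟩ : ↥H)).mp h2

end Main

end Cfsg.Agent.FixBN.Reduce
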