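import Mathlib
import Cfsg.Prelude.Def_ClassificationK
import Cfsg.Agent.FixBN.BTheorem
import Cfsg.Agent.FixBN.ReduceMain

/-!
# The relative form of `S1311 ⇒ B-theorem`

`UgtBelow n`: S1311 for all finite groups `G` with `|F*(G)| < n`.  With the inputs `Known` on the
groups of the list, every finite group all of whose nonabelian simple sections have order `< n` has
the strong B-property, and a simple group of order `< n` is on the list or locally balanced.
-/

set_option autoImplicit false

namespace Cfsg.Agent.FixBN.BRelative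

open Subgroup Cfsg Cfsg.Agent.Lib Cfsg.Agent.SignalizersComponents
open Cfsg.Agent.FixBN.Reduce Cfsg.Agent.FixBN.BTheorem
open scoped commutatorElement

universe u v

/-! ### the list of S1311 -/

/-- The list of S1311. -/
def InU (K : Type u) [Group K] : Prop :=
  (∃ p : ℕ, p.Prime ∧ p ≠ 2 ∧ IsLieTypeChar p K) ∨
  (∃ n : ℕ, Odd n ∧ 7 ≤ n ∧ Nonempty (K ≃* ↥(alternatingGroup (Fin n)))) ∨
  (∃ (F : Type) (_ : Field F) (_ : Fintype F), Fintype.card F = 4 ∧
    Nonempty (K ≃* Matrix.ProjectiveSpecialLinearGroup (Fin 3) F)) ∨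
  Spor.IsoHe K

theorem InU.congr {K : Type u} {K' : Type v} [Group K] [Group K'] (e : K ≃* K') (h : InU K) :
    InU K' := by
  rcases h with ⟨p, hp, hp2, h⟩ | ⟨n, h1, h2, h⟩ | ⟨F, i1, i2, h1, h⟩ | h
  · exact Or.inl ⟨p, hp, hp2, isLieTypeChar_congr e h⟩
  · exact Or.inr (Or.inl ⟨n, h1, h2, nonempty_congr e h⟩)
  · exact Or.inr (Or.inr (Or.inl ⟨F, i1, i2, h1, nonempty_congr e h⟩))
  · exact Or.inr (Or.inr (Or.inr (nonempty_congr e h)))

theorem ugt_iff {G : Type u} [Group G] : UGT G ↔
    (IsSimpleGroup ↥(generalizedFittingSubgroup G) →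
      ¬ IsMulCommutative ↥(generalizedFittingSubgroup G) →
      ∀ t : G, orderOf t = 2 → centralizerPPrimeCore 2 t ≠ ⊥ →
      InU ↥(generalizedFittingSubgroup G)) := Iff.rfl

/-- S1311 for all groups with `|F*(G)| < n`. -/
def UgtBelow (n : ℕ) : Prop :=
  ∀ (G : Type u) [Group G] [Finite G], Nat.card ↥(generalizedFittingSubgroup G) < n → UGT G

theorem UgtBelow.mono {m n : ℕ} (h : UgtBelow.{u} n) (hmn : m ≤ n) : UgtBelow.{u} m :=
  fun G _ _ hG => h G (hG.trans_le hmn)

theorem UgtBelow.sb {n : ℕ} (hU : UgtBelow.{u} n) (hk : Known.{u}) {K : Type u} [Group K]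
    [Finite K] [IsSimpleGroup K] (hna : ¬ IsMulCommutative K) (hK : Nat.card K < n) : SB K := by
  refine sb_of_ugt hna (hU _ ?_) hk
  rwa [Nat.card_congr (fstarEquiv hna).toEquiv.symm]

/-! ### the B-property of groups with small simple sections -/

section Small

variable {X : Type u} [Group X]

theorem hasB_of_lt [Finite X] {n : ℕ} (hU : UgtBelow.{u} n) (hk : Known.{u})
    (hX : IsCompositionKGroupWith (fun Y _ => Nat.card Y < n) X) : HasBProperty X :=
  hasB_of_composition fun H hH N _ hs hna => by
    have := hs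
    exact hU.sb hk hna (hX H hH N hs hna)

theorem not_comm_congr {K : Type*} {K' : Type*} [Group K] [Group K'] (e : K ≃* K')
    (h : ¬ IsMulCommutative K) : ¬ IsMulCommutative K' := by
  intro h'
  apply h
  refine ⟨⟨fun a b => ?_⟩⟩
  apply e.injective
  rw [map_mul, map_mul]
  exact h'.is_comm.comm _ _

theorem simple_congr {K : Type*} {K' : Type*} [Group K] [Group K'] (e : K ≃* K')
    (h : IsSimpleGroup K) : IsSimpleGroup K' := by
  have : Nontrivial K' := e.symm.toEquiv.nontrivial
  exact IsSimpleGroup.isSimpleGroup_of_surjective e.toMonoidHom e.surjective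

/-- A predicate on all simple sections passes to sections. -/
theorem isKGroupWith_section {P : ∀ (Y : Type u) [Group Y], Prop}
    (hP : ∀ (Y Y' : Type u) [Group Y] [Group Y'], (Y ≃* Y') → P Y → P Y')
    (hX : IsKGroupWith P X) (H : Subgroup X) (N : Subgroup H) [N.Normal] :
    IsKGroupWith P (H ⧸ N) := by
  intro A M _ hs hna
  let B : Subgroup X := (A.comap (QuotientGroup.mk' N)).map H.subtype
  let e : ↥(A.comap (QuotientGroup.mk' N)) ≃* ↥B :=
    (A.comap (QuotientGroup.mk' N)).equivMapOfInjective _ H.subtype_injective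
  let f : ↥B →* ↥A ⧸ M :=
    ((QuotientGroup.mk' M).comp ((QuotientGroup.mk' N).subgroupComap A)).comp e.symm.toMonoidHom
  have hf : Function.Surjective f := by
    refine ((QuotientGroup.mk'_surjective M).comp ?_).comp e.symm.surjective
    rintro ⟨y, hy⟩
    obtain ⟨x, rfl⟩ := QuotientGroup.mk'_surjective N y
    exact ⟨⟨x, hy⟩, rfl⟩
  let g : ↥B ⧸ f.ker ≃* ↥A ⧸ M := QuotientGroup.quotientKerEquivOfSurjective f hf
  exact hP _ _ g (hX B f.ker (simple_congr g.symm hs) (not_comm_congr g.symm hna))

theorem isComposition_of_isKGroupWith {P : ∀ (Y : Type u) [Group Y], Prop}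
    (hX : IsKGroupWith P X) : IsCompositionKGroupWith P X :=
  fun H _ N _ => hX H N

/-- **(B1)** -/
theorem hasStrongB_of_lt [Finite X] {n : ℕ} (hU : UgtBelow.{u} n) (hk : Known.{u})
    (hX : IsKGroupWith (fun Y _ => Nat.card Y < n) X) : HasStrongBProperty X := by
  intro H N _
  refine hasB_of_lt hU hk (isComposition_of_isKGroupWith (isKGroupWith_section ?_ hX H N))
  intro Y Y' _ _ e h
  rwa [Nat.card_congr e.toEquiv.symm]

theorem isKGroupWith_of_card_lt [Finite X] {n : ℕ} (h : Nat.card X < n) :
    IsKGroupWith (fun Y _ => Nat.card Y < n) X := by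
  intro H N _ _ _
  exact ((Subgroup.card_quotient_dvd_card N).trans (Subgroup.card_subgroup_dvd_card H)
    |> Nat.le_of_dvd Nat.card_pos).trans_lt h

theorem comm_of_solvable_simple {Q : Type*} [Group Q] (hs : IsSimpleGroup Q)
    (h : Group.IsSolvable Q) : IsMulCommutative Q := by
  have := h
  have h1 : commutator Q ≠ ⊤ := by
    intro h2
    have h3 : ∀ n, derivedSeries Q n = ⊤ := by
      intro n
      induction n with
      | zero => rfl
      | succ n ih => rw [derivedSeries_succ, ih, ← commutator_def, h2]
    obtain ⟨n, hn⟩ := h.solvable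
    rw [h3] at hn
    have := hs.toNontrivial
    exact top_ne_bot hn
  have h2 := (hs.eq_bot_or_eq_top_of_normal (commutator Q) inferInstance).resolve_right h1
  refine ⟨⟨fun a b => ?_⟩⟩
  have h3 : ⁅a, b⁆ ∈ commutator Q := Subgroup.commutator_mem_commutator (mem_top a) (mem_top b)
  rw [h2, mem_bot, commutatorElement_eq_one_iff_mul_comm] at h3
  exact h3

/-- Simple sections of an extension of a group of order `< n` by a solvable group. -/
theorem isKGroupWith_of_solvable_quotient [Finite X] {n : ℕ} (J : Subgroup X) [J.Normal]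
    (hsol : Group.IsSolvable (X ⧸ J)) (h : Nat.card J < n) :
    IsKGroupWith (fun Y _ => Nat.card Y < n) X := by
  intro H N _ hs hna
  let K : Subgroup (H ⧸ N) := (J.subgroupOf H).map (QuotientGroup.mk' N)
  have hKn : K.Normal := (inferInstance : (J.subgroupOf H).Normal).map _
    (QuotientGroup.mk'_surjective N)
  rcases hs.eq_bot_or_eq_top_of_normal K hKn with hK | hK
  · exfalso
    apply hna
    refine comm_of_solvable_simple hs ?_
    have h1 : J.subgroupOf H ≤ N := by
      rw [Subgroup.map_eq_bot_iff, QuotientGroup.ker_mk'] at hK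
      exact hK
    -- `H / (J ∩ H)` is solvable
    let φ : ↥H →* X ⧸ J := (QuotientGroup.mk' J).comp H.subtype
    have hφ : φ.ker = J.subgroupOf H := by
      ext x
      rw [MonoidHom.mem_ker, mem_subgroupOf]
      exact QuotientGroup.eq_one_iff (x : X)
    have h2 : Group.IsSolvable (↥H ⧸ φ.ker) :=
      Group.isSolvable_of_isSolvable_injective (QuotientGroup.kerLift_injective φ)
    have h3 : φ.ker ≤ N := hφ.le.trans h1
    exact Group.isSolvable_of_surjective
      (f := QuotientGroup.map φ.ker N (MonoidHom.id _) h3) (by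
        intro y
        obtain ⟨x, rfl⟩ := QuotientGroup.mk'_surjective N y
        exact ⟨QuotientGroup.mk x, rfl⟩)
  · have h1 : Nat.card (H ⧸ N) = Nat.card K := by
      rw [hK, Nat.card_congr (Subgroup.topEquiv (G := H ⧸ N)).toEquiv]
    change Nat.card (H ⧸ N) < n
    rw [h1]
    refine lt_of_le_of_lt ?_ h
    refine (Nat.le_of_dvd Nat.card_pos (Subgroup.card_map_dvd _ _)).trans ?_
    rw [← Subgroup.card_map_of_injective (K := J.subgroupOf H) H.subtype_injective]
    exact Subgroup.card_le_of_le (by rw [subgroupOf_map_subtype]; exact inf_le_left)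

end Small


/-! ### locally balanced groups -/

section Balanced

/-- `F*(H) = Inn J` for `Inn J ≤ H ≤ Aut J`, `J` nonabelian simple. -/
theorem genFitting_between {J : Type u} [Group J] [Finite J] [IsSimpleGroup J]
    (hna : ¬ IsMulCommutative J) {H : Subgroup (MulAut J)}
    (hH : (MulAut.conj : J →* MulAut J).range ≤ H) :
    generalizedFittingSubgroup ↥H = (MulAut.conj : J →* MulAut J).range.subgroupOf H ∧
      Nonempty (J ≃* ↥(generalizedFittingSubgroup ↥H)) := by
  have hc := center_eq_bot hna
  have e : J ≃* ↥((MulAut.conj : J →* MulAut J).range.subgroupOf H) :=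
    (MonoidHom.ofInjective (conj_injective hc)).trans (Subgroup.subgroupOfEquivOfLe hH).symm
  have h1 : generalizedFittingSubgroup ↥H = (MulAut.conj : J →* MulAut J).range.subgroupOf H := by
    have hn := range_conj_normal (K := J)
    refine genFitting_eq inferInstance (simple_congr e inferInstance) (not_comm_congr e hna) ?_
    rw [eq_bot_iff]
    intro x hx
    rw [mem_centralizer_iff] at hx
    have h2 : (x : MulAut J) ∈ Subgroup.centralizer
        ((MulAut.conj : J →* MulAut J).range : Set (MulAut J)) := by
      rw [mem_centralizer_iff]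
      intro y hy
      exact congrArg Subtype.val (hx ⟨y, hH hy⟩ hy)
    rw [centralizer_range_conj hc, mem_bot] at h2
    rw [mem_bot]
    exact Subtype.ext h2
  exact ⟨h1, ⟨e.trans (MulEquiv.subgroupCongr h1.symm)⟩⟩

/-- **(B2)** A nonabelian simple group of order `< n` is on the list or locally balanced. -/
theorem inU_or_locallyBalanced {n : ℕ} (hU : UgtBelow.{u} n) {J : Type u} [Group J] [Finite J]
    [IsSimpleGroup J] (hna : ¬ IsMulCommutative J) (hJ : Nat.card J < n) :
    InU J ∨ IsLocallyBalanced J := by
  by_contra hcon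
  rw [not_or] at hcon
  apply hcon.2
  intro H hH x hx
  by_contra hne
  obtain ⟨-, ⟨e⟩⟩ := genFitting_between hna hH
  have hcard : Nat.card ↥(generalizedFittingSubgroup ↥H) < n := by
    rwa [Nat.card_congr e.toEquiv.symm]
  have h1 : InU ↥(generalizedFittingSubgroup ↥H) :=
    hU ↥H hcard (simple_congr e inferInstance) (not_comm_congr e hna) x hx hne
  exact hcon.1 (h1.congr e.symm)

theorem map_centralizer_singleton {G : Type u} {H : Type v} [Group G] [Group H] (e : G ≃* H)
    (a : G) : (Subgroup.centralizer ({a} : Set G)).map e.toMonoidHom =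
      Subgroup.centralizer ({e a} : Set H) := by
  ext y
  constructor
  · rintro ⟨x, hx, rfl⟩
    rw [SetLike.mem_coe, mem_centralizer_singleton_iff] at hx
    rw [mem_centralizer_singleton_iff]
    change e x * e a = e a * e x
    rw [← map_mul, hx, map_mul]
  · intro hy
    rw [mem_centralizer_singleton_iff] at hy
    refine ⟨e.symm y, ?_, by simp⟩
    rw [SetLike.mem_coe, mem_centralizer_singleton_iff]
    apply e.injective
    simpa using hy

theorem map_core {G : Type u} {H : Type v} [Group G] [Group H] (e : G ≃* H) (p : ℕ) (a : G) :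
    (centralizerPPrimeCore p a).map e.toMonoidHom = centralizerPPrimeCore p (e a) := by
  have h := PLayerAut.relCore_map_equiv p e (Subgroup.centralizer ({a} : Set G))
  rw [map_centralizer_singleton] at h
  exact h.symm

/-- **(B3)** If `F*(H) = J` is nonabelian simple and locally balanced, then `O(C_H(t)) = 1` for all
involutions `t` of `H`. -/
theorem core_eq_bot {H : Type u} [Group H] [Finite H]
    (hs : IsSimpleGroup ↥(generalizedFittingSubgroup H))
    (hna : ¬ IsMulCommutative ↥(generalizedFittingSubgroup H))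
    (hb : IsLocallyBalanced ↥(generalizedFittingSubgroup H)) {t : H} (ht : orderOf t = 2) :
    centralizerPPrimeCore 2 t = ⊥ := by
  have hn : (generalizedFittingSubgroup H).Normal := GenFitting.genFitting_normal
  set F := generalizedFittingSubgroup H with hF
  have hcF : center ↥F = ⊥ := center_eq_bot hna
  let φ : H →* MulAut ↥F := MulAut.conjNormal
  have hφ : Function.Injective φ := by
    rw [injective_iff_map_eq_one]
    intro x hx
    have h1 : x ∈ Subgroup.centralizer (F : Set H) := by
      rw [mem_centralizer_iff]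
      intro y hy
      have h2 := congrArg (fun f : MulAut ↥F => ((f ⟨y, hy⟩ : ↥F) : H)) hx
      simp only [φ, MulAut.conjNormal_apply, MulAut.one_apply] at h2
      rw [mul_inv_eq_iff_eq_mul] at h2
      exact h2.symm
    have h2 : x ∈ F := GenFitting.centralizer_genFitting_le h1
    have h3 : (⟨x, h2⟩ : ↥F) ∈ center ↥F := by
      rw [mem_center_iff]
      intro y
      exact Subtype.ext (mem_centralizer_iff.mp h1 y y.2)
    rw [hcF, mem_bot] at h3
    exact congrArg Subtype.val h3
  have hle : (MulAut.conj : ↥F →* MulAut ↥F).range ≤ φ.range := by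
    rintro _ ⟨y, rfl⟩
    refine ⟨(y : H), ?_⟩
    ext z
    simp [φ, MulAut.conjNormal_apply, MulAut.conj_apply]
  let e : H ≃* ↥φ.range := MonoidHom.ofInjective hφ
  have h1 := hb φ.range hle (e t) (by rwa [MulEquiv.orderOf_eq])
  rw [← map_core] at h1
  exact (Subgroup.map_eq_bot_iff_of_injective _
    (f := e.toMonoidHom) (show Function.Injective e.toMonoidHom from e.injective)).mp h1

/-- **(B4)** `H` with `F*(H) = J` simple of order `< n`, `H / J` solvable: strong B-property. -/
theorem hasStrongB_of_genFitting {n : ℕ} (hU : UgtBelow.{u} n) (hk : Known.{u})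
    {H : Type u} [Group H] [Finite H]
    (hsol : ∀ _ : (generalizedFittingSubgroup H).Normal,
      Group.IsSolvable (H ⧸ generalizedFittingSubgroup H))
    (hlt : Nat.card ↥(generalizedFittingSubgroup H) < n) : HasStrongBProperty H := by
  have hn : (generalizedFittingSubgroup H).Normal := GenFitting.genFitting_normal
  exact hasStrongB_of_lt hU hk
    (isKGroupWith_of_solvable_quotient (generalizedFittingSubgroup H) (hsol hn) hlt)

/-- A group of order `< n` has the strong B-property. -/
theorem hasStrongB_of_card_lt {n : ℕ} (hU : UgtBelow.{u} n) (hk : Known.{u})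
    {H : Type u} [Group H] [Finite H] (hlt : Nat.card H < n) : HasStrongBProperty H :=
  hasStrongB_of_lt hU hk (isKGroupWith_of_card_lt hlt)

end Balanced

/-! ### the B-theorem -/

/-- **S1726** from S1311 and the inputs on the groups of the list. -/
theorem bTheorem {X : Type u} [Group X] [Finite X] (hU : ∀ (G : Type u) [Group G] [Finite G], UGT G)
    (hk : Known.{u}) : HasBProperty X :=
  hasB hasB_of_components hU hk

end Cfsg.Agent.FixBN.BRelative
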