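import Cfsg.Agent.FixBN.FieldRGD
import Cfsg.Agent.Nodes.RGDChev

/-!
helper617: the Chevalley groups `D.group K` (`D` one of `chevG2, chevB2, chevD4, chevF4, chevE6, chevE7, chevE8`, `K`
finite of odd characteristic) have a good split (B, N)-pair.
-/

set_option autoImplicit false
set_option linter.unusedSectionVars false

namespace Cfsg.Agent.FixBN.ChevGood

open CoxeterSystem Cfsg.Agent.ChevalleyStructure.CoxeterGeom Cfsg.Agent.Tits.Roots Cfsg.Agent.Tits.Core
  Cfsg.Agent.Tits.RootComb Cfsg.Agent.Nodes.Comb Cfsg.Agent.Nodes.Reps Cfsg.Agent.Nodes.BNOf Cfsg.Agent.Nodes.BNOf.RGD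
open Cfsg.Lie Cfsg.Agent.ChevalleyStructure Cfsg.Agent.ChevalleyStructure.Elts
  Cfsg.Agent.ChevalleyStructure.NPerm Cfsg.Agent.ChevalleyStructure.CoxeterGeomTypes Cfsg.Agent.Nodes.RGDChev
  Cfsg.Agent.FixBN.FieldRGD
open scoped MatrixGroups

variable {D : ChevalleyDatum} {l : ℕ} {M : CoxeterMatrix (Fin l)} {W : Type*} [Group W] [Finite W]
  (hp : IsType D l M) (cs : CoxeterSystem M W)

/-- The diagonal subgroup is commutative. -/
theorem diag_comm (K : Type*) [Field K] (hp : IsType D l M) {a b : GL D.Idx K} (ha : a ∈ D.diagonalSubgroup K)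
    (hb : b ∈ D.diagonalSubgroup K) : a * b = b * a := by
  obtain ⟨χ, hχ⟩ := HMatDiagAll.mem_torus.1 (HMatDiagAll.diagonalSubgroup_le_torus hp.inList ha)
  obtain ⟨ψ, hψ⟩ := HMatDiagAll.mem_torus.1 (HMatDiagAll.diagonalSubgroup_le_torus hp.inList hb)
  apply Units.ext
  rw [Units.val_mul, Units.val_mul, hχ, hψ, Matrix.diagonal_mul_diagonal, Matrix.diagonal_mul_diagonal]
  congr 1
  funext i
  exact mul_comm _ _

theorem isSolvable_T (K : Type*) [Field K] (hp : IsType D l M) :
    Group.IsSolvable ((D.diagonalSubgroup K).subgroupOf (D.group K)) := by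
  apply Group.isSolvable_of_comm
  rintro ⟨a, ha⟩ ⟨b, hb⟩
  apply Subtype.ext
  apply Subtype.ext
  exact diag_comm K hp (Subgroup.mem_subgroupOf.1 ha) (Subgroup.mem_subgroupOf.1 hb)

/-- **The nodes of the Chevalley groups.** -/
theorem slNode (K : Type) [Field K] [Finite K] (h2 : (2 : K) ≠ 0) (i : Fin l) :
    SLNode cs hp.isCartan ((D.diagonalSubgroup K).subgroupOf (D.group K))
      (fun i => (⟨nn hp K i, nn_mem_group hp i⟩ : ↥(D.group K)))
      (fun x => (XV D l K x).subgroupOf (D.group K)) i := by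
  have h := simple_lt hp.inList (lt_rank hp i)
  obtain ⟨φ, hφ, hφ'⟩ := Cfsg.Agent.S1030.result (F := K) D hp.inList (D.simple i) h
  have hu : ∀ a, φ (uu a) = xG hp.inList (D.simple i) a := fun a => Units.ext ((hφ' (uu a) a).1 rfl)
  have hv : ∀ a, φ (vv a) = xG hp.inList (D.neg (D.simple i)) a := fun a => Units.ext ((hφ' (vv a) a).2 rfl)
  have hw : ∀ b (hb : b ≠ 0), φ (ww b hb) = nG hp.inList (D.simple i) b := by
    intro b hb
    have h1 : ww b hb = uu b * (vv (-b⁻¹) * uu b) := by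
      apply Subtype.ext
      show !![0, b; -b⁻¹, 0] = !![1, b; 0, 1] * (!![1, 0; -b⁻¹, 1] * !![1, b; 0, 1])
      rw [Matrix.mul_fin_two, Matrix.mul_fin_two]
      congr 1
      ext i j
      fin_cases i <;> fin_cases j <;> simp [hb]
    rw [h1, map_mul, map_mul, hu, hv, nG_def]
  have hd : ∀ c (hc : c ≠ 0), φ (dd c hc) = hG hp.inList (D.simple i) c := by
    intro c hc
    have h1 : dd c hc = ww c hc * ww (-1) (neg_ne_zero.2 one_ne_zero) := by
      apply Subtype.ext
      show !![c, 0; 0, c⁻¹] = !![0, c; -c⁻¹, 0] * !![0, -1; -(-1)⁻¹, 0]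
      rw [Matrix.mul_fin_two]
      congr 1
      ext i j
      fin_cases i <;> fin_cases j <;> simp
    rw [h1, map_mul, hw, hw, hG_def]
  have hmem : ∀ g, φ g ∈ D.group K := by
    intro g
    have h1 : φ g ∈ D.rootSubgroup K (D.simple i) ⊔ D.rootSubgroup K (D.neg (D.simple i)) := by
      rw [← hφ]; exact ⟨g, rfl⟩
    rw [← XV_sr hp, ← XV_neg_sr hp] at h1
    exact sup_le (XV_le_group hp _) (XV_le_group hp _) h1
  refine ⟨K, inferInstance, inferInstance, φ.codRestrict (D.group K) hmem, 1, one_ne_zero, h2, ?_, ?_, ?_, ?_⟩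
  · rintro ⟨y, hy⟩
    rw [Subgroup.mem_subgroupOf, XV_sr hp]
    show y ∈ D.rootSubgroup K (D.simple i) ↔ _
    rw [mem_rootSubgroup_iff hp.inList]
    constructor
    · rintro ⟨t, rfl⟩
      exact ⟨t, Subtype.ext (hu t)⟩
    · rintro ⟨t, ht⟩
      have h1 : φ (uu t) = y := congrArg Subtype.val ht
      exact ⟨t, by rw [← h1, hu]⟩
  · intro a ha
    have h1 : φ (uu a) = 1 := congrArg Subtype.val ha
    rw [hu] at h1
    have h3 : xG hp.inList (D.simple i) a = xG hp.inList (D.simple i) 0 := by rw [h1, xG_zero]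
    exact xG_injective hp.inList h h3
  · intro c hc
    refine T_le_B ?_
    rw [Subgroup.mem_subgroupOf]
    show φ (dd c hc) ∈ _
    rw [hd]
    exact hG_mem_diagonal hp.inList h hc
  · apply Subtype.ext
    exact hw 1 one_ne_zero

/-- **The Chevalley groups have good split (B, N)-pairs.** -/
theorem hasGoodSplit_group (K : Type) [Field K] [Finite K] (p : ℕ) [CharP K p] (hp2 : p ≠ 2)
    (hp : IsType D l M) [Nonempty (Fin l)] [IsSimpleGroup ↥(D.group K)] : HasGoodSplit p ↥(D.group K) := by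
  have hpp : p.Prime := CharP.char_is_prime K p
  have : Fact p.Prime := ⟨hpp⟩
  have : Finite M.Group := finite_W hp M.toCoxeterSystem
  have h2 : (2 : K) ≠ 0 := by
    intro h0
    have h1 : ((2 : ℕ) : K) = 0 := by exact_mod_cast h0
    rw [CharP.cast_eq_zero_iff K p] at h1
    exact hp2 ((Nat.prime_dvd_prime_iff_eq hpp Nat.prime_two).1 h1)
  refine hasGoodSplit_of_rgd hpp (rgd (K := K) hp M.toCoxeterSystem p) (gen hp M.toCoxeterSystem p)
    (isSolvable_T K hp) fun i => ?_
  exact goodNode_of_sl _ _ (slNode hp M.toCoxeterSystem K h2 i)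

end Cfsg.Agent.FixBN.ChevGood
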