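import Mathlib
import Cfsg.Agent.Tits.Core
import Cfsg.Agent.Tits.Exchange
import Cfsg.Agent.Tits.OppRes
import Cfsg.Agent.FixBN.Cox
/-!
A lemma on Coxeter groups for (T3): a group of left translations which preserves a finite set `K`
containing `1`, closed under right descents, with commuting descent sets, has exponent two.
-/

set_option autoImplicit false
set_option linter.unusedSectionVars false

namespace Cfsg.Agent.FixBN.CoxTwo

open Cfsg.Agent.Tits.Core Cfsg.Agent.Tits.Exchange Cfsg.Agent.Tits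

variable {I : Type*} {M : CoxeterMatrix I} {W : Type*} [Group W] {cs : CoxeterSystem M W}
  [F : OppRes.Cox cs]

local prefix:100 "ℓ" => cs.length
local prefix:100 "s" => cs.simple

/-- An element of a coset all of whose right descents contain `A` is the longest one. -/
theorem eq_mul_wJ {A : Set I} {v u : W} (hv : IsMinR cs A v) (hu : u ∈ WJ cs A)
    (h : ∀ i ∈ A, ℓ (v * u * s i) < ℓ (v * u)) : u = wJ cs A := by
  refine F.eq_wJ_of_descents hu fun i hi => ?_
  have h1 := h i hi
  rw [mul_assoc, hv _ (mul_mem hu (simple_mem_WJ cs hi)), hv _ hu] at h1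
  omega

variable {K : Set W}
  (hd : ∀ w ∈ K, ∀ i, cs.length (w * cs.simple i) < cs.length w → w * cs.simple i ∈ K)

include hd

/-- With `w` also its residue of type contained in the descent set lies in `K`. -/
theorem coset_mem {A : Set I} {w : W} (hw : w ∈ K) (hA : ∀ i ∈ A, ℓ (w * s i) < ℓ w) {u : W}
    (hu : u ∈ WJ cs A) : w * u ∈ K := by
  obtain ⟨v, hv, u₀, hu₀, rfl⟩ := exists_isMinR cs A w
  have h0 : u₀ = wJ cs A := eq_mul_wJ hv hu₀ hA
  subst h0
  -- all `v u` lie in `K`, by downward induction on the length of `u`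
  have key : ∀ n : ℕ, ∀ u ∈ WJ cs A, ℓ (wJ cs A) - ℓ u ≤ n → v * u ∈ K := by
    intro n
    induction n with
    | zero =>
      intro u hu hn
      have h1 : u = wJ cs A := by
        have h2 := F.len_wJ_mul hu
        have h3 : wJ cs A * u = 1 := cs.length_eq_zero_iff.1 (by omega)
        rw [← F.wJ_inv A]
        exact eq_inv_of_mul_eq_one_right h3
      rw [h1]; exact hw
    | succ n ih =>
      intro u hu hn
      by_cases h1 : ∀ i ∈ A, ℓ (u * s i) < ℓ u
      · rw [F.eq_wJ_of_descents hu h1]; exact hw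
      · push Not at h1
        obtain ⟨i, hi, h2⟩ := h1
        have h3 : ℓ (u * s i) = ℓ u + 1 := by
          rcases cs.length_mul_simple u i with h | h
          · exact h
          · omega
        have h4 := ih (u * s i) (mul_mem hu (simple_mem_WJ cs hi)) (by omega)
        have h5 := hd _ h4 i (by
          rw [mul_assoc, mul_assoc, cs.simple_mul_simple_self, mul_one, hv _ hu,
            hv _ (mul_mem hu (simple_mem_WJ cs hi))]
          omega)
        rwa [mul_assoc, mul_assoc, cs.simple_mul_simple_self, mul_one] at h5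
  rw [mul_assoc]
  exact key _ _ (mul_mem (F.wJ_mem A) hu) le_rfl

omit hd

/-- the cosets of `W_A` contained in `K` -/
def XA (cs : CoxeterSystem M W) (K : Set W) (A : Set I) : Set (W ⧸ WJ cs A) :=
  {c | ∀ w : W, (QuotientGroup.mk w : W ⧸ WJ cs A) = c → w ∈ K}

include hd

/-- the number of cosets of `W_A` in `K` is the number of elements of `K` with `A` in the descent
set -/
theorem card_XA (A : Set I) :
    Nat.card (XA cs K A) = Nat.card {w : W // w ∈ K ∧ ∀ i ∈ A, ℓ (w * s i) < ℓ w} := by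
  symm
  refine Nat.card_congr (Equiv.ofBijective
    (fun w => (⟨QuotientGroup.mk w.1, fun w' hw' => ?_⟩ : XA cs K A)) ⟨?_, ?_⟩)
  · rw [eq_comm, QuotientGroup.eq] at hw'
    have h1 := coset_mem hd w.2.1 w.2.2 hw'
    rwa [mul_inv_cancel_left] at h1
  · rintro ⟨w, hw, hwA⟩ ⟨w', hw', hwA'⟩ h
    have h1 : (QuotientGroup.mk w : W ⧸ WJ cs A) = QuotientGroup.mk w' := congrArg Subtype.val h
    rw [QuotientGroup.eq] at h1
    obtain ⟨v, hv, u, hu, rfl⟩ := exists_isMinR cs A w
    have h2 : w' = v * (u * ((v * u)⁻¹ * w')) := by group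
    have h3 : u * ((v * u)⁻¹ * w') ∈ WJ cs A := mul_mem hu h1
    have h4 := eq_mul_wJ hv hu hwA
    have h5 := eq_mul_wJ hv h3 (by rw [← h2]; exact hwA')
    apply Subtype.ext
    change v * u = w'
    rw [h2, h5, h4]
  · rintro ⟨c, hc⟩
    obtain ⟨w, rfl⟩ := QuotientGroup.mk_surjective c
    obtain ⟨v, hv, u, hu, rfl⟩ := exists_isMinR cs A w
    have h1 : (QuotientGroup.mk (v * wJ cs A) : W ⧸ WJ cs A) = QuotientGroup.mk (v * u) := by
      rw [QuotientGroup.eq]
      have : (v * wJ cs A)⁻¹ * (v * u) = (wJ cs A)⁻¹ * u := by group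
      rw [this]
      exact mul_mem (inv_mem (F.wJ_mem A)) hu
    refine ⟨⟨v * wJ cs A, hc _ h1, fun i hi => ?_⟩, Subtype.ext h1⟩
    have h2 := F.len_wJ_mul (simple_mem_WJ cs hi)
    rw [cs.length_simple] at h2
    rw [mul_assoc, hv _ (mul_mem (F.wJ_mem A) (simple_mem_WJ cs hi)), hv _ (F.wJ_mem A)]
    omega

/-- the alternating sum is `1` -/
theorem sum_XA [Fintype I] [DecidableEq I] (hfin : K.Finite) (h1 : (1 : W) ∈ K) :
    ∑ A : Finset I, (-1 : ℤ) ^ A.card * (Nat.card (XA cs K (A : Set I)) : ℤ) = 1 := by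
  classical
  have : Fintype K := hfin.fintype
  have h2 : ∀ A : Finset I, (Nat.card (XA cs K (A : Set I)) : ℤ) =
      ∑ w : K, if A ⊆ Finset.univ.filter (fun i => ℓ (w.1 * s i) < ℓ w.1) then 1 else 0 := by
    intro A
    rw [card_XA hd, Finset.sum_boole]
    congr 1
    rw [← Fintype.card_subtype, ← Nat.card_eq_fintype_card]
    refine Nat.card_congr
      { toFun := fun w => ⟨⟨w.1, w.2.1⟩, fun i hi => by
          rw [Finset.mem_filter]; exact ⟨Finset.mem_univ i, w.2.2 i hi⟩⟩
        invFun := fun w => ⟨w.1.1, w.1.2, fun i hi => (Finset.mem_filter.1 (w.2 hi)).2⟩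
        left_inv := fun w => rfl
        right_inv := fun w => rfl }
  simp only [h2, Finset.mul_sum]
  rw [Finset.sum_comm]
  have h3 : ∀ w : K, ∑ A : Finset I, (-1 : ℤ) ^ A.card *
      (if A ⊆ Finset.univ.filter (fun i => ℓ (w.1 * s i) < ℓ w.1) then 1 else 0) =
      if (w : W) = 1 then 1 else 0 := by
    intro w
    simp only [mul_ite, mul_one, mul_zero]
    rw [← Finset.sum_filter]
    have h4 : (Finset.univ.filter fun A : Finset I =>
        A ⊆ Finset.univ.filter (fun i => ℓ (w.1 * s i) < ℓ w.1)) =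
        (Finset.univ.filter (fun i => ℓ (w.1 * s i) < ℓ w.1)).powerset := by
      ext A
      simp
    rw [h4, Finset.sum_powerset_neg_one_pow_card]
    congr 1
    rw [Finset.filter_eq_empty_iff, eq_iff_iff]
    constructor
    · intro h5
      by_contra hne
      obtain ⟨i, hi⟩ := cs.exists_rightDescent_of_ne_one hne
      exact h5 (Finset.mem_univ i) hi
    · intro h5 i _
      rw [h5, cs.length_one]
      omega
  rw [Finset.sum_congr rfl fun w _ => h3 w, Finset.sum_eq_single (⟨1, h1⟩ : K)]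
  · rw [if_pos rfl]
  · intro w _ hw
    rw [if_neg]
    intro h4
    exact hw (Subtype.ext h4)
  · intro h4
    exact absurd (Finset.mem_univ _) h4

/-- Elements of prime power order. -/
theorem sq_of_prime_pow [Finite I] (hfin : K.Finite) (h1 : (1 : W) ∈ K)
    (hc : ∀ w ∈ K, ∀ i j, cs.length (w * cs.simple i) < cs.length w →
      cs.length (w * cs.simple j) < cs.length w →
      cs.simple i * cs.simple j = cs.simple j * cs.simple i)
    {g : W} (hg : ∀ n : ℤ, ∀ w ∈ K, g ^ n * w ∈ K) {r k : ℕ} [hr : Fact r.Prime]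
    (hgr : orderOf g = r ^ k) : g * g = 1 := by
  classical
  have := Fintype.ofFinite I
  set H : Subgroup W := Subgroup.zpowers g with hH
  have hHp : IsPGroup r H := IsPGroup.of_card (n := k) (by rw [Nat.card_zpowers, hgr])
  have hHK : ∀ h ∈ H, ∀ w ∈ K, h * w ∈ K := by
    rintro h ⟨n, rfl⟩ w hw
    exact hg n w hw
  -- a coset fixed by `H`
  have hex : ∃ A : Finset I, ∃ c ∈ XA cs K (A : Set I), ∀ h ∈ H, h • c = c := by
    by_contra hcon
    push Not at hcon
    have hdvd : ∀ A : Finset I, (r : ℤ) ∣ (Nat.card (XA cs K (A : Set I)) : ℤ) := by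
      intro A
      have hinv : ∀ h ∈ H, ∀ c ∈ XA cs K (A : Set I), h • c ∈ XA cs K (A : Set I) := by
        intro h hh c hc w hw
        have h2 : (QuotientGroup.mk (h⁻¹ * w) : W ⧸ WJ cs (A : Set I)) = c := by
          have h3 : (QuotientGroup.mk (h⁻¹ * w) : W ⧸ WJ cs (A : Set I)) =
              h⁻¹ • (QuotientGroup.mk w : W ⧸ WJ cs (A : Set I)) := rfl
          rw [h3, hw, inv_smul_smul]
        have h4 := hHK h hh _ (hc _ h2)
        rwa [mul_inv_cancel_left] at h4
      let act : MulAction H (XA cs K (A : Set I)) :=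
        { smul := fun h c => ⟨h.1 • c.1, hinv h.1 h.2 c.1 c.2⟩
          one_smul := fun c => Subtype.ext (one_smul W c.1)
          mul_smul := fun a b c => Subtype.ext (mul_smul a.1 b.1 c.1) }
      have hf : Finite (XA cs K (A : Set I)) := by
        refine Set.Finite.to_subtype ((hfin.image fun w =>
          (QuotientGroup.mk w : W ⧸ WJ cs (A : Set I))).subset ?_)
        intro c hc
        obtain ⟨w, rfl⟩ := QuotientGroup.mk_surjective c
        exact ⟨w, hc w rfl, rfl⟩
      have h2 := hHp.card_modEq_card_fixedPoints (XA cs K (A : Set I))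
      have h3 : Nat.card (MulAction.fixedPoints H (XA cs K (A : Set I))) = 0 := by
        rw [Nat.card_eq_zero]
        left
        constructor
        rintro ⟨c, hc⟩
        obtain ⟨h, hh, hne⟩ := hcon A c.1 c.2
        exact hne (congrArg Subtype.val (hc ⟨h, hh⟩))
      rw [h3] at h2
      exact Int.natCast_dvd_natCast.2 ((Nat.modEq_zero_iff_dvd).1 h2)
    have h2 := sum_XA hd hfin h1
    have h3 : (r : ℤ) ∣ 1 := by
      rw [← h2]
      exact Finset.dvd_sum fun A _ => (hdvd A).mul_left _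
    have h4 : r ∣ 1 := by exact_mod_cast h3
    exact hr.1.one_lt.ne' (Nat.dvd_one.1 h4)
  obtain ⟨A, c, hcA, hfix⟩ := hex
  obtain ⟨w, rfl⟩ := QuotientGroup.mk_surjective c
  have h2 := hfix g (Subgroup.mem_zpowers g)
  have h3 : (QuotientGroup.mk (g * w) : W ⧸ WJ cs (A : Set I)) = QuotientGroup.mk w := h2
  rw [eq_comm, QuotientGroup.eq] at h3
  -- the type `A` is commuting
  obtain ⟨v, hv, u, hu, rfl⟩ := exists_isMinR cs (A : Set I) w
  have h4 : (QuotientGroup.mk (v * wJ cs (A : Set I)) : W ⧸ WJ cs (A : Set I)) =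
      QuotientGroup.mk (v * u) := by
    rw [QuotientGroup.eq]
    have : (v * wJ cs (A : Set I))⁻¹ * (v * u) = (wJ cs (A : Set I))⁻¹ * u := by group
    rw [this]
    exact mul_mem (inv_mem (F.wJ_mem _)) hu
  have h5 := hcA _ h4
  have hdesc : ∀ i ∈ A, ℓ (v * wJ cs (A : Set I) * s i) < ℓ (v * wJ cs (A : Set I)) := by
    intro i hi
    have hi' : i ∈ (A : Set I) := hi
    have h2 := F.len_wJ_mul (simple_mem_WJ cs hi')
    rw [cs.length_simple] at h2
    rw [mul_assoc, hv _ (mul_mem (F.wJ_mem _) (simple_mem_WJ cs hi')), hv _ (F.wJ_mem _)]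
    omega
  have hcomm : ∀ i ∈ A, ∀ j ∈ A, s i * s j = s j * s i := fun i hi j hj =>
    hc _ h5 i j (hdesc i hi) (hdesc j hj)
  -- `W_A` is elementary abelian
  have hab1 : ∀ i ∈ A, ∀ x ∈ WJ cs (A : Set I), s i * x = x * s i := by
    intro i hi x hx
    have h6 : WJ cs (A : Set I) ≤ Subgroup.centralizer {s i} := by
      refine (Subgroup.closure_le _).2 ?_
      rintro _ ⟨j, hj, rfl⟩
      rw [SetLike.mem_coe, Subgroup.mem_centralizer_singleton_iff]
      exact (hcomm i hi j hj).symm
    exact (Subgroup.mem_centralizer_singleton_iff.1 (h6 hx)).symm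
  have hsq : ∀ x ∈ WJ cs (A : Set I), x * x = 1 := by
    intro x hx
    obtain ⟨ω, hω, rfl⟩ := exists_word_of_mem_WJ cs hx
    clear hx
    induction ω with
    | nil => simp
    | cons i ω ih =>
      have hi : i ∈ A := hω i (by simp)
      have hω' : ∀ k ∈ ω, k ∈ (A : Set I) := fun k hk => hω k (by simp [hk])
      have h7 := hab1 i hi _ (wordProd_mem_WJ cs hω')
      rw [cs.wordProd_cons]
      calc s i * cs.wordProd ω * (s i * cs.wordProd ω)
          = cs.wordProd ω * s i * (s i * cs.wordProd ω) :=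
            congrArg (fun y => y * (s i * cs.wordProd ω)) h7
        _ = cs.wordProd ω * (s i * s i) * cs.wordProd ω := by simp only [mul_assoc]
        _ = cs.wordProd ω * cs.wordProd ω := by rw [cs.simple_mul_simple_self, mul_one]
        _ = 1 := ih hω'
  have h6 := hsq _ h3
  have h7 : g * g = (v * u) * (((v * u)⁻¹ * (g * (v * u))) * ((v * u)⁻¹ * (g * (v * u)))) *
      (v * u)⁻¹ := by group
  rw [h7, h6, mul_one, mul_inv_cancel]

/-- **The Coxeter lemma of (T3).** -/
theorem sq_eq_one [Finite I] (hfin : K.Finite) (h1 : (1 : W) ∈ K)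
    (hc : ∀ w ∈ K, ∀ i j, cs.length (w * cs.simple i) < cs.length w →
      cs.length (w * cs.simple j) < cs.length w →
      cs.simple i * cs.simple j = cs.simple j * cs.simple i)
    {Ω : Subgroup W} (hΩ : ∀ g ∈ Ω, ∀ w ∈ K, g * w ∈ K) {g : W} (hg : g ∈ Ω) : g * g = 1 := by
  have hpow : ∀ n : ℤ, g ^ n ∈ K := by
    intro n
    have h2 := hΩ (g ^ n) (Subgroup.zpow_mem Ω hg n) 1 h1
    rwa [mul_one] at h2
  have hfo : IsOfFinOrder g := by
    rw [← finite_zpowers]
    refine hfin.subset ?_
    rintro _ ⟨n, rfl⟩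
    exact hpow n
  have hdvd : orderOf g ∣ 2 := by
    rw [Nat.dvd_iff_prime_pow_dvd_dvd]
    intro r k hr hrk
    have : Fact r.Prime := ⟨hr⟩
    obtain ⟨m, hm⟩ := hrk
    have hpos := hfo.orderOf_pos
    have hm0 : m ≠ 0 := by rintro rfl; omega
    have h2 : orderOf (g ^ m) = r ^ k := by
      rw [orderOf_pow_of_dvd hm0 ⟨r ^ k, by rw [hm, mul_comm]⟩, hm]
      exact Nat.mul_div_cancel _ (Nat.pos_of_ne_zero hm0)
    have h3 := sq_of_prime_pow hd hfin h1 hc (g := g ^ m) (r := r) (k := k)
      (fun n w hw => hΩ _ (Subgroup.zpow_mem Ω (Subgroup.pow_mem Ω hg m) n) w hw) h2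
    rw [← h2]
    exact orderOf_dvd_of_pow_eq_one (by rw [pow_two, h3])
  have h2 := orderOf_dvd_iff_pow_eq_one.1 hdvd
  rwa [pow_two] at h2

end Cfsg.Agent.FixBN.CoxTwo
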