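import Mathlib
import Cfsg.Agent.FixBN.Cox
/-!
Further facts on Coxeter groups with a diagram automorphism, for THEOREM FIX: adjacency data.
-/

set_option autoImplicit false
set_option linter.unusedSectionVars false

namespace Cfsg.Agent.FixBN.Cox

open Cfsg.Agent.Tits.Core Cfsg.Agent.Tits.Exchange Cfsg.Agent.Tits

variable {I : Type*} {M : CoxeterMatrix I} {W : Type*} [Group W] {cs : CoxeterSystem M W}

local prefix:100 "ℓ" => cs.length

variable [F : OppRes.Cox cs]

/-- Minimal double coset representatives are determined by `w * wJ J'`. -/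
theorem eq_of_double {J J' : Set I} {w w' : W} (hL : IsMinL cs J w) (hR : IsMinR cs J' w)
    (hL' : IsMinL cs J w') (hR' : IsMinR cs J' w') (h : w * wJ cs J' = wJ cs J * w') :
    w' = w := by
  have key : ∀ k ∈ J, ∃ j ∈ J', cs.simple k * w = w * cs.simple j := by
    intro k hk
    have h1 : ¬ IsMinR cs J' (cs.simple k * w) := by
      intro h2
      have h3 := h2 _ (F.wJ_mem J')
      rw [mul_assoc, h, ← mul_assoc] at h3
      have h4 := hL' _ (mul_mem (simple_mem_WJ cs hk) (F.wJ_mem J))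
      have h5 := F.len_mul_wJ (simple_mem_WJ cs hk)
      have h6 := hL _ (simple_mem_WJ cs hk)
      have h7 := hR _ (F.wJ_mem J')
      have h8 := hL' _ (F.wJ_mem J)
      rw [h] at h7
      rw [cs.length_simple] at h5 h6
      omega
    rw [isMinR_iff] at h1
    push Not at h1
    obtain ⟨j, hj, h2⟩ := h1
    refine ⟨j, hj, ?_⟩
    have h3 : ℓ (cs.simple k * w) = ℓ w + 1 := by
      rw [hL _ (simple_mem_WJ cs hk), cs.length_simple]; omega
    have h4 : ℓ (w * cs.simple j) = ℓ w + 1 := by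
      rw [hR _ (simple_mem_WJ cs hj), cs.length_simple]
    rcases fold cs h3 h4 with h5 | h5
    · omega
    · exact h5
  have h2 : ∀ a ∈ WJ cs J, ∃ c ∈ WJ cs J', a * w = w * c := by
    intro a ha
    obtain ⟨ω, hω, rfl⟩ := exists_word_of_mem_WJ cs ha
    clear ha
    induction ω with
    | nil => exact ⟨1, one_mem _, by simp⟩
    | cons i ω ih =>
      obtain ⟨c, hc, he⟩ := ih fun j hj => hω j (by simp [hj])
      obtain ⟨k, hk, hk'⟩ := key i (hω i (by simp))
      refine ⟨cs.simple k * c, mul_mem (simple_mem_WJ cs hk) hc, ?_⟩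
      rw [cs.wordProd_cons, mul_assoc, he, ← mul_assoc, hk', mul_assoc]
  obtain ⟨c, hc, he⟩ := h2 _ (F.wJ_mem J)
  refine hR.unique cs hR' (u := c * wJ cs J') (mul_mem hc (F.wJ_mem J')) ?_
  calc w' = wJ cs J * (wJ cs J * w') := by rw [← mul_assoc, F.wJ_mul_self, one_mul]
    _ = wJ cs J * w * wJ cs J' := by rw [← h, mul_assoc]
    _ = _ := by rw [he, mul_assoc]

theorem subset_of_wJ_eq {J K : Set I} (h : wJ cs J = wJ cs K) : J ⊆ K := by
  intro j hj
  refine F.descent_mem K _ (F.wJ_mem K) j ?_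
  have h1 := F.len_wJ_mul (simple_mem_WJ cs hj)
  rw [cs.length_simple] at h1
  rw [← h]
  omega

theorem wJ_inj {J K : Set I} (h : wJ cs J = wJ cs K) : J = K :=
  Set.Subset.antisymm (subset_of_wJ_eq h) (subset_of_wJ_eq h.symm)

theorem Par.eq_of_one {J J' : Set I} (h : Par cs J J' 1) : J = J' := by
  refine wJ_inj (cs := cs) ?_
  have := h.longest
  rw [one_mul, mul_one] at this
  exact this.symm

theorem par_one (J : Set I) : Par cs J J 1 :=
  ⟨fun j hj => ⟨j, hj, by simp⟩, fun j hj => ⟨j, hj, by simp⟩, isMinL_one cs J, isMinR_one cs J⟩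

/-- a parallel element which lies in `W_T` for one of the two types is trivial -/
theorem Par.eq_one_of_mem {J J' : Set I} {w : W} (h : Par cs J J' w) (hw : w ∈ WJ cs J) : w = 1 := by
  have h1 := h.minL _ (inv_mem hw)
  rw [inv_mul_cancel, cs.length_one, cs.length_inv] at h1
  exact cs.length_eq_zero_iff.1 (by omega)

/-- Adjacency data: `J''` and `J'` are opposite in `T`. -/
structure Ad (cs : CoxeterSystem M W) (φ : W ≃* W) (σ : I → I) (T J'' J' : Set I) (b : W) : Prop where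
  stT : ∀ i ∈ T, σ i ∈ T
  st'' : ∀ i ∈ J'', σ i ∈ J''
  st' : ∀ i ∈ J', σ i ∈ J'
  sub'' : J'' ⊆ T
  sub' : J' ⊆ T
  mem : b ∈ WJ cs T
  fix : φ b = b
  par : Par cs J'' J' b
  long : b * wJ cs J' = wJ cs T

namespace Ad

variable {φ : W ≃* W} {σ : I → I} {T J'' J' : Set I} {b : W}

theorem long' (h : Ad cs φ σ T J'' J' b) : wJ cs J'' * b = wJ cs T := by
  rw [← h.par.longest, h.long]

theorem symm (h : Ad cs φ σ T J'' J' b) : Ad cs φ σ T J' J'' b⁻¹ := by
  refine ⟨h.stT, h.st', h.st'', h.sub', h.sub'', inv_mem h.mem, ?_, h.par.symm, ?_⟩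
  · rw [map_inv, h.fix]
  · have h1 := congrArg (fun z => z⁻¹) h.long'
    simp only [mul_inv_rev, F.wJ_inv] at h1
    exact h1

end Ad

section Twist

variable {φ : W ≃* W} {σ : I → I} (hφ : ∀ i, φ (cs.simple i) = cs.simple (σ i))
  (hσ : ∀ i, σ (σ i) = i)

include hφ hσ

theorem exists_ad {T J : Set I} (hT : ∀ i ∈ T, σ i ∈ T) (hJ : ∀ i ∈ J, σ i ∈ J) (hJT : J ⊆ T) :
    ∃ J' b, Ad cs φ σ T J J' b := by
  obtain ⟨b, hb⟩ : ∃ b, b = wJ cs J * wJ cs T := ⟨_, rfl⟩
  have hφb : φ b = b := by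
    rw [hb, map_mul, map_wJ hφ hσ hJ, map_wJ hφ hσ hT]
  have hbT : b ∈ WJ cs T := by
    rw [hb]; exact mul_mem (WJ_mono cs hJT (F.wJ_mem J)) (F.wJ_mem T)
  have hbwd : ∀ k ∈ J, ∃ j ∈ T, cs.simple k * b = b * cs.simple j := by
    intro k hk
    obtain ⟨k', hk', h1⟩ := F.exists_opJ hk
    obtain ⟨j, hj, h2⟩ := F.exists_opJ (hJT hk')
    refine ⟨j, hj, ?_⟩
    rw [hb, ← mul_assoc, ← h1, mul_assoc, ← h2, mul_assoc]
  have hL : IsMinL cs J b := by
    intro a ha
    have h1 := F.len_mul_wJ (WJ_mono cs hJT (mul_mem ha (F.wJ_mem J)))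
    have h2 := F.len_mul_wJ (WJ_mono cs hJT (F.wJ_mem J))
    have h3 := F.len_mul_wJ ha
    rw [mul_assoc, ← hb] at h1
    rw [← hb] at h2
    omega
  have hfwd : ∀ j ∈ ({j | j ∈ T ∧ ∃ k ∈ J, cs.simple k * b = b * cs.simple j} : Set I),
      ∃ k ∈ J, b * cs.simple j = cs.simple k * b := by
    rintro j ⟨_, k, hk, he⟩
    exact ⟨k, hk, he.symm⟩
  have hpar : Par cs J {j | j ∈ T ∧ ∃ k ∈ J, cs.simple k * b = b * cs.simple j} b := by
    refine ⟨hfwd, fun k hk => ?_, hL, ?_⟩
    · obtain ⟨j, hj, he⟩ := hbwd k hk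
      exact ⟨j, ⟨hj, k, hk, he⟩, he⟩
    · rw [isMinR_iff]
      intro j hj
      obtain ⟨k, hk, he⟩ := hfwd j hj
      rw [he, hL _ (simple_mem_WJ cs hk), cs.length_simple]
      omega
  refine ⟨_, b, hT, hJ, ?_, hJT, fun j hj => hj.1, hbT, hφb, hpar, ?_⟩
  · rintro j ⟨hj, k, hk, he⟩
    refine ⟨hT j hj, σ k, hJ k hk, ?_⟩
    have h1 := congrArg φ he
    rwa [map_mul, map_mul, hφ, hφ, hφb] at h1
  · rw [hpar.longest, hb, ← mul_assoc, F.wJ_mul_self, one_mul]

/-- A panel seen from the other side. -/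
theorem Ad.panel {T J'' J' : Set I} {b : W} (h : Ad cs φ σ T J'' J' b) {i : I}
    (hT : T = J' ∪ {i, σ i}) : ∃ k, T = J'' ∪ {k, σ k} := by
  have hiT : i ∈ T := by rw [hT]; right; simp
  obtain ⟨k, hkT, hk⟩ := F.exists_opJ hiT
  refine ⟨k, Set.Subset.antisymm ?_ ?_⟩
  · intro l hl
    obtain ⟨m, hmT, hm⟩ := F.exists_opJ hl
    -- `w_T s_m = s_l w_T`
    have hsl : cs.simple l = wJ cs T * cs.simple m * wJ cs T := by
      rw [hm, mul_assoc, F.wJ_mul_self, mul_one]
    have hsk : cs.simple k = wJ cs T * cs.simple i * wJ cs T := by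
      rw [mul_assoc, ← hk, ← mul_assoc, F.wJ_mul_self, one_mul]
    rw [hT] at hmT
    rcases hmT with hmJ | hmi | hmi
    · left
      obtain ⟨m', hm', h1⟩ := F.exists_opJ hmJ
      obtain ⟨k', hk', h2⟩ := h.par.fwd m' hm'
      have h3 : cs.simple l = cs.simple k' := by
        have h4 : b = wJ cs T * wJ cs J' := by
          rw [← h.long, mul_assoc, F.wJ_mul_self, mul_one]
        calc cs.simple l = wJ cs T * (cs.simple m * wJ cs J') * wJ cs J' * wJ cs T := by
              rw [hsl]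
              simp only [mul_assoc]
              rw [← mul_assoc (wJ cs J') (wJ cs J'), F.wJ_mul_self, one_mul]
          _ = wJ cs T * (wJ cs J' * cs.simple m') * wJ cs J' * wJ cs T := by rw [h1]
          _ = b * cs.simple m' * wJ cs J' * wJ cs T := by rw [h4]; simp only [mul_assoc]
          _ = cs.simple k' * b * wJ cs J' * wJ cs T := by rw [h2]
          _ = cs.simple k' := by
            rw [mul_assoc (cs.simple k'), h.long, mul_assoc, F.wJ_mul_self, mul_one]
      rw [F.inj h3]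
      exact hk'
    · right; left
      apply F.inj
      rw [hsl, hsk, hmi]
    · right; right
      rw [Set.mem_singleton_iff] at hmi ⊢
      apply F.inj
      rw [hsl, hmi, ← hφ, ← hφ, hsk, map_mul, map_mul, map_wJ hφ hσ h.stT]
  · rintro l (hl | hl | hl)
    · exact h.sub'' hl
    · rw [hl]; exact hkT
    · rw [Set.mem_singleton_iff] at hl
      rw [hl]; exact h.stT k hkT

/-- In a panel there is a single nontrivial relative position. -/
theorem Ad.eq_of_par {T J'' J' : Set I} {b : W} (h : Ad cs φ σ T J'' J' b) {k : I}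
    (hT : T = J'' ∪ {k, σ k}) {K : Set I} {b' : W} (hpar : Par cs J'' K b') (hKT : K ⊆ T)
    (hb' : b' ∈ WJ cs T) (hφb' : φ b' = b') (hne : b' ≠ 1) : b' = b ∧ K = J' := by
  -- left descents of `b'`
  have hdesc : ∀ l, ℓ (cs.simple l * b') < ℓ b' → l ∈ T := by
    intro l hl
    refine F.descent_mem T _ (inv_mem hb') l ?_
    have h1 := cs.length_inv (cs.simple l * b')
    rw [mul_inv_rev, cs.inv_simple] at h1
    rw [h1, cs.length_inv]
    exact hl
  obtain ⟨l, hl⟩ : ∃ l, ℓ (cs.simple l * b') < ℓ b' := by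
    obtain ⟨l, hl⟩ := cs.exists_leftDescent_of_ne_one hne
    exact ⟨l, hl⟩
  have hlσ : ℓ (cs.simple (σ l) * b') < ℓ b' := by
    rw [← length_map hφ hσ (cs.simple (σ l) * b'), map_mul, hφ, hσ, hφb']
    exact hl
  have hlT := hdesc l hl
  have hk : ℓ (cs.simple k * b') < ℓ b' ∧ ℓ (cs.simple (σ k) * b') < ℓ b' := by
    rw [hT] at hlT
    rcases hlT with h1 | h1 | h1
    · exfalso
      have h2 := hpar.minL _ (simple_mem_WJ cs h1)
      omega
    · rw [h1] at hl hlσ
      exact ⟨hl, hlσ⟩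
    · rw [Set.mem_singleton_iff] at h1
      rw [h1] at hl hlσ
      rw [hσ] at hlσ
      exact ⟨hlσ, hl⟩
  have hlz : ℓ (b' * wJ cs K) = ℓ b' + ℓ (wJ cs K) := hpar.minR _ (F.wJ_mem K)
  have hz : b' * wJ cs K = wJ cs J'' * b' := hpar.longest
  have hlz' : ℓ (b' * wJ cs K) = ℓ (wJ cs J'') + ℓ b' := by
    rw [hz]; exact hpar.minL _ (F.wJ_mem _)
  have hall : ∀ j ∈ T, ℓ (cs.simple j * (b' * wJ cs K)) < ℓ (b' * wJ cs K) := by
    have h0 : ∀ j, ℓ (cs.simple j * b') < ℓ b' →
        ℓ (cs.simple j * (b' * wJ cs K)) < ℓ (b' * wJ cs K) := by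
      intro j hj
      have h1 := cs.length_mul_le (cs.simple j * b') (wJ cs K)
      rw [mul_assoc] at h1
      omega
    intro j hj
    rw [hT] at hj
    rcases hj with hj | hj | hj
    · have h1 := hpar.minL _ (mul_mem (simple_mem_WJ cs hj) (F.wJ_mem J''))
      have h2 := F.len_mul_wJ (simple_mem_WJ cs hj)
      rw [cs.length_simple] at h2
      rw [mul_assoc, ← hz] at h1
      omega
    · rw [hj]; exact h0 k hk.1
    · rw [Set.mem_singleton_iff] at hj
      rw [hj]; exact h0 _ hk.2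
  have h1 : (b' * wJ cs K)⁻¹ = wJ cs T := by
    refine F.eq_wJ_of_descents (inv_mem (mul_mem hb' (WJ_mono cs hKT (F.wJ_mem K)))) fun j hj => ?_
    have h2 := cs.length_inv (cs.simple j * (b' * wJ cs K))
    rw [mul_inv_rev, cs.inv_simple] at h2
    rw [h2, cs.length_inv]
    exact hall j hj
  have h2 : b' * wJ cs K = wJ cs T := by rw [← inv_inv (b' * wJ cs K), h1, F.wJ_inv]
  have h3 : b' = b := by
    have h4 := h.long'
    rw [← h2, hz] at h4
    exact (mul_left_cancel h4).symm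
  refine ⟨h3, wJ_inj (cs := cs) ?_⟩
  have h4 := h.long
  rw [← h2, h3] at h4
  exact (mul_left_cancel h4).symm

end Twist

end Cfsg.Agent.FixBN.Cox
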