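import Mathlib
import Cfsg.Agent.Tits.Core
import Cfsg.Agent.Tits.Gate
import Cfsg.Agent.Tits.OppRes
import Cfsg.Agent.Tits.Rigid
/-!
THEOREM FIX (odd cores of the centraliser of an involutory automorphism of a group with a split
(B,N)-pair of odd characteristic): the common definitions.

The group is seen through its building `Δ` (`Tits.Core.Bldg`), `S : Sys Δ G p` is the system of the
Sylow `p`-subgroups (one for each chamber), `t : Tw Δ G` is an automorphism of order two of the
group together with its action on the building.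
-/

set_option autoImplicit false

namespace Cfsg.Agent.FixBN

open Cfsg.Agent.Tits.Core Cfsg.Agent.Tits.Core.Bldg

variable {I : Type*} {M : CoxeterMatrix I} {W : Type*} [Group W] {cs : CoxeterSystem M W} {C : Type*}

/-- A group with a split (B,N)-pair of characteristic `p`, seen through its building: `U x` is the
Sylow `p`-subgroup of the stabiliser of the chamber `x`. -/
structure Sys (Δ : Bldg cs C) (G : Type*) [Group G] [MulAction G C] (p : ℕ) where
  iso : ∀ (g : G) (x y : C), Δ.δ (g • x) (g • y) = Δ.δ x y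
  /-- the Sylow `p`-subgroup of the stabiliser of `x` -/
  U : C → Subgroup G
  fix : ∀ x, ∀ u ∈ U x, u • x = x
  isP : ∀ x, IsPGroup p (U x)
  max : ∀ x (V : Subgroup G), IsPGroup p V → (∀ v ∈ V, v • x = x) → V ≤ U x
  trans : ∀ x y z, Δ.Opp x y → Δ.Opp x z → ∃ u ∈ U x, u • y = z
  free : ∀ x y, Δ.Opp x y → ∀ u ∈ U x, u • y = y → u = 1
  pan : ∀ x y i, Δ.δ x y = cs.simple i → ∀ u ∈ U x, u • y = y → ∀ z ∈ Δ.Pan i x, u • z = z
  exists_fix : ∀ V : Subgroup G, IsPGroup p V → ∃ x : C, ∀ v ∈ V, v • x = x

/-- An automorphism `τ` of order (at most) two of `G`, with its action `θ` on the chambers and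
`φ`, `σ` on the Weyl group and on the types. -/
structure Tw (Δ : Bldg cs C) (G : Type*) [Group G] [MulAction G C] where
  τ : G ≃* G
  θ : C ≃ C
  φ : W ≃* W
  σ : I → I
  φ_simple : ∀ i, φ (cs.simple i) = cs.simple (σ i)
  δ_θ : ∀ x y, Δ.δ (θ x) (θ y) = φ (Δ.δ x y)
  θ_smul : ∀ (g : G) x, θ (g • x) = τ g • θ x
  ττ : ∀ g, τ (τ g) = g
  θθ : ∀ x, θ (θ x) = x
  σσ : ∀ i, σ (σ i) = i

namespace Tw

variable {Δ : Bldg cs C} {G : Type*} [Group G] [MulAction G C] (t : Tw Δ G)

/-- The centraliser of the automorphism. -/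
def cent : Subgroup G where
  carrier := {g | t.τ g = g}
  one_mem' := map_one t.τ
  mul_mem' := fun {a b} (ha : t.τ a = a) (hb : t.τ b = b) => by
    change t.τ (a * b) = a * b
    rw [map_mul, ha, hb]
  inv_mem' := fun {a} (ha : t.τ a = a) => by
    change t.τ a⁻¹ = a⁻¹
    rw [map_inv, ha]

theorem mem_cent {g : G} : g ∈ t.cent ↔ t.τ g = g := Iff.rfl

/-- `J` is stable under the type permutation. -/
def Stab (J : Set I) : Prop := ∀ i ∈ J, t.σ i ∈ J

/-- The residue `Res J x` is invariant and anisotropic: every chamber of it is mapped to an opposite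
one (in the residue). These are the minimal invariant residues. -/
def Gd (J : Set I) (x : C) : Prop := t.Stab J ∧ ∀ y ∈ Δ.Res J x, Δ.δ y (t.θ y) = wJ cs J

end Tw

end Cfsg.Agent.FixBN
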