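import Mathlib
import Cfsg.Agent.FixBN.Defs
import Cfsg.Agent.FixBN.Cox
/-!
THEOREM FIX: convex sets, the minimal displacement, the groups `U x`.
-/

set_option autoImplicit false
set_option linter.unusedSectionVars false

open scoped Pointwise

namespace Cfsg.Agent.FixBN

open Cfsg.Agent.Tits.Core Cfsg.Agent.Tits.Core.Bldg Cfsg.Agent.Tits.Exchange Cfsg.Agent.Tits

variable {I : Type*} {M : CoxeterMatrix I} {W : Type*} [Group W] {cs : CoxeterSystem M W} {C : Type*}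

local prefix:100 "ℓ" => cs.length

/-! ### Convex sets of chambers -/

section Conv

variable (Δ : Bldg cs C)

/-- `X` is convex: the first step of a minimal gallery between two chambers of `X` lies in `X`. -/
def Conv (X : Set C) : Prop :=
  ∀ x ∈ X, ∀ y ∈ X, ∀ z i, Δ.δ x z = cs.simple i → Δ.δ z y = cs.simple i * Δ.δ x y →
    ℓ (cs.simple i * Δ.δ x y) < ℓ (Δ.δ x y) → z ∈ X

theorem Conv.inter {X Y : Set C} (hX : Conv Δ X) (hY : Conv Δ Y) : Conv Δ (X ∩ Y) :=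
  fun x hx y hy z i h1 h2 h3 =>
    ⟨hX x hx.1 y hy.1 z i h1 h2 h3, hY x hx.2 y hy.2 z i h1 h2 h3⟩

theorem conv_univ : Conv Δ Set.univ := fun _ _ _ _ _ _ _ _ _ => Set.mem_univ _

theorem conv_Res [F : OppRes.Cox cs] (J : Set I) (x : C) : Conv Δ (Δ.Res J x) := by
  intro a ha b hb z i h1 _ h3
  have h4 : Δ.δ a b ∈ WJ cs J := Δ.δ_mem_of_mem_Res ha hb
  have h5 : i ∈ J := by
    refine F.descent_mem J _ (inv_mem h4) i ?_
    have h6 := cs.length_inv (cs.simple i * Δ.δ a b)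
    rw [mul_inv_rev, cs.inv_simple] at h6
    rw [h6, cs.length_inv]
    exact h3
  exact Δ.mem_Res_trans ha (Δ.Pan_subset_Res h5 a (Δ.mem_Pan_of_δ h1))

/-- existence of the first step -/
theorem exists_first {x y : C} {i : I} (h : ℓ (cs.simple i * Δ.δ x y) < ℓ (Δ.δ x y)) :
    ∃ z, Δ.δ x z = cs.simple i ∧ Δ.δ z y = cs.simple i * Δ.δ x y := by
  refine Δ.exists_between (w := cs.simple i * Δ.δ x y) (v := cs.simple i) ?_ ?_
  · rw [← mul_assoc, cs.simple_mul_simple_self, one_mul]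
  · have h1 := cs.length_simple_mul (Δ.δ x y) i
    rw [← mul_assoc, cs.simple_mul_simple_self, one_mul, cs.length_simple]
    omega

end Conv

/-! ### The groups `U x` -/

namespace Sys

variable {Δ : Bldg cs C} {G : Type*} [Group G] [MulAction G C] {p : ℕ} (S : Sys Δ G p)

include S

theorem smul_Res (g : G) (J : Set I) (x : C) : g • Δ.Res J x = Δ.Res J (g • x) := by
  ext y
  rw [Set.mem_smul_set_iff_inv_smul_mem, mem_Res, mem_Res, ← S.iso g x (g⁻¹ • y), smul_inv_smul]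

theorem smul_mem_Res {g : G} {J : Set I} {x y : C} (h : y ∈ Δ.Res J x) :
    g • y ∈ Δ.Res J (g • x) := by
  rw [mem_Res, S.iso]; exact h

theorem conv_fix (V : Set G) : Conv Δ {x : C | ∀ v ∈ V, v • x = x} := by
  intro a ha b hb z i h1 h2 h3 v hv
  have hl : ℓ (cs.simple i * (cs.simple i * Δ.δ a b)) =
      ℓ (cs.simple i) + ℓ (cs.simple i * Δ.δ a b) := by
    have h4 := cs.length_simple_mul (Δ.δ a b) i
    rw [← mul_assoc, cs.simple_mul_simple_self, one_mul, cs.length_simple]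
    omega
  refine (Δ.between_unique hl (x := a) (z := b) h1 h2 ?_ ?_).symm
  · rw [← h1, ← S.iso v a z, ha v hv]
  · rw [← h2, ← S.iso v z b, hb v hv]

/-- a `p`-element fixing `y` lies in `U y` -/
theorem mem_U_of_fix {x y : C} {u : G} (hu : u ∈ S.U x) (hy : u • y = y) : u ∈ S.U y := by
  have h1 : IsPGroup p (Subgroup.zpowers u) :=
    (S.isP x).to_le ((Subgroup.zpowers_le).2 hu)
  refine S.max y _ h1 ?_ (Subgroup.mem_zpowers u)
  intro v hv
  have h2 : u ∈ MulAction.stabilizer G y := hy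
  exact ((Subgroup.zpowers_le).2 h2) hv

theorem mem_U_of_isPGroup {V : Subgroup G} (hV : IsPGroup p V) {y : C} {u : G} (hu : u ∈ V)
    (hy : u • y = y) : u ∈ S.U y := by
  have h1 : IsPGroup p (Subgroup.zpowers u) := hV.to_le ((Subgroup.zpowers_le).2 hu)
  refine S.max y _ h1 ?_ (Subgroup.mem_zpowers u)
  intro v hv
  have h2 : u ∈ MulAction.stabilizer G y := hy
  exact ((Subgroup.zpowers_le).2 h2) hv

theorem conj_mem_U {x : C} {u : G} (hu : u ∈ S.U x) (g : G) : g * u * g⁻¹ ∈ S.U (g • x) := by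
  have h1 : IsPGroup p ((S.U x).map (MulAut.conj g).toMonoidHom) := (S.isP x).map _
  refine S.max (g • x) _ h1 ?_ ⟨u, hu, rfl⟩
  rintro _ ⟨v, hv, rfl⟩
  change (g * v * g⁻¹) • g • x = g • x
  rw [mul_smul, inv_smul_smul, mul_smul, S.fix x v hv]

theorem conj_mem_U_iff {x : C} {u g : G} : g * u * g⁻¹ ∈ S.U (g • x) ↔ u ∈ S.U x := by
  refine ⟨fun h => ?_, fun h => S.conj_mem_U h g⟩
  have h1 := S.conj_mem_U h g⁻¹
  rw [inv_smul_smul] at h1
  have h2 : g⁻¹ * (g * u * g⁻¹) * g⁻¹⁻¹ = u := by group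
  rwa [h2] at h1

variable [F : OppRes.Cox cs]

/-- `U x` is transitive on the chambers at a given distance from `x`. -/
theorem exists_move {x z z' : C} (h : Δ.δ x z = Δ.δ x z') : ∃ u ∈ S.U x, u • z = z' := by
  have hl : ℓ (Δ.δ x z * ((Δ.δ x z)⁻¹ * w0 cs)) = ℓ (Δ.δ x z) + ℓ ((Δ.δ x z)⁻¹ * w0 cs) := by
    have h1 := F.len_mul_w0 (Δ.δ x z)⁻¹
    rw [cs.length_inv] at h1
    rw [mul_inv_cancel_left]
    omega
  obtain ⟨f, hf⟩ := Δ.exists_δ z ((Δ.δ x z)⁻¹ * w0 cs)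
  obtain ⟨f', hf'⟩ := Δ.exists_δ z' ((Δ.δ x z)⁻¹ * w0 cs)
  have h1 : Δ.Opp x f := by
    have := Δ.δ_mul_of rfl hf hl
    rw [mul_inv_cancel_left] at this
    exact this
  have h2 : Δ.Opp x f' := by
    have := Δ.δ_mul_of h.symm hf' hl
    rw [mul_inv_cancel_left] at this
    exact this
  obtain ⟨u, hu, huf⟩ := S.trans x f f' h1 h2
  refine ⟨u, hu, ?_⟩
  refine Δ.between_unique hl (x := x) (z := f') ?_ ?_ h.symm hf'
  · rw [← S.iso u x z, S.fix x u hu]
  · rw [← huf, S.iso, hf]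

/-- An element of `U x` which fixes a chamber opposite `x` in the residue `Res J x` fixes this
residue chamberwise. -/
theorem fixRes (hth : Δ.Thick) {x x' : C} {J : Set I} {u : G} (hu : u ∈ S.U x)
    (hx : Δ.δ x x' = wJ cs J) (hu' : u • x' = x') : ∀ y ∈ Δ.Res J x, u • y = y := by
  refine Rigid.rigid (Δ := Δ) (Δ' := Δ) hth (φ := fun y => u • y) (ψ := fun y => y) (c := x) (d := x')
    (fun a _ b _ => S.iso u a b) (fun a _ b _ => rfl) ?_ hx hu'
  intro j hj y hy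
  have h1 := F.len_wJ_mul (simple_mem_WJ cs hj)
  have h1' : ℓ (cs.simple j * wJ cs J) < ℓ (wJ cs J) := by
    have h2 := F.len_mul_wJ (simple_mem_WJ cs hj)
    rw [cs.length_simple] at h2
    omega
  obtain ⟨z, hz, hz'⟩ := exists_first Δ (x := x) (y := x') (i := j) (by rw [hx]; exact h1')
  have hfix : u • z = z := by
    have := S.conv_fix {u} x (by
      intro v hv
      rw [Set.mem_singleton_iff] at hv
      rw [hv]; exact S.fix x u hu) x' (by
      intro v hv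
      rw [Set.mem_singleton_iff] at hv
      rw [hv]; exact hu') z j hz hz' (by rw [hx]; exact h1')
    exact this u rfl
  exact S.pan x z j hz u hu hfix y hy

/-- The unipotent radical of a set of chambers. -/
def UR (Q : Set C) : Subgroup G where
  carrier := {g | ∀ y ∈ Q, g ∈ S.U y}
  one_mem' := fun y _ => one_mem _
  mul_mem' := fun ha hb y hy => mul_mem (ha y hy) (hb y hy)
  inv_mem' := fun ha y hy => inv_mem (ha y hy)

omit F in
theorem mem_UR {Q : Set C} {g : G} : g ∈ S.UR Q ↔ ∀ y ∈ Q, g ∈ S.U y := Iff.rfl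

theorem mem_UR_of_fix (hth : Δ.Thick) {x x' : C} {J : Set I} {u : G} (hu : u ∈ S.U x)
    (hx : Δ.δ x x' = wJ cs J) (hu' : u • x' = x') : u ∈ S.UR (Δ.Res J x) :=
  fun y hy => S.mem_U_of_fix hu (S.fixRes hth hu hx hu' y hy)

omit F in
theorem UR_isP {Q : Set C} (hQ : Q.Nonempty) : IsPGroup p (S.UR Q) := by
  obtain ⟨x, hx⟩ := hQ
  exact (S.isP x).to_le fun g hg => hg x hx

omit F in
theorem conj_mem_UR_iff {Q : Set C} {u g : G} : g * u * g⁻¹ ∈ S.UR (g • Q) ↔ u ∈ S.UR Q := by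
  rw [mem_UR, mem_UR]
  constructor
  · intro h y hy
    exact S.conj_mem_U_iff.1 (h (g • y) (Set.smul_mem_smul_set hy))
  · rintro h _ ⟨y, hy, rfl⟩
    exact S.conj_mem_U_iff.2 (h y hy)

end Sys

/-! ### The twist -/

namespace Tw

variable {Δ : Bldg cs C} {G : Type*} [Group G] [MulAction G C] (t : Tw Δ G)

theorem length_φ (w : W) : ℓ (t.φ w) = ℓ w := Cox.length_map t.φ_simple t.σσ w

theorem φφ (w : W) : t.φ (t.φ w) = w := Cox.map_map t.φ_simple t.σσ w

theorem φ_mem {J : Set I} (hJ : t.Stab J) {w : W} (hw : w ∈ WJ cs J) : t.φ w ∈ WJ cs J :=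
  Cox.mem_WJ_map t.φ_simple hJ hw

theorem θ_mem_Res {J : Set I} (hJ : t.Stab J) {x y : C} (h : y ∈ Δ.Res J x) :
    t.θ y ∈ Δ.Res J (t.θ x) := by
  rw [mem_Res, t.δ_θ]
  exact t.φ_mem hJ h

theorem image_Res {J : Set I} (hJ : t.Stab J) (x : C) : t.θ '' Δ.Res J x = Δ.Res J (t.θ x) := by
  ext y
  constructor
  · rintro ⟨z, hz, rfl⟩
    exact t.θ_mem_Res hJ hz
  · intro hy
    refine ⟨t.θ y, ?_, t.θθ y⟩
    have := t.θ_mem_Res hJ hy
    rwa [t.θθ] at this

theorem mem_of_θ_mem {X : Set C} (hX : ∀ x ∈ X, t.θ x ∈ X) {x : C} : t.θ x ∈ X ↔ x ∈ X :=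
  ⟨fun h => by have := hX _ h; rwa [t.θθ] at this, hX x⟩

variable [F : OppRes.Cox cs]

theorem φ_wJ {J : Set I} (hJ : t.Stab J) : t.φ (wJ cs J) = wJ cs J :=
  Cox.map_wJ t.φ_simple t.σσ hJ

/-- **Minimal displacement.** -/
theorem disp {X : Set C} (hne : X.Nonempty) (hX : ∀ x ∈ X, t.θ x ∈ X) (hconv : Conv Δ X) :
    ∃ c ∈ X, ∃ J : Set I, t.Stab J ∧ Δ.δ c (t.θ c) = wJ cs J ∧
      ∀ y ∈ X, ℓ (wJ cs J) ≤ ℓ (Δ.δ y (t.θ y)) := by
  classical
  have hex : ∃ n, ∃ c ∈ X, ℓ (Δ.δ c (t.θ c)) = n := ⟨_, hne.some, hne.some_mem, rfl⟩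
  obtain ⟨c, hc, hn⟩ := Nat.find_spec hex
  have hmin : ∀ y ∈ X, ℓ (Δ.δ c (t.θ c)) ≤ ℓ (Δ.δ y (t.θ y)) := fun y hy => by
    rw [hn]; exact Nat.find_min' hex ⟨y, hy, rfl⟩
  obtain ⟨w, hw⟩ : ∃ w, w = Δ.δ c (t.θ c) := ⟨_, rfl⟩
  rw [← hw] at hmin
  have h1 : t.φ w = w⁻¹ := by
    rw [hw, ← t.δ_θ, t.θθ, Δ.symm c (t.θ c)]
  have h2 : ∀ i, ℓ (cs.simple i * w) < ℓ w → cs.simple i * w = w * cs.simple (t.σ i) := by
    intro i hi
    obtain ⟨z, hz, hz'⟩ := exists_first Δ (x := c) (y := t.θ c) (i := i) (by rw [← hw]; exact hi)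
    have hzX : z ∈ X := hconv c hc (t.θ c) (hX c hc) z i hz hz' (by rw [← hw]; exact hi)
    rw [← hw] at hz'
    have h3 : Δ.δ (t.θ c) (t.θ z) = cs.simple (t.σ i) := by rw [t.δ_θ, hz, t.φ_simple]
    have h4 : Δ.δ z (t.θ z) = cs.simple i * w * cs.simple (t.σ i) := by
      rcases Δ.step z (t.θ c) (t.θ z) _ h3 with h | h
      · rw [h, hz']
      · exfalso
        have h5 := hmin z hzX
        rw [h, hz'] at h5
        omega
    have h5 := hmin z hzX
    rw [h4] at h5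
    have h6 : ℓ (w * cs.simple (t.σ i)) < ℓ w := by
      rw [← t.length_φ, map_mul, t.φ_simple, t.σσ, h1]
      have h7 := cs.length_inv (cs.simple i * w)
      rw [mul_inv_rev, cs.inv_simple] at h7
      omega
    -- apply `fold` to `s_i w`
    have h8 : ℓ (cs.simple i * (cs.simple i * w)) = ℓ (cs.simple i * w) + 1 := by
      have := cs.length_simple_mul w i
      rw [← mul_assoc, cs.simple_mul_simple_self, one_mul]
      omega
    have h9 : ℓ (cs.simple i * w * cs.simple (t.σ i)) = ℓ (cs.simple i * w) + 1 := by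
      have h10 := cs.length_mul_simple (cs.simple i * w) (t.σ i)
      omega
    rcases fold cs h8 h9 with h10 | h10
    · rw [← mul_assoc, cs.simple_mul_simple_self, one_mul] at h10
      omega
    · rw [← mul_assoc, cs.simple_mul_simple_self, one_mul] at h10
      have h11 : w * cs.simple (t.σ i) = cs.simple i * w := by
        conv_lhs => rw [h10]
        rw [mul_assoc, cs.simple_mul_simple_self, mul_one]
      exact h11.symm
  obtain ⟨J, hJ, hwJ⟩ := Cox.exists_eq_wJ t.φ_simple t.σσ h1 h2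
  exact ⟨c, hc, J, hJ, by rw [← hw, hwJ], fun y hy => by rw [← hwJ]; exact hmin y hy⟩

/-! ### Good residues -/

variable {t}

omit F in
theorem Gd.congr {J : Set I} {x y : C} (h : t.Gd J x) (hy : y ∈ Δ.Res J x) : t.Gd J y :=
  ⟨h.1, fun z hz => h.2 z (Δ.mem_Res_trans hy hz)⟩

omit F in
theorem Gd.δ_θ {J : Set I} {x : C} (h : t.Gd J x) : Δ.δ x (t.θ x) = wJ cs J :=
  h.2 x (Δ.self_mem_Res J x)

theorem Gd.θ_mem {J : Set I} {x : C} (h : t.Gd J x) : t.θ x ∈ Δ.Res J x := by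
  rw [mem_Res, h.δ_θ]; exact F.wJ_mem J

theorem Gd.θ_stable {J : Set I} {x : C} (h : t.Gd J x) : ∀ y ∈ Δ.Res J x, t.θ y ∈ Δ.Res J x :=
  fun _ hy => Δ.mem_Res_trans hy (h.congr hy).θ_mem

theorem θ_stable_Res {J : Set I} (hJ : t.Stab J) {x : C} (h : t.θ x ∈ Δ.Res J x) :
    ∀ y ∈ Δ.Res J x, t.θ y ∈ Δ.Res J x := fun y hy => by
  have h1 := t.θ_mem_Res hJ hy
  rwa [Δ.Res_eq_of_mem h] at h1

/-- A good residue inside each invariant convex set contained in an invariant residue: first form. -/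
theorem exists_gd {J : Set I} (hJ : t.Stab J) {x : C} (hx : t.θ x ∈ Δ.Res J x) :
    ∃ K, K ⊆ J ∧ ∃ y ∈ Δ.Res J x, t.Gd K y := by
  have hX := θ_stable_Res hJ hx
  obtain ⟨c, hc, K, hK, hcK, hmin⟩ := t.disp ⟨x, Δ.self_mem_Res J x⟩ hX (conv_Res Δ J x)
  have hKJ : K ⊆ J := by
    intro k hk
    have h1 : wJ cs K ∈ WJ cs J := by
      rw [← hcK]; exact Δ.δ_mem_of_mem_Res hc (hX c hc)
    refine F.descent_mem J _ h1 k ?_
    have h2 := F.len_wJ_mul (simple_mem_WJ cs hk)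
    rw [cs.length_simple] at h2
    omega
  refine ⟨K, hKJ, c, hc, hK, fun y hy => ?_⟩
  have hcK' : t.θ c ∈ Δ.Res K c := by rw [mem_Res, hcK]; exact F.wJ_mem K
  have h1 : Δ.δ y (t.θ y) ∈ WJ cs K :=
    Δ.δ_mem_of_mem_Res hy (θ_stable_Res hK hcK' y hy)
  exact (F.longest K).eq_of_length h1
    (hmin y (Δ.mem_Res_trans hc (Δ.Res_mono hKJ c hy)))

end Tw

/-! ### Involutions on finite sets, Glauberman's lemma -/

theorem card_fixed_modEq {α : Type*} [Finite α] (f : α → α) (hf : ∀ a, f (f a) = a) :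
    Nat.card α ≡ Nat.card {a // f a = a} [MOD 2] := by
  classical
  have := Fintype.ofFinite α
  let g : Function.End α := f
  have hg : g ^ 2 ^ 1 = 1 := by
    rw [pow_one, pow_two]
    funext a
    exact hf a
  have h1 := Equiv.Perm.card_fixedPoints_modEq (f := g) (p := 2) (n := 1) hg
  rw [Nat.card_eq_fintype_card, Nat.card_eq_fintype_card]
  exact h1

theorem exists_fixed {α : Type*} [Finite α] (f : α → α) (hf : ∀ a, f (f a) = a)
    (h : Odd (Nat.card α)) : ∃ a, f a = a := by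
  by_contra hne
  push Not at hne
  have h1 := card_fixed_modEq f hf
  have h2 : Nat.card {a // f a = a} = 0 := by
    have : IsEmpty {a // f a = a} := ⟨fun a => hne a.1 a.2⟩
    exact Nat.card_of_isEmpty
  rw [h2] at h1
  rw [Nat.odd_iff] at h
  unfold Nat.ModEq at h1
  omega

namespace Tw

variable {Δ : Bldg cs C} {G : Type*} [Group G] [MulAction G C] (t : Tw Δ G)

theorem image_smul (g : G) (Z : Set C) : t.θ '' (g • Z) = t.τ g • (t.θ '' Z) := by
  ext y
  constructor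
  · rintro ⟨_, ⟨z, hz, rfl⟩, rfl⟩
    exact ⟨t.θ z, ⟨z, hz, rfl⟩, (t.θ_smul g z).symm⟩
  · rintro ⟨_, ⟨z, hz, rfl⟩, rfl⟩
    exact ⟨g • z, ⟨z, hz, rfl⟩, t.θ_smul g z⟩

/-- Glauberman's lemma for an automorphism of order two. -/
theorem exists_cent [Finite G] (A : Subgroup G) (hA : ∀ a ∈ A, t.τ a ∈ A) (hodd : Odd (Nat.card A))
    {Z Z' : Set C} (hZ : t.θ '' Z = Z) (hZ' : t.θ '' Z' = Z') (h : ∃ a ∈ A, a • Z = Z') :
    ∃ a ∈ A, a ∈ t.cent ∧ a • Z = Z' := by
  obtain ⟨a, ha, haZ⟩ := h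
  let α := {g : G // g ∈ A ∧ g • Z = Z'}
  let f : α → α := fun g => ⟨t.τ g.1, hA _ g.2.1, by
    have := congrArg (fun X => t.θ '' X) g.2.2
    simp only [t.image_smul, hZ, hZ'] at this
    exact this⟩
  have hf : ∀ g, f (f g) = g := fun g => Subtype.ext (t.ττ g.1)
  have hcard : Odd (Nat.card α) := by
    have e : α ≃ ↥(A ⊓ MulAction.stabilizer G Z) :=
      { toFun := fun g => ⟨a⁻¹ * g.1, A.mul_mem (A.inv_mem ha) g.2.1, by
          change (a⁻¹ * g.1) • Z = Z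
          rw [mul_smul, g.2.2, ← haZ, inv_smul_smul]⟩
        invFun := fun g => ⟨a * g.1, A.mul_mem ha g.2.1, by
          have : g.1 • Z = Z := g.2.2
          rw [mul_smul, this, haZ]⟩
        left_inv := fun g => Subtype.ext (by simp)
        right_inv := fun g => Subtype.ext (by simp) }
    rw [Nat.card_congr e]
    exact hodd.of_dvd_nat (Subgroup.card_dvd_of_le inf_le_left)
  obtain ⟨g, hg⟩ := exists_fixed f hf hcard
  exact ⟨g.1, g.2.1, congrArg Subtype.val hg, g.2.2⟩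

end Tw

end Cfsg.Agent.FixBN
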