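import Mathlib
import Cfsg.Agent.FixBN.Disp
import Cfsg.Agent.FixBN.Cox2
/-!
THEOREM FIX: parallel residues, the step from one good residue towards another one.
-/

set_option autoImplicit false
set_option linter.unusedSectionVars false

open scoped Pointwise

namespace Cfsg.Agent.FixBN

open Cfsg.Agent.Tits.Core Cfsg.Agent.Tits.Core.Bldg Cfsg.Agent.Tits.Exchange Cfsg.Agent.Tits
open Cfsg.Agent.FixBN.Cox

variable {I : Type*} {M : CoxeterMatrix I} {W : Type*} [Group W] {cs : CoxeterSystem M W} {C : Type*}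

local prefix:100 "ℓ" => cs.length

section Transfer

variable {Δ : Bldg cs C}

/-- two chambers of a residue at the same minimal distance from `x` are equal -/
theorem eq_of_isMinR {T : Set I} {x z z' : C} {v : W} (hv : IsMinR cs T v) (h : Δ.δ x z = v)
    (h' : Δ.δ x z' = v) (hz : z' ∈ Δ.Res T z) : z' = z := by
  have h1 : Δ.IsProj T z x z := Δ.isProj_of_isMinR (Δ.self_mem_Res T z) (by rw [h]; exact hv)
  have h2 : Δ.IsProj T z x z' := Δ.isProj_of_isMinR hz (by rw [h']; exact hv)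
  exact h2.unique h1

/-- moving along parallel residues -/
theorem par_transfer {J J' : Set I} {w : W} (h : Par cs J J' w) {x y a : C} (hxy : Δ.δ x y = w)
    (ha : a ∈ Δ.Res J x) : ∃ c ∈ Δ.Res J' y, Δ.δ a c = w := by
  have hu : Δ.δ a x ∈ WJ cs J := Δ.mem_Res_symm ha
  have h1 : Δ.δ a y = Δ.δ a x * w := Δ.δ_mul_of rfl hxy (h.minL _ hu)
  obtain ⟨b, hb, he, hl⟩ := h.mulL hu
  rw [he] at h1
  obtain ⟨c, hc, hc'⟩ := Δ.exists_between h1 (h.minR b hb)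
  refine ⟨c, Δ.mem_Res_symm ?_, hc⟩
  rw [mem_Res, hc']
  exact hb

theorem par_δ {J J' : Set I} {w : W} (h : Par cs J J' w) {a c a' c' : C} (hac : Δ.δ a c = w)
    (hac' : Δ.δ a' c' = w) (ha : a' ∈ Δ.Res J a) (hc : c' ∈ Δ.Res J' c) :
    Δ.δ a a' * w = w * Δ.δ c c' := by
  have h1 : Δ.δ a c' = Δ.δ a a' * w := Δ.δ_mul_of rfl hac' (h.minL _ ha)
  have h2 : Δ.δ a c' = w * Δ.δ c c' := Δ.δ_mul_of hac rfl (h.minR _ hc)
  rw [← h1, h2]

end Transfer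

namespace Tw

variable {Δ : Bldg cs C} {G : Type*} [Group G] [MulAction G C] {t : Tw Δ G} [F : OppRes.Cox cs]

/-- a residue parallel to a good one is good if it is stable -/
theorem gd_transfer {J J' : Set I} {w : W} {x y : C} (hgd : t.Gd J x) (h : Par cs J J' w)
    (hxy : Δ.δ x y = w) (hφ : t.φ w = w) (hJ' : t.Stab J') (hy : t.θ y ∈ Δ.Res J' y) :
    t.Gd J' y := by
  refine ⟨hJ', fun z hz => ?_⟩
  obtain ⟨a, ha, haz⟩ := par_transfer h.symm (x := y) (y := x) (a := z)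
    (by rw [Δ.symm x y, hxy]) hz
  have hza : Δ.δ a z = w := by rw [Δ.symm z a, haz, inv_inv]
  have h1 : Δ.δ (t.θ a) (t.θ z) = w := by rw [t.δ_θ, hza, hφ]
  have h2 : t.θ a ∈ Δ.Res J a := (hgd.congr ha).θ_mem
  have h3 : t.θ z ∈ Δ.Res J' z := by
    have := θ_stable_Res hJ' hy z hz
    rwa [← Δ.Res_eq_of_mem hz] at this
  have h4 := par_δ h hza h1 h2 h3
  rw [(hgd.congr ha).δ_θ, ← h.longest] at h4
  exact (mul_left_cancel h4).symm

theorem gd_transfer' {J J' T : Set I} {v : W} {x y : C} (hgd : t.Gd J x) (h : Par cs J J' v)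
    (hxy : Δ.δ x y = v) (hφ : t.φ v = v) (hJ' : t.Stab J') (hT : t.Stab T) (hJ'T : J' ⊆ T)
    (hv : IsMinR cs T v) (hy : t.θ y ∈ Δ.Res T y) : t.Gd J' y := by
  refine gd_transfer hgd h hxy hφ hJ' ?_
  obtain ⟨c, hc, hc'⟩ := par_transfer h hxy hgd.θ_mem
  have h1 : Δ.δ (t.θ x) (t.θ y) = v := by rw [t.δ_θ, hxy, hφ]
  have h2 : t.θ y = c := by
    refine eq_of_isMinR hv hc' h1 ?_
    exact Δ.mem_Res_trans (Δ.mem_Res_symm (Δ.Res_mono hJ'T y hc)) hy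
  rw [h2]
  exact hc

/-- Two good residues are parallel. -/
theorem parallel {J J' : Set I} {x0 y0 : C} (h : t.Gd J x0) (h' : t.Gd J' y0) :
    ∃ x ∈ Δ.Res J x0, ∃ y ∈ Δ.Res J' y0, Par cs J J' (Δ.δ x y) ∧ t.φ (Δ.δ x y) = Δ.δ x y := by
  classical
  have hex : ∃ n, ∃ x ∈ Δ.Res J x0, ∃ y ∈ Δ.Res J' y0, ℓ (Δ.δ x y) = n :=
    ⟨_, x0, Δ.self_mem_Res _ _, y0, Δ.self_mem_Res _ _, rfl⟩
  obtain ⟨x, hx, y, hy, hn⟩ := Nat.find_spec hex
  have hmin : ∀ x' ∈ Δ.Res J x0, ∀ y' ∈ Δ.Res J' y0, ℓ (Δ.δ x y) ≤ ℓ (Δ.δ x' y') :=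
    fun x' hx' y' hy' => by rw [hn]; exact Nat.find_min' hex ⟨x', hx', y', hy', rfl⟩
  have hR : IsMinR cs J' (Δ.δ x y) := by
    rw [isMinR_iff]
    intro j hj
    obtain ⟨z, hz, hz'⟩ := Δ.exists_step x y j
    have h1 := hmin x hx z (Δ.mem_Res_trans hy (Δ.Pan_subset_Res hj y (Δ.mem_Pan_of_δ hz)))
    rw [hz'] at h1
    have h2 := cs.length_mul_simple_ne (Δ.δ x y) j
    omega
  have hL : IsMinL cs J (Δ.δ x y) := by
    rw [← isMinR_inv_iff, ← Δ.symm x y, isMinR_iff]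
    intro j hj
    obtain ⟨z, hz, hz'⟩ := Δ.exists_step y x j
    have h1 := hmin z (Δ.mem_Res_trans hx (Δ.Pan_subset_Res hj x (Δ.mem_Pan_of_δ hz))) y hy
    rw [Δ.length_δ_comm y z, hz', Δ.length_δ_comm y x] at h1
    have h2 := cs.length_mul_simple_ne (Δ.δ y x) j
    omega
  have hgx := h.congr hx
  have hgy := h'.congr hy
  have h1 : Δ.δ x (t.θ y) = Δ.δ x y * wJ cs J' :=
    Δ.δ_mul_of rfl hgy.δ_θ (hR _ (F.wJ_mem J'))
  have hL' : IsMinL cs J (t.φ (Δ.δ x y)) := by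
    rw [← isMinR_inv_iff, ← map_inv, ← Δ.symm x y]
    refine map_isMinR t.φ_simple t.σσ h.1 ?_
    rw [Δ.symm x y, isMinR_inv_iff]
    exact hL
  have hR' : IsMinR cs J' (t.φ (Δ.δ x y)) := map_isMinR t.φ_simple t.σσ h'.1 hR
  have h2 : Δ.δ x (t.θ y) = wJ cs J * t.φ (Δ.δ x y) := by
    refine Δ.δ_mul_of hgx.δ_θ (t.δ_θ x y) (hL' _ (F.wJ_mem J))
  have h3 := eq_of_double hL hR hL' hR' (by rw [← h1, h2])
  refine ⟨x, hx, y, hy, par_of_longest hL hR ?_, h3⟩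
  rw [← h1, h2, h3]

/-- The step from the good residue of `y` towards the good residue of `x`. -/
theorem exists_towards {J J' : Set I} {x y : C} (h : t.Gd J x) (h' : t.Gd J' y)
    (hpar : Par cs J J' (Δ.δ x y)) (hφ : t.φ (Δ.δ x y) = Δ.δ x y) (hne : Δ.δ x y ≠ 1) :
    ∃ (T J'' : Set I) (v b : W) (i : I) (y1 : C), Δ.δ x y1 = v ∧ Δ.δ y1 y = b ∧
      ℓ v < ℓ (Δ.δ x y) ∧ IsMinR cs T v ∧ t.φ v = v ∧ Par cs J J'' v ∧
      Ad cs t.φ t.σ T J'' J' b ∧ T = J' ∪ {i, t.σ i} ∧ b ≠ 1 ∧ t.Gd J'' y1 := by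
  obtain ⟨i, hi⟩ := cs.exists_rightDescent_of_ne_one hne
  obtain ⟨v, b, hvb, hb, hv, hφv, hφb, hb1, hpv, hpb, hst, hlong⟩ :=
    exists_step t.φ_simple t.σσ hpar h.1 h'.1 hφ hi (T := J' ∪ {i, t.σ i}) rfl
  have hl := hv b hb
  obtain ⟨y1, hy1, hy1'⟩ := Δ.exists_between hvb hl
  have hTst : t.Stab (J' ∪ {i, t.σ i}) := by
    rintro k (hk | hk | hk)
    · left; exact h'.1 k hk
    · right; right
      rw [Set.mem_singleton_iff, hk]
    · right; left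
      rw [Set.mem_singleton_iff] at hk
      rw [hk, t.σσ]
  have hsub : J' ⊆ J' ∪ {i, t.σ i} := Set.subset_union_left
  have hAd : Ad cs t.φ t.σ (J' ∪ {i, t.σ i}) (conjSet cs (J' ∪ {i, t.σ i}) J' b) J' b :=
    ⟨hTst, hst, h'.1, fun k hk => hk.1, hsub, hb, hφb, hpb, hlong⟩
  refine ⟨J' ∪ {i, t.σ i}, _, v, b, i, y1, hy1, hy1', ?_, hv, hφv, hpv, hAd, rfl, hb1, ?_⟩
  · have h1 : ℓ b ≠ 0 := fun h0 => hb1 (cs.length_eq_zero_iff.1 h0)
    rw [hvb, hl]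
    omega
  · refine gd_transfer' h hpv hy1 hφv hst hTst (fun k hk => hk.1) hv ?_
    -- `y`, `θ y` and `y1` are in the same residue of type `T`
    have h1 : y ∈ Δ.Res (J' ∪ {i, t.σ i}) y1 := by rw [mem_Res, hy1']; exact hb
    have h2 : t.θ y ∈ Δ.Res (J' ∪ {i, t.σ i}) y := Δ.Res_mono hsub y h'.θ_mem
    have h3 := t.θ_mem_Res hTst (Δ.mem_Res_symm h1)
    exact Δ.mem_Res_trans (Δ.mem_Res_trans h1 h2) h3

end Tw

end Cfsg.Agent.FixBN
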