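import Mathlib
import Cfsg.Agent.FixBN.Par
/-!
THEOREM FIX: transitivity on the good residues of a panel, parity.
-/

set_option autoImplicit false
set_option linter.unusedSectionVars false

open scoped Pointwise

namespace Cfsg.Agent.FixBN

open Cfsg.Agent.Tits.Core Cfsg.Agent.Tits.Core.Bldg Cfsg.Agent.Tits.Exchange Cfsg.Agent.Tits
open Cfsg.Agent.FixBN.Cox

variable {I : Type*} {M : CoxeterMatrix I} {W : Type*} [Group W] {cs : CoxeterSystem M W} {C : Type*}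

local prefix:100 "ℓ" => cs.length

/-! ### Residues at a given position -/

section SS

variable (Δ : Bldg cs C)

/-- The residues of type `J'` in position `b` with respect to the residue of type `J''` of `y1`. -/
def SS (J'' J' : Set I) (b : W) (y1 : C) : Set (Set C) :=
  {Z | ∃ y' ∈ Δ.Res J'' y1, ∃ z, Δ.δ y' z = b ∧ Z = Δ.Res J' z}

variable {Δ}

theorem mem_SS_of_δ {J'' J' : Set I} {b : W} {y1 z : C} (h : Δ.δ y1 z = b) :
    Δ.Res J' z ∈ SS Δ J'' J' b y1 := ⟨y1, Δ.self_mem_Res _ _, z, h, rfl⟩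

theorem SS_nonempty (J'' J' : Set I) (b : W) (y1 : C) : (SS Δ J'' J' b y1).Nonempty := by
  obtain ⟨z, hz⟩ := Δ.exists_δ y1 b
  exact ⟨_, mem_SS_of_δ hz⟩

theorem SS_all {J'' J' : Set I} {b : W} (hpar : Par cs J'' J' b) {y1 : C} {Z : Set C}
    (hZ : Z ∈ SS Δ J'' J' b y1) {y' : C} (hy' : y' ∈ Δ.Res J'' y1) :
    ∃ z, Δ.δ y' z = b ∧ Z = Δ.Res J' z := by
  obtain ⟨a, ha, z, haz, rfl⟩ := hZ
  obtain ⟨c, hc, hc'⟩ := par_transfer hpar haz (a := y')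
    (Δ.mem_Res_trans (Δ.mem_Res_symm ha) hy')
  exact ⟨c, hc', (Δ.Res_eq_of_mem hc).symm⟩

end SS

variable {Δ : Bldg cs C} {G : Type*} [Group G] [MulAction G C] {p : ℕ} {t : Tw Δ G}
  (S : Sys Δ G p) [F : OppRes.Cox cs]

namespace Sys

include S

theorem smul_Res_eq {u : G} {T : Set I} {y z : C} (hz : z ∈ Δ.Res T y) (hu : u • z = z) :
    u • Δ.Res T y = Δ.Res T y := by
  rw [← Δ.Res_eq_of_mem hz, S.smul_Res, hu]

/-- **Transitivity** of the unipotent radical of a residue on the residues at a given position. -/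
theorem trans_SS (hth : Δ.Thick) {J J'' J' T : Set I} {x y1 : C} {v b : W}
    (hxy : Δ.δ x y1 = v) (hpar : Par cs J J'' v) (hv : IsMinR cs T v) {φ : W ≃* W} {σ : I → I}
    (hAd : Ad cs φ σ T J'' J' b) {Z1 Z2 : Set C} (h1 : Z1 ∈ SS Δ J'' J' b y1)
    (h2 : Z2 ∈ SS Δ J'' J' b y1) :
    ∃ u ∈ S.UR (Δ.Res J x), u • Δ.Res T y1 = Δ.Res T y1 ∧ u • Z1 = Z2 := by
  obtain ⟨y2, hy2⟩ := Δ.exists_δ y1 (wJ cs J'')
  have hy2' : y2 ∈ Δ.Res J'' y1 := by rw [mem_Res, hy2]; exact F.wJ_mem J''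
  obtain ⟨z1, hz1, rfl⟩ := SS_all hAd.par h1 hy2'
  obtain ⟨z2, hz2, rfl⟩ := SS_all hAd.par h2 hy2'
  -- lengths
  have hJ''T : wJ cs J'' ∈ WJ cs T := WJ_mono cs hAd.sub'' (F.wJ_mem J'')
  have hl1 : ℓ (v * wJ cs J'') = ℓ v + ℓ (wJ cs J'') := hv _ hJ''T
  have hl2 : ℓ (wJ cs J'' * b) = ℓ (wJ cs J'') + ℓ b := hAd.par.minL _ (F.wJ_mem J'')
  have hl3 : ℓ (v * wJ cs J'' * b) = ℓ (v * wJ cs J'') + ℓ b := by
    rw [mul_assoc, hv _ (mul_mem hJ''T hAd.mem), hl1, hl2]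
    omega
  have hl4 : ℓ (wJ cs J * v) = ℓ (wJ cs J) + ℓ v := hpar.minL _ (F.wJ_mem J)
  have hd : Δ.δ x y2 = v * wJ cs J'' := Δ.δ_mul_of hxy hy2 hl1
  have hd1 : Δ.δ x z1 = v * wJ cs J'' * b := Δ.δ_mul_of hd hz1 hl3
  have hd2 : Δ.δ x z2 = v * wJ cs J'' * b := Δ.δ_mul_of hd hz2 hl3
  obtain ⟨u, hu, huz⟩ := S.exists_move (hd1.trans hd2.symm)
  have hux : u • x = x := S.fix x u hu
  have huy2 : u • y2 = y2 := by
    refine Δ.between_unique hl3 (x := x) (z := z2) ?_ ?_ hd hz2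
    · rw [← hd, ← S.iso u x y2, hux]
    · rw [← huz, S.iso, hz1]
  obtain ⟨x', hx', hx''⟩ := Δ.exists_between (x := x) (z := y2) (v := wJ cs J) (w := v)
    (by rw [hd, hpar.longest]) hl4
  have hux' : u • x' = x' := by
    refine Δ.between_unique hl4 (x := x) (z := y2) ?_ ?_ hx' hx''
    · rw [← hx', ← S.iso u x x', hux]
    · rw [← hx'', ← S.iso u x' y2, huy2]
  refine ⟨u, S.mem_UR_of_fix hth hu hx' hux', ?_, ?_⟩
  · exact S.smul_Res_eq (Δ.Res_mono hAd.sub'' _ hy2') huy2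
  · rw [S.smul_Res, huz]

omit F in
theorem τ_mem_U (t : Tw Δ G) {g : G} {x : C} (hg : g ∈ S.U x) : t.τ g ∈ S.U (t.θ x) := by
  have h1 : IsPGroup p ((S.U x).map t.τ.toMonoidHom) := (S.isP x).map _
  refine S.max (t.θ x) _ h1 ?_ ⟨g, hg, rfl⟩
  rintro _ ⟨v, hv, rfl⟩
  change t.τ v • t.θ x = t.θ x
  rw [← t.θ_smul, S.fix x v hv]

omit F in
theorem τ_mem_UR (t : Tw Δ G) {g : G} {Q : Set C} (hQ : ∀ x ∈ Q, t.θ x ∈ Q) (hg : g ∈ S.UR Q) :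
    t.τ g ∈ S.UR Q := by
  intro y hy
  have := S.τ_mem_U t (hg (t.θ y) (hQ y hy))
  rwa [t.θθ] at this

omit F in
theorem odd_card [Finite G] [hp : Fact p.Prime] (hp2 : p ≠ 2) {A : Subgroup G} (hA : IsPGroup p A) :
    Odd (Nat.card A) := by
  obtain ⟨n, hn⟩ := IsPGroup.iff_card.1 hA
  rw [hn]
  exact (hp.out.odd_of_ne_two hp2).pow

end Sys

namespace Tw

theorem gd_smul (S : Sys Δ G p) {J : Set I} {x : C} (h : t.Gd J x) {g : G} (hg : g ∈ t.cent) :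
    t.Gd J (g • x) := by
  refine ⟨h.1, fun y hy => ?_⟩
  have h1 : g⁻¹ • y ∈ Δ.Res J x := by
    have := S.smul_mem_Res (g := g⁻¹) hy
    rwa [inv_smul_smul] at this
  have h2 := h.2 _ h1
  have h3 : t.θ (g⁻¹ • y) = g⁻¹ • t.θ y := by
    rw [t.θ_smul, map_inv, t.mem_cent.1 hg]
  rw [h3, S.iso] at h2
  exact h2

theorem image_Gd {J : Set I} {x : C} (h : t.Gd J x) : t.θ '' Δ.Res J x = Δ.Res J x := by
  rw [t.image_Res h.1]
  exact Δ.Res_eq_of_mem h.θ_mem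

/-- The good residues in the residue of type `T` of `y`. -/
def Gds (t : Tw Δ G) (T : Set I) (y : C) : Set (Set C) :=
  {Z | ∃ J z, J ⊆ T ∧ z ∈ Δ.Res T y ∧ t.Gd J z ∧ Z = Δ.Res J z}

theorem Gds_congr {T : Set I} {y y' : C} (h : y' ∈ Δ.Res T y) : t.Gds T y' = t.Gds T y := by
  unfold Gds
  rw [Δ.Res_eq_of_mem h]

theorem smul_mem_Gds (S : Sys Δ G p) {T : Set I} {y : C} {g : G} (hg : g ∈ t.cent)
    (hgM : g • Δ.Res T y = Δ.Res T y) {Z : Set C} (hZ : Z ∈ t.Gds T y) : g • Z ∈ t.Gds T y := by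
  obtain ⟨J, z, hJ, hz, hgd, rfl⟩ := hZ
  refine ⟨J, g • z, hJ, ?_, gd_smul S hgd hg, S.smul_Res g J z⟩
  rw [← hgM]
  exact Set.smul_mem_smul_set hz

theorem gd_of_SS {J'' J' T : Set I} {b : W} {y1 : C} (hAd : Ad cs t.φ t.σ T J'' J' b)
    (hgd : t.Gd J'' y1) {z : C} (hz : Δ.Res J' z ∈ SS Δ J'' J' b y1)
    (hθ : t.θ '' Δ.Res J' z = Δ.Res J' z) : t.Gd J' z := by
  obtain ⟨z', hz', he⟩ := SS_all hAd.par hz (Δ.self_mem_Res _ _)
  have hzz : z ∈ Δ.Res J' z' := by rw [← he]; exact Δ.self_mem_Res _ _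
  have h1 : t.Gd J' z' := by
    refine gd_transfer hgd hAd.par hz' hAd.fix hAd.st' ?_
    rw [← he, ← hθ]
    exact ⟨z', by rw [he]; exact Δ.self_mem_Res _ _, rfl⟩
  exact h1.congr hzz

/-- A panel: `T` is `K` plus one orbit of the type permutation. -/
structure PD (t : Tw Δ G) (T K K' : Set I) (b : W) (z : C) : Prop where
  ad : Ad cs t.φ t.σ T K K' b
  ne : b ≠ 1
  pan : ∃ k, T = K ∪ {k, t.σ k}
  gd : t.Gd K z

theorem SS_sub {J'' J' T : Set I} {b : W} {y1 : C} (hAd : Ad cs t.φ t.σ T J'' J' b)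
    (hgd : t.Gd J'' y1) {Z : Set C} (hZ : Z ∈ SS Δ J'' J' b y1) (hθ : t.θ '' Z = Z) :
    Z ∈ t.Gds T y1 := by
  obtain ⟨z, hz, rfl⟩ := SS_all hAd.par hZ (Δ.self_mem_Res _ _)
  exact ⟨J', z, hAd.sub', by rw [mem_Res, hz]; exact hAd.mem, gd_of_SS hAd hgd hZ hθ, rfl⟩

theorem not_mem_SS {J'' J' T : Set I} {b : W} {y1 : C} (hAd : Ad cs t.φ t.σ T J'' J' b)
    (hb : b ≠ 1) : Δ.Res J'' y1 ∉ SS Δ J'' J' b y1 := by
  intro h
  obtain ⟨z, hz, he⟩ := SS_all hAd.par h (Δ.self_mem_Res _ _)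
  have h1 : z ∈ Δ.Res J'' y1 := by rw [he]; exact Δ.self_mem_Res _ _
  rw [mem_Res, hz] at h1
  exact hb (hAd.par.eq_one_of_mem h1)

theorem PD.mem_SS {T K K' : Set I} {b : W} {y : C} (h : t.PD T K K' b y) {Z : Set C}
    (hZ : Z ∈ t.Gds T y) (hne : Z ≠ Δ.Res K y) : Z ∈ SS Δ K K' b y := by
  obtain ⟨J, z, hJ, hz, hgd, rfl⟩ := hZ
  obtain ⟨a, ha, c, hc, hpar, hφ⟩ := parallel h.gd hgd
  have haT : a ∈ Δ.Res T y := Δ.Res_mono h.ad.sub'' y ha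
  have hcT : c ∈ Δ.Res T y := Δ.mem_Res_trans hz (Δ.Res_mono hJ z hc)
  have hT : Δ.δ a c ∈ WJ cs T := Δ.δ_mem_of_mem_Res haT hcT
  have h1 : Δ.δ a c ≠ 1 := by
    intro h1
    apply hne
    rw [h1] at hpar
    have h2 := hpar.eq_of_one
    have h3 := Δ.eq_of_δ_eq_one h1
    rw [← Δ.Res_eq_of_mem hc, ← Δ.Res_eq_of_mem ha, h2, h3]
  obtain ⟨k, hk⟩ := h.pan
  obtain ⟨h2, h3⟩ := h.ad.eq_of_par t.φ_simple t.σσ hk hpar hJ hT hφ h1
  refine ⟨a, ha, c, h2, ?_⟩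
  rw [← h3, Δ.Res_eq_of_mem hc]

theorem PD.Gds_eq {T K K' : Set I} {b : W} {y : C} (h : t.PD T K K' b y) :
    t.Gds T y = insert (Δ.Res K y) {Z | Z ∈ SS Δ K K' b y ∧ t.θ '' Z = Z} := by
  ext Z
  constructor
  · intro hZ
    by_cases hne : Z = Δ.Res K y
    · left; exact hne
    · right
      refine ⟨h.mem_SS hZ hne, ?_⟩
      obtain ⟨J, z, hJ, hz, hgd, rfl⟩ := hZ
      exact image_Gd hgd
  · rintro (hZ | hZ)
    · exact ⟨K, y, h.ad.sub'', Δ.self_mem_Res _ _, h.gd, hZ⟩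
    · exact SS_sub h.ad h.gd hZ.1 hZ.2

/-- Each good residue of a panel has panel data. -/
theorem PD.of_mem {T K K' : Set I} {b : W} {y : C} (h : t.PD T K K' b y) {Z : Set C}
    (hZ : Z ∈ t.Gds T y) :
    ∃ L L' c z, Z = Δ.Res L z ∧ z ∈ Δ.Res T y ∧ t.PD T L L' c z := by
  by_cases hne : Z = Δ.Res K y
  · exact ⟨K, K', b, y, hne, Δ.self_mem_Res _ _, h⟩
  · have h1 := h.mem_SS hZ hne
    obtain ⟨z, hz, rfl⟩ := SS_all h.ad.par h1 (Δ.self_mem_Res _ _)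
    have hθ : t.θ '' Δ.Res K' z = Δ.Res K' z := by
      obtain ⟨J, z', hJ, hz', hgd, he⟩ := hZ
      rw [he]; exact image_Gd hgd
    refine ⟨K', K, b⁻¹, z, rfl, ?_, h.ad.symm, ?_, ?_, gd_of_SS h.ad h.gd h1 hθ⟩
    · rw [mem_Res, hz]; exact h.ad.mem
    · rw [Ne, inv_eq_one]; exact h.ne
    · obtain ⟨k, hk⟩ := h.pan
      exact h.ad.symm.panel t.φ_simple t.σσ hk

variable [Finite G] [hp : Fact p.Prime]

/-- Transitivity in the centraliser. -/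
theorem trans_SS (S : Sys Δ G p) (hth : Δ.Thick) (hp2 : p ≠ 2) {J J'' J' T : Set I} {x y1 : C}
    {v b : W} (hgx : t.Gd J x) (hxy : Δ.δ x y1 = v) (hpar : Par cs J J'' v)
    (hv : IsMinR cs T v) (hAd : Ad cs t.φ t.σ T J'' J' b) (hy : t.θ y1 ∈ Δ.Res T y1)
    {Z1 Z2 : Set C} (h1 : Z1 ∈ SS Δ J'' J' b y1) (h2 : Z2 ∈ SS Δ J'' J' b y1)
    (hθ1 : t.θ '' Z1 = Z1) (hθ2 : t.θ '' Z2 = Z2) :
    ∃ u ∈ t.cent, u ∈ S.UR (Δ.Res J x) ∧ u • Δ.Res T y1 = Δ.Res T y1 ∧ u • Z1 = Z2 := by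
  obtain ⟨u, hu, huM, huZ⟩ := S.trans_SS hth hxy hpar hv hAd h1 h2
  have hM : t.θ '' Δ.Res T y1 = Δ.Res T y1 := by
    rw [t.image_Res hAd.stT]
    exact Δ.Res_eq_of_mem hy
  obtain ⟨a, ha, hac, haZ⟩ := t.exists_cent (S.UR (Δ.Res J x) ⊓ MulAction.stabilizer G (Δ.Res T y1))
    (fun a ha => ⟨S.τ_mem_UR t hgx.θ_stable ha.1, by
      have h3 : a • Δ.Res T y1 = Δ.Res T y1 := ha.2
      change t.τ a • Δ.Res T y1 = Δ.Res T y1
      have h4 := t.image_smul a (Δ.Res T y1)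
      rw [h3, hM] at h4
      exact h4.symm⟩)
    (S.odd_card hp2 ((S.UR_isP ⟨x, Δ.self_mem_Res _ _⟩).to_le inf_le_left))
    hθ1 hθ2 ⟨u, ⟨hu, huM⟩, huZ⟩
  exact ⟨a, hac, ha.1, ha.2, haZ⟩

variable [Finite C]

theorem card_SS_odd (S : Sys Δ G p) (hth : Δ.Thick) (hp2 : p ≠ 2) {J'' J' T : Set I} {y1 : C}
    {b : W} (hAd : Ad cs t.φ t.σ T J'' J' b) (hgd : t.Gd J'' y1) :
    Odd {Z | Z ∈ SS Δ J'' J' b y1 ∧ t.θ '' Z = Z}.ncard := by
  classical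
  have hodd : Odd (SS Δ J'' J' b y1).ncard := by
    obtain ⟨Z, hZ⟩ := SS_nonempty (Δ := Δ) J'' J' b y1
    have h1 : SS Δ J'' J' b y1 = MulAction.orbit (S.UR (Δ.Res J'' y1)) Z := by
      ext Z'
      constructor
      · intro hZ'
        obtain ⟨u, hu, _, huZ⟩ := S.trans_SS hth (T := T) (Δ.δ_self y1) (par_one J'')
          (isMinR_one cs T) hAd hZ hZ'
        exact ⟨⟨u, hu⟩, huZ⟩
      · rintro ⟨⟨u, hu⟩, rfl⟩
        obtain ⟨z, hz, rfl⟩ := SS_all hAd.par hZ (Δ.self_mem_Res _ _)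
        refine ⟨y1, Δ.self_mem_Res _ _, u • z, ?_, S.smul_Res u J' z⟩
        rw [← hz, ← S.iso u y1 z, S.fix y1 u (hu y1 (Δ.self_mem_Res _ _))]
    rw [h1, ← MulAction.index_stabilizer]
    exact (S.odd_card hp2 (S.UR_isP ⟨y1, Δ.self_mem_Res _ _⟩)).of_dvd_nat
      (Subgroup.index_dvd_card _)
  let f : SS Δ J'' J' b y1 → SS Δ J'' J' b y1 := fun Z => ⟨t.θ '' Z.1, by
    obtain ⟨y', hy', z, hz, he⟩ := Z.2
    refine ⟨t.θ y', hgd.θ_stable y' hy', t.θ z, ?_, ?_⟩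
    · rw [t.δ_θ, hz, hAd.fix]
    · rw [he, t.image_Res hAd.st']⟩
  have hf : ∀ Z, f (f Z) = Z := by
    intro Z
    apply Subtype.ext
    change t.θ '' (t.θ '' Z.1) = Z.1
    rw [Set.image_image]
    simp only [t.θθ, Set.image_id']
  have h1 := card_fixed_modEq f hf
  have h2 : Nat.card {Z // f Z = Z} = {Z | Z ∈ SS Δ J'' J' b y1 ∧ t.θ '' Z = Z}.ncard := by
    rw [← Nat.card_coe_set_eq]
    refine Nat.card_congr ⟨fun Z => ⟨Z.1.1, Z.1.2, congrArg Subtype.val Z.2⟩,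
      fun Z => ⟨⟨Z.1, Z.2.1⟩, Subtype.ext Z.2.2⟩, fun Z => rfl, fun Z => rfl⟩
  rw [h2, Nat.card_coe_set_eq] at h1
  rw [Nat.odd_iff] at hodd ⊢
  unfold Nat.ModEq at h1
  omega

theorem PD.even (S : Sys Δ G p) (hth : Δ.Thick) (hp2 : p ≠ 2) {T K K' : Set I} {b : W} {y : C}
    (h : t.PD T K K' b y) : Even (t.Gds T y).ncard := by
  rw [h.Gds_eq, Set.ncard_insert_of_notMem (fun h1 => not_mem_SS h.ad h.ne h1.1)]
  exact (card_SS_odd S hth hp2 h.ad h.gd).add_one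

theorem PD.θ_mem {T K K' : Set I} {b : W} {y : C} (h : t.PD T K K' b y) : t.θ y ∈ Δ.Res T y :=
  Δ.Res_mono h.ad.sub'' y h.gd.θ_mem

/-- Transitivity on the good residues of a panel except one. -/
theorem PD.trans (S : Sys Δ G p) (hth : Δ.Thick) (hp2 : p ≠ 2) {T K K' : Set I} {b : W} {y : C}
    (h : t.PD T K K' b y) {Z1 Z2 : Set C} (h1 : Z1 ∈ t.Gds T y) (h2 : Z2 ∈ t.Gds T y)
    (hn1 : Z1 ≠ Δ.Res K y) (hn2 : Z2 ≠ Δ.Res K y) :
    ∃ u ∈ t.cent, u ∈ S.UR (Δ.Res K y) ∧ u • Δ.Res T y = Δ.Res T y ∧ u • Z1 = Z2 := by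
  have hθ : ∀ Z ∈ t.Gds T y, t.θ '' Z = Z := by
    rintro _ ⟨J, z, hJ, hz, hgd, rfl⟩
    exact image_Gd hgd
  exact trans_SS S hth hp2 h.gd (Δ.δ_self y) (par_one K) (isMinR_one cs T) h.ad h.θ_mem
    (h.mem_SS h1 hn1) (h.mem_SS h2 hn2) (hθ _ h1) (hθ _ h2)

/-- **Parity**: a normal subgroup of odd order of the centraliser fixes all the good residues of the
panels which it stabilises. -/
theorem PD.fixes (S : Sys Δ G p) (hth : Δ.Thick) (hp2 : p ≠ 2) {T K K' : Set I} {b : W} {y : C}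
    (h : t.PD T K K' b y) {X : Subgroup G} (hX : X ≤ t.cent)
    (hnorm : ∀ g ∈ t.cent, ∀ x ∈ X, g * x * g⁻¹ ∈ X) (hodd : Odd (Nat.card X)) {g : G}
    (hg : g ∈ X) (hgM : g • Δ.Res T y = Δ.Res T y) {Z : Set C} (hZ : Z ∈ t.Gds T y) :
    g • Z = Z := by
  classical
  by_contra hne
  have hgZ : g • Z ∈ t.Gds T y := smul_mem_Gds S (hX hg) hgM hZ
  let XM : Subgroup G := X ⊓ MulAction.stabilizer G (Δ.Res T y)
  have h1 : t.Gds T y = MulAction.orbit XM Z := by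
    ext Z'
    constructor
    · intro hZ'
      by_cases he : Z' = Z
      · rw [he]; exact MulAction.mem_orbit_self Z
      obtain ⟨L, L', c, z, rfl, hz, hPD⟩ := h.of_mem hZ
      rw [← Gds_congr hz] at hZ' hgZ
      obtain ⟨u, huc, hu, huM, huZ⟩ := hPD.trans S hth hp2 hgZ hZ' hne he
      have huL : u • Δ.Res L z = Δ.Res L z := by
        rw [S.smul_Res, S.fix z u (hu z (Δ.self_mem_Res _ _))]
      rw [Δ.Res_eq_of_mem hz] at huM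
      have huM' : u⁻¹ • Δ.Res T y = Δ.Res T y := by rw [inv_smul_eq_iff, huM]
      refine ⟨⟨u * g * u⁻¹, hnorm u huc g hg, ?_⟩, ?_⟩
      · change (u * g * u⁻¹) • Δ.Res T y = Δ.Res T y
        rw [mul_smul, mul_smul, huM', hgM, huM]
      · change (u * g * u⁻¹) • Δ.Res L z = Z'
        have huL' : u⁻¹ • Δ.Res L z = Δ.Res L z := by rw [inv_smul_eq_iff, huL]
        rw [mul_smul, mul_smul, huL', huZ]
    · rintro ⟨⟨a, ha⟩, rfl⟩
      exact smul_mem_Gds S (hX ha.1) ha.2 hZ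
  have h2 := h.even S hth hp2
  rw [h1, ← MulAction.index_stabilizer] at h2
  have h3 : Odd (Nat.card XM) := hodd.of_dvd_nat (Subgroup.card_dvd_of_le inf_le_left)
  have h4 : Odd (MulAction.stabilizer XM Z).index := h3.of_dvd_nat (Subgroup.index_dvd_card _)
  exact (Nat.not_even_iff_odd.2 h4) h2

end Tw

end Cfsg.Agent.FixBN
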