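import Mathlib
import Cfsg.Agent.FixBN.Trans
/-!
**THEOREM FIX**: a normal subgroup of odd order of the centraliser of the involutory automorphism
is a `p'`-group and centralises all the `p`-subgroups of the centraliser.
-/

set_option autoImplicit false
set_option linter.unusedSectionVars false

open scoped Pointwise

namespace Cfsg.Agent.FixBN

open Cfsg.Agent.Tits.Core Cfsg.Agent.Tits.Core.Bldg Cfsg.Agent.Tits.Exchange Cfsg.Agent.Tits
open Cfsg.Agent.FixBN.Cox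

variable {I : Type*} {M : CoxeterMatrix I} {W : Type*} [Group W] {cs : CoxeterSystem M W} {C : Type*}

local prefix:100 "ℓ" => cs.length

variable {Δ : Bldg cs C} {G : Type*} [Group G] [MulAction G C] {p : ℕ} {t : Tw Δ G}
  [F : OppRes.Cox cs]

theorem Sys.mem_UR_of_stab (S : Sys Δ G p) {K K' : Set I} {b : W} {y : C} (hpar : Par cs K K' b)
    {Z : Set C} (hZ : Z ∈ SS Δ K K' b y) {u : G} (hu : u ∈ S.UR (Δ.Res K y)) (huZ : u • Z = Z) :
    u ∈ S.UR Z := by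
  intro c hc
  obtain ⟨y', hy', z, hz, rfl⟩ := hZ
  obtain ⟨a, ha, hac⟩ := par_transfer hpar.symm (x := z) (y := y') (a := c)
    (by rw [Δ.symm y' z, hz]) hc
  have hac' : Δ.δ a c = b := by rw [Δ.symm c a, hac, inv_inv]
  have haK : a ∈ Δ.Res K y := Δ.mem_Res_trans hy' ha
  have hua : u • a = a := S.fix a u (hu a haK)
  have h1 : Δ.δ a (u • c) = b := by rw [← hac', ← S.iso u a c, hua]
  have h2 : u • c ∈ Δ.Res K' z := by rw [← huZ]; exact Set.smul_mem_smul_set hc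
  have h3 : u • c = c :=
    eq_of_isMinR hpar.minR hac' h1 (by rw [Δ.Res_eq_of_mem hc]; exact h2)
  exact S.mem_U_of_fix (hu a haK) h3

namespace Tw

/-- The `p`-subgroup of the centraliser attached to a good residue. -/
def P (t : Tw Δ G) (S : Sys Δ G p) (Q : Set C) : Subgroup G := t.cent ⊓ S.UR Q

omit F in
theorem mem_P {S : Sys Δ G p} {Q : Set C} {g : G} :
    g ∈ t.P S Q ↔ g ∈ t.cent ∧ g ∈ S.UR Q := Iff.rfl

omit F in
theorem P_isP (S : Sys Δ G p) {Q : Set C} (hQ : Q.Nonempty) : IsPGroup p (t.P S Q) :=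
  (S.UR_isP hQ).to_le inf_le_right

omit F in
theorem smul_of_mem_UR (S : Sys Δ G p) {J : Set I} {x : C} {u : G} (hu : u ∈ S.UR (Δ.Res J x)) :
    u • Δ.Res J x = Δ.Res J x := by
  rw [S.smul_Res, S.fix x u (hu x (Δ.self_mem_Res _ _))]

/-- The residue of type `T` containing a stabilised residue of smaller type is stabilised. -/
theorem smul_Res_of_sub (S : Sys Δ G p) {K T : Set I} (hK : K ⊆ T) {z : C} {c : G}
    (h : c • Δ.Res K z = Δ.Res K z) : c • Δ.Res T z = Δ.Res T z := by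
  have h1 : c • z ∈ Δ.Res K z := by
    rw [← h]; exact Set.smul_mem_smul_set (Δ.self_mem_Res _ _)
  rw [S.smul_Res]
  exact Δ.Res_eq_of_mem (Δ.Res_mono hK z h1)

variable [Finite G] [hp : Fact p.Prime] [Finite C]

theorem PD.card_P (S : Sys Δ G p) (hth : Δ.Thick) (hp2 : p ≠ 2) {T K K' : Set I} {b : W} {y : C}
    (h : t.PD T K K' b y) {Z : Set C} (hZ : Z ∈ t.Gds T y) (hne : Z ≠ Δ.Res K y) :
    Nat.card ↥(t.P S (Δ.Res K y)) =
      Nat.card ↥(t.P S (Δ.Res K y) ⊓ t.P S Z) * (t.Gds T y \ {Δ.Res K y}).ncard := by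
  classical
  have h1 : t.Gds T y \ {Δ.Res K y} = MulAction.orbit (t.P S (Δ.Res K y)) Z := by
    ext Z'
    constructor
    · rintro ⟨hZ', hne'⟩
      obtain ⟨u, huc, hu, _, huZ⟩ := h.trans S hth hp2 hZ hZ' hne hne'
      exact ⟨⟨u, huc, hu⟩, huZ⟩
    · rintro ⟨⟨u, huc, hu⟩, rfl⟩
      have hue : u • Δ.Res K y = Δ.Res K y := smul_of_mem_UR S hu
      refine ⟨smul_mem_Gds S huc (smul_Res_of_sub S h.ad.sub'' hue) hZ, fun h2 => hne ?_⟩
      have h3 : u • Z = u • Δ.Res K y := by rw [hue]; exact h2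
      exact smul_left_cancel u h3
  have h2 : Nat.card ↥(t.P S (Δ.Res K y) ⊓ t.P S Z) =
      Nat.card (MulAction.stabilizer (t.P S (Δ.Res K y)) Z) := by
    refine Nat.card_congr ⟨fun u => ⟨⟨u.1, u.2.1⟩, ?_⟩, fun u => ⟨u.1.1, u.1.2, u.1.2.1, ?_⟩,
      fun u => rfl, fun u => rfl⟩
    · change u.1 • Z = Z
      obtain ⟨J, z, hJ, hz, hgd, rfl⟩ := hZ
      exact smul_of_mem_UR S u.2.2.2
    · exact S.mem_UR_of_stab h.ad.par (h.mem_SS hZ hne) u.1.2.2 u.2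
  rw [h1, h2, ← MulAction.index_stabilizer, Subgroup.card_mul_index]

theorem PD.card_eq (S : Sys Δ G p) (hth : Δ.Thick) (hp2 : p ≠ 2) {T K K' : Set I} {b : W} {y : C}
    (h : t.PD T K K' b y) {Z : Set C} (hZ : Z ∈ t.Gds T y) :
    Nat.card ↥(t.P S Z) = Nat.card ↥(t.P S (Δ.Res K y)) := by
  classical
  by_cases hne : Z = Δ.Res K y
  · rw [hne]
  have h1 := h.card_P S hth hp2 hZ hne
  obtain ⟨L, L', c, z, rfl, hz, hPD⟩ := h.of_mem hZ
  have hK : Δ.Res K y ∈ t.Gds T z := by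
    rw [Gds_congr hz]
    exact ⟨K, y, h.ad.sub'', Δ.self_mem_Res _ _, h.gd, rfl⟩
  have h2 := hPD.card_P S hth hp2 hK (Ne.symm hne)
  have h3 : (t.Gds T z \ {Δ.Res L z}).ncard = (t.Gds T y \ {Δ.Res K y}).ncard := by
    have hfin : (t.Gds T y).Finite := Set.toFinite _
    rw [Gds_congr hz] at hK ⊢
    have e1 := Set.ncard_sdiff_singleton_add_one hZ hfin
    have e2 := Set.ncard_sdiff_singleton_add_one hK hfin
    omega
  rw [h1, h2, h3, inf_comm]

/-- The panel data of the first step from `y` towards `x`. -/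
theorem exists_PD {J J' : Set I} {x y : C} (h : t.Gd J x) (h' : t.Gd J' y)
    (hpar : Par cs J J' (Δ.δ x y)) (hφ : t.φ (Δ.δ x y) = Δ.δ x y) (hne : Δ.δ x y ≠ 1) :
    ∃ (T J'' : Set I) (v b : W) (y1 : C), Δ.δ x y1 = v ∧ Δ.δ y1 y = b ∧
      ℓ v < ℓ (Δ.δ x y) ∧ IsMinR cs T v ∧ t.φ v = v ∧ Par cs J J'' v ∧ t.PD T J'' J' b y1 ∧
      t.PD T J' J'' b⁻¹ y ∧ Δ.Res J' y ∈ t.Gds T y1 ∧ Δ.Res J' y ≠ Δ.Res J'' y1 ∧
      y ∈ Δ.Res T y1 := by
  obtain ⟨T, J'', v, b, i, y1, h1, h2, h3, h4, h5, h6, h7, h8, h9, h10⟩ :=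
    exists_towards h h' hpar hφ hne
  have hy : y ∈ Δ.Res T y1 := by rw [mem_Res, h2]; exact h7.mem
  refine ⟨T, J'', v, b, y1, h1, h2, h3, h4, h5, h6, ⟨h7, h9, ?_, h10⟩,
    ⟨h7.symm, by rwa [Ne, inv_eq_one], ⟨i, h8⟩, h'⟩, ⟨J', y, h7.sub', hy, h', rfl⟩, ?_, hy⟩
  · exact h7.panel t.φ_simple t.σσ h8
  · intro he
    have h11 := not_mem_SS h7 (y1 := y1) h9
    rw [← he] at h11
    exact h11 (mem_SS_of_δ h2)

theorem card_P_const (S : Sys Δ G p) (hth : Δ.Thick) (hp2 : p ≠ 2) {J J' : Set I} {x y : C}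
    (h : t.Gd J x) (h' : t.Gd J' y) :
    Nat.card ↥(t.P S (Δ.Res J' y)) = Nat.card ↥(t.P S (Δ.Res J x)) := by
  obtain ⟨x', hx', y', hy', hpar, hφ⟩ := parallel h h'
  rw [← Δ.Res_eq_of_mem hx', ← Δ.Res_eq_of_mem hy']
  replace h := h.congr hx'
  replace h' := h'.congr hy'
  clear hx' hy'
  induction hn : ℓ (Δ.δ x' y') using Nat.strong_induction_on generalizing J' y' with
  | _ n ih =>
    by_cases hne : Δ.δ x' y' = 1
    · rw [hne] at hpar
      rw [← hpar.eq_of_one, Δ.eq_of_δ_eq_one hne]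
    · obtain ⟨T, J'', v, b, y1, h1, h2, h3, h4, h5, h6, h7, h8, h9, h10, h11⟩ :=
        exists_PD h h' hpar hφ hne
      rw [← h1] at h3 h5 h6
      rw [h7.card_eq S hth hp2 h9]
      exact ih _ (by rw [← hn]; exact h3) y1 h6 h5 h7.gd rfl

/-- Each `p`-subgroup of the centraliser is contained in one of the groups `P Q`. -/
theorem exists_P (S : Sys Δ G p) (hth : Δ.Thick) {V : Subgroup G} (hV : V ≤ t.cent)
    (hVp : IsPGroup p V) : ∃ J x, t.Gd J x ∧ V ≤ t.P S (Δ.Res J x) := by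
  obtain ⟨x0, hx0⟩ := S.exists_fix V hVp
  obtain ⟨c, hc, J, hJ, hcJ, hmin⟩ := t.disp (X := {x : C | ∀ v ∈ (V : Set G), v • x = x})
    ⟨x0, hx0⟩ (by
      intro x hx v hv
      have h1 := t.θ_smul v x
      rw [hx v hv, t.mem_cent.1 (hV hv)] at h1
      exact h1.symm) (S.conv_fix _)
  have hcθ : t.θ c ∈ Δ.Res J c := by rw [mem_Res, hcJ]; exact F.wJ_mem J
  have hVc : V ≤ S.U c := S.max c V hVp hc
  have hfix : ∀ v ∈ V, ∀ y ∈ Δ.Res J c, v • y = y := by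
    intro v hv
    refine S.fixRes hth (hVc hv) hcJ ?_
    have h1 := t.θ_smul v c
    rw [hc v hv, t.mem_cent.1 (hV hv)] at h1
    exact h1.symm
  refine ⟨J, c, ⟨hJ, fun y hy => ?_⟩, fun v hv => ⟨hV hv, fun y hy => ?_⟩⟩
  · have h1 : Δ.δ y (t.θ y) ∈ WJ cs J := Δ.δ_mem_of_mem_Res hy (θ_stable_Res hJ hcθ y hy)
    exact (F.longest J).eq_of_length h1 (hmin y fun v hv => hfix v hv y hy)
  · exact S.mem_U_of_fix (hVc hv) (hfix v hv y hy)

/-- An opposite good residue. -/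
theorem exists_opp (S : Sys Δ G p) (hth : Δ.Thick) (hp2 : p ≠ 2) {J : Set I} {x : C}
    (h : t.Gd J x) : ∃ K z, t.Gd K z ∧ Δ.Opp x z ∧
      ∀ u, u ∈ S.UR (Δ.Res J x) → u ∈ S.UR (Δ.Res K z) → u = 1 := by
  obtain ⟨K, b, had⟩ := exists_ad (cs := cs) t.φ_simple t.σσ (T := Set.univ) (J := J)
    (fun _ _ => Set.mem_univ _) h.1 (Set.subset_univ _)
  have hodd := card_SS_odd S hth hp2 had h
  have hne : {Z | Z ∈ SS Δ J K b x ∧ t.θ '' Z = Z}.Nonempty := by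
    rw [Set.nonempty_iff_ne_empty]
    intro h0
    rw [h0, Set.ncard_empty] at hodd
    exact (Nat.not_odd_iff_even.2 Even.zero) hodd
  obtain ⟨Z, hZ, hθ⟩ := hne
  obtain ⟨z, hz, rfl⟩ := SS_all had.par hZ (Δ.self_mem_Res _ _)
  have hgz : t.Gd K z := gd_of_SS had h hZ hθ
  obtain ⟨z', hz'⟩ := Δ.exists_δ z (wJ cs K)
  have hzz : z' ∈ Δ.Res K z := by rw [mem_Res, hz']; exact F.wJ_mem K
  have hopp : Δ.Opp x z' := by
    have := Δ.δ_mul_of hz hz' (had.par.minR _ (F.wJ_mem K))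
    rw [had.long] at this
    exact this
  refine ⟨K, z', hgz.congr hzz, hopp, fun u hu hu' => ?_⟩
  exact S.free x z' hopp u (hu x (Δ.self_mem_Res _ _))
    (S.fix z' u (hu' z' (Δ.self_mem_Res _ _)))

/-! ### The walk -/

/-- `d` and `d'` have the same group `P`, and the stabiliser of `d` in the centraliser stabilises
`d'`. -/
structure TC (t : Tw Δ G) (S : Sys Δ G p) (d d' : Set C) : Prop where
  st : ∀ c ∈ t.cent, c • d = d → c • d' = d'
  eq : t.P S d = t.P S d'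

omit F [Finite G] hp [Finite C] in
theorem TC.refl (S : Sys Δ G p) (d : Set C) : t.TC S d d := ⟨fun _ _ h => h, rfl⟩

omit F [Finite G] hp [Finite C] in
theorem TC.trans {S : Sys Δ G p} {d d' d'' : Set C} (h : t.TC S d d') (h' : t.TC S d' d'') :
    t.TC S d d'' := ⟨fun c hc hd => h'.st c hc (h.st c hc hd), h.eq.trans h'.eq⟩

/-- In a thin panel, the two good residues are tied. -/
theorem PD.thin (S : Sys Δ G p) {T K K' : Set I} {b : W} {y y1 : C}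
    (h : t.PD T K K' b y1) (h' : t.PD T K' K b⁻¹ y) (hy : y ∈ Δ.Res T y1)
    (hne : Δ.Res K' y ≠ Δ.Res K y1)
    (hthin : ∀ Z ∈ t.Gds T y1, Z = Δ.Res K y1 ∨ Z = Δ.Res K' y) :
    t.TC S (Δ.Res K' y) (Δ.Res K y1) := by
  have hM : Δ.Res T y = Δ.Res T y1 := Δ.Res_eq_of_mem hy
  have he : Δ.Res K y1 ∈ t.Gds T y1 := ⟨K, y1, h.ad.sub'', Δ.self_mem_Res _ _, h.gd, rfl⟩
  have hd : Δ.Res K' y ∈ t.Gds T y1 := ⟨K', y, h.ad.sub', hy, h'.gd, rfl⟩
  have hst : ∀ c ∈ t.cent, c • Δ.Res K' y = Δ.Res K' y → c • Δ.Res K y1 = Δ.Res K y1 := by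
    intro c hc hcd
    have h1 : c • Δ.Res T y1 = Δ.Res T y1 := by
      rw [← hM]; exact smul_Res_of_sub S h.ad.sub' hcd
    rcases hthin _ (smul_mem_Gds S hc h1 he) with h2 | h2
    · exact h2
    · exfalso
      have h3 : c • Δ.Res K y1 = c • Δ.Res K' y := by rw [h2, hcd]
      exact hne (smul_left_cancel c h3).symm
  refine ⟨hst, le_antisymm (fun u hu => ?_) (fun u hu => ?_)⟩
  · have h1 : u • Δ.Res K' y = Δ.Res K' y := smul_of_mem_UR S hu.2
    have h2 := hst u hu.1 h1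
    refine ⟨hu.1, S.mem_UR_of_stab h'.ad.par (h'.mem_SS ?_ (Ne.symm hne)) hu.2 h2⟩
    rw [Gds_congr hy]
    exact he
  · have h1 : u • Δ.Res K y1 = Δ.Res K y1 := smul_of_mem_UR S hu.2
    refine ⟨hu.1, S.mem_UR_of_stab h.ad.par (h.mem_SS hd hne) hu.2 ?_⟩
    rcases hthin _ (smul_mem_Gds S hu.1 (smul_Res_of_sub S h.ad.sub'' h1) hd) with h2 | h2
    · exfalso
      have h3 : u • Δ.Res K' y = u • Δ.Res K y1 := by rw [h1]; exact h2
      exact hne (smul_left_cancel u h3)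
    · exact h2

theorem walk (S : Sys Δ G p) (hth : Δ.Thick) (hp2 : p ≠ 2) {J J' : Set I} {x y : C}
    (h : t.Gd J x) (h' : t.Gd J' y) :
    t.TC S (Δ.Res J' y) (Δ.Res J x) ∨
    ∃ (T L L' : Set I) (c : W) (y1 : C) (K : Set I) (z : C) (u : G), t.PD T L L' c y1 ∧ K ⊆ T ∧
      z ∈ Δ.Res T y1 ∧ t.Gd K z ∧ t.TC S (Δ.Res J' y) (Δ.Res K z) ∧
      u ∈ t.P S (Δ.Res J x) ∧ u • Δ.Res T y1 = Δ.Res T y1 ∧ u • Δ.Res K z ≠ Δ.Res K z := by
  obtain ⟨x', hx', y', hy', hpar, hφ⟩ := parallel h h'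
  rw [← Δ.Res_eq_of_mem hx', ← Δ.Res_eq_of_mem hy']
  replace h := h.congr hx'
  replace h' := h'.congr hy'
  clear hx' hy'
  induction hn : ℓ (Δ.δ x' y') using Nat.strong_induction_on generalizing J' y' with
  | _ n ih =>
    by_cases hne : Δ.δ x' y' = 1
    · left
      rw [hne] at hpar
      rw [← hpar.eq_of_one, Δ.eq_of_δ_eq_one hne]
      exact TC.refl S _
    · obtain ⟨T, J'', v, b, y1, h1, h2, h3, h4, h5, h6, h7, h8, h9, h10, h11⟩ :=
        exists_PD h h' hpar hφ hne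
      by_cases hthin : ∀ Z ∈ t.Gds T y1, Z = Δ.Res J'' y1 ∨ Z = Δ.Res J' y'
      · have htc := h7.thin S h8 h11 h10 hthin
        have h12 : Par cs J J'' (Δ.δ x' y1) := by rw [h1]; exact h6
        have h13 : t.φ (Δ.δ x' y1) = Δ.δ x' y1 := by rw [h1]; exact h5
        rcases ih _ (by rw [← hn, h1]; exact h3) y1 h12 h13 h7.gd rfl with h14 | h14
        · left
          exact htc.trans h14
        · right
          obtain ⟨T2, L, L', c, y2, K, z, u, k1, k2, k3, k4, k5, k6⟩ := h14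
          exact ⟨T2, L, L', c, y2, K, z, u, k1, k2, k3, k4, htc.trans k5, k6⟩
      · right
        push Not at hthin
        obtain ⟨Z, hZ, hZ1, hZ2⟩ := hthin
        have hθ : ∀ Z ∈ t.Gds T y1, t.θ '' Z = Z := by
          rintro _ ⟨J, z, hJ, hz, hgd, rfl⟩
          exact image_Gd hgd
        obtain ⟨u, huc, hu, huM, huZ⟩ := trans_SS S hth hp2 h h1 h6 h4 h7.ad h7.θ_mem
          (h7.mem_SS h9 h10) (h7.mem_SS hZ hZ1) (hθ _ h9) (hθ _ hZ)
        refine ⟨T, J'', J', b, y1, J', y', u, h7, h7.ad.sub', h11, h', TC.refl S _, ⟨huc, hu⟩,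
          huM, ?_⟩
        rw [huZ]
        exact hZ2

/-- **Main claim.** A normal subgroup of odd order of the centraliser normalises all the `P Q`. -/
theorem P_smul (S : Sys Δ G p) (hth : Δ.Thick) (hp2 : p ≠ 2) {X : Subgroup G} (hX : X ≤ t.cent)
    (hnorm : ∀ g ∈ t.cent, ∀ x ∈ X, g * x * g⁻¹ ∈ X) (hodd : Odd (Nat.card X)) {J : Set I} {x : C}
    (h : t.Gd J x) {w : G} (hw : w ∈ X) : t.P S (w • Δ.Res J x) = t.P S (Δ.Res J x) := by
  have hd : t.Gd J (w • x) := gd_smul S h (hX hw)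
  rcases walk S hth hp2 h hd with h1 | h1
  · rw [S.smul_Res]
    exact h1.eq
  · exfalso
    obtain ⟨T, L, L', c, y1, K, z, u, hPD, hKT, hz, hgz, htc, hu, huM, hne⟩ := h1
    apply hne
    have huQ : u⁻¹ • Δ.Res J x = Δ.Res J x := by
      rw [inv_smul_eq_iff, smul_of_mem_UR S hu.2]
    have hc : w * u⁻¹ * w⁻¹ ∈ t.cent :=
      t.cent.mul_mem (t.cent.mul_mem (hX hw) (t.cent.inv_mem hu.1)) (t.cent.inv_mem (hX hw))
    have hcd : (w * u⁻¹ * w⁻¹) • Δ.Res J (w • x) = Δ.Res J (w • x) := by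
      rw [← S.smul_Res, mul_smul, mul_smul, inv_smul_smul, huQ]
    have hck : (w * u⁻¹ * w⁻¹) • Δ.Res K z = Δ.Res K z := htc.st _ hc hcd
    have hM : Δ.Res T z = Δ.Res T y1 := Δ.Res_eq_of_mem hz
    have hcM : (w * u⁻¹ * w⁻¹) • Δ.Res T y1 = Δ.Res T y1 := by
      rw [← hM]; exact smul_Res_of_sub S hKT hck
    have hX' : u * (w * u⁻¹ * w⁻¹) ∈ X := by
      have h2 := mul_mem (hnorm u hu.1 w hw) (inv_mem hw)
      have h3 : u * w * u⁻¹ * w⁻¹ = u * (w * u⁻¹ * w⁻¹) := by group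
      rwa [h3] at h2
    have h4 := hPD.fixes S hth hp2 hX hnorm hodd hX'
      (by rw [mul_smul, hcM, huM]) (Z := Δ.Res K z) ⟨K, z, hKT, hz, hgz, rfl⟩
    rw [mul_smul, hck] at h4
    exact h4

end Tw

open Tw in
/-- **THEOREM FIX.** -/
theorem fix [Finite G] [hp : Fact p.Prime] [Finite C] (S : Sys Δ G p) (t : Tw Δ G)
    (hth : Δ.Thick) (hp2 : p ≠ 2) {X : Subgroup G} (hX : X ≤ t.cent)
    (hnorm : ∀ g ∈ t.cent, ∀ x ∈ X, g * x * g⁻¹ ∈ X) (hodd : Odd (Nat.card X)) :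
    ¬ p ∣ Nat.card X ∧
      ∀ V : Subgroup G, V ≤ t.cent → IsPGroup p V → ∀ v ∈ V, ∀ x ∈ X, v * x = x * v := by
  classical
  have hconj : ∀ (J : Set I) (x : C), t.Gd J x → ∀ w ∈ X, ∀ u ∈ t.P S (Δ.Res J x),
      w * u * w⁻¹ ∈ t.P S (Δ.Res J x) := by
    intro J x hgd w hw u hu
    rw [← P_smul S hth hp2 hX hnorm hodd hgd hw]
    exact ⟨t.cent.mul_mem (t.cent.mul_mem (hX hw) hu.1) (t.cent.inv_mem (hX hw)),
      S.conj_mem_UR_iff.2 hu.2⟩
  -- all `p`-subgroups of `X` are contained in all `P Q`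
  have hR : ∀ R : Subgroup G, R ≤ X → IsPGroup p R → ∀ (J : Set I) (x : C), t.Gd J x →
      R ≤ t.P S (Δ.Res J x) := by
    intro R hRX hRp J x hgd
    have hnorm' : R ≤ Subgroup.normalizer (t.P S (Δ.Res J x) : Set G) := by
      intro w hw
      rw [Subgroup.mem_normalizer_iff]
      intro u
      refine ⟨fun hu => hconj J x hgd w (hRX hw) u hu, fun hu => ?_⟩
      have h1 := hconj J x hgd w⁻¹ (inv_mem (hRX hw)) _ hu
      have h2 : w⁻¹ * (w * u * w⁻¹) * w⁻¹⁻¹ = u := by group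
      rwa [h2] at h1
    have hsup : IsPGroup p ↥(R ⊔ t.P S (Δ.Res J x)) :=
      IsPGroup.to_sup_of_normal_right' hRp (P_isP S ⟨x, Δ.self_mem_Res _ _⟩) hnorm'
    obtain ⟨K, z, hgz, hle⟩ := exists_P S hth
      (sup_le (hRX.trans hX) (inf_le_left : t.P S (Δ.Res J x) ≤ t.cent)) hsup
    have h1 : t.P S (Δ.Res J x) = t.P S (Δ.Res K z) :=
      Subgroup.eq_of_le_of_card_ge (le_sup_right.trans hle)
        (card_P_const S hth hp2 hgd hgz).le
    rw [h1]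
    exact le_sup_left.trans hle
  have hR1 : ∀ R : Subgroup G, R ≤ X → IsPGroup p R → R = ⊥ := by
    intro R hRX hRp
    obtain ⟨J, x, hgd, hle⟩ := exists_P S hth (hRX.trans hX) hRp
    obtain ⟨K, z, hgz, _, hone⟩ := exists_opp S hth hp2 hgd
    rw [eq_bot_iff]
    intro u hu
    exact hone u (hle hu).2 (hR R hRX hRp K z hgz hu).2
  constructor
  · intro hdvd
    obtain ⟨g, hg⟩ := exists_prime_orderOf_dvd_card' p hdvd
    have h1 : IsPGroup p (Subgroup.zpowers (g : G)) := by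
      rw [IsPGroup.iff_card]
      refine ⟨1, ?_⟩
      rw [Nat.card_zpowers, pow_one, ← hg, Subgroup.orderOf_coe]
    have h2 := hR1 _ ((Subgroup.zpowers_le).2 g.2) h1
    rw [Subgroup.zpowers_eq_bot] at h2
    have h3 : g = 1 := Subtype.ext h2
    rw [h3, orderOf_one] at hg
    exact hp.out.one_lt.ne hg
  · intro V hV hVp v hv x hx
    obtain ⟨J, y, hgd, hle⟩ := exists_P S hth hV hVp
    have hvP := hle hv
    have h1 : v * x * v⁻¹ * x⁻¹ ∈ X := mul_mem (hnorm v (hV hv) x hx) (inv_mem hx)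
    have h2 : v * x * v⁻¹ * x⁻¹ ∈ t.P S (Δ.Res J y) := by
      have h3 := mul_mem hvP (hconj J y hgd x hx _ (inv_mem hvP))
      have h4 : v * (x * v⁻¹ * x⁻¹) = v * x * v⁻¹ * x⁻¹ := by group
      rwa [h4] at h3
    have h3 : IsPGroup p (Subgroup.zpowers (v * x * v⁻¹ * x⁻¹)) :=
      (P_isP S ⟨y, Δ.self_mem_Res _ _⟩ : IsPGroup p (t.P S (Δ.Res J y))).to_le
        ((Subgroup.zpowers_le).2 h2)
    have h4 := hR1 _ ((Subgroup.zpowers_le).2 h1) h3
    rw [Subgroup.zpowers_eq_bot] at h4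
    calc v * x = (v * x * v⁻¹ * x⁻¹) * (x * v) := by group
      _ = x * v := by rw [h4, one_mul]

end Cfsg.Agent.FixBN
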