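import Mathlib
/-!
THEOREM FIX, part T2: an automorphism of order two whose fixed points in a subgroup `V` of odd order lie in
a normal subgroup `N` inverts `V` modulo `N`.
-/

set_option autoImplicit false

namespace Cfsg.Agent.FixBN.ThinGrp

variable {G : Type*} [Group G]

theorem pow_fix (τ : G ≃* G) {v n : G} (h : τ v = v * n) (hn : τ n = n⁻¹) {k : ℕ}
    (hk : n ^ (2 * k + 1) = 1) : τ (v * n ^ (k + 1)) = v * n ^ (k + 1) := by
  rw [map_mul, map_pow, h, hn, mul_assoc, mul_right_inj]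
  have h1 : n * n⁻¹ ^ (k + 1) = (n ^ k)⁻¹ := by
    rw [inv_pow, pow_succ', mul_inv_rev]
    group
  rw [h1, inv_eq_iff_mul_eq_one, ← pow_add]
  have h2 : k + (k + 1) = 2 * k + 1 := by ring
  rw [h2, hk]

theorem inv_of_fixed [Finite G] (τ : G ≃* G) (hττ : ∀ g, τ (τ g) = g) (V N : Subgroup G)
    (hNV : N ≤ V) (hnorm : ∀ v ∈ V, ∀ n ∈ N, v * n * v⁻¹ ∈ N) (hV : ∀ v ∈ V, τ v ∈ V)
    (hN : ∀ n ∈ N, τ n ∈ N) (hodd : Odd (Nat.card V)) (hfix : ∀ v ∈ V, τ v = v → v ∈ N) :
    (∀ v ∈ V, τ v * v ∈ N) ∧ ∀ v ∈ V, ∀ w ∈ V, (v * w)⁻¹ * (w * v) ∈ N := by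
  classical
  have hnor : (N.subgroupOf V).Normal := ⟨fun n hn v => by
    rw [Subgroup.mem_subgroupOf] at hn ⊢
    exact hnorm v v.2 n hn⟩
  let f : V →* V := (τ.toMonoidHom.comp V.subtype).codRestrict V (fun v => hV v v.2)
  have hf : ∀ v : V, (f v : G) = τ v := fun v => rfl
  let φ : V ⧸ N.subgroupOf V →* V ⧸ N.subgroupOf V :=
    QuotientGroup.map (N.subgroupOf V) (N.subgroupOf V) f (fun n hn => by
      rw [Subgroup.mem_comap, Subgroup.mem_subgroupOf, hf]
      exact hN n hn)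
  have hφ : ∀ v : V, φ (QuotientGroup.mk v) = QuotientGroup.mk (f v) := fun v => rfl
  have hinvol : Function.Involutive φ := by
    intro q
    induction q using QuotientGroup.induction_on with
    | _ v =>
      rw [hφ, hφ]
      congr 1
      exact Subtype.ext (hττ v)
  have hfree : MonoidHom.FixedPointFree φ := by
    intro q hq
    induction q using QuotientGroup.induction_on with
    | _ v =>
      rw [hφ, eq_comm, QuotientGroup.eq, Subgroup.mem_subgroupOf] at hq
      change ((v : G)⁻¹ * τ v) ∈ N at hq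
      obtain ⟨n, hn⟩ : ∃ n, n = (v : G)⁻¹ * τ v := ⟨_, rfl⟩
      rw [← hn] at hq
      have h1 : τ (v : G) = v * n := by rw [hn, mul_inv_cancel_left]
      have h2 : τ n = n⁻¹ := by
        rw [hn, map_mul, map_inv, hττ, mul_inv_rev, inv_inv]
      have h3 : Odd (orderOf n) := by
        refine hodd.of_dvd_nat ?_
        rw [Subgroup.orderOf_dvd_natCard V (hNV hq) |>.choose_spec]
        exact dvd_mul_right _ _
      obtain ⟨k, hk⟩ := h3
      have h4 : n ^ (2 * k + 1) = 1 := by rw [← hk]; exact pow_orderOf_eq_one n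
      have h5 := pow_fix τ h1 h2 h4
      have h6 := hfix _ (mul_mem v.2 (pow_mem (hNV hq) _)) h5
      have h7 : (v : G) ∈ N := by
        have h8 := mul_mem h6 (inv_mem (pow_mem hq (k + 1)))
        rwa [mul_inv_cancel_right] at h8
      rw [QuotientGroup.eq_one_iff, Subgroup.mem_subgroupOf]
      exact h7
  have hinv := hfree.coe_eq_inv_of_involutive hinvol
  have hcomm := hfree.commute_all_of_involutive hinvol
  constructor
  · intro v hv
    have h1 : φ (QuotientGroup.mk ⟨v, hv⟩) = (QuotientGroup.mk ⟨v, hv⟩)⁻¹ := by rw [hinv]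
    rw [hφ, ← QuotientGroup.mk_inv, eq_comm, QuotientGroup.eq, Subgroup.mem_subgroupOf] at h1
    change (v⁻¹)⁻¹ * τ v ∈ N at h1
    rw [inv_inv] at h1
    have h2 := hnorm v⁻¹ (inv_mem hv) _ h1
    have h3 : v⁻¹ * (v * τ v) * v⁻¹⁻¹ = τ v * v := by group
    rwa [h3] at h2
  · intro v hv w hw
    have h1 := hcomm (QuotientGroup.mk ⟨v, hv⟩) (QuotientGroup.mk ⟨w, hw⟩)
    rw [Commute, SemiconjBy, ← QuotientGroup.mk_mul, ← QuotientGroup.mk_mul, QuotientGroup.eq,
      Subgroup.mem_subgroupOf] at h1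
    exact h1

end Cfsg.Agent.FixBN.ThinGrp
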