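import Mathlib
import Cfsg.Agent.FixBN.Defs
import Cfsg.Agent.FixBN.Cox
import Cfsg.Agent.FixBN.Disp
import Cfsg.Agent.FixBN.ThinGrp
/-!
THEOREM FIX, part T2 (thin residues): the local computations.
-/

set_option autoImplicit false
set_option linter.unusedSectionVars false

open scoped Pointwise

namespace Cfsg.Agent.FixBN.Thin

open Cfsg.Agent.Tits.Core Cfsg.Agent.Tits.Core.Bldg Cfsg.Agent.Tits.Exchange Cfsg.Agent.Tits

variable {I : Type*} {M : CoxeterMatrix I} {W : Type*} [Group W] {cs : CoxeterSystem M W} {C : Type*}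

local prefix:100 "ℓ" => cs.length

section Coxeter

variable [F : OppRes.Cox cs]

theorem length_mul_simple_of_notMem {J : Set I} {w : W} (hw : w ∈ WJ cs J) {k : I} (hk : k ∉ J) :
    ℓ (w * cs.simple k) = ℓ w + 1 := by
  have h1 := cs.length_mul_simple w k
  by_contra hne
  exact hk (F.descent_mem J w hw k (by omega))

theorem length_simple_mul_of_notMem {J : Set I} {w : W} (hw : w ∈ WJ cs J) {k : I} (hk : k ∉ J) :
    ℓ (cs.simple k * w) = ℓ w + 1 := by
  have h1 := length_mul_simple_of_notMem (inv_mem hw) hk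
  have h2 := cs.length_inv (cs.simple k * w)
  rw [mul_inv_rev, cs.inv_simple] at h2
  rw [← h2, h1, cs.length_inv]

/-- `s ∉ J`, `s w_J = w_J s` implies that `s` commutes with `J`. -/
theorem comm_of_comm_wJ {J : Set I} {s j : I} (hs : s ∉ J) (hj : j ∈ J)
    (h : cs.simple s * wJ cs J = wJ cs J * cs.simple s) :
    cs.simple s * cs.simple j = cs.simple j * cs.simple s := by
  have hsj : s ≠ j := fun h' => hs (h' ▸ hj)
  obtain ⟨a, ha, b, hb, hab⟩ := exists_isMinR cs {j, s} (wJ cs J * cs.simple s)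
  have hlen := length_mul_simple_of_notMem (F.wJ_mem J) hs
  have hj2 := F.len_wJ_mul (simple_mem_WJ cs hj)
  rw [cs.length_simple] at hj2
  have hjm : cs.simple j ∈ WJ cs {j, s} := simple_mem_WJ cs (by simp)
  have hsm : cs.simple s ∈ WJ cs {j, s} := simple_mem_WJ cs (by simp)
  have hlv := ha b hb
  rw [← hab] at hlv
  -- `b` is the longest element of `W_{j,s}`
  have hb' : b = wJ cs {j, s} := by
    refine F.eq_wJ_of_descents hb fun k hk => ?_
    have hk' : k = j ∨ k = s := by simpa using hk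
    have hkm : cs.simple k ∈ WJ cs {j, s} := simple_mem_WJ cs hk
    have h2 := ha _ (mul_mem hb hkm)
    rw [← mul_assoc, ← hab] at h2
    have h3 : ℓ (wJ cs J * cs.simple s * cs.simple k) ≤ ℓ (wJ cs J) := by
      rcases hk' with rfl | rfl
      · rw [← h, mul_assoc]
        have := cs.length_mul_le (cs.simple s) (wJ cs J * cs.simple k)
        rw [cs.length_simple] at this
        omega
      · rw [mul_assoc, cs.simple_mul_simple_self, mul_one]
    omega
  -- `c = b s` is `s_j`
  obtain ⟨c, hc⟩ : ∃ c, c = b * cs.simple s := ⟨_, rfl⟩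
  have hcm : c ∈ WJ cs {j, s} := by rw [hc]; exact mul_mem hb hsm
  have hwc : wJ cs J = a * c := by
    rw [hc, ← mul_assoc, ← hab, mul_assoc, cs.simple_mul_simple_self, mul_one]
  have hcj : c * cs.simple j = 1 := by
    by_contra hne
    obtain ⟨k, hk, hlt⟩ := F.exists_descent (mul_mem hcm hjm) hne
    have hkm : cs.simple k ∈ WJ cs {j, s} := simple_mem_WJ cs hk
    have hk' : k = j ∨ k = s := by simpa using hk
    have e1 := ha _ (mul_mem hcm hjm)
    have e2 := ha _ (mul_mem (mul_mem hcm hjm) hkm)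
    have e3 := ha _ hcm
    rw [← hwc] at e3
    rw [← mul_assoc, ← hwc] at e1
    rw [← mul_assoc, ← mul_assoc, ← hwc] at e2
    rcases hk' with rfl | rfl
    · rw [mul_assoc, cs.simple_mul_simple_self, mul_one] at hlt e2
      omega
    · refine hs (F.descent_mem J (wJ cs J * cs.simple j)
        (mul_mem (F.wJ_mem J) (simple_mem_WJ cs hj)) k ?_)
      omega
  have hcj' : c = cs.simple j := by
    have := congrArg (· * cs.simple j) hcj
    simpa using this
  have hb2 : b = cs.simple j * cs.simple s := by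
    rw [← hcj', hc, mul_assoc, cs.simple_mul_simple_self, mul_one]
  have hbb : b * b = 1 := by rw [hb']; exact F.wJ_mul_self _
  rw [hb2] at hbb
  have h5 : (cs.simple j * cs.simple s)⁻¹ = cs.simple j * cs.simple s :=
    inv_eq_of_mul_eq_one_left hbb
  rwa [mul_inv_rev, cs.inv_simple, cs.inv_simple] at h5

/-- `s, k ∉ J`, `s w_J = w_J k` implies `k = s`. -/
theorem eq_of_comm_wJ {J : Set I} {s k : I} (hk : k ∉ J)
    (h : cs.simple s * wJ cs J = wJ cs J * cs.simple k) : k = s := by
  have h1 : cs.simple k = (wJ cs J)⁻¹ * cs.simple s * wJ cs J := by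
    rw [mul_assoc, h, inv_mul_cancel_left]
  have h2 : wJ cs J ∈ WJ cs (insert s J) := WJ_mono cs (Set.subset_insert s J) (F.wJ_mem J)
  have h3 : cs.simple k ∈ WJ cs (insert s J) := by
    rw [h1]
    exact mul_mem (mul_mem (inv_mem h2) (simple_mem_WJ cs (Set.mem_insert s J))) h2
  rcases Cox.mem_of_simple_mem h3 with h4 | h4
  · exact h4
  · exact absurd h4 hk

/-- The opposite of `J` in `K`. -/
def opJ (cs : CoxeterSystem M W) (K J : Set I) : Set I :=
  {j | j ∈ K ∧ wJ cs K * cs.simple j * wJ cs K ∈ WJ cs J}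

theorem opJ_subset (K J : Set I) : opJ cs K J ⊆ K := fun _ h => h.1

end Coxeter

section Building

variable {Δ : Bldg cs C} {G : Type*} [Group G] [MulAction G C] {p : ℕ} (S : Sys Δ G p) (t : Tw Δ G)
variable [F : OppRes.Cox cs]

include S

/-- The first computation: `τ` inverts the element `u` which moves `y` inside its `s`-panel. -/
theorem thin_core {J : Set I} {y : C} (hy : t.Gd J y) {s : I} (hs : s ∉ J) {u : G}
    (hu : Δ.δ y (u • y) = cs.simple s) (hinv : t.τ u • t.θ y = u⁻¹ • t.θ y) :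
    t.σ s = s ∧ ∀ j ∈ J, cs.simple s * cs.simple j = cs.simple j * cs.simple s := by
  have hk : t.σ s ∉ J := fun h => hs (by have := hy.1 _ h; rwa [t.σσ] at this)
  have h1 : Δ.δ y (t.θ y) = wJ cs J := hy.δ_θ
  have h2 : Δ.δ (t.θ y) (u • t.θ y) = cs.simple (t.σ s) := by
    have h3 : Δ.δ (t.θ y) (t.θ (u • y)) = cs.simple (t.σ s) := by rw [t.δ_θ, hu, t.φ_simple]
    rw [t.θ_smul, hinv] at h3
    have h4 := S.iso u (t.θ y) (u⁻¹ • t.θ y)
    rw [smul_inv_smul, h3] at h4
    exact Δ.δ_symm_simple h4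
  have h3 : Δ.δ (u • y) (t.θ y) = cs.simple s * wJ cs J := by
    refine Δ.δ_mul_of (Δ.δ_symm_simple hu) h1 ?_
    rw [length_simple_mul_of_notMem (F.wJ_mem J) hs, cs.length_simple, add_comm]
  have h4 : Δ.δ (u • y) (u • t.θ y) = wJ cs J := by rw [S.iso, h1]
  have h5 : cs.simple s * wJ cs J = wJ cs J * cs.simple (t.σ s) := by
    rcases Δ.step (u • y) (t.θ y) (u • t.θ y) _ h2 with h | h
    · rw [h4, h3] at h
      conv_rhs => rw [h]
      rw [mul_assoc, cs.simple_mul_simple_self, mul_one]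
    · exfalso
      rw [h4, h3] at h
      have h6 := length_simple_mul_of_notMem (F.wJ_mem J) hs
      rw [← h] at h6
      omega
  have h6 : t.σ s = s := eq_of_comm_wJ hk h5
  rw [h6] at h5
  exact ⟨h6, fun j hj => comm_of_comm_wJ hs hj h5⟩

omit F in
/-- The second computation: two commuting moves. -/
theorem thin_comm {y : C} {s₁ s₂ : I} (hne : s₁ ≠ s₂) (hinj : Function.Injective cs.simple)
    {u₁ u₂ : G} (h1 : Δ.δ y (u₁ • y) = cs.simple s₁) (h2 : Δ.δ y (u₂ • y) = cs.simple s₂)
    (hc : (u₁ * u₂) • y = (u₂ * u₁) • y) :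
    cs.simple s₁ * cs.simple s₂ = cs.simple s₂ * cs.simple s₁ := by
  have hl : ∀ a b : I, a ≠ b → ℓ (cs.simple a * cs.simple b) = ℓ (cs.simple a) + ℓ (cs.simple b) := by
    intro a b hab
    rw [cs.length_simple, cs.length_simple]
    have h3 := cs.length_simple_mul (cs.simple b) a
    rw [cs.length_simple] at h3
    rcases h3 with h3 | h3
    · omega
    · exfalso
      have h4 : cs.simple a * cs.simple b = 1 := cs.length_eq_zero_iff.1 (by omega)
      have h5 : cs.simple a = cs.simple b := by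
        rw [mul_eq_one_iff_eq_inv, cs.inv_simple] at h4
        exact h4
      exact hab (hinj h5)
  have h3 : Δ.δ y ((u₂ * u₁) • y) = cs.simple s₂ * cs.simple s₁ := by
    refine Δ.δ_mul_of h2 ?_ (hl _ _ hne.symm)
    rw [mul_smul, S.iso, h1]
  have h4 : Δ.δ y ((u₁ * u₂) • y) = cs.simple s₁ * cs.simple s₂ := by
    refine Δ.δ_mul_of h1 ?_ (hl _ _ hne)
    rw [mul_smul, S.iso, h2]
  rw [← h3, ← h4, hc]

variable [Finite C]

/-- The existence of the moves: `x`, `y` opposite in `Res K x`; for each `s ∈ K` which is not in the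
opposite type of `J` an element of the radical of `Res J x` moves `y` inside its `s`-panel. -/
theorem exists_move_panel (hth : Δ.Thick) {K J : Set I} (hJK : J ⊆ K) {x y : C}
    (hxy : Δ.δ x y = wJ cs K) {s : I} (hsK : s ∈ K) (hs : s ∉ opJ cs K J) :
    ∃ u ∈ S.UR (Δ.Res J x), Δ.δ y (u • y) = cs.simple s := by
  -- a second chamber of the `s`-panel of `y` opposite `x`
  have hwK : ℓ (wJ cs K * cs.simple s) < ℓ (wJ cs K) := by
    have := F.len_wJ_mul (simple_mem_WJ cs hsK)
    rw [cs.length_simple] at this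
    omega
  obtain ⟨e, hye, hxe⟩ : ∃ e, Δ.δ y e = cs.simple s ∧ Δ.δ x e = wJ cs K := by
    obtain ⟨e₁, e₂, hne, h1, h2⟩ := hth y s
    rcases Δ.step x y e₁ s h1 with h3 | h3
    · rcases Δ.step x y e₂ s h2 with h4 | h4
      · exfalso
        have h5 : Δ.δ e₁ e₂ = cs.simple s := by
          rcases Δ.step e₁ y e₂ s h2 with h6 | h6
          · rw [Δ.δ_symm_simple h1, cs.simple_mul_simple_self] at h6
            exact absurd (Δ.eq_of_δ_eq_one h6) hne
          · rw [h6]; exact Δ.δ_symm_simple h1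
        rw [hxy] at h3 h4
        have h6 := Δ.step_lt x e₁ e₂ s h5 (by
          rw [h3, mul_assoc, cs.simple_mul_simple_self, mul_one]; exact hwK)
        rw [h4, h3, mul_assoc, cs.simple_mul_simple_self, mul_one] at h6
        rw [h6] at hwK
        exact lt_irrefl _ hwK
      · exact ⟨e₂, h2, by rw [h4, hxy]⟩
    · exact ⟨e₁, h1, by rw [h3, hxy]⟩
  obtain ⟨u, hu, huy⟩ := S.exists_move (x := x) (z := y) (z' := e) (by rw [hxy, hxe])
  refine ⟨u, ?_, by rw [huy, hye]⟩
  -- the projection of `y` to `Res J x`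
  obtain ⟨q, hq⟩ : ∃ q, q = Δ.proj J x y := ⟨_, rfl⟩
  have hyq : Δ.δ y q = wJ cs K * wJ cs J := by
    rw [hq]; exact OppRes.delta_proj_of_long hJK hxy
  have hqm : q ∈ Δ.Res J x := by rw [hq]; exact Δ.proj_mem J x y
  have hxq : Δ.δ x q = wJ cs J := by
    have h1 := OppRes.isProj_proj (Δ := Δ) J x y
    have h2 := (h1.2 x (OppRes.mem_Res_self J x)).1
    rw [← hq, hyq, Δ.symm x y, hxy, F.wJ_inv] at h2
    have h3 : Δ.δ q x = wJ cs J := by
      have h4 := congrArg (fun z => (wJ cs K * wJ cs J)⁻¹ * z) h2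
      simp only [inv_mul_cancel_left] at h4
      rw [← h4, mul_inv_rev, mul_assoc, inv_mul_cancel, mul_one, F.wJ_inv]
    rw [Δ.symm q x, h3, F.wJ_inv]
  have heq : Δ.δ e q = wJ cs K * wJ cs J := by
    have h1 := Δ.step q y e s hye
    have hqy : Δ.δ q y = wJ cs J * wJ cs K := by
      rw [Δ.symm y q, hyq, mul_inv_rev, F.wJ_inv, F.wJ_inv]
    rcases h1 with h1 | h1
    · exfalso
      apply hs
      refine ⟨hsK, ?_⟩
      have h2 := Δ.δ_coset_left e (J := J) (x := x) (y := q) (by rw [hxq]; exact F.wJ_mem J)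
      rw [h1, hqy, hxe] at h2
      have h3 := mul_mem h2 (F.wJ_mem J)
      have h4 : wJ cs K * (wJ cs J * wJ cs K * cs.simple s)⁻¹ * wJ cs J =
          wJ cs K * cs.simple s * wJ cs K := by
        rw [mul_inv_rev, mul_inv_rev, F.wJ_inv, F.wJ_inv, cs.inv_simple]
        calc wJ cs K * (cs.simple s * (wJ cs K * wJ cs J)) * wJ cs J
            = wJ cs K * cs.simple s * wJ cs K * (wJ cs J * wJ cs J) := by group
          _ = _ := by rw [F.wJ_mul_self, mul_one]
      rwa [h4] at h3
    · rw [Δ.symm q e, h1, hqy, mul_inv_rev, F.wJ_inv, F.wJ_inv]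
  have huq : u • q = q := by
    have h1 : Δ.IsProj J x y q := by rw [hq]; exact OppRes.isProj_proj J x y
    have h2 : Δ.IsProj J x e q := by
      refine OppRes.isProj_of_min hqm fun j hj => ?_
      have := OppRes.IsProj.min h1 hj
      rwa [hyq, ← heq] at this
    have h3 : Δ.IsProj J x e (u • q) := by
      refine OppRes.isProj_of_min ?_ fun j hj => ?_
      · have := S.smul_mem_Res (g := u) hqm
        rwa [S.fix x u hu] at this
      · have := OppRes.IsProj.min h1 hj
        rw [← huy, S.iso]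
        exact this
    exact OppRes.IsProj.unique h3 h2
  exact S.mem_UR_of_fix hth hu hxq huq

end Building

end Cfsg.Agent.FixBN.Thin
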