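import Mathlib
import Cfsg.Agent.Tits.Core
import Cfsg.Agent.Tits.Exchange
import Cfsg.Agent.Tits.Gate
import Cfsg.Agent.Tits.OppRes
import Cfsg.Agent.FixBN.Defs
import Cfsg.Agent.FixBN.Cox
/-!
The TRACE THEOREM: an anisotropic residue of an involutory automorphism of a finite building all of
whose parameters are divisible by `p` has commuting type.

The operators `T_w` on the chambers of the residue, over a field of characteristic `p`, satisfy the
relations of the `0`-Hecke algebra. If all chambers of the residue are mapped to opposite ones, then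
for `v = w_J s` the operator `A = P_θ T_v (1 + T_s)` has trace `|R| = 1`. If `w_J s` is not in
`W_{J - s}` then `A ^ 2 = 0`.
-/

set_option autoImplicit false
set_option linter.unusedSectionVars false

namespace Cfsg.Agent.FixBN.Trace

open Cfsg.Agent.Tits.Core Cfsg.Agent.Tits.Core.Bldg Cfsg.Agent.Tits.OppRes

variable {I : Type*} {M : CoxeterMatrix I} {W : Type*} [Group W] {cs : CoxeterSystem M W} {C : Type*}

section Hecke

open scoped Classical

variable (Δ : Bldg cs C) (J : Set I) (x : C) (k : Type*) [CommRing k]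

/-- The operator `T_w` on a residue. -/
noncomputable def T (w : W) : Matrix (Δ.Res J x) (Δ.Res J x) k :=
  Matrix.of fun a b => if Δ.δ a b = w then 1 else 0

variable {Δ J x k}

theorem T_apply (w : W) (a b : Δ.Res J x) :
    T Δ J x k w a b = if Δ.δ a b = w then 1 else 0 := rfl

theorem T_eq_one {w : W} {a b : Δ.Res J x} (h : Δ.δ a b = w) : T Δ J x k w a b = 1 := by
  rw [T_apply, if_pos h]

theorem T_eq_zero {w : W} {a b : Δ.Res J x} (h : Δ.δ a b ≠ w) : T Δ J x k w a b = 0 := by
  rw [T_apply, if_neg h]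

theorem T_transpose (w : W) : (T Δ J x k w).transpose = T Δ J x k w⁻¹ := by
  ext a b
  rw [Matrix.transpose_apply, T_apply, T_apply]
  have h : Δ.δ (b : C) a = w ↔ Δ.δ (a : C) b = w⁻¹ := by
    rw [Δ.symm (a : C) b, inv_eq_iff_eq_inv]
  by_cases h1 : Δ.δ (b : C) a = w
  · rw [if_pos h1, if_pos (h.1 h1)]
  · rw [if_neg h1, if_neg fun h2 => h1 (h.2 h2)]

theorem T_one : T Δ J x k 1 = 1 := by
  ext a b
  rw [T_apply, Matrix.one_apply]
  by_cases h : a = b
  · rw [if_pos h, if_pos ((Δ.eq_one _ _).2 (by rw [h]))]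
  · rw [if_neg h, if_neg fun h1 => h (Subtype.ext ((Δ.eq_one _ _).1 h1))]

variable [F : Cox cs] [Fintype (Δ.Res J x)]

theorem mem_step {i : I} (hi : i ∈ J) (b : Δ.Res J x) {z : C} (hz : Δ.δ b z = cs.simple i) :
    z ∈ Δ.Res J x := by
  refine delta_mem_of_mem (y := (b : C)) b.2 ?_
  rw [hz]
  exact simple_mem_WJ hi

theorem T_mul_simple_of_lt {w : W} {i : I} (hi : i ∈ J)
    (h : cs.length w < cs.length (w * cs.simple i)) :
    T Δ J x k w * T Δ J x k (cs.simple i) = T Δ J x k (w * cs.simple i) := by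
  ext a b
  rw [Matrix.mul_apply]
  by_cases hab : Δ.δ (a : C) b = w * cs.simple i
  · obtain ⟨z, hz, hz'⟩ := Δ.exists_step (a : C) b i
    have hzR : z ∈ Δ.Res J x := mem_step hi b hz
    have hz1 : Δ.δ (a : C) z = w := by rw [hz', hab, mul_assoc, cs.simple_mul_simple_self, mul_one]
    rw [T_eq_one hab, Finset.sum_eq_single (⟨z, hzR⟩ : Δ.Res J x)]
    · rw [T_eq_one (w := w) (a := a) (b := ⟨z, hzR⟩) hz1,
        T_eq_one (w := cs.simple i) (a := ⟨z, hzR⟩) (b := b) (delta_simple_symm hz), one_mul]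
    · intro c _ hc
      by_cases h1 : Δ.δ (a : C) c = w
      · by_cases h2 : Δ.δ (c : C) b = cs.simple i
        · exfalso
          rcases Δ.step (c : C) b z i hz with h3 | h3
          · rw [h2, cs.simple_mul_simple_self] at h3
            exact hc (Subtype.ext ((Δ.eq_one _ _).1 h3))
          · rw [h2] at h3
            have h4 := Δ.step_lt (a : C) c z i h3 (by rw [h1]; exact h)
            rw [h1, hz1] at h4
            rw [← h4] at h
            exact lt_irrefl _ h
        · rw [T_eq_zero h2, mul_zero]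
      · rw [T_eq_zero h1, zero_mul]
    · intro h1
      exact absurd (Finset.mem_univ _) h1
  · rw [T_eq_zero hab]
    refine Finset.sum_eq_zero fun c _ => ?_
    by_cases h1 : Δ.δ (a : C) c = w
    · by_cases h2 : Δ.δ (c : C) b = cs.simple i
      · exact absurd (by rw [Δ.step_lt a c b i h2 (by rw [h1]; exact h), h1]) hab
      · rw [T_eq_zero h2, mul_zero]
    · rw [T_eq_zero h1, zero_mul]

variable (k) in
/-- all parameters of the residue are zero in `k` -/
def Zero (Δ : Bldg cs C) (J : Set I) (x : C) : Prop :=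
  ∀ i ∈ J, ∀ a ∈ Δ.Res J x, ((Nat.card (Δ.Pan i a) : ℕ) : k) = 1

theorem simple_ne_one (i : I) : cs.simple i ≠ 1 := fun h1 => by
  have := cs.length_simple i
  rw [h1, cs.length_one] at this
  omega

/-- the operator of the panels -/
theorem one_add_apply (i : I) (a b : Δ.Res J x) :
    (1 + T Δ J x k (cs.simple i)) a b = if (b : C) ∈ Δ.Pan i (a : C) then 1 else 0 := by
  rw [← T_one, Matrix.add_apply]
  by_cases h1 : Δ.δ (a : C) b = 1
  · have h2 : Δ.δ (a : C) b ≠ cs.simple i := by rw [h1]; exact (simple_ne_one i).symm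
    rw [T_eq_one h1, T_eq_zero h2, add_zero, if_pos]
    exact Or.inl ((Δ.eq_one _ _).1 h1).symm
  · rw [T_eq_zero h1, zero_add]
    by_cases h2 : Δ.δ (a : C) b = cs.simple i
    · rw [T_eq_one h2, if_pos]
      exact Or.inr h2
    · rw [T_eq_zero h2, if_neg]
      rintro (h3 | h3)
      · exact h1 ((Δ.eq_one _ _).2 h3.symm)
      · exact h2 h3

theorem mem_Pan_iff {i : I} {a b c : C} (h : b ∈ Δ.Pan i a) : c ∈ Δ.Pan i b ↔ c ∈ Δ.Pan i a := by
  rw [Δ.Pan_eq_of_mem h]

theorem sum_Pan (hq : Zero k Δ J x) {i : I} (hi : i ∈ J) (a : Δ.Res J x) :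
    ∑ b : Δ.Res J x, (1 + T Δ J x k (cs.simple i)) a b = 1 := by
  have hsub : ∀ z, z ∈ Δ.Pan i (a : C) → z ∈ Δ.Res J x := by
    intro z hz
    rcases hz with hz | hz
    · rw [hz]; exact a.2
    · exact mem_step hi a hz
  have h1 : ∑ b : Δ.Res J x, (1 + T Δ J x k (cs.simple i)) a b =
      ∑ b : Δ.Res J x, if (b : C) ∈ Δ.Pan i (a : C) then (1 : k) else 0 :=
    Finset.sum_congr rfl fun b _ => by rw [one_add_apply]
  rw [h1, Finset.sum_boole, ← hq i hi a a.2]
  congr 1
  rw [← Fintype.card_subtype, ← Nat.card_eq_fintype_card]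
  exact Nat.card_congr
    { toFun := fun z => ⟨z.1, z.2⟩
      invFun := fun z => ⟨⟨z.1, hsub z.1 z.2⟩, z.2⟩
      left_inv := fun z => rfl
      right_inv := fun z => rfl }

theorem one_add_mul_self (hq : Zero k Δ J x) {i : I} (hi : i ∈ J) :
    (1 + T Δ J x k (cs.simple i)) * (1 + T Δ J x k (cs.simple i)) =
      1 + T Δ J x k (cs.simple i) := by
  ext a b
  rw [Matrix.mul_apply]
  have h1 : ∀ z : Δ.Res J x, (1 + T Δ J x k (cs.simple i)) a z * (1 + T Δ J x k (cs.simple i)) z b =
      (1 + T Δ J x k (cs.simple i)) a z * (1 + T Δ J x k (cs.simple i)) a b := by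
    intro z
    rw [one_add_apply, one_add_apply, one_add_apply]
    by_cases hz : (z : C) ∈ Δ.Pan i (a : C)
    · congr 1
      simp only [mem_Pan_iff hz]
    · rw [if_neg hz, zero_mul, zero_mul]
  rw [Finset.sum_congr rfl fun z _ => h1 z, ← Finset.sum_mul, sum_Pan hq hi, one_mul]

theorem T_simple_mul_simple (hq : Zero k Δ J x) {i : I} (hi : i ∈ J) :
    T Δ J x k (cs.simple i) * T Δ J x k (cs.simple i) = - T Δ J x k (cs.simple i) := by
  have h := one_add_mul_self hq hi
  rw [add_mul, one_mul, mul_add, mul_one] at h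
  have h2 := (add_eq_left).1 h
  rw [add_comm] at h2
  exact eq_neg_of_add_eq_zero_left h2

theorem T_mul_simple_of_gt (hq : Zero k Δ J x) {w : W} {i : I} (hi : i ∈ J)
    (h : cs.length (w * cs.simple i) < cs.length w) :
    T Δ J x k w * T Δ J x k (cs.simple i) = - T Δ J x k w := by
  have h1 : T Δ J x k (w * cs.simple i) * T Δ J x k (cs.simple i) = T Δ J x k w := by
    have h2 := T_mul_simple_of_lt (Δ := Δ) (x := x) (k := k) (w := w * cs.simple i) hi
      (by rwa [mul_assoc, cs.simple_mul_simple_self, mul_one])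
    rwa [mul_assoc, cs.simple_mul_simple_self, mul_one] at h2
  rw [← h1, mul_assoc, T_simple_mul_simple hq hi, mul_neg]

theorem simple_mul_T_of_lt {w : W} {i : I} (hi : i ∈ J)
    (h : cs.length w < cs.length (cs.simple i * w)) :
    T Δ J x k (cs.simple i) * T Δ J x k w = T Δ J x k (cs.simple i * w) := by
  have h1 := T_mul_simple_of_lt (Δ := Δ) (x := x) (k := k) (w := w⁻¹) hi
    (by rw [cs.length_inv, ← cs.length_inv (w⁻¹ * _), mul_inv_rev, inv_inv, cs.inv_simple]; exact h)
  have h2 := congrArg Matrix.transpose h1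
  rw [Matrix.transpose_mul, T_transpose, T_transpose, T_transpose, inv_inv, mul_inv_rev, inv_inv,
    cs.inv_simple] at h2
  exact h2

theorem simple_mul_T_of_gt (hq : Zero k Δ J x) {w : W} {i : I} (hi : i ∈ J)
    (h : cs.length (cs.simple i * w) < cs.length w) :
    T Δ J x k (cs.simple i) * T Δ J x k w = - T Δ J x k w := by
  have h1 := T_mul_simple_of_gt (Δ := Δ) (x := x) (k := k) hq (w := w⁻¹) hi
    (by rw [cs.length_inv, ← cs.length_inv (w⁻¹ * _), mul_inv_rev, inv_inv, cs.inv_simple]; exact h)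
  have h2 := congrArg Matrix.transpose h1
  rw [Matrix.transpose_mul, Matrix.transpose_neg, T_transpose, T_transpose, inv_inv,
    cs.inv_simple] at h2
  exact h2

/-- The product of `T_u` with `T_v`, where `v` has length `ℓ(w_J) - 1`. -/
theorem T_mul_T (hq : Zero k Δ J x) {v : W} (hv : v ∈ WJ cs J)
    (hlv : cs.length v + 1 = cs.length (wJ cs J)) {u : W} (hu : u ∈ WJ cs J) :
    (u ∈ WJ cs {i | i ∈ J ∧ cs.length (cs.simple i * v) < cs.length v} ∧
      (T Δ J x k u * T Δ J x k v = T Δ J x k v ∨ T Δ J x k u * T Δ J x k v = - T Δ J x k v)) ∨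
    (T Δ J x k u * T Δ J x k v = T Δ J x k (wJ cs J) ∨
      T Δ J x k u * T Δ J x k v = - T Δ J x k (wJ cs J)) := by
  obtain ⟨ω, hω, hred, rfl⟩ := Tits.Exchange.exists_reduced_of_mem_WJ cs hu
  clear hu
  induction ω with
  | nil =>
    left
    rw [cs.wordProd_nil, T_one, one_mul]
    exact ⟨one_mem _, Or.inl rfl⟩
  | cons i ω ih =>
    have hi : i ∈ J := hω i (by simp)
    have hred' : cs.IsReduced ω := by
      have := hred.drop 1
      simpa using this
    have hl : cs.length (cs.wordProd ω) < cs.length (cs.simple i * cs.wordProd ω) := by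
      rw [← cs.wordProd_cons, hred.eq, hred'.eq]
      simp
    have hT : T Δ J x k (cs.wordProd (i :: ω)) = T Δ J x k (cs.simple i) * T Δ J x k (cs.wordProd ω) := by
      rw [cs.wordProd_cons, simple_mul_T_of_lt hi hl]
    rw [hT, mul_assoc]
    rcases ih (fun j hj => hω j (by simp [hj])) hred' with ⟨h1, h2⟩ | h2
    · by_cases h3 : cs.length (cs.simple i * v) < cs.length v
      · left
        refine ⟨?_, ?_⟩
        · rw [cs.wordProd_cons]
          exact mul_mem (simple_mem_WJ ⟨hi, h3⟩) h1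
        · rcases h2 with h2 | h2
          · right
            rw [h2, simple_mul_T_of_gt hq hi h3]
          · left
            rw [h2, mul_neg, simple_mul_T_of_gt hq hi h3, neg_neg]
      · right
        have h4 : cs.length v < cs.length (cs.simple i * v) :=
          lt_of_le_of_ne (not_lt.1 h3) (cs.length_simple_mul_ne v i).symm
        have h5 : cs.simple i * v = wJ cs J := by
          have h6 := F.len_wJ_mul (mul_mem (simple_mem_WJ (cs := cs) hi) hv)
          have h7 : wJ cs J * (cs.simple i * v) = 1 := cs.length_eq_zero_iff.1 (by omega)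
          rw [← F.wJ_inv J]
          exact eq_inv_of_mul_eq_one_right h7
        rcases h2 with h2 | h2
        · left
          rw [h2, simple_mul_T_of_lt hi h4, h5]
        · right
          rw [h2, mul_neg, simple_mul_T_of_lt hi h4, h5]
    · right
      have h3 : cs.length (cs.simple i * wJ cs J) < cs.length (wJ cs J) := by
        have := F.len_mul_wJ (simple_mem_WJ (cs := cs) hi)
        rw [cs.length_simple] at this
        omega
      rcases h2 with h2 | h2
      · right
        rw [h2, simple_mul_T_of_gt hq hi h3]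
      · left
        rw [h2, mul_neg, simple_mul_T_of_gt hq hi h3, neg_neg]

theorem sum_T_of_ne (hq : Zero k Δ J x) (a : Δ.Res J x) {w : W} (hw : w ∈ WJ cs J) (h1 : w ≠ 1) :
    ∑ b, T Δ J x k w a b = 0 := by
  obtain ⟨i, hi, hlt⟩ := F.exists_descent hw h1
  have h2 := T_mul_simple_of_lt (Δ := Δ) (x := x) (k := k) (w := w * cs.simple i) hi
    (by rwa [mul_assoc, cs.simple_mul_simple_self, mul_one])
  rw [mul_assoc, cs.simple_mul_simple_self, mul_one] at h2
  rw [← h2]
  simp only [Matrix.mul_apply]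
  rw [Finset.sum_comm]
  refine Finset.sum_eq_zero fun z _ => ?_
  rw [← Finset.mul_sum]
  have h3 := sum_Pan hq hi z
  have h4 : ∑ b : Δ.Res J x, (1 : Matrix (Δ.Res J x) (Δ.Res J x) k) z b = 1 := by
    simp [Matrix.one_apply]
  simp only [Matrix.add_apply] at h3
  rw [Finset.sum_add_distrib, h4] at h3
  rw [add_eq_left.1 h3, mul_zero]

/-- `|R| = 1` in `k`. -/
theorem card_Res (hq : Zero k Δ J x) : ((Fintype.card (Δ.Res J x) : ℕ) : k) = 1 := by
  set a : Δ.Res J x := ⟨x, mem_Res_self J x⟩ with ha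
  have h1 : ((Fintype.card (Δ.Res J x) : ℕ) : k) = ∑ b : Δ.Res J x, (1 : k) := by
    rw [Finset.sum_const, Finset.card_univ, nsmul_eq_mul, mul_one]
  rw [h1, ← Finset.sum_fiberwise_of_maps_to (s := Finset.univ)
    (t := Finset.univ.image fun b : Δ.Res J x => Δ.δ (a : C) b) (g := fun b : Δ.Res J x => Δ.δ (a : C) b)
    (fun b _ => Finset.mem_image_of_mem _ (Finset.mem_univ b))]
  have h2 : ∀ w, (Finset.univ.filter fun b : Δ.Res J x => Δ.δ (a : C) b = w).sum (fun _ => (1 : k)) =
      ∑ b, T Δ J x k w a b := by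
    intro w
    rw [Finset.sum_filter]
    rfl
  simp only [h2]
  rw [Finset.sum_eq_single 1]
  · rw [T_one]
    simp [Matrix.one_apply]
  · intro w hw hne
    obtain ⟨b, _, hb⟩ := Finset.mem_image.1 hw
    refine sum_T_of_ne hq a ?_ hne
    rw [← hb]
    exact delta_mem_of_Res a.2 b.2
  · intro h3
    exact absurd (Finset.mem_image.2 ⟨a, Finset.mem_univ _, delta_self (Δ := Δ) (a : C)⟩) h3

end Hecke

section Main

open scoped Classical

variable {Δ : Bldg cs C} {J : Set I} {x : C} [F : Cox cs]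

/-- If `w_J s` lies in `W_{J - s}` then `s` commutes with `J`. -/
theorem comm_of_mem {i : I} (hi : i ∈ J) (h : wJ cs J * cs.simple i ∈ WJ cs (J \ {i})) {j : I}
    (hj : j ∈ J) : cs.simple i * cs.simple j = cs.simple j * cs.simple i := by
  by_cases hij : j = i
  · rw [hij]
  have hjK : j ∈ J \ {i} := ⟨hj, hij⟩
  obtain ⟨u, hu, d, he, hd⟩ := Tits.Exchange.exists_isMinL cs (J \ {i}) (cs.simple i * cs.simple j)
  have hsub : J \ {i} ⊆ J := Set.sdiff_subset
  have hdJ : d ∈ WJ cs J := by
    have h1 : d = u⁻¹ * (cs.simple i * cs.simple j) := by rw [he]; group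
    rw [h1]
    exact mul_mem (inv_mem (WJ_mono hsub hu)) (mul_mem (simple_mem_WJ hi) (simple_mem_WJ hj))
  have h1 := hd _ h
  have h2 := F.len_wJ_mul (simple_mem_WJ (cs := cs) hi)
  rw [cs.length_simple] at h2
  have h3 := F.len_wJ_mul (mul_mem (WJ_mono hsub h) hdJ)
  have hdi : d ≠ 1 := by
    intro h4
    rw [h4, mul_one] at he
    have h5 : cs.simple i ∈ WJ cs (J \ {i}) := by
      have h6 : cs.simple i = u * cs.simple j := by
        rw [← he, mul_assoc, cs.simple_mul_simple_self, mul_one]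
      rw [h6]
      exact mul_mem hu (simple_mem_WJ hjK)
    exact (Cox.mem_of_simple_mem h5).2 rfl
  have hd0 : cs.length d ≠ 0 := fun h4 => hdi (cs.length_eq_zero_iff.1 h4)
  obtain ⟨m, rfl⟩ := cs.length_eq_one_iff.1 (show cs.length d = 1 by omega)
  have hmJ : m ∈ J := Cox.mem_of_simple_mem hdJ
  have hmi : m = i := by
    by_contra hne
    have h4 := hd _ (simple_mem_WJ (cs := cs) (show m ∈ J \ {i} from ⟨hmJ, hne⟩))
    rw [cs.simple_mul_simple_self, cs.length_one, cs.length_simple] at h4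
    omega
  subst hmi
  have h4 := hd u hu
  have h5 := cs.length_mul_le (cs.simple m) (cs.simple j)
  rw [← he, cs.length_simple] at h4
  rw [cs.length_simple, cs.length_simple] at h5
  have hu0 : cs.length u ≠ 0 := by
    intro h6
    rw [cs.length_eq_zero_iff.1 h6, one_mul] at he
    exact Trace.simple_ne_one (cs := cs) j (mul_eq_left.1 he)
  obtain ⟨l, rfl⟩ := cs.length_eq_one_iff.1 (show cs.length u = 1 by omega)
  have hl : l ∈ J \ {m} := Cox.mem_of_simple_mem hu
  have h6 : cs.simple l ∈ WJ cs {m, j} := by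
    have h7 : cs.simple l = cs.simple m * cs.simple j * cs.simple m := by
      rw [he, mul_assoc, cs.simple_mul_simple_self, mul_one]
    rw [h7]
    exact mul_mem (mul_mem (simple_mem_WJ (by simp)) (simple_mem_WJ (by simp)))
      (simple_mem_WJ (by simp))
  rcases Cox.mem_of_simple_mem h6 with h7 | h7
  · exact absurd h7 hl.2
  · rw [Set.mem_singleton_iff] at h7
    rw [he, h7]

variable {φ : W ≃* W} {σ : I → I} {θ : C ≃ C}

/-- On an anisotropic residue the type map is the opposition. -/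
theorem map_simple_eq (hφ : ∀ i, φ (cs.simple i) = cs.simple (σ i))
    (hθ : ∀ a b, Δ.δ (θ a) (θ b) = φ (Δ.δ a b))
    (h : ∀ y ∈ Δ.Res J x, Δ.δ y (θ y) = wJ cs J) {i : I} (hi : i ∈ J) :
    φ (cs.simple i) = wJ cs J * cs.simple i * wJ cs J := by
  obtain ⟨d, hd, hd'⟩ := Δ.exists_step (θ x) x i
  have hdR : d ∈ Δ.Res J x := by
    change Δ.δ x d ∈ WJ cs J
    rw [hd]
    exact simple_mem_WJ hi
  have h1 : Δ.δ d (θ x) = cs.simple i * wJ cs J := by
    rw [Δ.symm (θ x) d, hd', Δ.symm x (θ x), h x (mem_Res_self J x), mul_inv_rev, cs.inv_simple,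
      inv_inv]
  have h2 : Δ.δ (θ x) (θ d) = cs.simple (σ i) := by rw [hθ, hd, hφ]
  have h3 := h d hdR
  rcases Δ.step d (θ x) (θ d) (σ i) h2 with h4 | h4
  · rw [h3, h1] at h4
    rw [hφ]
    have h5 := F.wJ_mul_self J
    calc cs.simple (σ i) = wJ cs J * cs.simple i * (cs.simple i * wJ cs J * cs.simple (σ i)) := by
          rw [mul_assoc (wJ cs J), ← mul_assoc (cs.simple i), ← mul_assoc (cs.simple i),
            cs.simple_mul_simple_self, one_mul, ← mul_assoc, h5, one_mul]
      _ = _ := by rw [← h4]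
  · exfalso
    rw [h3, h1] at h4
    exact Trace.simple_ne_one (cs := cs) i (mul_eq_right.1 h4.symm)

/-- THE TRACE THEOREM, with the data given separately. -/
theorem comm_of_opp {p : ℕ} [Fact p.Prime] [Finite (Δ.Res J x)]
    (hφ : ∀ i, φ (cs.simple i) = cs.simple (σ i)) (hσ : ∀ i, σ (σ i) = i) (hJ : ∀ i ∈ J, σ i ∈ J)
    (hθ : ∀ a b, Δ.δ (θ a) (θ b) = φ (Δ.δ a b))
    (h : ∀ y ∈ Δ.Res J x, Δ.δ y (θ y) = wJ cs J)
    (hq : Zero (ZMod p) Δ J x) {i j : I} (hi : i ∈ J) (hj : j ∈ J) :
    cs.simple i * cs.simple j = cs.simple j * cs.simple i := by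
  refine comm_of_mem hi ?_ hj
  have hfin := Fintype.ofFinite (Δ.Res J x)
  set v : W := wJ cs J * cs.simple i with hv
  have hvJ : v ∈ WJ cs J := mul_mem (F.wJ_mem J) (simple_mem_WJ hi)
  have hlv : cs.length v + 1 = cs.length (wJ cs J) := by
    have h1 := F.len_wJ_mul (simple_mem_WJ (cs := cs) hi)
    rw [cs.length_simple] at h1
    exact h1
  by_contra hcon
  have hww := F.wJ_mul_self J
  have hφi : φ (cs.simple i) = wJ cs J * cs.simple i * wJ cs J := map_simple_eq hφ hθ h hi
  have hθR : ∀ a ∈ Δ.Res J x, θ a ∈ Δ.Res J x := by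
    intro a ha
    refine delta_mem_of_mem (y := a) ha ?_
    rw [h a ha]
    exact F.wJ_mem J
  have hφφ : ∀ w, φ (φ w) = w := Cox.map_map hφ hσ
  have hθR' : ∀ a ∈ Δ.Res J x, θ.symm a ∈ Δ.Res J x := by
    intro a ha
    have h1 : Δ.δ (θ x) (θ (θ.symm a)) ∈ WJ cs J := by
      rw [θ.apply_symm_apply]
      exact delta_mem_of_Res (hθR x (mem_Res_self J x)) ha
    rw [hθ] at h1
    have h2 := Cox.mem_WJ_map hφ hJ h1
    rw [hφφ] at h2
    exact h2
  set k := ZMod p
  let P : Matrix (Δ.Res J x) (Δ.Res J x) k := Matrix.of fun a b => if (b : C) = θ a then 1 else 0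
  -- multiplication by `P` on the left
  have hPM : ∀ (B : Matrix (Δ.Res J x) (Δ.Res J x) k) (a b : Δ.Res J x),
      (P * B) a b = B ⟨θ a, hθR a a.2⟩ b := by
    intro B a b
    rw [Matrix.mul_apply, Finset.sum_eq_single (⟨θ a, hθR a a.2⟩ : Δ.Res J x)]
    · change (if θ (a : C) = θ a then (1 : k) else 0) * _ = _
      rw [if_pos rfl, one_mul]
    · intro c _ hc
      change (if (c : C) = θ a then (1 : k) else 0) * _ = _
      rw [if_neg fun h1 => hc (Subtype.ext h1), zero_mul]
    · intro h1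
      exact absurd (Finset.mem_univ _) h1
  have hMP : ∀ (B : Matrix (Δ.Res J x) (Δ.Res J x) k) (a b : Δ.Res J x),
      (B * P) a b = B a ⟨θ.symm b, hθR' b b.2⟩ := by
    intro B a b
    rw [Matrix.mul_apply, Finset.sum_eq_single (⟨θ.symm b, hθR' b b.2⟩ : Δ.Res J x)]
    · change _ * (if (b : C) = θ (θ.symm b) then (1 : k) else 0) = _
      rw [if_pos (θ.apply_symm_apply _).symm, mul_one]
    · intro c _ hc
      change _ * (if (b : C) = θ c then (1 : k) else 0) = _
      rw [if_neg, mul_zero]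
      intro h1
      apply hc
      apply Subtype.ext
      change (c : C) = θ.symm b
      rw [h1, θ.symm_apply_apply]
    · intro h1
      exact absurd (Finset.mem_univ _) h1
  have hTP : ∀ w, T Δ J x k w * P = P * T Δ J x k (φ w) := by
    intro w
    ext a b
    rw [hPM, hMP, T_apply, T_apply]
    have h1 : Δ.δ (a : C) (θ.symm b) = w ↔ Δ.δ (θ a) (b : C) = φ w := by
      rw [← θ.apply_symm_apply (b : C), hθ, θ.symm_apply_apply]
      exact φ.injective.eq_iff.symm
    by_cases h2 : Δ.δ (a : C) (θ.symm b) = w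
    · rw [if_pos h2]
      exact (if_pos (h1.1 h2)).symm
    · rw [if_neg h2]
      exact (if_neg fun h3 => h2 (h1.2 h3)).symm
  -- the operator `A`
  have hvi : v * cs.simple i = wJ cs J := by
    rw [hv, mul_assoc, cs.simple_mul_simple_self, mul_one]
  have hvE : T Δ J x k v * (1 + T Δ J x k (cs.simple i)) = T Δ J x k v + T Δ J x k (wJ cs J) := by
    rw [mul_add, mul_one, T_mul_simple_of_lt hi (by rw [hvi]; omega), hvi]
  have hσi : φ (cs.simple i) * v = wJ cs J := by
    rw [hφi, hv, mul_assoc, mul_assoc, ← mul_assoc (wJ cs J) (wJ cs J), hww, one_mul,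
      cs.simple_mul_simple_self, mul_one]
  have hEv : (1 + T Δ J x k (φ (cs.simple i))) * T Δ J x k v =
      T Δ J x k v + T Δ J x k (wJ cs J) := by
    rw [add_mul, one_mul]
    rw [hφ] at hσi ⊢
    rw [simple_mul_T_of_lt (hJ i hi) (by rw [hσi]; omega), hσi]
  have hEP : (1 + T Δ J x k (cs.simple i)) * P = P * (1 + T Δ J x k (φ (cs.simple i))) := by
    rw [add_mul, one_mul, hTP, mul_add, mul_one]
  set A : Matrix (Δ.Res J x) (Δ.Res J x) k := P * (T Δ J x k v + T Δ J x k (wJ cs J)) with hA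
  have hA1 : A = P * T Δ J x k v * (1 + T Δ J x k (cs.simple i)) := by
    rw [mul_assoc, hvE]
  have hA2 : A = (1 + T Δ J x k (cs.simple i)) * P * T Δ J x k v := by
    rw [hEP, mul_assoc, hEv]
  have hAA : A * A = (1 + T Δ J x k (cs.simple i)) * P * P * (T Δ J x k (φ v) * T Δ J x k v) *
      (1 + T Δ J x k (cs.simple i)) := by
    calc A * A = ((1 + T Δ J x k (cs.simple i)) * P * T Δ J x k v) *
          (P * T Δ J x k v * (1 + T Δ J x k (cs.simple i))) := by rw [← hA1, ← hA2]
      _ = (1 + T Δ J x k (cs.simple i)) * P * (T Δ J x k v * P) * T Δ J x k v *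
          (1 + T Δ J x k (cs.simple i)) := by simp only [mul_assoc]
      _ = _ := by rw [hTP]; simp only [mul_assoc]
  have hkill : T Δ J x k (wJ cs J) * (1 + T Δ J x k (cs.simple i)) = 0 := by
    rw [mul_add, mul_one, T_mul_simple_of_gt hq hi (by rw [← hv]; omega), add_neg_cancel]
  have hA0 : A * A = 0 := by
    rcases T_mul_T hq hvJ hlv (Cox.mem_WJ_map hφ hJ hvJ) with ⟨h1, _⟩ | h1 | h1
    · exfalso
      apply hcon
      have h2 : ∀ m ∈ {m | m ∈ J ∧ cs.length (cs.simple m * v) < cs.length v}, σ m ∈ J \ {i} := by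
        rintro m ⟨hmJ, hm⟩
        refine ⟨hJ m hmJ, ?_⟩
        intro hmi
        rw [Set.mem_singleton_iff] at hmi
        have h3 : m = σ i := by rw [← hmi, hσ]
        rw [h3, ← hφ, hσi] at hm
        omega
      have h3 : ∀ w ∈ WJ cs {m | m ∈ J ∧ cs.length (cs.simple m * v) < cs.length v},
          φ w ∈ WJ cs (J \ {i}) := by
        intro w hw
        obtain ⟨ω, hω, rfl⟩ := Tits.Exchange.exists_word_of_mem_WJ cs hw
        rw [Cox.map_wordProd hφ]
        refine Tits.Exchange.wordProd_mem_WJ cs fun a ha => ?_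
        obtain ⟨b, hb, rfl⟩ := List.mem_map.1 ha
        exact h2 b (hω b hb)
      have h4 := h3 _ h1
      rwa [hφφ] at h4
    · rw [hAA, h1, mul_assoc, hkill, mul_zero]
    · rw [hAA, h1, mul_assoc, neg_mul, hkill, neg_zero, mul_zero]
  -- the trace
  have htr0 : A.trace = 0 := by
    have h1 : IsNilpotent A := ⟨2, by rw [pow_two, hA0]⟩
    exact (Matrix.isNilpotent_trace_of_isNilpotent h1).eq_zero
  have htr1 : A.trace = 1 := by
    rw [Matrix.trace, ← card_Res (k := k) hq, ← Finset.card_univ, Finset.cast_card]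
    refine Finset.sum_congr rfl fun a _ => ?_
    rw [Matrix.diag_apply, hA, hPM, Matrix.add_apply]
    have h1 : Δ.δ (θ a) (a : C) = wJ cs J := by rw [Δ.symm (a : C), h a a.2, F.wJ_inv]
    rw [T_eq_zero (a := ⟨θ a, hθR a a.2⟩), T_eq_one (a := ⟨θ a, hθR a a.2⟩) h1, zero_add]
    change Δ.δ (θ a) (a : C) ≠ v
    rw [h1, hv]
    intro h2
    exact Trace.simple_ne_one (cs := cs) i (mul_eq_left.1 h2.symm)
  rw [htr0] at htr1
  exact zero_ne_one htr1

end Main

/-- THE TRACE THEOREM: the type of an anisotropic residue is commuting. -/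
theorem _root_.Cfsg.Agent.FixBN.Tw.Gd.comm {Δ : Bldg cs C} [F : Cox cs] {G : Type*} [Group G]
    [MulAction G C] {t : Tw Δ G} {J : Set I} {x : C} (h : t.Gd J x) {p : ℕ} [Fact p.Prime]
    [Finite (Δ.Res J x)]
    (hq : ∀ i ∈ J, ∀ a ∈ Δ.Res J x, ((Nat.card (Δ.Pan i a) : ℕ) : ZMod p) = 1)
    {i j : I} (hi : i ∈ J) (hj : j ∈ J) :
    cs.simple i * cs.simple j = cs.simple j * cs.simple i :=
  comm_of_opp t.φ_simple t.σσ h.1 t.δ_θ h.2 hq hi hj

end Cfsg.Agent.FixBN.Trace
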