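import Mathlib
import Cfsg.Agent.FixBN.Disp
import Cfsg.Agent.FixBN.Trace
/-!
The trace theorem for the building of a group with a split (B,N)-pair: the parameters are powers of
`p`, so the type of an anisotropic residue is commuting and the type map is trivial on it.
-/

set_option autoImplicit false
set_option linter.unusedSectionVars false

namespace Cfsg.Agent.FixBN

open Cfsg.Agent.Tits.Core Cfsg.Agent.Tits.Core.Bldg Cfsg.Agent.Tits

variable {I : Type*} {M : CoxeterMatrix I} {W : Type*} [Group W] {cs : CoxeterSystem M W} {C : Type*}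
  {Δ : Bldg cs C} {G : Type*} [Group G] [MulAction G C] {p : ℕ} [F : OppRes.Cox cs]

theorem Sys.δ_smul (S : Sys Δ G p) {x y : C} {u : G} (hu : u ∈ S.U x) : Δ.δ x (u • y) = Δ.δ x y := by
  have h := S.iso u x y
  rwa [S.fix x u hu] at h

/-- The parameters are powers of `p`. -/
theorem Sys.card_Pan (S : Sys Δ G p) [hp : Fact p.Prime] [Finite C] (x : C) (i : I) :
    ∃ n : ℕ, Nat.card (Δ.Pan i x) = p ^ n + 1 := by
  classical
  obtain ⟨y, hy⟩ := Δ.exists_δ x (cs.simple i)
  have h1 : Δ.Pan i x = insert x (MulAction.orbit (S.U x) y) := by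
    ext z
    rw [Set.mem_insert_iff]
    constructor
    · rintro (h | h)
      · exact Or.inl h
      · right
        obtain ⟨u, hu, huz⟩ := S.exists_move (hy.trans h.symm)
        exact ⟨⟨u, hu⟩, huz⟩
    · rintro (h | ⟨u, hu⟩)
      · exact Or.inl h
      · right
        change (u : G) • y = z at hu
        rw [← hu, ← hy]
        exact S.δ_smul u.2
  have h2 : x ∉ MulAction.orbit (S.U x) y := by
    rintro ⟨u, hu⟩
    change (u : G) • y = x at hu
    have h3 : Δ.δ x x = cs.simple i := by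
      have h4 : Δ.δ x ((u : G) • y) = Δ.δ x y := S.δ_smul u.2
      rw [hu] at h4
      rw [h4, hy]
    rw [Δ.δ_self] at h3
    exact Trace.simple_ne_one i h3.symm
  obtain ⟨n, hn⟩ := (S.isP x).card_orbit y
  refine ⟨n, ?_⟩
  rw [h1, Nat.card_coe_set_eq, Set.ncard_insert_of_notMem h2, ← Nat.card_coe_set_eq, hn]

theorem Sys.card_Pan_eq (S : Sys Δ G p) [hp : Fact p.Prime] [Finite C] (hth : Δ.Thick) (x : C) (i : I) :
    ((Nat.card (Δ.Pan i x) : ℕ) : ZMod p) = 1 := by
  obtain ⟨n, hn⟩ := S.card_Pan x i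
  rcases Nat.eq_zero_or_pos n with rfl | hpos
  · exfalso
    rw [pow_zero] at hn
    obtain ⟨y, z, hyz, hy, hz⟩ := hth x i
    have h1 : ({x, y, z} : Set C) ⊆ Δ.Pan i x := by
      intro a ha
      rcases ha with rfl | rfl | rfl
      · exact Δ.self_mem_Pan i _
      · exact Or.inr hy
      · exact Or.inr hz
    have h2 : ({x, y, z} : Set C).ncard = 3 := by
      rw [Set.ncard_eq_three]
      exact ⟨x, y, z, Δ.ne_of_δ_simple hy, Δ.ne_of_δ_simple hz, hyz, rfl⟩
    have h3 := Set.ncard_le_ncard h1 (Set.toFinite _)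
    rw [h2, ← Nat.card_coe_set_eq, hn] at h3
    omega
  · rw [hn, Nat.cast_add, Nat.cast_pow, ZMod.natCast_self, zero_pow hpos.ne', zero_add, Nat.cast_one]

/-- `|Res J x| = 1` modulo `p`. -/
theorem Sys.card_Res (S : Sys Δ G p) [hp : Fact p.Prime] [Finite C] (hth : Δ.Thick) (J : Set I) (x : C) :
    ((Nat.card (Δ.Res J x) : ℕ) : ZMod p) = 1 := by
  classical
  have := Fintype.ofFinite (Δ.Res J x)
  rw [Nat.card_eq_fintype_card]
  exact Trace.card_Res (k := ZMod p) fun i _ a _ => S.card_Pan_eq hth a i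

/-- (T1) the type of an anisotropic residue is commuting. -/
theorem Sys.gd_comm (S : Sys Δ G p) [hp : Fact p.Prime] [Finite C] (hth : Δ.Thick) {t : Tw Δ G}
    {J : Set I} {x : C} (h : t.Gd J x) {i j : I} (hi : i ∈ J) (hj : j ∈ J) :
    cs.simple i * cs.simple j = cs.simple j * cs.simple i :=
  h.comm (p := p) (fun i _ a _ => S.card_Pan_eq hth a i) hi hj

theorem commute_of_mem_WJ {J : Set I} {i : I}
    (h : ∀ j ∈ J, cs.simple i * cs.simple j = cs.simple j * cs.simple i) {w : W} (hw : w ∈ WJ cs J) :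
    cs.simple i * w = w * cs.simple i := by
  have h1 : WJ cs J ≤ Subgroup.centralizer {cs.simple i} := by
    refine (Subgroup.closure_le _).2 ?_
    rintro _ ⟨j, hj, rfl⟩
    rw [SetLike.mem_coe, Subgroup.mem_centralizer_singleton_iff]
    exact (h j hj).symm
  exact (Subgroup.mem_centralizer_singleton_iff.1 (h1 hw)).symm

/-- (T1) the type map is trivial on the type of an anisotropic residue. -/
theorem Sys.gd_σ (S : Sys Δ G p) [hp : Fact p.Prime] [Finite C] (hth : Δ.Thick) {t : Tw Δ G}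
    {J : Set I} {x : C} (h : t.Gd J x) {i : I} (hi : i ∈ J) : t.σ i = i := by
  apply F.inj
  have h1 := Trace.map_simple_eq t.φ_simple t.δ_θ h.2 hi
  have h2 := commute_of_mem_WJ (fun j hj => S.gd_comm hth h hi hj) (F.wJ_mem J)
  rw [← t.φ_simple, h1, ← h2, mul_assoc, F.wJ_mul_self, mul_one]

end Cfsg.Agent.FixBN
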