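import Mathlib
import Cfsg.Agent.FixBN.Par
import Cfsg.Agent.FixBN.TraceSys
import Cfsg.Agent.FixBN.ThinCore
/-!
THEOREM FIX, part T2: the residues opposite a residue inside a larger residue and the radical `UR`.
-/

set_option autoImplicit false
set_option linter.unusedSectionVars false

open scoped Pointwise

namespace Cfsg.Agent.FixBN.Thin

open Cfsg.Agent.Tits.Core Cfsg.Agent.Tits.Core.Bldg Cfsg.Agent.Tits.Exchange Cfsg.Agent.Tits
open Cfsg.Agent.FixBN.Cox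

variable {I : Type*} {M : CoxeterMatrix I} {W : Type*} [Group W] {cs : CoxeterSystem M W} {C : Type*}

local prefix:100 "ℓ" => cs.length

variable {Δ : Bldg cs C} {G : Type*} [Group G] [MulAction G C] {p : ℕ} (S : Sys Δ G p) (t : Tw Δ G)
variable [F : OppRes.Cox cs]

section Opp

variable {T J J' : Set I} {b : W} {φ : W ≃* W} {σ : I → I}

include S

/-- `UR (Res J x)` is transitive on the residues of type `J'` opposite `Res J x` in `Res T x`. -/
theorem exists_UR_move (hth : Δ.Thick) (h : Ad cs φ σ T J J' b) {x y y' : C} (hy : Δ.δ x y = b)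
    (hy' : Δ.δ x y' = b) : ∃ u ∈ S.UR (Δ.Res J x), u • y = y' := by
  obtain ⟨x', hx'⟩ := Δ.exists_δ x (wJ cs J)
  have hx'm : x' ∈ Δ.Res J x := by rw [mem_Res, hx']; exact F.wJ_mem J
  obtain ⟨y0, hy0, hxy0⟩ := par_transfer h.par hy hx'm
  obtain ⟨y1, hy1, hxy1⟩ := par_transfer h.par hy' hx'm
  have hl : ℓ (wJ cs J * b) = ℓ (wJ cs J) + ℓ b := h.par.minL _ (F.wJ_mem J)
  have h0 : Δ.δ x y0 = wJ cs J * b := Δ.δ_mul_of hx' hxy0 hl
  have h1 : Δ.δ x y1 = wJ cs J * b := Δ.δ_mul_of hx' hxy1 hl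
  obtain ⟨u, hu, huy⟩ := S.exists_move (h0.trans h1.symm)
  have hux' : u • x' = x' := by
    refine Δ.between_unique hl (x := x) (z := y1) ?_ ?_ hx' hxy1
    · rw [← hx', ← S.iso u x x', S.fix x u hu]
    · rw [← huy, S.iso, hxy0]
  refine ⟨u, S.mem_UR_of_fix hth hu hx' hux', ?_⟩
  refine eq_of_isMinR h.par.minR hy' ?_ ?_
  · rw [← hy, ← S.iso u x y, S.fix x u hu]
  · have h2 : u • y ∈ Δ.Res J' (u • y0) := S.smul_mem_Res (Δ.mem_Res_symm hy0)
    rw [huy] at h2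
    exact Δ.mem_Res_trans hy1 h2

/-- An element of `UR (Res J x)` which fixes an opposite residue in `Res T x` fixes `Res T x`. -/
theorem fix_of_UR_fix (hth : Δ.Thick) (h : Ad cs φ σ T J J' b) {x y : C} (hy : Δ.δ x y = b)
    {u : G} (hu : u ∈ S.UR (Δ.Res J x)) (huy : u • y = y) : ∀ z ∈ Δ.Res T x, u • z = z := by
  obtain ⟨x', hx'⟩ := Δ.exists_δ x (wJ cs J)
  have hx'm : x' ∈ Δ.Res J x := by rw [mem_Res, hx']; exact F.wJ_mem J
  have h1 : Δ.δ x' y = wJ cs T := by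
    rw [← h.long']
    have h2 : Δ.δ x' x = wJ cs J := by rw [Δ.symm x x', hx', F.wJ_inv]
    exact Δ.δ_mul_of h2 hy (h.par.minL _ (F.wJ_mem J))
  have h3 := S.fixRes hth (hu x' hx'm) h1 huy
  intro z hz
  refine h3 z ?_
  rwa [Δ.Res_eq_of_mem (Δ.Res_mono h.sub'' x hx'm)]

end Opp

section Fixed

variable {t}

include S

/-- the radical of an invariant residue is `τ`-stable -/
theorem τ_mem_U {x : C} {u : G} (hu : u ∈ S.U x) : t.τ u ∈ S.U (t.θ x) := by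
  have h1 : IsPGroup p ((S.U x).map t.τ.toMonoidHom) := (S.isP x).map _
  refine S.max (t.θ x) _ h1 ?_ ⟨u, hu, rfl⟩
  rintro _ ⟨v, hv, rfl⟩
  change t.τ v • t.θ x = t.θ x
  rw [← t.θ_smul, S.fix x v hv]

theorem τ_mem_UR {Q : Set C} (hQ : ∀ x ∈ Q, t.θ x ∈ Q) {u : G} (hu : u ∈ S.UR Q) :
    t.τ u ∈ S.UR Q := by
  intro y hy
  have h1 := τ_mem_U S (t := t) (hu (t.θ y) (hQ y hy))
  rwa [t.θθ] at h1

theorem odd_UR [Finite G] [hp : Fact p.Prime] (hp2 : p ≠ 2) {Q : Set C} (hQ : Q.Nonempty) :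
    Odd (Nat.card (S.UR Q)) := by
  obtain ⟨n, hn⟩ := IsPGroup.iff_card.1 (S.UR_isP hQ)
  rw [hn]
  exact (hp.1.odd_of_ne_two hp2).pow

/-- The invariant residue opposite a good residue inside an invariant residue. -/
theorem exists_opp_gd [Finite G] [Finite C] [hp : Fact p.Prime] (hp2 : p ≠ 2) (hth : Δ.Thick)
    {T J J' : Set I} {b : W} (h : Ad cs t.φ t.σ T J J' b) {x : C} (hx : t.Gd J x) :
    ∃ z, Δ.δ x z = b ∧ t.Gd J' z := by
  classical
  obtain ⟨z0, hz0⟩ := Δ.exists_δ x b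
  -- the involution on the chambers at distance `b` from `x`
  have hmap : ∀ z, Δ.δ x z = b → ∃ c, Δ.δ x c = b ∧ c ∈ Δ.Res J' (t.θ z) := by
    intro z hz
    have h1 : Δ.δ (t.θ x) (t.θ z) = b := by rw [t.δ_θ, hz, h.fix]
    obtain ⟨c, hc, hc'⟩ := par_transfer h.par h1 (a := x) (Δ.mem_Res_symm hx.θ_mem)
    exact ⟨c, hc', hc⟩
  let α := {z : C // Δ.δ x z = b}
  let f : α → α := fun z => ⟨(hmap z.1 z.2).choose, (hmap z.1 z.2).choose_spec.1⟩
  have hf1 : ∀ z : α, (f z).1 ∈ Δ.Res J' (t.θ z.1) := fun z => (hmap z.1 z.2).choose_spec.2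
  have hf : ∀ z, f (f z) = z := by
    intro z
    apply Subtype.ext
    refine eq_of_isMinR h.par.minR z.2 (f (f z)).2 ?_
    have h1 : t.θ (f z).1 ∈ Δ.Res J' z.1 := by
      have := t.θ_mem_Res (show t.Stab J' from h.st') (hf1 z)
      rwa [t.θθ] at this
    exact Δ.mem_Res_trans h1 (hf1 (f z))
  have hodd : Odd (Nat.card α) := by
    have h1 : Nat.card α = (MulAction.orbit (S.UR (Δ.Res J x)) z0).ncard := by
      rw [← Nat.card_coe_set_eq]
      refine Nat.card_congr (Equiv.subtypeEquivRight fun z => ?_)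
      constructor
      · intro hz
        obtain ⟨u, hu, huz⟩ := exists_UR_move S hth h hz0 hz
        exact ⟨⟨u, hu⟩, huz⟩
      · rintro ⟨u, huz⟩
        change (u : G) • z0 = z at huz
        rw [← huz, ← hz0, ← S.iso (u : G) x z0, S.fix x u (u.2 x (Δ.self_mem_Res J x))]
    rw [h1, ← Nat.card_coe_set_eq]
    refine (odd_UR S hp2 ⟨x, Δ.self_mem_Res J x⟩).of_dvd_nat ?_
    rw [Nat.card_congr (MulAction.orbitEquivQuotientStabilizer (S.UR (Δ.Res J x)) z0)]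
    exact Subgroup.index_dvd_card _
  obtain ⟨z, hz⟩ := exists_fixed f hf hodd
  refine ⟨z.1, z.2, Tw.gd_transfer hx h.par z.2 h.fix h.st' ?_⟩
  have h1 := hf1 z
  rw [hz] at h1
  exact Δ.mem_Res_symm h1

/-- The centraliser is transitive on the invariant residues opposite a good residue. -/
theorem exists_cent_move [Finite G] [hp : Fact p.Prime] (hp2 : p ≠ 2) (hth : Δ.Thick)
    {T J J' : Set I} {b : W} (h : Ad cs t.φ t.σ T J J' b) {x z z' : C} (hx : t.Gd J x)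
    (hz : Δ.δ x z = b) (hz' : Δ.δ x z' = b) (hgz : t.Gd J' z) (hgz' : t.Gd J' z') :
    ∃ u ∈ S.UR (Δ.Res J x), u ∈ t.cent ∧ u • z = z' := by
  obtain ⟨u, hu, huz⟩ := exists_UR_move S hth h hz hz'
  have e1 : t.θ '' Δ.Res J' z = Δ.Res J' z := by
    rw [t.image_Res hgz.1, Δ.Res_eq_of_mem hgz.θ_mem]
  have e2 : t.θ '' Δ.Res J' z' = Δ.Res J' z' := by
    rw [t.image_Res hgz'.1, Δ.Res_eq_of_mem hgz'.θ_mem]
  obtain ⟨a, ha, hac, haz⟩ := t.exists_cent (S.UR (Δ.Res J x))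
    (fun a ha => τ_mem_UR S hx.θ_stable ha) (odd_UR S hp2 ⟨x, Δ.self_mem_Res J x⟩) e1 e2
    ⟨u, hu, by rw [S.smul_Res, huz]⟩
  refine ⟨a, ha, hac, ?_⟩
  refine eq_of_isMinR h.par.minR hz' ?_ ?_
  · rw [← hz, ← S.iso a x z, S.fix x a (ha x (Δ.self_mem_Res J x))]
  · rw [← haz]
    exact Set.smul_mem_smul_set (Δ.self_mem_Res J' z)

end Fixed

end Cfsg.Agent.FixBN.Thin
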