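import Mathlib
import Cfsg.Agent.FixBN.ThinOpp
/-!
THEOREM FIX, part T2: **the thin theorem**. If the fixed points of `τ` in the radical of the good residue
`Res J x` act trivially on the invariant residue `Res T x`, then the type `T` is commuting and the type map
is trivial on `T`.
-/

set_option autoImplicit false
set_option linter.unusedSectionVars false

open scoped Pointwise

namespace Cfsg.Agent.FixBN

open Cfsg.Agent.Tits.Core Cfsg.Agent.Tits.Core.Bldg Cfsg.Agent.Tits.Exchange Cfsg.Agent.Tits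
open Cfsg.Agent.FixBN.Cox

variable {I : Type*} {M : CoxeterMatrix I} {W : Type*} [Group W] {cs : CoxeterSystem M W} {C : Type*}

local prefix:100 "ℓ" => cs.length

namespace Thin

variable [F : OppRes.Cox cs]

theorem mem_of_opJ {T J J' : Set I} {b : W} {φ : W ≃* W} {σ : I → I} (h : Ad cs φ σ T J J' b) {s : I}
    (hs : s ∈ opJ cs T J) : s ∈ J' := by
  have h1 : b * cs.simple s * b⁻¹ ∈ WJ cs J := by
    have h2 : wJ cs T * cs.simple s * wJ cs T = wJ cs J * (b * cs.simple s * b⁻¹) * wJ cs J := by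
      have e1 : wJ cs T = wJ cs J * b := h.long'.symm
      have e2 : wJ cs T = b⁻¹ * wJ cs J := by
        have := congrArg (fun z => z⁻¹) h.long'
        simp only [mul_inv_rev, F.wJ_inv] at this
        exact this.symm
      calc wJ cs T * cs.simple s * wJ cs T = (wJ cs J * b) * cs.simple s * (b⁻¹ * wJ cs J) := by
            rw [← e1, ← e2]
        _ = _ := by group
    have h3 := hs.2
    rw [h2] at h3
    have h4 := mul_mem (mul_mem (inv_mem (F.wJ_mem J)) h3) (inv_mem (F.wJ_mem J))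
    have h5 : (wJ cs J)⁻¹ * (wJ cs J * (b * cs.simple s * b⁻¹) * wJ cs J) * (wJ cs J)⁻¹ =
        b * cs.simple s * b⁻¹ := by group
    rwa [h5] at h4
  obtain ⟨a, ha, he, _⟩ := h.par.mulL h1
  have h2 : b * cs.simple s * b⁻¹ * b = b * cs.simple s := by group
  rw [h2] at he
  have h3 : cs.simple s = a := mul_left_cancel he
  exact Cox.mem_of_simple_mem (h3 ▸ ha)

end Thin

variable {Δ : Bldg cs C} {G : Type*} [Group G] [MulAction G C] {p : ℕ} (S : Sys Δ G p) {t : Tw Δ G}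
variable [F : OppRes.Cox cs]

open Thin in
/-- **The thin theorem.** -/
theorem Sys.thin [Finite G] [Finite C] [hp : Fact p.Prime] (hp2 : p ≠ 2) (hth : Δ.Thick)
    {T J : Set I} {x : C} (hx : t.Gd J x) (hT : t.Stab T) (hJT : J ⊆ T)
    (hthin : ∀ u ∈ S.UR (Δ.Res J x), u ∈ t.cent → ∀ z ∈ Δ.Res T x, u • z = z) :
    (∀ i ∈ T, ∀ j ∈ T, cs.simple i * cs.simple j = cs.simple j * cs.simple i) ∧
      ∀ i ∈ T, t.σ i = i := by
  classical
  obtain ⟨J', b, hAd⟩ := exists_ad (cs := cs) t.φ_simple t.σσ hT hx.1 hJT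
  obtain ⟨z, hz, hgz⟩ := exists_opp_gd S hp2 hth hAd hx
  obtain ⟨y, hy⟩ := Δ.exists_δ z (wJ cs J')
  have hym : y ∈ Δ.Res J' z := by rw [mem_Res, hy]; exact F.wJ_mem J'
  have hxy : Δ.δ x y = wJ cs T := by
    rw [← hAd.long]
    exact Δ.δ_mul_of hz hy (hAd.par.minR _ (F.wJ_mem J'))
  have hgy : t.Gd J' y := hgz.congr hym
  -- the kernel on `Res T x`
  let N : Subgroup G :=
    { carrier := {u | u ∈ S.UR (Δ.Res J x) ∧ ∀ c ∈ Δ.Res T x, u • c = c}
      one_mem' := ⟨one_mem _, fun c _ => one_smul _ c⟩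
      mul_mem' := fun {u v} hu hv => ⟨mul_mem hu.1 hv.1, fun c hc => by
        rw [mul_smul, hv.2 c hc, hu.2 c hc]⟩
      inv_mem' := fun {u} hu => ⟨inv_mem hu.1, fun c hc => by
        rw [inv_smul_eq_iff, hu.2 c hc]⟩ }
  have hN : ∀ u, u ∈ N ↔ u ∈ S.UR (Δ.Res J x) ∧ ∀ c ∈ Δ.Res T x, u • c = c := fun u => Iff.rfl
  have hfixx : ∀ u ∈ S.UR (Δ.Res J x), u • x = x := fun u hu => S.fix x u (hu x (Δ.self_mem_Res J x))
  have hstabT : ∀ u ∈ S.UR (Δ.Res J x), ∀ c ∈ Δ.Res T x, u • c ∈ Δ.Res T x := by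
    intro u hu c hc
    have := S.smul_mem_Res (g := u) hc
    rwa [hfixx u hu] at this
  have hθT : ∀ c ∈ Δ.Res T x, t.θ c ∈ Δ.Res T x :=
    Tw.θ_stable_Res hT (Δ.Res_mono hJT x hx.θ_mem)
  obtain ⟨hinv, hcomm⟩ := ThinGrp.inv_of_fixed t.τ t.ττ (S.UR (Δ.Res J x)) N (fun u hu => hu.1)
    (by
      intro v hv n hn
      refine ⟨mul_mem (mul_mem hv hn.1) (inv_mem hv), fun c hc => ?_⟩
      rw [mul_smul, mul_smul, hn.2 _ (hstabT _ (inv_mem hv) c hc), smul_inv_smul])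
    (fun v hv => τ_mem_UR S hx.θ_stable hv)
    (by
      intro n hn
      refine ⟨τ_mem_UR S hx.θ_stable hn.1, fun c hc => ?_⟩
      have h1 := hn.2 (t.θ c) (hθT c hc)
      have h2 := t.θ_smul n (t.θ c)
      rw [h1, t.θθ] at h2
      exact h2.symm)
    (odd_UR S hp2 ⟨x, Δ.self_mem_Res J x⟩)
    (fun v hv hv' => ⟨hv, hthin v hv hv'⟩)
  have hyT : y ∈ Δ.Res T x := by rw [mem_Res, hxy]; exact F.wJ_mem T
  -- the moves
  have hmove : ∀ s ∈ T, s ∉ J' → ∃ u ∈ S.UR (Δ.Res J x), Δ.δ y (u • y) = cs.simple s :=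
    fun s hs hs' => exists_move_panel S hth hJT hxy hs fun h => hs' (mem_of_opJ hAd h)
  have h1 : ∀ s ∈ T, s ∉ J' → t.σ s = s ∧ ∀ j ∈ J', cs.simple s * cs.simple j =
      cs.simple j * cs.simple s := by
    intro s hs hs'
    obtain ⟨u, hu, huy⟩ := hmove s hs hs'
    refine thin_core S t hgy hs' huy ?_
    have h2 := (hinv u hu).2 (u⁻¹ • t.θ y) (hstabT _ (inv_mem hu) _ (hθT y hyT))
    rwa [mul_smul, smul_inv_smul] at h2
  have h2 : ∀ s ∈ T, s ∉ J' → ∀ r ∈ T, r ∉ J' → cs.simple s * cs.simple r =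
      cs.simple r * cs.simple s := by
    intro s hs hs' r hr hr'
    by_cases hsr : s = r
    · rw [hsr]
    obtain ⟨u, hu, huy⟩ := hmove s hs hs'
    obtain ⟨v, hv, hvy⟩ := hmove r hr hr'
    refine thin_comm S hsr F.inj huy hvy ?_
    have h3 := (hcomm u hu v hv).2 y hyT
    rw [mul_smul, inv_smul_eq_iff] at h3
    exact h3.symm
  constructor
  · intro i hi j hj
    by_cases hi' : i ∈ J'
    · by_cases hj' : j ∈ J'
      · exact S.gd_comm hth hgy hi' hj'
      · exact ((h1 j hj hj').2 i hi').symm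
    · by_cases hj' : j ∈ J'
      · exact (h1 i hi hi').2 j hj'
      · exact h2 i hi hi' j hj hj'
  · intro i hi
    by_cases hi' : i ∈ J'
    · exact S.gd_σ hth hgy hi'
    · exact (h1 i hi hi').1

end Cfsg.Agent.FixBN
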