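import Mathlib
import Cfsg.Agent.FixBN.Fix
import Cfsg.Agent.FixBN.Thin
import Cfsg.Agent.FixBN.CoxTwo
/-!
THEOREM FIX, part T3: the good residues with the same group `P`, geometry.

`x`, `y` run over the chambers of the good residues of type `J` with `t.P S (Res J x) = P`. Their
relative position is an element `w` of the Weyl group, all the right descents of `w` commute with
each other (and with `J`, which is commuting), and the relative position is multiplicative.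
-/

set_option autoImplicit false
set_option linter.unusedSectionVars false

open scoped Pointwise

namespace Cfsg.Agent.FixBN

open Cfsg.Agent.Tits.Core Cfsg.Agent.Tits.Core.Bldg Cfsg.Agent.Tits.Exchange Cfsg.Agent.Tits
open Cfsg.Agent.FixBN.Cox

variable {I : Type*} {M : CoxeterMatrix I} {W : Type*} [Group W] {cs : CoxeterSystem M W} {C : Type*}

local prefix:100 "ℓ" => cs.length

variable {Δ : Bldg cs C} {G : Type*} [Group G] [MulAction G C] {p : ℕ} {t : Tw Δ G}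
  [F : OppRes.Cox cs]

namespace Tw

/-- A good residue (of type `J`) with group `P`. -/
structure Mem (t : Tw Δ G) (S : Sys Δ G p) (J : Set I) (P : Subgroup G) (y : C) : Prop where
  gd : t.Gd J y
  eq : t.P S (Δ.Res J y) = P

omit F in
theorem Mem.congr {S : Sys Δ G p} {J : Set I} {P : Subgroup G} {x y : C} (h : t.Mem S J P x)
    (hy : y ∈ Δ.Res J x) : t.Mem S J P y :=
  ⟨h.gd.congr hy, by rw [Δ.Res_eq_of_mem hy]; exact h.eq⟩

/-- the relative position of two chambers: parallel and fixed by the diagram automorphism -/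
structure Pos (t : Tw Δ G) (J : Set I) (w : W) : Prop where
  par : Par cs J J w
  fix : t.φ w = w

theorem fixT (S : Sys Δ G p) (hth : Δ.Thick) {J T : Set I} {x y : C} {v b : W}
    (hmin : IsMinR cs J (Δ.δ x y)) (hxy : Δ.δ x y = v * b) (hv : IsMinR cs T v)
    (hb : b * wJ cs J = wJ cs T) (hJT : J ⊆ T) {u : G} (hux : u ∈ S.UR (Δ.Res J x))
    (huy : u ∈ S.UR (Δ.Res J y)) : ∀ z ∈ Δ.Res T y, u • z = z := by
  obtain ⟨z, hz⟩ := Δ.exists_δ y (wJ cs J)
  have hzJ : z ∈ Δ.Res J y := by rw [mem_Res, hz]; exact F.wJ_mem J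
  have hxz : Δ.δ x z = v * wJ cs T := by
    rw [← hb, ← mul_assoc, ← hxy]
    exact Δ.δ_mul_of rfl hz (hmin _ (F.wJ_mem J))
  have hl : ℓ (v * wJ cs T) = ℓ v + ℓ (wJ cs T) := hv _ (F.wJ_mem T)
  obtain ⟨y1, hy1, hy1'⟩ := Δ.exists_between hxz hl
  have hux' : u ∈ S.U x := hux x (Δ.self_mem_Res _ _)
  have hx : u • x = x := S.fix x u hux'
  have hzf : u • z = z := S.fix z u (huy z hzJ)
  have hy1f : u • y1 = y1 := by
    refine Δ.between_unique hl (x := x) (z := z) ?_ ?_ hy1 hy1'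
    · rw [← hy1, ← S.iso u x y1, hx]
    · rw [← hy1', ← S.iso u y1 z, hzf]
  have h1 := S.fixRes hth (S.mem_U_of_fix hux' hy1f) hy1' hzf
  have h2 : z ∈ Δ.Res T y1 := by rw [mem_Res, hy1']; exact F.wJ_mem T
  have h3 : Δ.Res T y = Δ.Res T y1 := by
    rw [← Δ.Res_eq_of_mem h2]
    exact (Δ.Res_eq_of_mem (Δ.Res_mono hJT y hzJ)).symm
  rw [h3]
  exact h1


/-! ### One descent -/

section Step

/-- the data of a descent -/
structure Dsc (t : Tw Δ G) (J : Set I) (w : W) (i : I) : Prop where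
  lt : ℓ (w * cs.simple i) < ℓ w
  σ : t.σ i = i
  comm : ∀ j ∈ J, cs.simple j * cs.simple i = cs.simple i * cs.simple j

theorem length_mul_lt_iff (w : W) (i : I) :
    ℓ (w * cs.simple i * cs.simple i) < ℓ (w * cs.simple i) ↔ ¬ ℓ (w * cs.simple i) < ℓ w := by
  have h1 := cs.length_mul_simple_ne w i
  rw [cs.simple_mul_simple_cancel_right]
  omega

theorem Pos.notMem {J : Set I} {w : W} (h : t.Pos J w) {i : I}
    (hi : ℓ (w * cs.simple i) < ℓ w) : i ∉ J := by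
  intro hJ
  have h1 := h.par.minR _ (simple_mem_WJ cs hJ)
  omega

theorem Pos.mul {J : Set I} {w : W} (h : t.Pos J w) {i : I} (hi : t.Dsc J w i) :
    t.Pos J (w * cs.simple i) := by
  have hσ : t.φ (w * cs.simple i) = w * cs.simple i := by
    rw [map_mul, h.fix, t.φ_simple, hi.σ]
  have key : ∀ j ∈ J, ℓ (w * cs.simple i) < ℓ (w * cs.simple i * cs.simple j) := by
    intro j hj
    have h1 := h.par.minR _ (simple_mem_WJ cs hj)
    have h2 : w * cs.simple i * cs.simple j = w * cs.simple j * cs.simple i := by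
      rw [mul_assoc, ← hi.comm j hj, mul_assoc]
    have h3 := cs.length_mul_simple (w * cs.simple j) i
    rw [cs.length_simple] at h1
    have h4 := hi.lt
    rw [h2]
    omega
  refine ⟨⟨fun j hj => ?_, fun k hk => ?_, (isMinL_iff cs).2 fun k hk => ?_,
    (isMinR_iff cs).2 key⟩, hσ⟩
  · obtain ⟨k, hk, he⟩ := h.par.fwd j hj
    refine ⟨k, hk, ?_⟩
    rw [mul_assoc, ← hi.comm j hj, ← mul_assoc, he, mul_assoc]
  · obtain ⟨j, hj, he⟩ := h.par.bwd k hk
    refine ⟨j, hj, ?_⟩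
    rw [← mul_assoc, he, mul_assoc, hi.comm j hj, mul_assoc]
  · obtain ⟨j, hj, he⟩ := h.par.bwd k hk
    have h1 := key j hj
    rw [mul_assoc w, ← hi.comm j hj, ← mul_assoc w, ← he, mul_assoc] at h1
    exact h1

theorem Pos.simple {J : Set I} {w : W} (h : t.Pos J w) {i : I} (hi : t.Dsc J w i) :
    t.Pos J (cs.simple i) := by
  have hne : ∀ j ∈ J, j ≠ i := fun j hj he => h.notMem hi.lt (he ▸ hj)
  have key : ∀ j ∈ J, ℓ (cs.simple i) < ℓ (cs.simple i * cs.simple j) := by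
    intro j hj
    have h1 := cs.length_mul_simple (cs.simple i) j
    rcases h1 with h1 | h1
    · omega
    · exfalso
      rw [cs.length_simple] at h1
      have h2 : ℓ (cs.simple i * cs.simple j) = 0 := by omega
      rw [cs.length_eq_zero_iff] at h2
      apply hne j hj
      apply F.inj
      rw [mul_eq_one_iff_eq_inv, cs.inv_simple] at h2
      exact h2.symm
  refine ⟨⟨fun j hj => ⟨j, hj, (hi.comm j hj).symm⟩, fun j hj => ⟨j, hj, hi.comm j hj⟩,
    (isMinL_iff cs).2 fun k hk => ?_, (isMinR_iff cs).2 key⟩, by rw [t.φ_simple, hi.σ]⟩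
  rw [hi.comm k hk]
  exact key k hk

theorem Pos.inv {J : Set I} {w : W} (h : t.Pos J w) : t.Pos J w⁻¹ :=
  ⟨h.par.symm, by rw [map_inv, h.fix]⟩

theorem Pos.one (J : Set I) : t.Pos J 1 := ⟨par_one J, map_one _⟩

/-- right minimality with respect to `J ∪ {i}` -/
theorem Pos.minR {J : Set I} {w : W} (h : t.Pos J w) {i : I} (hi : ¬ ℓ (w * cs.simple i) < ℓ w) :
    IsMinR cs (J ∪ {i}) w := by
  rw [isMinR_iff]
  rintro k (hk | hk)
  · have := h.par.minR _ (simple_mem_WJ cs hk)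
    rw [cs.length_simple] at this
    omega
  · rw [Set.mem_singleton_iff] at hk
    have := cs.length_mul_simple_ne w i
    rw [hk]
    omega

end Step

/-! ### The relative position of two good residues -/

section Rel

/-- `w` is the relative position of the residues `Res J x`, `Res J y`. -/
def Rel (t : Tw Δ G) (J : Set I) (x y : C) (w : W) : Prop :=
  ∃ a ∈ Δ.Res J x, ∃ b ∈ Δ.Res J y, Δ.δ a b = w ∧ t.Pos J w

theorem Rel.pos {J : Set I} {x y : C} {w : W} (h : t.Rel J x y w) : t.Pos J w := by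
  obtain ⟨_, _, _, _, _, h⟩ := h
  exact h

theorem Rel.left {J : Set I} {x y : C} {w : W} (h : t.Rel J x y w) {a : C}
    (ha : a ∈ Δ.Res J x) : ∃ b ∈ Δ.Res J y, Δ.δ a b = w := by
  obtain ⟨a', ha', b', hb', hab, hw⟩ := h
  obtain ⟨c, hc, hc'⟩ := par_transfer hw.par hab (a := a)
    (by rw [Δ.Res_eq_of_mem ha']; exact ha)
  exact ⟨c, Δ.mem_Res_trans hb' hc, hc'⟩

theorem Rel.symm {J : Set I} {x y : C} {w : W} (h : t.Rel J x y w) : t.Rel J y x w⁻¹ := by
  obtain ⟨a, ha, b, hb, hab, hw⟩ := h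
  exact ⟨b, hb, a, ha, by rw [Δ.symm a b, hab], hw.inv⟩

theorem Rel.unique {J : Set I} {x y : C} {w w' : W} (h : t.Rel J x y w) (h' : t.Rel J x y w') :
    w = w' := by
  obtain ⟨a, ha, b, hb, hab, hw⟩ := h'
  obtain ⟨c, hc, hc'⟩ := h.left ha
  have h1 : Δ.IsProj J y a c := Δ.isProj_of_isMinR hc (by rw [hc']; exact h.pos.par.minR)
  have h2 : Δ.IsProj J y a b := Δ.isProj_of_isMinR hb (by rw [hab]; exact hw.par.minR)
  rw [← hc', ← hab, h1.unique h2]

theorem Rel.congr {J : Set I} {x y x' y' : C} {w : W} (h : t.Rel J x y w)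
    (hx : Δ.Res J x = Δ.Res J x') (hy : Δ.Res J y = Δ.Res J y') : t.Rel J x' y' w := by
  obtain ⟨a, ha, b, hb, hab, hw⟩ := h
  exact ⟨a, hx ▸ ha, b, hy ▸ hb, hab, hw⟩

theorem Rel.of_δ {J : Set I} {x y : C} (h : t.Pos J (Δ.δ x y)) : t.Rel J x y (Δ.δ x y) :=
  ⟨x, Δ.self_mem_Res _ _, y, Δ.self_mem_Res _ _, rfl, h⟩

theorem Rel.one {J : Set I} {x y : C} (h : Δ.Res J x = Δ.Res J y) : t.Rel J x y 1 :=
  ⟨x, Δ.self_mem_Res _ _, x, h ▸ Δ.self_mem_Res _ _, Δ.δ_self x, Pos.one J⟩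

theorem Rel.eq_one_iff {J : Set I} {x y : C} {w : W} (h : t.Rel J x y w) :
    w = 1 ↔ Δ.Res J x = Δ.Res J y := by
  constructor
  · rintro rfl
    obtain ⟨a, ha, b, hb, hab, hw⟩ := h
    rw [← Δ.Res_eq_of_mem ha, ← Δ.Res_eq_of_mem hb, Δ.eq_of_δ_eq_one hab]
  · intro he
    exact h.unique (Rel.one he)

theorem Rel.smul (S : Sys Δ G p) {J : Set I} {x y : C} {w : W} (h : t.Rel J x y w) (g : G) :
    t.Rel J (g • x) (g • y) w := by
  obtain ⟨a, ha, b, hb, hab, hw⟩ := h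
  exact ⟨g • a, S.smul_mem_Res ha, g • b, S.smul_mem_Res hb, by rw [S.iso, hab], hw⟩

theorem Rel.exists {J : Set I} {x y : C} (hx : t.Gd J x) (hy : t.Gd J y) :
    ∃ w, t.Rel J x y w := by
  obtain ⟨a, ha, b, hb, hpar, hφ⟩ := parallel hx hy
  exact ⟨_, a, ha, b, hb, rfl, hpar, hφ⟩

end Rel

variable [Finite G] [hp : Fact p.Prime] [Finite C]

/-- all the types of `J` and the descent `i` commute, `σ i = i` -/
theorem Mem.descent {S : Sys Δ G p} (hth : Δ.Thick) (hp2 : p ≠ 2) {J : Set I} {P : Subgroup G}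
    {x y : C} (hx : t.Mem S J P x) (hy : t.Mem S J P y) (hw : t.Pos J (Δ.δ x y)) {i : I}
    (hi : ℓ (Δ.δ x y * cs.simple i) < ℓ (Δ.δ x y)) :
    t.σ i = i ∧ (∀ z ∈ Δ.Res (J ∪ {i}) y, ∀ u ∈ P, u • z = z) ∧
      (∀ j ∈ J ∪ {i}, ∀ k ∈ J ∪ {i}, cs.simple j * cs.simple k = cs.simple k * cs.simple j) ∧
      ∀ j ∈ J, t.σ j = j := by
  obtain ⟨v, b, hvb, hb, hv, hφv, hφb, hb1, hpv, hpb, hst, hlong⟩ :=
    exists_step t.φ_simple t.σσ hw.par hx.gd.1 hx.gd.1 hw.fix hi (T := J ∪ {i, t.σ i}) rfl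
  have hsub : J ⊆ J ∪ {i, t.σ i} := Set.subset_union_left
  have hTst : t.Stab (J ∪ {i, t.σ i}) := by
    rintro k (hk | hk | hk)
    · left; exact hx.gd.1 k hk
    · right; right
      rw [Set.mem_singleton_iff, hk]
    · right; left
      rw [Set.mem_singleton_iff] at hk
      rw [hk, t.σσ]
  have hfix : ∀ u ∈ P, ∀ z ∈ Δ.Res (J ∪ {i, t.σ i}) y, u • z = z := by
    intro u hu
    have h1 : u ∈ t.P S (Δ.Res J x) := by rw [hx.eq]; exact hu
    have h2 : u ∈ t.P S (Δ.Res J y) := by rw [hy.eq]; exact hu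
    exact fixT S hth hw.par.minR hvb hv hlong hsub h1.2 h2.2
  have hthin := S.thin hp2 hth hy.gd hTst hsub fun u hu huc => hfix u (by
    rw [← hy.eq]
    exact ⟨huc, hu⟩)
  have hσi : t.σ i = i := hthin.2 i (by right; left; rfl)
  rw [hσi] at hthin hfix
  have he : J ∪ {i, i} = J ∪ {i} := by simp
  rw [he] at hthin hfix
  exact ⟨hσi, fun z hz u hu => hfix u hu z hz, fun j hj k hk => hthin.1 j hj k hk,
    fun j hj => hthin.2 j (Or.inl hj)⟩

/-- The step to the neighbour. -/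
theorem Mem.step {S : Sys Δ G p} (hth : Δ.Thick) (hp2 : p ≠ 2) {J : Set I} {P : Subgroup G}
    {x y : C} (hx : t.Mem S J P x) (hy : t.Mem S J P y) (hw : t.Pos J (Δ.δ x y)) {i : I}
    (hi : ℓ (Δ.δ x y * cs.simple i) < ℓ (Δ.δ x y)) :
    t.Dsc J (Δ.δ x y) i ∧ ∃ y1, Δ.δ x y1 = Δ.δ x y * cs.simple i ∧ Δ.δ y1 y = cs.simple i ∧
      t.Mem S J P y1 := by
  obtain ⟨hσ, hfix, hcomm, hσJ⟩ := hx.descent hth hp2 hy hw hi
  have hd : t.Dsc J (Δ.δ x y) i :=
    ⟨hi, hσ, fun j hj => hcomm j (Or.inl hj) i (Or.inr rfl)⟩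
  have h1 := hw.mul hd
  have h2 := hw.simple hd
  have hl : ℓ (Δ.δ x y * cs.simple i * cs.simple i) =
      ℓ (Δ.δ x y * cs.simple i) + ℓ (cs.simple i) := by
    rw [cs.simple_mul_simple_cancel_right, cs.length_simple]
    have := cs.length_mul_simple (Δ.δ x y) i
    omega
  obtain ⟨y1, hy1, hy1'⟩ := Δ.exists_between (x := x) (z := y) (v := Δ.δ x y * cs.simple i)
    (w := cs.simple i) (by rw [cs.simple_mul_simple_cancel_right]) hl
  have hst : t.Stab (J ∪ {i}) := by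
    rintro k (hk | hk)
    · left; exact hx.gd.1 k hk
    · right
      rw [Set.mem_singleton_iff] at hk ⊢
      rw [hk, hσ]
  have hTy : y ∈ Δ.Res (J ∪ {i}) y1 := by
    rw [mem_Res, hy1']; exact simple_mem_WJ cs (Or.inr rfl)
  have hsub : J ⊆ J ∪ {i} := Set.subset_union_left
  have hgd : t.Gd J y1 := by
    refine gd_transfer' hx.gd h1.par hy1 h1.fix hx.gd.1 hst hsub ?_ ?_
    · refine h1.minR ?_
      rw [length_mul_lt_iff]
      exact not_not.2 hi
    · have h3 : t.θ y ∈ Δ.Res (J ∪ {i}) y := Δ.Res_mono hsub y hy.gd.θ_mem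
      have h4 := t.θ_mem_Res hst (Δ.mem_Res_symm hTy)
      exact Δ.mem_Res_trans (Δ.mem_Res_trans hTy h3) h4
  refine ⟨hd, y1, hy1, hy1', hgd, ?_⟩
  have hle : P ≤ t.P S (Δ.Res J y1) := by
    intro u hu
    have hu' : u ∈ t.P S (Δ.Res J y) := by rw [hy.eq]; exact hu
    refine ⟨hu'.1, fun c hc => ?_⟩
    refine S.mem_U_of_fix (hu'.2 y (Δ.self_mem_Res _ _)) (hfix c ?_ u hu)
    exact Δ.mem_Res_trans (Δ.mem_Res_symm hTy) (Δ.Res_mono hsub y1 hc)
  refine (Subgroup.eq_of_le_of_card_ge hle ?_).symm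
  rw [card_P_const S hth hp2 hx.gd hgd, hx.eq]

/-- All the descents commute. -/
theorem Mem.descents {S : Sys Δ G p} (hth : Δ.Thick) (hp2 : p ≠ 2) {J : Set I} {P : Subgroup G}
    {x y : C} (hx : t.Mem S J P x) (hy : t.Mem S J P y) (hw : t.Pos J (Δ.δ x y)) {i j : I}
    (hi : ℓ (Δ.δ x y * cs.simple i) < ℓ (Δ.δ x y))
    (hj : ℓ (Δ.δ x y * cs.simple j) < ℓ (Δ.δ x y)) :
    cs.simple i * cs.simple j = cs.simple j * cs.simple i := by
  set R : Set I := {k | ℓ (Δ.δ x y * cs.simple k) < ℓ (Δ.δ x y)} with hR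
  have hd : ∀ k ∈ R, t.Dsc J (Δ.δ x y) k := fun k hk => (hx.step hth hp2 hy hw hk).1
  have hsub : J ⊆ J ∪ R := Set.subset_union_left
  have hTst : t.Stab (J ∪ R) := by
    rintro k (hk | hk)
    · left; exact hx.gd.1 k hk
    · right
      rw [(hd k hk).σ]
      exact hk
  obtain ⟨v, hv, b, hb, hvb⟩ := exists_isMinR cs (J ∪ R) (Δ.δ x y)
  have hdesc : ∀ k ∈ J ∪ R, (ℓ (b * cs.simple k) < ℓ b ↔
      ℓ (Δ.δ x y * cs.simple k) < ℓ (Δ.δ x y)) := by
    intro k hk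
    have h1 := hv _ (mul_mem hb (simple_mem_WJ cs hk))
    have h2 := hv b hb
    rw [← mul_assoc, ← hvb] at h1
    rw [← hvb] at h2
    omega
  have hbR : IsMinR cs J b := by
    rw [isMinR_iff]
    intro k hk
    have h1 := (hdesc k (hsub hk)).not.2 (by
      have := hw.par.minR _ (simple_mem_WJ cs hk)
      omega)
    have h2 := cs.length_mul_simple_ne b k
    omega
  have hlz : ℓ (b * wJ cs J) = ℓ b + ℓ (wJ cs J) := hbR _ (F.wJ_mem J)
  have hb' : b * wJ cs J = wJ cs (J ∪ R) := by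
    refine F.eq_wJ_of_descents (mul_mem hb (WJ_mono cs hsub (F.wJ_mem J))) fun k hk => ?_
    rcases hk with hk | hk
    · have h1 := hbR _ (mul_mem (F.wJ_mem J) (simple_mem_WJ cs hk))
      have h2 := F.len_wJ_mul (simple_mem_WJ cs hk)
      rw [cs.length_simple] at h2
      rw [mul_assoc]
      omega
    · have hc : wJ cs J * cs.simple k = cs.simple k * wJ cs J := by
        have h1 : WJ cs J ≤ Subgroup.centralizer {cs.simple k} := by
          rw [WJ, Subgroup.closure_le]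
          rintro _ ⟨j, hj, rfl⟩
          rw [SetLike.mem_coe, Subgroup.mem_centralizer_singleton_iff]
          exact ((hd k hk).comm j hj)
        have h2 := h1 (F.wJ_mem J)
        rw [Subgroup.mem_centralizer_singleton_iff] at h2
        exact h2
      have h1 := (hdesc k (Or.inr hk)).2 hk
      have h2 := cs.length_mul_le (b * cs.simple k) (wJ cs J)
      rw [mul_assoc b, hc, ← mul_assoc b]
      omega
  have hthin := S.thin hp2 hth hy.gd hTst hsub fun u hu huc => by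
    have hup : u ∈ t.P S (Δ.Res J x) := by
      rw [hx.eq, ← hy.eq]
      exact ⟨huc, hu⟩
    exact fixT S hth hw.par.minR hvb hv hb' hsub hup.2 hu
  exact hthin.1 i (Or.inr hi) j (Or.inr hj)

/-- The step in terms of the relative position. -/
theorem Mem.step_rel {S : Sys Δ G p} (hth : Δ.Thick) (hp2 : p ≠ 2) {J : Set I} {P : Subgroup G}
    {x y : C} {w : W} (hx : t.Mem S J P x) (hy : t.Mem S J P y) (hw : t.Rel J x y w) {i : I}
    (hi : ℓ (w * cs.simple i) < ℓ w) :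
    t.Dsc J w i ∧ ∃ y1, t.Rel J x y1 (w * cs.simple i) ∧ t.Rel J y1 y (cs.simple i) ∧
      t.Mem S J P y1 := by
  obtain ⟨a, ha, b, hb, rfl, hpos⟩ := hw
  obtain ⟨hd, y1, h1, h2, h3⟩ := (hx.congr ha).step hth hp2 (hy.congr hb) hpos hi
  refine ⟨hd, y1, ?_, ?_, h3⟩
  · exact ⟨a, ha, y1, Δ.self_mem_Res _ _, h1, hpos.mul hd⟩
  · exact ⟨y1, Δ.self_mem_Res _ _, b, hb, h2, hpos.simple hd⟩

theorem Mem.descents_rel {S : Sys Δ G p} (hth : Δ.Thick) (hp2 : p ≠ 2) {J : Set I}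
    {P : Subgroup G} {x y : C} {w : W} (hx : t.Mem S J P x) (hy : t.Mem S J P y)
    (hw : t.Rel J x y w) {i j : I} (hi : ℓ (w * cs.simple i) < ℓ w)
    (hj : ℓ (w * cs.simple j) < ℓ w) :
    cs.simple i * cs.simple j = cs.simple j * cs.simple i := by
  obtain ⟨a, ha, b, hb, rfl, hpos⟩ := hw
  exact (hx.congr ha).descents hth hp2 (hy.congr hb) hpos hi hj

/-- A panel contains at most two members. -/
theorem Mem.eq_of_adj {S : Sys Δ G p} (hth : Δ.Thick) (hp2 : p ≠ 2) {J : Set I}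
    {P : Subgroup G} {x y z : C} {i : I} (hx : t.Mem S J P x) (hy : t.Mem S J P y)
    (hz : t.Mem S J P z) (hxy : t.Rel J x y (cs.simple i)) (hxz : t.Rel J x z (cs.simple i)) :
    Δ.Res J y = Δ.Res J z := by
  have hi : ℓ (cs.simple i * cs.simple i) < ℓ (cs.simple i) := by
    rw [cs.simple_mul_simple_self, cs.length_one, cs.length_simple]
    exact Nat.one_pos
  have hd := (hx.step_rel hth hp2 hy hxy hi).1
  have hsub : J ⊆ J ∪ {i} := Set.subset_union_left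
  have hst : ∀ k ∈ J ∪ {i}, t.σ k ∈ J ∪ {i} := by
    rintro k (hk | hk)
    · left; exact hx.gd.1 k hk
    · right
      rw [Set.mem_singleton_iff] at hk ⊢
      rw [hk, hd.σ]
  have hmem : cs.simple i ∈ WJ cs (J ∪ {i}) := simple_mem_WJ cs (Or.inr rfl)
  have hlong : cs.simple i * wJ cs J = wJ cs (J ∪ {i}) := by
    have hl := hxy.pos.par.minR
    have hc : cs.simple i * wJ cs J = wJ cs J * cs.simple i := hxy.pos.par.longest
    refine F.eq_wJ_of_descents (mul_mem hmem (WJ_mono cs hsub (F.wJ_mem J))) fun k hk => ?_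
    have h0 := hl _ (F.wJ_mem J)
    rw [cs.length_simple] at h0
    rcases hk with hk | hk
    · have h1 := hl _ (mul_mem (F.wJ_mem J) (simple_mem_WJ cs hk))
      have h2 := F.len_wJ_mul (simple_mem_WJ cs hk)
      rw [cs.length_simple] at h1 h2
      rw [mul_assoc]
      omega
    · rw [Set.mem_singleton_iff] at hk
      rw [hk, hc, mul_assoc, cs.simple_mul_simple_self, mul_one, ← hc]
      omega
  have hAd : Ad cs t.φ t.σ (J ∪ {i}) J J (cs.simple i) :=
    ⟨hst, hx.gd.1, hx.gd.1, hsub, hsub, hmem, hxy.pos.fix, hxy.pos.par, hlong⟩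
  have hne : cs.simple i ≠ 1 := by
    intro h
    have := cs.length_simple i
    rw [h, cs.length_one] at this
    omega
  have hPD : t.PD (J ∪ {i}) J J (cs.simple i) x :=
    ⟨hAd, hne, ⟨i, by rw [hd.σ]; simp⟩, hx.gd⟩
  have hmemG : ∀ z, t.Mem S J P z → t.Rel J x z (cs.simple i) →
      Δ.Res J z ∈ t.Gds (J ∪ {i}) x ∧ Δ.Res J z ≠ Δ.Res J x := by
    intro z hz hxz
    obtain ⟨b, hb, hxb⟩ := hxz.left (Δ.self_mem_Res J x)
    refine ⟨⟨J, b, hsub, by rw [mem_Res, hxb]; exact hmem, hz.gd.congr hb,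
      (Δ.Res_eq_of_mem hb).symm⟩, fun h => hne (hxz.eq_one_iff.2 h.symm)⟩
  obtain ⟨hy1, hy2⟩ := hmemG y hy hxy
  obtain ⟨hz1, hz2⟩ := hmemG z hz hxz
  obtain ⟨u, huc, hu, _, huZ⟩ := hPD.trans S hth hp2 hy1 hz1 hy2 hz2
  have huP : u ∈ t.P S (Δ.Res J y) := by
    rw [hy.eq, ← hx.eq]
    exact ⟨huc, hu⟩
  rw [← huZ, smul_of_mem_UR S huP.2]

/-- The relative position is multiplicative: adjacent case. -/
theorem Mem.mul_adj {S : Sys Δ G p} (hth : Δ.Thick) (hp2 : p ≠ 2) {J : Set I}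
    {P : Subgroup G} {x y z : C} {i : I} {w : W} (hx : t.Mem S J P x) (hy : t.Mem S J P y)
    (hz : t.Mem S J P z) (hxy : t.Rel J x y w) (hyz : t.Rel J y z (cs.simple i)) :
    t.Rel J x z (w * cs.simple i) := by
  obtain ⟨w', hw'⟩ := Rel.exists hx.gd hz.gd
  by_cases h1 : ℓ (w * cs.simple i) < ℓ w
  · obtain ⟨-, y1, h2, h3, h4⟩ := hx.step_rel hth hp2 hy hxy h1
    have h5 := h3.symm
    rw [cs.inv_simple] at h5
    have h6 := hy.eq_of_adj hth hp2 h4 hz h5 hyz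
    exact h2.congr rfl h6
  by_cases h2 : ℓ (w' * cs.simple i) < ℓ w'
  · obtain ⟨-, y1, h2, h3, h4⟩ := hx.step_rel hth hp2 hz hw' h2
    have h5 := h3.symm
    have h7 := hyz.symm
    rw [cs.inv_simple] at h5 h7
    have h6 := hz.eq_of_adj hth hp2 h4 hy h5 h7
    have h8 := (h2.congr rfl h6).unique hxy
    rw [← h8, cs.simple_mul_simple_cancel_right]
    exact hw'
  · exfalso
    obtain ⟨c, hc, hxc⟩ := hxy.left (Δ.self_mem_Res J x)
    obtain ⟨d, hd, hxd⟩ := hw'.left (Δ.self_mem_Res J x)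
    obtain ⟨e, he, hye⟩ := hyz.left (Δ.self_mem_Res J y)
    have hsub : J ⊆ J ∪ {i} := Set.subset_union_left
    have hc' : c ∈ Δ.Res (J ∪ {i}) y := Δ.Res_mono hsub y hc
    have hd' : d ∈ Δ.Res (J ∪ {i}) y := by
      have h3 : e ∈ Δ.Res (J ∪ {i}) y := by
        rw [mem_Res, hye]; exact simple_mem_WJ cs (Or.inr rfl)
      have h4 : d ∈ Δ.Res J e := by rw [Δ.Res_eq_of_mem he]; exact hd
      exact Δ.mem_Res_trans h3 (Δ.Res_mono hsub e h4)
    have h3 : Δ.IsProj (J ∪ {i}) y x c :=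
      Δ.isProj_of_isMinR hc' (by rw [hxc]; exact hxy.pos.minR h1)
    have h4 : Δ.IsProj (J ∪ {i}) y x d :=
      Δ.isProj_of_isMinR hd' (by rw [hxd]; exact hw'.pos.minR h2)
    have h5 : c = d := h3.unique h4
    have h6 : Δ.Res J y = Δ.Res J z := by
      rw [← Δ.Res_eq_of_mem hc, ← Δ.Res_eq_of_mem hd, h5]
    have h7 := hyz.eq_one_iff.2 h6
    have h8 := cs.length_simple i
    rw [h7, cs.length_one] at h8
    omega

/-- **The relative position is multiplicative.** -/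
theorem Mem.mul {S : Sys Δ G p} (hth : Δ.Thick) (hp2 : p ≠ 2) {J : Set I}
    {P : Subgroup G} {x y z : C} {w v : W} (hx : t.Mem S J P x) (hy : t.Mem S J P y)
    (hz : t.Mem S J P z) (hxy : t.Rel J x y w) (hyz : t.Rel J y z v) :
    t.Rel J x z (w * v) := by
  induction hn : ℓ v using Nat.strong_induction_on generalizing v z with
  | _ n ih =>
    by_cases hv : v = 1
    · have h1 := hyz.eq_one_iff.1 hv
      rw [hv, mul_one]
      exact hxy.congr rfl h1
    · obtain ⟨i, hi⟩ := cs.exists_rightDescent_of_ne_one hv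
      have hi' : ℓ (v * cs.simple i) < ℓ v := hi
      obtain ⟨-, z1, h1, h2, h3⟩ := hy.step_rel hth hp2 hz hyz hi'
      have h4 := ih _ (by rw [← hn]; exact hi') h3 h1 rfl
      have h5 := hx.mul_adj hth hp2 h3 hz h4 h2
      rwa [← mul_assoc, cs.simple_mul_simple_cancel_right] at h5

/-! ### The normaliser of `P` -/

omit F [Finite G] hp [Finite C] in
/-- `g` normalises `P`. -/
theorem P_smul_set (S : Sys Δ G p) {Q : Set C} {g : G} (hg : g ∈ t.cent) {u : G} :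
    g * u * g⁻¹ ∈ t.P S (g • Q) ↔ u ∈ t.P S Q := by
  constructor
  · intro h
    refine ⟨?_, S.conj_mem_UR_iff.1 h.2⟩
    have h1 := t.cent.mul_mem (t.cent.mul_mem (t.cent.inv_mem hg) h.1) hg
    have h2 : g⁻¹ * (g * u * g⁻¹) * g = u := by group
    rwa [h2] at h1
  · intro h
    exact ⟨t.cent.mul_mem (t.cent.mul_mem hg h.1) (t.cent.inv_mem hg), S.conj_mem_UR_iff.2 h.2⟩

omit [Finite G] hp [Finite C] in
theorem Mem.smul {S : Sys Δ G p} {J : Set I} {P : Subgroup G} {y : C} (h : t.Mem S J P y) {g : G}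
    (hg : g ∈ t.cent) (hn : ∀ u, u ∈ P ↔ g * u * g⁻¹ ∈ P) : t.Mem S J P (g • y) := by
  refine ⟨gd_smul S h.gd hg, ?_⟩
  ext u
  have h1 : g * (g⁻¹ * u * g) * g⁻¹ = u := by group
  rw [← S.smul_Res, ← h1, P_smul_set S hg, h.eq]
  exact hn _

/-- The relative position of `Res J x` and of its image under an element of the normaliser of `P` in
the centraliser. -/
theorem exists_posHom (S : Sys Δ G p) (hth : Δ.Thick) (hp2 : p ≠ 2) {J : Set I} {x : C}
    (h : t.Gd J x) {N : Subgroup G} (hN : ∀ g, g ∈ N ↔ g ∈ t.cent ∧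
      ∀ u, u ∈ t.P S (Δ.Res J x) ↔ g * u * g⁻¹ ∈ t.P S (Δ.Res J x)) :
    ∃ f : N →* W, ∀ g : N, t.Rel J x ((g : G) • x) (f g) := by
  have hx : t.Mem S J (t.P S (Δ.Res J x)) x := ⟨h, rfl⟩
  have hmem : ∀ g : N, t.Mem S J (t.P S (Δ.Res J x)) ((g : G) • x) := fun g =>
    hx.smul ((hN _).1 g.2).1 ((hN _).1 g.2).2
  choose f hf using fun g : N => Rel.exists (t := t) (J := J) h (hmem g).gd
  refine ⟨MonoidHom.mk' f fun a b => ?_, hf⟩
  have h1 := (hf b).smul S (a : G)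
  have h2 : t.Rel J ((a : G) • x) (((a * b : N) : G) • x) (f b) := by
    rw [Subgroup.coe_mul, mul_smul]
    exact h1
  exact (hf (a * b)).unique (hx.mul hth hp2 (hmem a) (hmem (a * b)) (hf a) h2)

/-- The normaliser of `P` in the centraliser as a subgroup. -/
def NP (t : Tw Δ G) (P : Subgroup G) : Subgroup G where
  carrier := {g | g ∈ t.cent ∧ ∀ u, u ∈ P ↔ g * u * g⁻¹ ∈ P}
  one_mem' := ⟨one_mem _, fun u => by simp⟩
  mul_mem' := fun {a b} ha hb => ⟨mul_mem ha.1 hb.1, fun u => by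
    rw [hb.2 u, ha.2]
    have h1 : a * (b * u * b⁻¹) * a⁻¹ = a * b * u * (a * b)⁻¹ := by group
    rw [h1]⟩
  inv_mem' := fun {a} ha => ⟨inv_mem ha.1, fun u => by
    rw [ha.2 (a⁻¹ * u * a⁻¹⁻¹)]
    have h1 : a * (a⁻¹ * u * a⁻¹⁻¹) * a⁻¹ = u := by group
    rw [h1]⟩

omit F [Finite G] hp [Finite C] in
theorem mem_NP {P : Subgroup G} {g : G} :
    g ∈ t.NP P ↔ g ∈ t.cent ∧ ∀ u, u ∈ P ↔ g * u * g⁻¹ ∈ P := Iff.rfl

omit [Finite G] hp in
theorem finite_types (Δ : Bldg cs C) [Nonempty C] : Finite W ∧ Finite I := by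
  obtain ⟨x⟩ := ‹Nonempty C›
  have h1 : Function.Surjective (Δ.δ x) := fun w => Δ.exists_δ x w
  have h2 : Finite W := Finite.of_surjective _ h1
  exact ⟨h2, Finite.of_injective _ F.inj⟩

/-- **T3 (a).** The normaliser of `P` in the centraliser, modulo the stabiliser of the good residue,
has exponent two. -/
theorem sq_smul_Res (S : Sys Δ G p) (hth : Δ.Thick) (hp2 : p ≠ 2) {J : Set I} {x : C}
    (h : t.Gd J x) {g : G} (hg : g ∈ t.cent)
    (hn : ∀ u, u ∈ t.P S (Δ.Res J x) ↔ g * u * g⁻¹ ∈ t.P S (Δ.Res J x)) :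
    (g * g) • Δ.Res J x = Δ.Res J x := by
  have hne : Nonempty C := ⟨x⟩
  obtain ⟨hW, hI⟩ := finite_types Δ
  obtain ⟨f, hf⟩ := exists_posHom S hth hp2 h (N := t.NP (t.P S (Δ.Res J x))) fun g => Iff.rfl
  have hx : t.Mem S J (t.P S (Δ.Res J x)) x := ⟨h, rfl⟩
  have hmem : ∀ g : t.NP (t.P S (Δ.Res J x)), t.Mem S J (t.P S (Δ.Res J x)) ((g : G) • x) :=
    fun g => hx.smul g.2.1 g.2.2
  have key := CoxTwo.sq_eq_one (cs := cs)
    (K := {w | ∃ y, t.Mem S J (t.P S (Δ.Res J x)) y ∧ t.Rel J x y w})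
    (by
      rintro w ⟨y, hy, hw⟩ i hi
      obtain ⟨-, y1, h1, -, h3⟩ := hx.step_rel hth hp2 hy hw hi
      exact ⟨y1, h3, h1⟩)
    (Set.toFinite _) ⟨x, hx, Rel.one rfl⟩
    (by
      rintro w ⟨y, hy, hw⟩ i j hi hj
      exact hx.descents_rel hth hp2 hy hw hi hj)
    (Ω := f.range)
    (by
      rintro _ ⟨a, rfl⟩ w ⟨y, hy, hw⟩
      exact ⟨(a : G) • y, hy.smul a.2.1 a.2.2,
        hx.mul hth hp2 (hmem a) (hy.smul a.2.1 a.2.2) (hf a) (hw.smul S _)⟩)
    (g := f ⟨g, hg, hn⟩) ⟨_, rfl⟩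
  rw [← map_mul] at key
  have h1 := (hf (⟨g, hg, hn⟩ * ⟨g, hg, hn⟩)).eq_one_iff.1 key
  rw [S.smul_Res]
  exact h1.symm

omit F [Finite G] hp [Finite C] in
theorem mem_NP_of_smul (S : Sys Δ G p) {Q : Set C} {c : G} (hc : c ∈ t.cent) (h : c • Q = Q) :
    c ∈ t.NP (t.P S Q) := by
  refine ⟨hc, fun u => ?_⟩
  have h1 := P_smul_set S (Q := Q) hc (u := u)
  rw [h] at h1
  exact h1.symm

/-- **T3 (b).** The stabiliser of the good residue is normalised by the normaliser of `P`. -/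
theorem conj_smul_Res (S : Sys Δ G p) (hth : Δ.Thick) (hp2 : p ≠ 2) {J : Set I} {x : C}
    (h : t.Gd J x) {g : G} (hg : g ∈ t.cent)
    (hn : ∀ u, u ∈ t.P S (Δ.Res J x) ↔ g * u * g⁻¹ ∈ t.P S (Δ.Res J x)) {c : G} (hc : c ∈ t.cent)
    (hcx : c • Δ.Res J x = Δ.Res J x) : (g * c * g⁻¹) • Δ.Res J x = Δ.Res J x := by
  obtain ⟨f, hf⟩ := exists_posHom S hth hp2 h (N := t.NP (t.P S (Δ.Res J x))) fun g => Iff.rfl
  have hcN := mem_NP_of_smul S hc hcx
  have h1 : f ⟨c, hcN⟩ = 1 := by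
    rw [(hf ⟨c, hcN⟩).eq_one_iff]
    change Δ.Res J x = Δ.Res J (c • x)
    rw [← S.smul_Res, hcx]
  have h2 : f (⟨g, hg, hn⟩ * ⟨c, hcN⟩ * ⟨g, hg, hn⟩⁻¹) = 1 := by
    rw [map_mul, map_mul, h1, mul_one, map_inv, mul_inv_cancel]
  have h3 := (hf (⟨g, hg, hn⟩ * ⟨c, hcN⟩ * ⟨g, hg, hn⟩⁻¹)).eq_one_iff.1 h2
  rw [S.smul_Res]
  exact h3.symm

end Tw

end Cfsg.Agent.FixBN
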