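import Mathlib

/-!
# Rank one groups: fixed point free involutions

* `GoodOne L` : for every fixed point free involutory permutation `th` normalising `L` the centraliser of `th` in the
  normaliser of `L` is solvable; `GoodOne.map` (transport under a bijection);
* `famStab U` : the permutations permuting the members of the family `U`; `GoodFam U` : the same condition as `GoodOne`
  with the normaliser of `L` replaced by `famStab U`; `GoodOne.goodFam`, `GoodFam.map`;
* `tr a`, `ni` : the permutations `t ↦ t + a`, `t ↦ -1/t` of `Option F` (the projective line, `none` = infinity); `psl2 F` : the group they generate;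
  `lineFam F` : the root groups (`lineFam_none`, `lineFam_some`), `iSup_lineFam : ⨆ y, lineFam F y = psl2 F`,
  `psl2_le_famStab`.
-/

set_option autoImplicit false

namespace Cfsg.Agent.FixBN

/-- Every fixed point free permutation `th` with `th * th = 1` normalising `L` has solvable centraliser in the
normaliser of `L`. -/
def GoodOne {Om : Type*} (L : Subgroup (Equiv.Perm Om)) : Prop :=
  ∀ th ∈ Subgroup.normalizer (L : Set (Equiv.Perm Om)), th * th = 1 → (∀ w, th w ≠ w) →
    Group.IsSolvable ↥(Subgroup.normalizer (L : Set (Equiv.Perm Om)) ⊓ Subgroup.centralizer ({th} : Set (Equiv.Perm Om)))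

namespace GoodOne

variable {Om Om' : Type*}

theorem map_normalizer {G H : Type*} [Group G] [Group H] (f : G ≃* H) (L : Subgroup G) :
    (Subgroup.normalizer (L : Set G)).map f.toMonoidHom =
      Subgroup.normalizer ((L.map f.toMonoidHom : Subgroup H) : Set H) := by
  ext x
  constructor
  · rintro ⟨y, hy, rfl⟩
    rw [Subgroup.mem_normalizer_iff]
    intro z
    obtain ⟨z, rfl⟩ := f.surjective z
    have h1 : ∀ w : G, f w ∈ L.map f.toMonoidHom ↔ w ∈ L := fun w =>
      ⟨fun ⟨v, hv, e⟩ => by rw [← f.injective e]; exact hv, fun hw => ⟨w, hw, rfl⟩⟩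
    show f z ∈ L.map f.toMonoidHom ↔ f y * f z * (f y)⁻¹ ∈ L.map f.toMonoidHom
    rw [← map_inv, ← map_mul, ← map_mul, h1, h1]
    exact Subgroup.mem_normalizer_iff.1 hy z
  · intro hx
    refine ⟨f.symm x, ?_, f.apply_symm_apply x⟩
    rw [SetLike.mem_coe, Subgroup.mem_normalizer_iff]
    intro z
    have h1 : ∀ w : G, f w ∈ L.map f.toMonoidHom ↔ w ∈ L := fun w =>
      ⟨fun ⟨v, hv, e⟩ => by rw [← f.injective e]; exact hv, fun hw => ⟨w, hw, rfl⟩⟩
    have h2 := Subgroup.mem_normalizer_iff.1 hx (f z)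
    rw [h1] at h2
    rw [h2, ← h1, map_mul, map_mul, map_inv, f.apply_symm_apply]

theorem map (e : Om ≃ Om') {L : Subgroup (Equiv.Perm Om)} (hL : GoodOne L) :
    GoodOne (L.map (e.permCongrHom : Equiv.Perm Om ≃* Equiv.Perm Om').toMonoidHom) := by
  set f : Equiv.Perm Om ≃* Equiv.Perm Om' := e.permCongrHom with hf
  intro th hth h2 hfree
  rw [← map_normalizer] at hth ⊢
  obtain ⟨s, hs, rfl⟩ := hth
  have hs2 : s * s = 1 := by
    apply f.injective
    rw [map_mul, map_one]
    exact h2
  have hsf : ∀ w, s w ≠ w := by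
    intro w hw
    apply hfree (e w)
    show e (s (e.symm (e w))) = e w
    rw [e.symm_apply_apply, hw]
  have h3 := hL s hs hs2 hsf
  have h4 : (Subgroup.normalizer (L : Set (Equiv.Perm Om))).map f.toMonoidHom ⊓
      Subgroup.centralizer ({f.toMonoidHom s} : Set (Equiv.Perm Om')) =
      (Subgroup.normalizer (L : Set (Equiv.Perm Om)) ⊓ Subgroup.centralizer ({s} : Set (Equiv.Perm Om))).map
        f.toMonoidHom := by
    ext x
    constructor
    · rintro ⟨⟨y, hy, rfl⟩, hc⟩
      have hc' : f.toMonoidHom y ∈ Subgroup.centralizer ({f.toMonoidHom s} : Set (Equiv.Perm Om')) := hc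
      have hc2 : y ∈ Subgroup.centralizer ({s} : Set (Equiv.Perm Om)) := by
        rw [Subgroup.mem_centralizer_singleton_iff] at hc' ⊢
        apply f.injective
        rw [map_mul, map_mul]
        exact hc'
      exact ⟨y, ⟨hy, hc2⟩, rfl⟩
    · rintro ⟨y, ⟨hy, hc⟩, rfl⟩
      have hc' : y ∈ Subgroup.centralizer ({s} : Set (Equiv.Perm Om)) := hc
      have hc2 : f.toMonoidHom y ∈ Subgroup.centralizer ({f.toMonoidHom s} : Set (Equiv.Perm Om')) := by
        rw [Subgroup.mem_centralizer_singleton_iff] at hc' ⊢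
        show f y * f s = f s * f y
        rw [← map_mul, hc', map_mul]
      exact ⟨⟨y, hy, rfl⟩, hc2⟩
  rw [h4]
  exact Group.isSolvable_of_surjective (f := f.toMonoidHom.subgroupMap _) (f.toMonoidHom.subgroupMap_surjective _)

end GoodOne

/-! ### Families of root groups -/

/-- The permutations permuting the members of the family `U` according to their action on the points. -/
def famStab {Om : Type*} (U : Om → Subgroup (Equiv.Perm Om)) : Subgroup (Equiv.Perm Om) where
  carrier := {c | ∀ y g, g ∈ U y ↔ c * g * c⁻¹ ∈ U (c y)}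
  one_mem' := fun y g => by simp
  mul_mem' := fun {a b} (ha : ∀ y g, g ∈ U y ↔ a * g * a⁻¹ ∈ U (a y)) (hb : ∀ y g, g ∈ U y ↔ b * g * b⁻¹ ∈ U (b y)) y g => by
    have h : a * b * g * (a * b)⁻¹ = a * (b * g * b⁻¹) * a⁻¹ := by group
    rw [h, hb, ha]
    rfl
  inv_mem' := fun {a} (ha : ∀ y g, g ∈ U y ↔ a * g * a⁻¹ ∈ U (a y)) y g => by
    have h := ha (a⁻¹ y) (a⁻¹ * g * a⁻¹⁻¹)
    have h1 : a * (a⁻¹ * g * a⁻¹⁻¹) * a⁻¹ = g := by group
    rw [h1, show a (a⁻¹ y) = y from a.apply_symm_apply y] at h
    exact h.symm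

theorem mem_famStab {Om : Type*} {U : Om → Subgroup (Equiv.Perm Om)} {c : Equiv.Perm Om} :
    c ∈ famStab U ↔ ∀ y g, g ∈ U y ↔ c * g * c⁻¹ ∈ U (c y) := Iff.rfl

/-- Every fixed point free permutation `th` with `th * th = 1` permuting the family has solvable centraliser in the
group of all permutations permuting the family. -/
def GoodFam {Om : Type*} (U : Om → Subgroup (Equiv.Perm Om)) : Prop :=
  ∀ th ∈ famStab U, th * th = 1 → (∀ w, th w ≠ w) →
    Group.IsSolvable ↥(famStab U ⊓ Subgroup.centralizer ({th} : Set (Equiv.Perm Om)))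

theorem famStab_le_normalizer {Om : Type*} (U : Om → Subgroup (Equiv.Perm Om)) :
    famStab U ≤ Subgroup.normalizer ((⨆ y, U y : Subgroup (Equiv.Perm Om)) : Set (Equiv.Perm Om)) := by
  have key : ∀ c ∈ famStab U, ∀ g ∈ (⨆ y, U y), c * g * c⁻¹ ∈ (⨆ y, U y) := by
    intro c hc g hg
    have h1 : (⨆ y, U y) ≤ (⨆ y, U y).comap (MulAut.conj c).toMonoidHom := by
      refine iSup_le fun y g hg => ?_
      exact (le_iSup U (c y)) ((hc y g).1 hg)
    exact h1 hg
  intro c hc
  rw [Subgroup.mem_normalizer_iff]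
  intro g
  refine ⟨key c hc g, fun h => ?_⟩
  have h1 := key c⁻¹ (inv_mem hc) _ h
  have h2 : c⁻¹ * (c * g * c⁻¹) * c⁻¹⁻¹ = g := by group
  rwa [h2] at h1

theorem GoodOne.goodFam {Om : Type*} {U : Om → Subgroup (Equiv.Perm Om)} (h : GoodOne (⨆ y, U y)) : GoodFam U := by
  intro th hth h2 hfree
  have h3 := h th (famStab_le_normalizer U hth) h2 hfree
  exact Group.isSolvable_of_isSolvable_injective (f := Subgroup.inclusion (inf_le_inf_right _ (famStab_le_normalizer U)))
    (Subgroup.inclusion_injective _)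

/-- Transport of `GoodFam` under a bijection of the points. -/
theorem GoodFam.map {Om Om' : Type*} (e : Om ≃ Om') {U : Om → Subgroup (Equiv.Perm Om)}
    {U' : Om' → Subgroup (Equiv.Perm Om')} (hU : ∀ y g, g ∈ U y ↔ e.permCongr g ∈ U' (e y)) (h : GoodFam U) :
    GoodFam U' := by
  set f : Equiv.Perm Om ≃* Equiv.Perm Om' := e.permCongrHom with hf
  have hfa : ∀ g, f g = e.permCongr g := fun g => rfl
  have hst : ∀ c : Equiv.Perm Om, c ∈ famStab U ↔ f c ∈ famStab U' := by
    intro c
    have hcy : ∀ y, (f c) (e y) = e (c y) := fun y => by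
      show e (c (e.symm (e y))) = e (c y)
      rw [e.symm_apply_apply]
    constructor
    · intro hc y g
      obtain ⟨y, rfl⟩ := e.surjective y
      obtain ⟨g, rfl⟩ := f.surjective g
      rw [hcy, ← map_mul, ← map_inv, ← map_mul, hfa, hfa, ← hU, ← hU]
      exact hc y g
    · intro hc y g
      have := hc (e y) (f g)
      rwa [hcy, ← map_mul, ← map_inv, ← map_mul, hfa, hfa, ← hU, ← hU] at this
  intro th hth h2 hfree
  obtain ⟨s, rfl⟩ := f.surjective th
  have hs2 : s * s = 1 := by
    apply f.injective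
    rw [map_mul, map_one]
    exact h2
  have hsf : ∀ w, s w ≠ w := by
    intro w hw
    apply hfree (e w)
    show e (s (e.symm (e w))) = e w
    rw [e.symm_apply_apply, hw]
  have h3 := h s ((hst s).2 hth) hs2 hsf
  have h4 : famStab U' ⊓ Subgroup.centralizer ({f s} : Set (Equiv.Perm Om')) =
      (famStab U ⊓ Subgroup.centralizer ({s} : Set (Equiv.Perm Om))).map f.toMonoidHom := by
    ext x
    constructor
    · rintro ⟨h5, hc⟩
      obtain ⟨y, rfl⟩ := f.surjective x
      have hc' : f y ∈ Subgroup.centralizer ({f s} : Set (Equiv.Perm Om')) := hc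
      have hc2 : y ∈ Subgroup.centralizer ({s} : Set (Equiv.Perm Om)) := by
        rw [Subgroup.mem_centralizer_singleton_iff] at hc' ⊢
        apply f.injective
        rw [map_mul, map_mul]
        exact hc'
      exact ⟨y, ⟨(hst y).2 h5, hc2⟩, rfl⟩
    · rintro ⟨y, ⟨hy, hc⟩, rfl⟩
      have hc' : y ∈ Subgroup.centralizer ({s} : Set (Equiv.Perm Om)) := hc
      have hc2 : f y ∈ Subgroup.centralizer ({f s} : Set (Equiv.Perm Om')) := by
        rw [Subgroup.mem_centralizer_singleton_iff] at hc' ⊢
        rw [← map_mul, hc', map_mul]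
      exact ⟨(hst y).1 hy, hc2⟩
  rw [h4]
  exact Group.isSolvable_of_surjective (f := f.toMonoidHom.subgroupMap _) (f.toMonoidHom.subgroupMap_surjective _)

section PSL2

variable (F : Type*) [Field F]

/-- The permutation `t ↦ t + a` of the projective line. -/
def tr {F : Type*} [Field F] (a : F) : Equiv.Perm (Option F) := (Equiv.addRight a).optionCongr

open Classical in
/-- The map `t ↦ -1/t` of the projective line. -/
noncomputable def niFun {F : Type*} [Field F] : Option F → Option F
  | none => some 0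
  | some t => if t = 0 then none else some (-t⁻¹)

theorem niFun_niFun {F : Type*} [Field F] (x : Option F) : niFun (niFun x) = x := by
  have h0 : niFun (some (0 : F) : Option F) = none := if_pos rfl
  have h1 : niFun (none : Option F) = some (0 : F) := rfl
  have h2 : ∀ t : F, t ≠ 0 → niFun (some t : Option F) = some (-t⁻¹) := fun t ht => if_neg ht
  rcases x with _ | t
  · exact h0
  · by_cases ht : t = 0
    · subst ht
      exact (congrArg niFun h0).trans h1
    · have h3 : (-t⁻¹ : F) ≠ 0 := neg_ne_zero.2 (inv_ne_zero ht)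
      refine (congrArg niFun (h2 t ht)).trans ((h2 _ h3).trans ?_)
      rw [inv_neg, inv_inv, neg_neg]

/-- The permutation `t ↦ -1/t` of the projective line. -/
noncomputable def ni {F : Type*} [Field F] : Equiv.Perm (Option F) := ⟨niFun, niFun, niFun_niFun, niFun_niFun⟩

/-- The group generated by `t ↦ t + a` and `t ↦ -1/t`, in the symmetric group on the projective line. -/
def psl2 : Subgroup (Equiv.Perm (Option F)) := Subgroup.closure (Set.range (tr (F := F)) ∪ {ni})

variable {F}

theorem tr_some (a t : F) : tr a (some t : Option F) = (some (t + a) : Option F) := rfl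

theorem tr_none (a : F) : tr a (none : Option F) = (none : Option F) := rfl

theorem ni_none : ni (none : Option F) = (some 0 : Option F) := rfl

theorem ni_zero : ni (some 0 : Option F) = (none : Option F) := if_pos rfl

theorem ni_some {t : F} (ht : t ≠ 0) : ni (some t : Option F) = (some (-t⁻¹) : Option F) := if_neg ht

theorem tr_mem (a : F) : tr a ∈ psl2 F := Subgroup.subset_closure (Or.inl ⟨a, rfl⟩)

theorem ni_mem : (ni : Equiv.Perm (Option F)) ∈ psl2 F := Subgroup.subset_closure (Or.inr rfl)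

theorem tr_zero : tr (0 : F) = 1 := by
  ext x
  rcases x with _ | t
  · rfl
  · rw [tr_some, add_zero]; rfl

theorem tr_mul (a b : F) : tr a * tr b = tr (a + b) := by
  apply Equiv.ext
  rintro (_ | t)
  · rfl
  · show tr a (tr b (some t : Option F)) = tr (a + b) (some t : Option F)
    rw [tr_some, tr_some, tr_some, add_assoc, add_comm b a]

theorem ni_mul_ni : (ni : Equiv.Perm (Option F)) * ni = 1 := by
  apply Equiv.ext
  intro x
  exact niFun_niFun x

/-- `ni` is a product of elements of the two unipotent groups. -/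
theorem ni_eq : (ni : Equiv.Perm (Option F)) = tr 1 * (ni * tr 1 * ni⁻¹) * tr 1 := by
  have hinv : (ni : Equiv.Perm (Option F))⁻¹ = ni := by
    rw [inv_eq_iff_mul_eq_one, ni_mul_ni]
  rw [hinv]
  apply Equiv.ext
  rintro (_ | t)
  · show ni (none : Option F) = tr 1 (ni (tr 1 (ni (tr 1 (none : Option F)))))
    rw [tr_none, ni_none, tr_some, zero_add, ni_some one_ne_zero, tr_some, inv_one, neg_add_cancel]
  · show ni (some t : Option F) = tr 1 (ni (tr 1 (ni (tr 1 (some t : Option F)))))
    rw [tr_some]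
    by_cases h1 : t + 1 = 0
    · rw [h1, ni_zero, tr_none, ni_none, tr_some, zero_add]
      have h2 : t = -1 := eq_neg_of_add_eq_zero_left h1
      rw [h2, ni_some (by simp), inv_neg, inv_one, neg_neg]
    · rw [ni_some h1, tr_some]
      by_cases h2 : t = 0
      · subst h2
        rw [ni_zero]
        have h3 : (-(0 + 1 : F)⁻¹ + 1) = 0 := by simp
        rw [h3, ni_zero, tr_none]
      · have h3 : (-(t + 1)⁻¹ + 1 : F) = t / (t + 1) := by field_simp; ring
        rw [h3, ni_some (div_ne_zero h2 h1), ni_some h2, tr_some]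
        congr 1
        field_simp
        ring

theorem inv_ni : (ni : Equiv.Perm (Option F))⁻¹ = ni := by rw [inv_eq_iff_mul_eq_one, ni_mul_ni]

theorem inv_tr (a : F) : (tr a)⁻¹ = tr (-a) := by rw [inv_eq_iff_mul_eq_one, tr_mul, add_neg_cancel, tr_zero]

/-- The translations. -/
def trGroup (F : Type*) [Field F] : Subgroup (Equiv.Perm (Option F)) where
  carrier := Set.range (tr (F := F))
  one_mem' := ⟨0, tr_zero⟩
  mul_mem' := by
    rintro _ _ ⟨a, rfl⟩ ⟨b, rfl⟩
    exact ⟨a + b, (tr_mul a b).symm⟩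
  inv_mem' := by
    rintro _ ⟨a, rfl⟩
    exact ⟨-a, (inv_tr a).symm⟩

theorem mem_trGroup {g : Equiv.Perm (Option F)} : g ∈ trGroup F ↔ ∃ a : F, tr a = g := Iff.rfl

/-- The element of `psl2 F` mapping `∞` to the point `y`. -/
noncomputable def toPt : Option F → Equiv.Perm (Option F)
  | none => 1
  | some s => tr s * ni

theorem toPt_apply (y : Option F) : toPt y (none : Option F) = y := by
  rcases y with _ | s
  · rfl
  · show tr s (ni (none : Option F)) = (some s : Option F)
    rw [ni_none, tr_some, zero_add]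

/-- The root groups of the projective line. -/
noncomputable def lineFam (F : Type*) [Field F] (y : Option F) : Subgroup (Equiv.Perm (Option F)) :=
  (trGroup F).map (MulAut.conj (toPt y)).toMonoidHom

theorem mem_lineFam {y : Option F} {g : Equiv.Perm (Option F)} :
    g ∈ lineFam F y ↔ ∃ a : F, g = toPt y * tr a * (toPt y)⁻¹ := by
  constructor
  · rintro ⟨_, ⟨a, rfl⟩, rfl⟩
    exact ⟨a, rfl⟩
  · rintro ⟨a, rfl⟩
    exact ⟨_, ⟨a, rfl⟩, rfl⟩

theorem lineFam_none : lineFam F (none : Option F) = trGroup F := by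
  ext g
  rw [mem_lineFam, mem_trGroup]
  constructor
  · rintro ⟨a, rfl⟩; exact ⟨a, by show tr a = 1 * tr a * 1⁻¹; simp⟩
  · rintro ⟨a, rfl⟩; exact ⟨a, by show tr a = 1 * tr a * 1⁻¹; simp⟩

theorem mem_lineFam_some {s : F} {g : Equiv.Perm (Option F)} :
    g ∈ lineFam F (some s : Option F) ↔ ∃ a : F, g = tr s * ni * tr a * (tr s * ni)⁻¹ := mem_lineFam

theorem tr_mem_lineFam (a : F) : tr a ∈ lineFam F (none : Option F) := by
  rw [lineFam_none]; exact ⟨a, rfl⟩

theorem lineFam_fix {y : Option F} {g : Equiv.Perm (Option F)} (hg : g ∈ lineFam F y) : g y = y := by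
  obtain ⟨a, rfl⟩ := mem_lineFam.1 hg
  have h1 : (toPt y)⁻¹ y = (none : Option F) := by
    have h2 := (toPt y).symm_apply_apply (none : Option F)
    rw [toPt_apply] at h2
    exact h2
  show toPt y (tr a ((toPt y)⁻¹ y)) = y
  rw [h1, tr_none, toPt_apply]

theorem tr_mem_famStab (b : F) : tr b ∈ famStab (lineFam F) := by
  intro y g
  have key : ∀ (b : F) (y : Option F) (g : Equiv.Perm (Option F)), g ∈ lineFam F y →
      tr b * g * (tr b)⁻¹ ∈ lineFam F (tr b y) := by
    intro b y g hg
    obtain ⟨a, rfl⟩ := mem_lineFam.1 hg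
    rcases y with _ | s
    · refine mem_lineFam.2 ⟨a, ?_⟩
      have h0 : (toPt (none : Option F)) = 1 := rfl
      have h1 : toPt (tr b (none : Option F)) = 1 := rfl
      rw [h0, h1, one_mul, inv_one, mul_one, tr_mul, inv_tr, tr_mul]
      congr 1
      ring
    · refine mem_lineFam.2 ⟨a, ?_⟩
      show tr b * (tr s * ni * tr a * (tr s * ni)⁻¹) * (tr b)⁻¹ = (tr (s + b) * ni) * tr a * (tr (s + b) * ni)⁻¹
      have h1 : (tr (s + b) : Equiv.Perm (Option F)) = tr b * tr s := by rw [tr_mul, add_comm]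
      rw [h1]
      group
  refine ⟨key b y g, fun h => ?_⟩
  have h1 := key (-b) (tr b y) _ h
  have h2 : tr (-b) * (tr b * g * (tr b)⁻¹) * (tr (-b))⁻¹ = g := by
    rw [← inv_tr]; group
  have h3 : tr (-b) (tr b y) = y := by
    rw [← inv_tr]; exact (tr b).symm_apply_apply _
  rwa [h2, h3] at h1

/-- The element `t ↦ s² t - s`. -/
theorem dil_some {s : F} (hs : s ≠ 0) (t : F) :
    (ni * tr s⁻¹ * ni * tr s * ni : Equiv.Perm (Option F)) (some t : Option F) = (some (s ^ 2 * t - s) : Option F) := by
  show ni (tr s⁻¹ (ni (tr s (ni (some t : Option F))))) = _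
  by_cases ht : t = 0
  · subst ht
    rw [ni_zero, tr_none, ni_none, tr_some, zero_add, ni_some (inv_ne_zero hs), inv_inv, mul_zero, zero_sub]
  · rw [ni_some ht, tr_some]
    by_cases h1 : -t⁻¹ + s = 0
    · rw [h1, ni_zero, tr_none, ni_none]
      congr 1
      have h2 : s = t⁻¹ := by rw [← sub_eq_zero, sub_eq_add_neg, add_comm]; exact h1
      rw [h2]
      field_simp
      ring
    · rw [ni_some h1, tr_some]
      have h2 : s * t - 1 ≠ 0 := by
        intro h3
        apply h1
        have : s = t⁻¹ := eq_inv_of_mul_eq_one_left (by linear_combination h3)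
        rw [this]; ring
      have h3 : -t⁻¹ + s = (s * t - 1) / t := by field_simp; ring
      have h4 : -(-t⁻¹ + s)⁻¹ + s⁻¹ = -(s * (s * t - 1))⁻¹ := by
        rw [h3]; field_simp; ring
      have h5 : -(s * (s * t - 1))⁻¹ ≠ 0 := neg_ne_zero.2 (inv_ne_zero (mul_ne_zero hs h2))
      rw [h4, ni_some h5]
      congr 1
      rw [inv_neg, inv_inv]
      ring

theorem dil_none {s : F} (hs : s ≠ 0) :
    (ni * tr s⁻¹ * ni * tr s * ni : Equiv.Perm (Option F)) (none : Option F) = none := by
  show ni (tr s⁻¹ (ni (tr s (ni (none : Option F))))) = _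
  rw [ni_none, tr_some, zero_add, ni_some hs, tr_some, neg_add_cancel, ni_zero]

theorem dil_conj {s : F} (hs : s ≠ 0) (a : F) :
    (ni * tr s⁻¹ * ni * tr s * ni) * tr a * (ni * tr s⁻¹ * ni * tr s * ni)⁻¹ = tr (s ^ 2 * a) := by
  rw [mul_inv_eq_iff_eq_mul]
  apply Equiv.ext
  rintro (_ | t)
  · show (ni * tr s⁻¹ * ni * tr s * ni : Equiv.Perm (Option F)) (tr a (none : Option F)) =
      tr (s ^ 2 * a) ((ni * tr s⁻¹ * ni * tr s * ni : Equiv.Perm (Option F)) (none : Option F))
    rw [tr_none, dil_none hs, tr_none]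
  · show (ni * tr s⁻¹ * ni * tr s * ni : Equiv.Perm (Option F)) (tr a (some t : Option F)) =
      tr (s ^ 2 * a) ((ni * tr s⁻¹ * ni * tr s * ni : Equiv.Perm (Option F)) (some t : Option F))
    rw [tr_some, dil_some hs, dil_some hs, tr_some]
    congr 1
    ring

theorem ni_mem_famStab : (ni : Equiv.Perm (Option F)) ∈ famStab (lineFam F) := by
  have key : ∀ (y : Option F) (g : Equiv.Perm (Option F)), g ∈ lineFam F y →
      ni * g * ni⁻¹ ∈ lineFam F (ni y) := by
    intro y g hg
    obtain ⟨a, rfl⟩ := mem_lineFam.1 hg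
    rcases y with _ | s
    · rw [ni_none, mem_lineFam_some]
      refine ⟨a, ?_⟩
      have h0 : (toPt (none : Option F)) = 1 := rfl
      rw [h0, tr_zero]
      group
    · by_cases hs : s = 0
      · subst hs
        rw [ni_zero, lineFam_none]
        refine ⟨a, ?_⟩
        have h0 : (toPt (some 0 : Option F)) = tr 0 * ni := rfl
        rw [h0, tr_zero, one_mul, inv_ni]
        have h1 : ni * (ni * tr a * ni) * ni = (ni * ni) * tr a * (ni * ni : Equiv.Perm (Option F)) := by group
        rw [h1, ni_mul_ni]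
        group
      · rw [ni_some hs, mem_lineFam_some]
        refine ⟨s ^ 2 * a, ?_⟩
        have h0 : (toPt (some s : Option F)) = tr s * ni := rfl
        rw [h0, ← dil_conj hs]
        have h1 : (tr (-s⁻¹) * ni * (ni * tr s⁻¹ * ni * tr s * ni) : Equiv.Perm (Option F)) = ni * (tr s * ni) := by
          have h2 : (tr (-s⁻¹) * ni * (ni * tr s⁻¹ * ni * tr s * ni) : Equiv.Perm (Option F)) =
              tr (-s⁻¹) * (ni * ni) * tr s⁻¹ * ni * tr s * ni := by group
          rw [h2, ni_mul_ni, mul_one, tr_mul, neg_add_cancel, tr_zero]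
          group
        have h2 : (tr (-s⁻¹) * ni * ((ni * tr s⁻¹ * ni * tr s * ni) * tr a * (ni * tr s⁻¹ * ni * tr s * ni)⁻¹) *
            (tr (-s⁻¹) * ni)⁻¹ : Equiv.Perm (Option F)) =
            (tr (-s⁻¹) * ni * (ni * tr s⁻¹ * ni * tr s * ni)) * tr a *
              (tr (-s⁻¹) * ni * (ni * tr s⁻¹ * ni * tr s * ni))⁻¹ := by group
        rw [h2, h1]
        group
  intro y g
  refine ⟨key y g, fun h => ?_⟩
  have h1 := key (ni y) _ h
  have h2 : ni * (ni * g * ni⁻¹) * ni⁻¹ = (ni * ni) * g * (ni * ni : Equiv.Perm (Option F))⁻¹ := by group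
  have h3 : ni (ni y) = y := niFun_niFun y
  rwa [h2, h3, ni_mul_ni, inv_one, one_mul, mul_one] at h1

theorem psl2_le_famStab : psl2 F ≤ famStab (lineFam F) := by
  unfold psl2
  rw [Subgroup.closure_le]
  rintro _ (⟨a, rfl⟩ | rfl)
  · exact tr_mem_famStab a
  · exact ni_mem_famStab

theorem toPt_mem (y : Option F) : toPt y ∈ psl2 F := by
  rcases y with _ | s
  · exact one_mem _
  · exact mul_mem (tr_mem s) ni_mem

/-- The root groups generate `psl2 F`. -/
theorem iSup_lineFam : (⨆ y, lineFam F y) = psl2 F := by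
  apply le_antisymm
  · refine iSup_le fun y g hg => ?_
    obtain ⟨a, rfl⟩ := mem_lineFam.1 hg
    exact mul_mem (mul_mem (toPt_mem y) (tr_mem a)) (inv_mem (toPt_mem y))
  · have h1 : ∀ a : F, tr a ∈ ⨆ y, lineFam F y := fun a => le_iSup (lineFam F) none (tr_mem_lineFam a)
    unfold psl2
    rw [Subgroup.closure_le]
    rintro _ (⟨a, rfl⟩ | rfl)
    · exact h1 a
    · show ni ∈ ⨆ y, lineFam F y
      rw [ni_eq]
      refine mul_mem (mul_mem (h1 1) ?_) (h1 1)
      refine le_iSup (lineFam F) (some 0 : Option F) (mem_lineFam_some.2 ⟨1, ?_⟩)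
      rw [tr_zero, one_mul]

end PSL2

end Cfsg.Agent.FixBN
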