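import Mathlib
import Cfsg.Agent.FixBN.Defs
import Cfsg.Agent.FixBN.GoodOne
/-!
The family of the root groups on a panel (`GoodFam`, `GoodOne` are in `FixBN.GoodOne`).
-/

set_option autoImplicit false

namespace Cfsg.Agent.FixBN

open Cfsg.Agent.Tits.Core Cfsg.Agent.Tits.Core.Bldg

section Sys

variable {I : Type*} {M : CoxeterMatrix I} {W : Type*} [Group W] {cs : CoxeterSystem M W} {C : Type*}
  {Δ : Bldg cs C} {G : Type*} [Group G] [MulAction G C] {p : ℕ}

/-- The root groups on a panel: the image of `U y` in the symmetric group of the panel. -/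
def Sys.fam (S : Sys Δ G p) (i : I) (x : C) (y : Δ.Pan i x) : Subgroup (Equiv.Perm (Δ.Pan i x)) where
  carrier := {g | ∃ u ∈ S.U y, ∀ z, (g z : C) = u • (z : C)}
  one_mem' := ⟨1, one_mem _, fun z => by rw [one_smul]; rfl⟩
  mul_mem' := fun {a b} ha hb => by
    obtain ⟨u, hu, ha⟩ := ha
    obtain ⟨v, hv, hb⟩ := hb
    refine ⟨u * v, mul_mem hu hv, fun z => ?_⟩
    rw [Equiv.Perm.mul_apply, ha, hb, mul_smul]
  inv_mem' := fun {a} ha => by
    obtain ⟨u, hu, ha⟩ := ha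
    refine ⟨u⁻¹, inv_mem hu, fun z => ?_⟩
    have h1 : a (a⁻¹ z) = z := a.apply_symm_apply z
    rw [eq_inv_smul_iff, ← ha, h1]

theorem Sys.mem_fam (S : Sys Δ G p) {i : I} {x : C} {y : Δ.Pan i x} {g : Equiv.Perm (Δ.Pan i x)} :
    g ∈ S.fam i x y ↔ ∃ u ∈ S.U y, ∀ z, (g z : C) = u • (z : C) := Iff.rfl

end Sys

end Cfsg.Agent.FixBN
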