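import Cfsg.Agent.Schreier.BNSch

/-!
# Split (B, N)-pairs of characteristic `p`

The common interface between the families of groups of Lie type and the abstract theory: `B = U (B ∩ N)`, `U` a
normal `p`-subgroup of `B`, `B ∩ N` of exponent prime to `p`, and at each node `s` the subgroup
`V = U ∩ U^s` is normal in the minimal parabolic.
-/

set_option autoImplicit false

namespace Cfsg.Agent.FixBN

open Cfsg.Agent.Schreier.BNSch

/-- A split (B, N)-pair of characteristic `p`. -/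
structure Split {K : Type*} [Group K] (P : Cfsg.BNPair K) (p : ℕ) (U : Subgroup K) : Prop where
  le : U ≤ P.B
  norm : ∀ b ∈ P.B, ∀ u ∈ U, b * u * b⁻¹ ∈ U
  isP : IsPGroup p U
  cover : ∀ b ∈ P.B, ∃ u ∈ U, u⁻¹ * b ∈ P.N
  tor : ∃ m : ℕ, ¬ p ∣ m ∧ ∀ h ∈ P.B, h ∈ P.N → h ^ m = 1
  node : ∀ s ∈ P.S, ∃ V : Subgroup K, Node P U s V
  core : P.B.normalCore = ⊥

namespace Split

variable {K : Type*} [Group K] {P : Cfsg.BNPair K} {p : ℕ} {U : Subgroup K}

theorem normalizer_eq (h : Split P p U) : Subgroup.normalizer (U : Set K) = P.B :=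
  Schreier.BNSch.normalizer_eq P U h.le h.norm fun s hs => by
    obtain ⟨V, hV⟩ := h.node s hs
    obtain ⟨u, hu, huV⟩ := hV.ne
    exact ⟨u, hu, fun h => huV (hV.stab u hu h)⟩

theorem cover' (h : Split P p U) {b : K} (hb : b ∈ P.B) : ∃ u ∈ U, ∃ t ∈ P.B ⊓ P.N, b = u * t := by
  obtain ⟨u, hu, hun⟩ := h.cover b hb
  exact ⟨u, hu, u⁻¹ * b, Subgroup.mem_inf.2 ⟨mul_mem (inv_mem (h.le hu)) hb, hun⟩, by group⟩

/-- `p`-elements of `B` lie in `U`. -/
theorem mem_of_pow (h : Split P p U) [hp : Fact p.Prime] {b : K} (hb : b ∈ P.B) {n : ℕ} (hn : b ^ p ^ n = 1) :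
    b ∈ U := by
  obtain ⟨m, hm, hH⟩ := h.tor
  have hnor : (U.subgroupOf P.B).Normal := by
    constructor
    intro u hu b
    rw [Subgroup.mem_subgroupOf] at hu ⊢
    exact h.norm b b.2 u hu
  obtain ⟨u, hu, hun⟩ := h.cover b hb
  have h2 : u⁻¹ * b ∈ P.B := mul_mem (inv_mem (h.le hu)) hb
  have h3 : (QuotientGroup.mk (⟨b, hb⟩ : P.B) : P.B ⧸ U.subgroupOf P.B) =
      QuotientGroup.mk (⟨u⁻¹ * b, h2⟩ : P.B) := by
    rw [QuotientGroup.eq, Subgroup.mem_subgroupOf]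
    show b⁻¹ * (u⁻¹ * b) ∈ U
    have h4 := h.norm b⁻¹ (inv_mem hb) _ (inv_mem hu)
    rw [inv_inv] at h4
    rwa [← mul_assoc]
  have h4 : (QuotientGroup.mk (⟨b, hb⟩ : P.B) : P.B ⧸ U.subgroupOf P.B) ^ m = 1 := by
    rw [h3, ← QuotientGroup.mk_pow]
    have h5 : (⟨u⁻¹ * b, h2⟩ : P.B) ^ m = 1 := Subtype.ext (hH _ h2 hun)
    rw [h5]
    rfl
  have h5 : (QuotientGroup.mk (⟨b, hb⟩ : P.B) : P.B ⧸ U.subgroupOf P.B) ^ p ^ n = 1 := by
    rw [← QuotientGroup.mk_pow]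
    have h6 : (⟨b, hb⟩ : P.B) ^ p ^ n = 1 := Subtype.ext hn
    rw [h6]
    rfl
  have hcop : Nat.Coprime m (p ^ n) := Nat.Coprime.pow_right _ ((Nat.Prime.coprime_iff_not_dvd hp.1).2 hm).symm
  have h6 : orderOf (QuotientGroup.mk (⟨b, hb⟩ : P.B) : P.B ⧸ U.subgroupOf P.B) = 1 :=
    Nat.eq_one_of_dvd_coprimes hcop (orderOf_dvd_of_pow_eq_one h4) (orderOf_dvd_of_pow_eq_one h5)
  rw [orderOf_eq_one_iff, QuotientGroup.eq_one_iff, Subgroup.mem_subgroupOf] at h6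
  exact h6

end Split

/-- The group `K` has a split (B, N)-pair of characteristic `p`, of positive rank. -/
def HasSplit (p : ℕ) (K : Type*) [Group K] : Prop :=
  ∃ (P : Cfsg.BNPair K) (U : Subgroup K), P.S.Nonempty ∧ Split P p U

end Cfsg.Agent.FixBN
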