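import Cfsg.Agent.FixBN.Defs
import Cfsg.Agent.FixBN.Split
import Cfsg.Agent.Tits.OfBN
import Cfsg.Agent.Tits.Labels

/-!
# Split (B, N)-pairs give the abstract systems of `FixBN.Defs`

`sys` : a split (B, N)-pair of characteristic `p` gives `Sys`; `exists_tw` : every automorphism of order (at most)
two gives `Tw`.
-/

set_option autoImplicit false

namespace Cfsg.Agent.FixBN.OfBN

open Cfsg Cfsg.Agent.LieExceptional.BNPairCore Cfsg.Agent.Tits.Core Cfsg.Agent.Tits.Core.Bldg Cfsg.Agent.Tits.OfBN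
  Cfsg.Agent.Schreier.BNSch Cfsg.Agent.Tits.OppRes

variable {K : Type*} [Group K] {P : Cfsg.BNPair K} {p : ℕ} {U : Subgroup K}

theorem mk_eq {a b : K} : (QuotientGroup.mk a : K ⧸ P.B) = QuotientGroup.mk b ↔ a⁻¹ * b ∈ P.B := QuotientGroup.eq

theorem smul_mk (u a : K) : u • (QuotientGroup.mk a : K ⧸ P.B) = QuotientGroup.mk (u * a) := rfl

theorem smul_mk_eq {u a : K} : u • (QuotientGroup.mk a : K ⧸ P.B) = QuotientGroup.mk a ↔ a⁻¹ * u * a ∈ P.B := by
  rw [smul_mk, eq_comm, mk_eq, ← mul_assoc]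

/-- The conjugate of `U` attached to a chamber. -/
noncomputable def UU (P : Cfsg.BNPair K) (U : Subgroup K) (x : K ⧸ P.B) : Subgroup K :=
  U.map (MulAut.conj x.out).toMonoidHom

section

variable (S : Split P p U)

include S

theorem mem_UU {g u : K} : u ∈ UU P U (QuotientGroup.mk g) ↔ g⁻¹ * u * g ∈ U := by
  obtain ⟨b, hb⟩ := QuotientGroup.mk_out_eq_mul P.B g
  unfold UU
  rw [hb]
  constructor
  · rintro ⟨v, hv, rfl⟩
    have h1 := S.norm b b.2 v hv
    have h2 : g⁻¹ * ((MulAut.conj (g * (b : K))).toMonoidHom v) * g = b * v * (b : K)⁻¹ := by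
      simp only [MulEquiv.coe_toMonoidHom, MulAut.conj_apply]
      group
    rwa [h2]
  · intro h
    refine ⟨(b : K)⁻¹ * (g⁻¹ * u * g) * b, ?_, ?_⟩
    · have := S.norm (b : K)⁻¹ (inv_mem b.2) _ h
      rwa [inv_inv] at this
    · simp only [MulEquiv.coe_toMonoidHom, MulAut.conj_apply]
      group

theorem fix {x : K ⧸ P.B} {u : K} (hu : u ∈ UU P U x) : u • x = x := by
  induction x using QuotientGroup.induction_on with
  | _ g => exact smul_mk_eq.2 (S.le ((mem_UU S).1 hu))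

theorem isP (x : K ⧸ P.B) : IsPGroup p (UU P U x) := S.isP.map _

theorem max [Fact p.Prime] (x : K ⧸ P.B) (V : Subgroup K) (hV : IsPGroup p V) (h : ∀ v ∈ V, v • x = x) :
    V ≤ UU P U x := by
  induction x using QuotientGroup.induction_on with
  | _ g =>
  intro v hv
  rw [mem_UU S]
  obtain ⟨k, hk⟩ := hV ⟨v, hv⟩
  have hk' : v ^ p ^ k = 1 := by simpa using congrArg Subtype.val hk
  apply S.mem_of_pow (smul_mk_eq.1 (h v hv)) (n := k)
  have h1 : g⁻¹ * v * g = MulAut.conj g⁻¹ v := by simp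
  rw [h1, ← map_pow, hk', map_one]

/-- `U x` is transitive on the chambers at given distance from `x`. -/
theorem trans {x y z : K ⧸ P.B} (h : dist P x y = dist P x z) : ∃ u ∈ UU P U x, u • y = z := by
  induction x using QuotientGroup.induction_on with
  | _ g =>
  induction y using QuotientGroup.induction_on with
  | _ a =>
  induction z using QuotientGroup.induction_on with
  | _ b =>
  rw [dist_mk, dist_mk] at h
  obtain ⟨n, hn⟩ := exists_mem_C P (g⁻¹ * a)
  rw [wt_of_mem P hn] at h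
  have hn' := mem_C_of_wt P h.symm
  obtain ⟨b₁, hb₁, b₂, hb₂, h1⟩ := mem_C.1 hn
  obtain ⟨c₁, hc₁, c₂, hc₂, h2⟩ := mem_C.1 hn'
  obtain ⟨u₁, hu₁, t₁, ht₁, rfl⟩ := S.cover' hb₁
  obtain ⟨u₂, hu₂, t₂, ht₂, rfl⟩ := S.cover' hc₁
  have h3 := P.conj_mem (n : K)⁻¹ (inv_mem n.2) _ ht₁
  have h4 := P.conj_mem (n : K)⁻¹ (inv_mem n.2) _ ht₂
  rw [inv_inv] at h3 h4
  refine ⟨g * (u₂ * u₁⁻¹) * g⁻¹, ?_, ?_⟩
  · rw [mem_UU S]
    have : g⁻¹ * (g * (u₂ * u₁⁻¹) * g⁻¹) * g = u₂ * u₁⁻¹ := by group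
    rw [this]
    exact mul_mem hu₂ (inv_mem hu₁)
  · rw [smul_mk, mk_eq]
    have h5 : (g * (u₂ * u₁⁻¹) * g⁻¹ * a)⁻¹ * b = (u₂ * u₁⁻¹ * (g⁻¹ * a))⁻¹ * (g⁻¹ * b) := by group
    have h6 : (u₂ * u₁⁻¹ * (u₁ * t₁ * ↑n * b₂))⁻¹ * (u₂ * t₂ * ↑n * c₂) =
        b₂⁻¹ * ((↑n)⁻¹ * t₁ * ↑n)⁻¹ * ((↑n)⁻¹ * t₂ * ↑n) * c₂ := by group
    rw [h5, h1, h2, h6]
    exact mul_mem (mul_mem (mul_mem (inv_mem hb₂) (inv_mem h3)) h4) hc₂

/-- The conjugates of `U` are permuted by the group. -/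
theorem smul_UU {x : K ⧸ P.B} {u g : K} : g * u * g⁻¹ ∈ UU P U (g • x) ↔ u ∈ UU P U x := by
  induction x using QuotientGroup.induction_on with
  | _ a =>
  rw [smul_mk, mem_UU S, mem_UU S]
  have : (g * a)⁻¹ * (g * u * g⁻¹) * (g * a) = a⁻¹ * u * a := by group
  rw [this]

end

section Coxeter

variable [hN : ((P.B ⊓ P.N).subgroupOf P.N).Normal]
variable {I : Type*} {M : CoxeterMatrix I} (e : I ≃ P.S) (cs : CoxeterSystem M (WP P))
  (hcs : ∀ i, cs.simple i = QuotientGroup.mk (⟨(e i : K), P.subset (e i).2⟩ : P.N))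
variable (S : Split P p U)

include S

theorem pan {x y : K ⧸ P.B} {i : I} (h : (bldg P e cs hcs).δ x y = cs.simple i) {u : K} (hu : u ∈ UU P U x)
    (huy : u • y = y) {z : K ⧸ P.B} (hz : z ∈ (bldg P e cs hcs).Pan i x) : u • z = z := by
  rcases hz with rfl | hz
  · exact fix S hu
  obtain ⟨V, hV⟩ := S.node (e i) (e i).2
  induction x using QuotientGroup.induction_on with
  | _ g =>
  induction y using QuotientGroup.induction_on with
  | _ a =>
  induction z using QuotientGroup.induction_on with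
  | _ b =>
  rw [bldg_δ_mk, hcs] at h hz
  rw [mem_UU S] at hu
  rw [smul_mk_eq] at huy ⊢
  obtain ⟨b₁, hb₁, b₂, hb₂, h1⟩ := mem_C.1 (mem_C_of_wt P h)
  obtain ⟨c₁, hc₁, c₂, hc₂, h2⟩ := mem_C.1 (mem_C_of_wt P hz)
  have ha : a = g * (b₁ * (e i : K) * b₂) := by rw [← h1]; group
  have hb : b = g * (c₁ * (e i : K) * c₂) := by rw [← h2]; group
  -- `u' = g⁻¹ u g ∈ U` lies in `V`
  have h3 : b₁⁻¹ * (g⁻¹ * u * g) * b₁ ∈ U := by
    have := S.norm b₁⁻¹ (inv_mem hb₁) _ hu
    rwa [inv_inv] at this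
  have h4 : (e i : K)⁻¹ * (b₁⁻¹ * (g⁻¹ * u * g) * b₁) * (e i : K) ∈ P.B := by
    have h5 : (e i : K)⁻¹ * (b₁⁻¹ * (g⁻¹ * u * g) * b₁) * (e i : K) = b₂ * (a⁻¹ * u * a) * b₂⁻¹ := by
      rw [ha]; group
    rw [h5]
    exact mul_mem (mul_mem hb₂ huy) (inv_mem hb₂)
  have h5 := hV.stab _ h3 h4
  have h6 : g⁻¹ * u * g ∈ V := by
    have := hV.conj_B b₁ hb₁ _ h5
    have h7 : b₁ * (b₁⁻¹ * (g⁻¹ * u * g) * b₁) * b₁⁻¹ = g⁻¹ * u * g := by group
    rwa [h7] at this
  have h7 : c₁⁻¹ * (g⁻¹ * u * g) * c₁ ∈ V := by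
    have := hV.conj_B c₁⁻¹ (inv_mem hc₁) _ h6
    rwa [inv_inv] at this
  have h8 := S.le (hV.le (hV.conj_s _ h7))
  have h9 : b⁻¹ * u * b = c₂⁻¹ * ((e i : K)⁻¹ * (c₁⁻¹ * (g⁻¹ * u * g) * c₁) * (e i : K)) * c₂ := by
    rw [hb]; group
  rw [h9]
  exact mul_mem (mul_mem (inv_mem hc₂) h8) hc₂

variable [Finite K]

omit S [hN : ((P.B ⊓ P.N).subgroupOf P.N).Normal] in
theorem finite_I (e : I ≃ P.S) : Finite I := Finite.of_equiv _ e.symm

theorem free {x y : K ⧸ P.B} (h : (bldg P e cs hcs).Opp x y) {u : K} (hu : u ∈ UU P U x)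
    (huy : u • y = y) : u = 1 := by
  have hI : Finite I := finite_I e
  set Δ := bldg P e cs hcs with hΔ
  have hδ : Δ.δ x y = wJ cs Set.univ := h
  have hiso : ∀ (g : K) (a b : K ⧸ P.B), Δ.δ (g • a) (g • b) = Δ.δ a b := fun g a b => dist_smul P g a b
  have hagree : Tits.Rigid.Agree Δ (fun z => u • z) (fun z => z) Set.univ x := by
    intro i _ z hz
    -- the projection of `y` on the panel
    obtain ⟨d, hd1, hd2⟩ := Δ.exists_step y x i
    have hfix : u • d = d := by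
      -- `d` is the chamber of the panel nearest to `y`
      have h1 : Δ.δ x d = cs.simple i := hd1
      have h2 : Δ.δ y d = (w0 cs)⁻¹ * cs.simple i := by rw [hd2, Δ.symm x y]; rw [hδ]; rfl
      have h3 : Δ.δ y (u • d) = (w0 cs)⁻¹ * cs.simple i := by
        rw [← h2]
        conv_lhs => rw [← huy]
        exact hiso u y d
      have h4 : Δ.δ x (u • d) = cs.simple i := by
        rw [← h1]
        conv_lhs => rw [← fix S hu]
        exact hiso u x d
      refine Tits.Rigid.eq_of_short (Δ := Δ) (j := i) h3 h2 ?_ ?_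
      · have hC : Cox cs := inferInstance
        rw [mul_assoc, cs.simple_mul_simple_self, mul_one]
        have h5 := hC.len_w0_mul (cs.simple i)
        rw [hC.w0_inv]
        rw [cs.length_simple] at h5
        omega
      · have h6 : u • d ∈ Δ.Pan i x := Or.inr h4
        have h7 : d ∈ Δ.Pan i x := Or.inr h1
        have h8 := Δ.mem_Pan_trans (Δ.mem_Pan_symm h6) h7
        exact Tits.Rigid.mem_Pan_Res h8
    exact pan e cs hcs S hd1 hu hfix hz
  have h1 : ∀ z ∈ Δ.Res Set.univ x, u • z = z :=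
    Tits.Rigid.rigid (thick P e cs hcs) (φ := fun z => u • z) (ψ := fun z => z) (fun a _ b _ => hiso u a b)
      (fun a _ b _ => rfl) hagree hδ huy
  have h2 : ∀ z : K ⧸ P.B, u • z = z := fun z => h1 z (by rw [Bldg.Res_univ]; trivial)
  have h3 : FaithfulSMul K (K ⧸ P.B) := Tits.OfBN.faithful P S.core
  apply h3.eq_of_smul_eq_smul (α := K ⧸ P.B)
  intro z
  rw [h2, one_smul]

omit hN in
/-- The number of chambers is `1` modulo `p`. -/
theorem card_modEq [hp : Fact p.Prime] : Nat.card (K ⧸ P.B) ≡ 1 [MOD p] := by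
  have h1 := S.isP.card_modEq_card_fixedPoints (α := K ⧸ P.B)
  have h2 : MulAction.fixedPoints U (K ⧸ P.B) = {(QuotientGroup.mk 1 : K ⧸ P.B)} := by
    ext z
    rw [Set.mem_singleton_iff]
    constructor
    · intro hz
      have h3 : ∀ u ∈ U, u • z = z := fun u hu => hz ⟨u, hu⟩
      have h4 := max S z U S.isP h3
      induction z using QuotientGroup.induction_on with
      | _ g =>
      have h5 : g⁻¹ ∈ Subgroup.normalizer (U : Set K) := by
        have h6 : U.map (MulAut.conj g⁻¹).toMonoidHom ≤ U := by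
          rintro _ ⟨v, hv, rfl⟩
          have := (mem_UU S).1 (h4 hv)
          simpa [MulAut.conj_apply] using this
        have h7 : U.map (MulAut.conj g⁻¹).toMonoidHom = U :=
          Subgroup.eq_of_le_of_card_ge h6
            (le_of_eq (Nat.card_congr (U.equivMapOfInjective (MulAut.conj g⁻¹).toMonoidHom
              (MulAut.conj g⁻¹).injective).toEquiv))
        rw [Subgroup.mem_normalizer_iff]
        intro d
        constructor
        · intro hd
          rw [← h7]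
          exact ⟨d, hd, rfl⟩
        · intro hd
          rw [← h7] at hd
          obtain ⟨y, hy, hyd⟩ := hd
          have : y = d := (MulAut.conj g⁻¹).injective hyd
          rwa [← this]
      rw [S.normalizer_eq] at h5
      rw [mk_eq, mul_one]
      exact h5
    · rintro rfl ⟨u, hu⟩
      show u • (QuotientGroup.mk 1 : K ⧸ P.B) = QuotientGroup.mk 1
      rw [smul_mk_eq]
      simpa using S.le hu
  rw [h2] at h1
  simpa using h1

omit hN in
theorem exists_fix [hp : Fact p.Prime] (V : Subgroup K) (hV : IsPGroup p V) :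
    ∃ x : K ⧸ P.B, ∀ v ∈ V, v • x = x := by
  have h1 : ¬ p ∣ Nat.card (K ⧸ P.B) := by
    intro hd
    have h2 := card_modEq S
    have h3 : Nat.card (K ⧸ P.B) ≡ 0 [MOD p] := (Nat.modEq_zero_iff_dvd).2 hd
    have h4 := h3.symm.trans h2
    rw [Nat.ModEq, Nat.zero_mod, Nat.mod_eq_of_lt hp.1.one_lt] at h4
    exact absurd h4 (by norm_num)
  obtain ⟨x, hx⟩ := hV.nonempty_fixed_point_of_prime_not_dvd_card (K ⧸ P.B) h1
  exact ⟨x, fun v hv => hx ⟨v, hv⟩⟩

/-- **The system of a split (B, N)-pair.** -/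
noncomputable def sys [Fact p.Prime] : FixBN.Sys (bldg P e cs hcs) K p where
  iso g x y := dist_smul P g x y
  U := UU P U
  fix x u hu := fix S hu
  isP := isP S
  max := max S
  trans x y z h1 h2 := trans S (h1.trans h2.symm)
  free x y h u hu huy := free e cs hcs S h hu huy
  pan x y i h u hu huy z hz := pan e cs hcs S h hu huy hz
  exists_fix := exists_fix S

end Coxeter

end Cfsg.Agent.FixBN.OfBN
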