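import Cfsg.Agent.FixBN.RankOneU3
import Cfsg.Agent.FixBN.OfBN
import Cfsg.Agent.TwoFusion.GUTwo

/-!
# Panels of unitary type

* `UNode P U s V σ` : the node `s` of a split (B, N)-pair is parametrised by the group `Pt σ` of pairs `(a, b)`,
  `b + σ b + a σ a = 0`: the root group is `{x (a, b)}` and `s x(a, b) s ∈ x(-a/b, 1/b) s B`;
* `UNode.goodFam` : then (R1) holds for every panel of type `s`;
* `uf_of_card` : the field facts for the field with `q ^ 2` elements, `q` odd, `σ x = x ^ q`.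
-/

set_option autoImplicit false
set_option linter.dupNamespace false

namespace Cfsg.Agent.FixBN.UNode

open Cfsg.Agent.FixBN.U3Model Cfsg.Agent.FixBN.U3Core Cfsg.Agent.FixBN.RankOneU3

local notation "tl" => U3Model.tr

/-! ### An abstract criterion -/

theorem goodFam_of_model {G C : Type*} [Group G] [MulAction G C] {F : Type*} [Field F] {σ : F →+* F} [Inv2 σ]
    (U : C → Subgroup G)
    (hU : ∀ (g : G) (x : C), ∀ u ∈ U x, g * u * g⁻¹ ∈ U (g • x)) {Q : Set C} (φ : Om σ ≃ Q) (xx : Pt σ → G) (s : G)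
    (hx : ∀ a z, xx a • (φ z : C) = φ (tl a z)) (hs : ∀ z, s • (φ z : C) = φ (jj z))
    (hxU : ∀ a, xx a ∈ U (φ none)) (hUx : ∀ u ∈ U (φ none), ∃ a, ∀ z, u • (φ z : C) = φ (tl a z))
    (hF : GoodFam (u3Fam σ)) {fam : Q → Subgroup (Equiv.Perm Q)}
    (hfam : ∀ y g, g ∈ fam y ↔ ∃ u ∈ U y, ∀ z, (g z : C) = u • (z : C)) : GoodFam fam := by
  refine hF.map φ ?_
  have htoPt : ∀ y : Om σ, RankOneU3.toPt y (none : Om σ) = y := by
    rintro (_ | x)
    · rfl
    · show tl x (jj none) = some x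
      rw [jj_none, U3Model.tr_some, mul_one]
  -- the element of `G` acting as `RankOneU3.toPt y`
  have hk : ∀ y : Om σ, ∃ k : G, ∀ z, k • (φ z : C) = φ (RankOneU3.toPt y z) := by
    rintro (_ | t)
    · exact ⟨1, fun z => by rw [one_smul]; rfl⟩
    · refine ⟨xx t * s, fun z => ?_⟩
      rw [mul_smul, hs, hx]
      rfl
  intro y g
  obtain ⟨k, hk⟩ := hk y
  have hky : k • (φ none : C) = φ y := by rw [hk, htoPt]
  have hk' : ∀ z, k⁻¹ • (φ z : C) = φ ((RankOneU3.toPt y)⁻¹ z) := by
    intro z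
    rw [inv_smul_eq_iff, hk]
    congr 2
    exact ((RankOneU3.toPt y).apply_symm_apply z).symm
  rw [hfam]
  constructor
  · rintro ⟨a, rfl⟩
    refine ⟨k * xx a * k⁻¹, ?_, ?_⟩
    · rw [← hky]
      exact hU k _ _ (hxU a)
    · intro z
      obtain ⟨z, rfl⟩ := φ.surjective z
      rw [mul_smul, mul_smul, hk', hx, hk]
      congr 1
      show φ ((RankOneU3.toPt y * tl a * (RankOneU3.toPt y)⁻¹) (φ.symm (φ z))) = _
      rw [φ.symm_apply_apply]
      rfl
  · rintro ⟨u, hu, h⟩
    have hv : k⁻¹ * u * k ∈ U (φ none) := by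
      have h1 := hU k⁻¹ _ u hu
      rwa [inv_inv, ← hky, inv_smul_smul] at h1
    obtain ⟨a, ha⟩ := hUx _ hv
    refine ⟨a, ?_⟩
    apply Equiv.ext
    intro z
    apply φ.injective
    apply Subtype.ext
    have h1 := h (φ z)
    have h2 : φ.permCongr g (φ z) = φ (g z) := by
      show φ (g (φ.symm (φ z))) = _
      rw [φ.symm_apply_apply]
    rw [h2] at h1
    rw [h1]
    have h3 : u = k * (k⁻¹ * u * k) * k⁻¹ := by group
    rw [h3, mul_smul, mul_smul, hk', ha, hk]
    rfl

/-! ### Nodes of unitary type -/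

/-- The node `s` of a split (B, N)-pair is of unitary type. -/
structure UNode {K : Type*} [Group K] (P : Cfsg.BNPair K) (U : Subgroup K) (s : K) (V : Subgroup K) {F : Type*}
    [Field F] (σ : F →+* F) [Inv2 σ] where
  x : Pt σ → K
  mul : ∀ a b, x (a * b) = x a * x b
  mem : ∀ a, x a ∈ U
  cover : ∀ u ∈ U, ∃ a, (x a)⁻¹ * u ∈ V
  ne : ∀ a, x a ∈ V → a = 1
  inv : ∀ a, a ≠ 1 → (x (J a) * s)⁻¹ * (s * x a * s) ∈ P.B

namespace UNode

open Cfsg Cfsg.Agent.LieExceptional.BNPairCore Cfsg.Agent.Tits.Core Cfsg.Agent.Tits.Core.Bldg Cfsg.Agent.Tits.OfBN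
  Cfsg.Agent.Schreier.BNSch Cfsg.Agent.FixBN.OfBN

variable {K : Type*} [Group K] {P : Cfsg.BNPair K} {U V : Subgroup K} {s : K} {F : Type*} [Field F]
  {σ : F →+* F} [Inv2 σ] (N : UNode P U s V σ)

theorem x_one : N.x 1 = 1 := by
  have h := N.mul 1 1
  rw [mul_one] at h
  exact left_eq_mul.1 h

theorem x_inv (a : Pt σ) : N.x a⁻¹ = (N.x a)⁻¹ := by
  have h := N.mul a a⁻¹
  rw [mul_inv_cancel, N.x_one] at h
  exact (inv_eq_of_mul_eq_one_right h.symm).symm

variable [hN : ((P.B ⊓ P.N).subgroupOf P.N).Normal] {p : ℕ} (S : Split P p U)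
variable {I : Type*} {M : CoxeterMatrix I} (e : I ≃ P.S) (cs : CoxeterSystem M (WP P))
  (hcs : ∀ i, cs.simple i = QuotientGroup.mk (⟨(e i : K), P.subset (e i).2⟩ : P.N)) (i : I)

theorem mem_Pan_iff (S : Split P p U) (Nd : Node P U (e i : K) V) (N : UNode P U (e i : K) V σ) (g : K)
    (z : K ⧸ P.B) :
    z ∈ (bldg P e cs hcs).Pan i (QuotientGroup.mk g) ↔
      z = QuotientGroup.mk g ∨ ∃ a : Pt σ, z = QuotientGroup.mk (g * N.x a * (e i : K)) := by
  show (z = QuotientGroup.mk g ∨ (bldg P e cs hcs).δ (QuotientGroup.mk g) z = cs.simple i) ↔ _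
  refine or_congr Iff.rfl ?_
  induction z using QuotientGroup.induction_on with
  | _ b =>
  rw [bldg_δ_mk, hcs]
  constructor
  · intro h
    obtain ⟨b₁, hb₁, b₂, hb₂, h1⟩ := mem_C.1 (mem_C_of_wt P h)
    obtain ⟨u, hu, t, ht, rfl⟩ := S.cover' hb₁
    obtain ⟨a, ha⟩ := N.cover u hu
    refine ⟨a, ?_⟩
    rw [mk_eq]
    have h2 : b = g * (u * t * (e i : K) * b₂) := by rw [← h1]; group
    have h3 : b⁻¹ * (g * N.x a * (e i : K)) =
        b₂⁻¹ * ((e i : K)⁻¹ * t * (e i : K))⁻¹ * ((e i : K)⁻¹ * ((N.x a)⁻¹ * u) * (e i : K))⁻¹ := by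
      rw [h2]; group
    rw [h3]
    refine mul_mem (mul_mem (inv_mem hb₂) (inv_mem ?_)) (inv_mem ?_)
    · have := P.conj_mem (e i : K)⁻¹ (inv_mem (P.subset (e i).2)) _ ht
      rwa [inv_inv] at this
    · exact S.le (Nd.le (Nd.conj_s _ ha))
  · rintro ⟨a, ha⟩
    rw [mk_eq] at ha
    apply wt_of_mem P
    have h1 : g⁻¹ * b = N.x a * (e i : K) * (b⁻¹ * (g * N.x a * (e i : K)))⁻¹ := by group
    rw [h1]
    exact mul_mem_C_right (inv_mem ha) (mul_mem_C_left (S.le (N.mem a)) (self_mem_C _))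

/-- The parametrisation of the panel by the isotropic points. -/
noncomputable def par (S : Split P p U) (Nd : Node P U (e i : K) V) (N : UNode P U (e i : K) V σ) (g : K) :
    Om σ ≃ (bldg P e cs hcs).Pan i (QuotientGroup.mk g) :=
  Equiv.ofBijective
    (fun z => match z with
      | none => ⟨QuotientGroup.mk g, Or.inl rfl⟩
      | some a => ⟨QuotientGroup.mk (g * N.x a * (e i : K)), (mem_Pan_iff e cs hcs i S Nd N g _).2 (Or.inr ⟨a, rfl⟩)⟩)
    (by
      have hns : (e i : K) ∉ P.B := not_mem_B P (e i).2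
      have h0 : ∀ a : Pt σ, (QuotientGroup.mk g : K ⧸ P.B) ≠ QuotientGroup.mk (g * N.x a * (e i : K)) := by
        intro a h
        rw [mk_eq] at h
        apply hns
        have h1 : (e i : K) = (N.x a)⁻¹ * (g⁻¹ * (g * N.x a * (e i : K))) := by group
        rw [h1]
        exact mul_mem (inv_mem (S.le (N.mem a))) h
      constructor
      · rintro (_ | a) (_ | b) h
        · rfl
        · exact absurd (congrArg Subtype.val h) (h0 b)
        · exact absurd (congrArg Subtype.val h).symm (h0 a)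
        · have h1 : (QuotientGroup.mk (g * N.x a * (e i : K)) : K ⧸ P.B) = QuotientGroup.mk (g * N.x b * (e i : K)) :=
            congrArg Subtype.val h
          rw [mk_eq] at h1
          have h2 : (g * N.x a * (e i : K))⁻¹ * (g * N.x b * (e i : K)) = (e i : K)⁻¹ * N.x (a⁻¹ * b) * (e i : K) := by
            rw [N.mul, N.x_inv]; group
          rw [h2] at h1
          have h3 := N.ne _ (Nd.stab _ (N.mem _) h1)
          congr 1
          exact (inv_mul_eq_one.1 h3)
      · rintro ⟨z, hz⟩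
        rcases (mem_Pan_iff e cs hcs i S Nd N g z).1 hz with rfl | ⟨a, rfl⟩
        · exact ⟨none, rfl⟩
        · exact ⟨some a, rfl⟩)

theorem par_none (Nd : Node P U (e i : K) V) (N : UNode P U (e i : K) V σ) (g : K) :
    (par e cs hcs i S Nd N g none : K ⧸ P.B) = QuotientGroup.mk g := rfl

theorem par_some (Nd : Node P U (e i : K) V) (N : UNode P U (e i : K) V σ) (g : K) (a : Pt σ) :
    (par e cs hcs i S Nd N g (some a) : K ⧸ P.B) = QuotientGroup.mk (g * N.x a * (e i : K)) := rfl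

include S in
/-- The panel is the set of isotropic points, and the root groups are the standard ones. -/
theorem goodFam_mk (Nd : Node P U (e i : K) V) (N : UNode P U (e i : K) V σ) (hF : GoodFam (u3Fam σ)) (g : K)
    {fam : (bldg P e cs hcs).Pan i (QuotientGroup.mk g) →
      Subgroup (Equiv.Perm ((bldg P e cs hcs).Pan i (QuotientGroup.mk g)))}
    (hfam : ∀ y f, f ∈ fam y ↔ ∃ u ∈ UU P U (y : K ⧸ P.B), ∀ z, (f z : K ⧸ P.B) = u • (z : K ⧸ P.B)) :
    GoodFam fam := by
  have hBx : ∀ a, N.x a ∈ P.B := fun a => S.le (N.mem a)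
  -- the action of `V`
  have hV : ∀ v ∈ V, ∀ a : Pt σ, (QuotientGroup.mk (g * v * N.x a * (e i : K)) : K ⧸ P.B) =
      QuotientGroup.mk (g * N.x a * (e i : K)) := by
    intro v hv a
    rw [mk_eq]
    have h1 : (g * v * N.x a * (e i : K))⁻¹ * (g * N.x a * (e i : K)) =
        ((e i : K)⁻¹ * ((N.x a)⁻¹ * v * (N.x a)⁻¹⁻¹) * (e i : K))⁻¹ := by group
    rw [h1]
    exact inv_mem (S.le (Nd.le (Nd.conj_s _ (Nd.conj_B _ (inv_mem (hBx a)) _ hv))))
  have hxact : ∀ a z, (g * N.x a * g⁻¹) • (par e cs hcs i S Nd N g z : K ⧸ P.B) =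
      par e cs hcs i S Nd N g (tl a z) := by
    rintro a (_ | t)
    · rw [U3Model.tr_none, par_none, smul_mk, mk_eq]
      have h1 : (g * N.x a * g⁻¹ * g)⁻¹ * g = (N.x a)⁻¹ := by group
      rw [h1]
      exact inv_mem (hBx a)
    · rw [U3Model.tr_some, par_some, par_some, smul_mk, N.mul]
      congr 1
      group
  refine goodFam_of_model (UU P U) (fun g x u hu => (smul_UU S).2 hu) (par e cs hcs i S Nd N g)
    (fun a => g * N.x a * g⁻¹) (g * (e i : K) * g⁻¹) hxact ?_ ?_ ?_ hF hfam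
  · rintro (_ | t)
    · rw [jj_none, par_none, par_some, smul_mk, N.x_one]
      congr 1
      group
    · by_cases ht : t = 1
      · subst ht
        rw [jj_one, par_none, par_some, smul_mk, mk_eq, N.x_one]
        have h1 : (g * (e i : K) * g⁻¹ * (g * 1 * (e i : K)))⁻¹ * g = ((e i : K) * (e i : K))⁻¹ := by group
        rw [h1]
        exact inv_mem (P.sq_mem _ (e i).2)
      · rw [jj_some ht, par_some, par_some, smul_mk, mk_eq]
        have h1 : (g * (e i : K) * g⁻¹ * (g * N.x t * (e i : K)))⁻¹ * (g * N.x (J t) * (e i : K)) =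
            ((N.x (J t) * (e i : K))⁻¹ * ((e i : K) * N.x t * (e i : K)))⁻¹ := by group
        rw [h1]
        exact inv_mem (N.inv t ht)
  · intro a
    rw [par_none, mem_UU S]
    have h1 : g⁻¹ * (g * N.x a * g⁻¹) * g = N.x a := by group
    rw [h1]
    exact N.mem a
  · intro u hu
    rw [par_none, mem_UU S] at hu
    obtain ⟨a, ha⟩ := N.cover _ hu
    refine ⟨a, fun z => ?_⟩
    have h1 : u = (g * N.x a * g⁻¹) * (g * ((N.x a)⁻¹ * (g⁻¹ * u * g)) * g⁻¹) := by group
    have h2 : (g * ((N.x a)⁻¹ * (g⁻¹ * u * g)) * g⁻¹) • (par e cs hcs i S Nd N g z : K ⧸ P.B) =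
        par e cs hcs i S Nd N g z := by
      rcases z with _ | t
      · rw [par_none, smul_mk_eq]
        have h3 : g⁻¹ * (g * ((N.x a)⁻¹ * (g⁻¹ * u * g)) * g⁻¹) * g = (N.x a)⁻¹ * (g⁻¹ * u * g) := by group
        rw [h3]
        exact S.le (Nd.le ha)
      · rw [par_some, smul_mk]
        have h3 : g * ((N.x a)⁻¹ * (g⁻¹ * u * g)) * g⁻¹ * (g * N.x t * (e i : K)) =
            g * ((N.x a)⁻¹ * (g⁻¹ * u * g)) * N.x t * (e i : K) := by group
        rw [h3]
        exact hV _ ha t
    rw [h1, mul_smul, h2, hxact]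

include S in
/-- **(R1) for a node of unitary type.** -/
theorem goodFam (Nd : Node P U (e i : K) V) (N : UNode P U (e i : K) V σ) (hF : UF σ)
    (x : K ⧸ P.B) {fam : (bldg P e cs hcs).Pan i x → Subgroup (Equiv.Perm ((bldg P e cs hcs).Pan i x))}
    (hfam : ∀ y f, f ∈ fam y ↔ ∃ u ∈ UU P U (y : K ⧸ P.B), ∀ z, (f z : K ⧸ P.B) = u • (z : K ⧸ P.B)) :
    GoodFam fam := by
  induction x using QuotientGroup.induction_on with
  | _ g => exact goodFam_mk S e cs hcs i Nd N (RankOneU3.goodFam hF) g hfam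

end UNode

/-! ### The field facts -/

variable {F : Type*} [Field F] [Fintype F] {q : ℕ}

/-- The field with `q ^ 2` elements, `q` odd. -/
theorem uf_of_card (hF : Fintype.card F = q ^ 2) (hq : Odd q) (σ : F →+* F) (hσ : ∀ x, σ x = x ^ q) : UF σ where
  two := by
    intro h2
    have h3 : ringChar F = 2 := by
      have h4 : ringChar F ∣ 2 := by
        rw [← CharP.cast_eq_zero_iff F (ringChar F) 2]
        exact_mod_cast h2
      have h5 : Nat.Prime (ringChar F) := CharP.char_is_prime F _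
      exact (Nat.prime_dvd_prime_iff_eq h5 Nat.prime_two).1 h4
    have h4 := FiniteField.even_card_of_char_two h3
    rw [hF] at h4
    have h5 : Odd (q ^ 2) := hq.pow
    rw [Nat.odd_iff] at h5
    omega
  invol x := by
    rw [hσ, hσ, ← pow_mul, ← sq, ← hF]
    exact FiniteField.pow_card x
  ne := by
    by_contra hno
    push Not at hno
    have hq2 : 2 ≤ q := TwoFusion.GUTwo.two_le hF
    obtain ⟨g, hg⟩ := IsCyclic.exists_generator (α := Fˣ)
    have h1 : orderOf g = Nat.card Fˣ := orderOf_eq_card_of_forall_mem_zpowers hg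
    have h2 : g ^ (q - 1) = 1 := by
      apply Units.ext
      have h3 := hno g
      rw [hσ] at h3
      have h4 : (g : F) * (g : F) ^ (q - 1) = (g : F) * 1 := by
        rw [← pow_succ', mul_one, Nat.sub_add_cancel (by omega)]
        exact h3
      simpa using mul_left_cancel₀ g.ne_zero h4
    have h3 := orderOf_dvd_of_pow_eq_one h2
    rw [h1, TwoFusion.GUTwo.card_units_eq hF] at h3
    have h4 := Nat.le_of_dvd (by omega) h3
    obtain ⟨m, rfl⟩ : ∃ m, q = m + 2 := ⟨q - 2, by omega⟩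
    have h5 : (m + 2 - 1) * (m + 2 + 1) = (m + 1) * (m + 3) := by
      congr 1
    rw [h5] at h4
    have h6 : m + 2 - 1 = m + 1 := by omega
    rw [h6] at h4
    nlinarith
  norm := by
    intro r hr
    by_cases h0 : r = 0
    · exact ⟨0, by rw [h0, zero_mul]⟩
    · rw [hσ] at hr
      obtain ⟨a, ha⟩ := TwoFusion.GUTwo.exists_norm_eq hF h0 hr
      exact ⟨a, by rw [hσ, ← pow_succ']; exact ha⟩
  sq := by
    intro r hr
    by_cases h0 : r = 0
    · exact ⟨0, by rw [h0, zero_mul]⟩
    · rw [hσ] at hr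
      obtain ⟨a, ha⟩ := TwoFusion.GUTwo.exists_norm_eq hF h0 hr
      obtain ⟨k, hk⟩ : ∃ k, q + 1 = k + k := by
        have := hq.add_one
        exact this
      exact ⟨a ^ k, by rw [← pow_add, ← hk, ha]⟩
  comm τ x := by rw [hσ, hσ, map_pow]
  invs := by
    intro τ hτ
    classical
    obtain ⟨p, hp⟩ := CharP.exists F
    have hprime : p.Prime := CharP.char_is_prime F p
    have : Fact p.Prime := ⟨hprime⟩
    let _ : Algebra (ZMod p) F := ZMod.algebra F p
    have hσσ : ∀ x, σ (σ x) = x := by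
      intro x
      rw [hσ, hσ, ← pow_mul, ← sq, ← hF]
      exact FiniteField.pow_card x
    have mk : ∀ ρ : F →+* F, (∀ x, ρ (ρ x) = x) → ∃ g : Gal(F/ZMod p), g ^ 2 = 1 ∧ ∀ x, g x = ρ x := by
      intro ρ hρ
      let e : F ≃+* F := RingEquiv.ofBijective ρ
        ⟨fun a b h => by rw [← hρ a, h, hρ], fun a => ⟨ρ a, hρ a⟩⟩
      let g : F ≃ₐ[ZMod p] F := AlgEquiv.ofRingEquiv (f := e) (fun r => by
        have h1 : ((e : F →+* F).comp (algebraMap (ZMod p) F)) = algebraMap (ZMod p) F := Subsingleton.elim _ _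
        exact congrArg (fun f : ZMod p →+* F => f r) h1)
      refine ⟨g, ?_, fun x => rfl⟩
      ext x
      rw [sq]
      exact hρ x
    obtain ⟨g, hg2, hg⟩ := mk τ hτ
    obtain ⟨s, hs2, hs⟩ := mk σ hσσ
    have hne : s ≠ 1 := by
      rintro rfl
      obtain ⟨x, hx⟩ := (show ∃ x, σ x ≠ x from by
        by_contra hno
        push Not at hno
        have hq2 : 2 ≤ q := TwoFusion.GUTwo.two_le hF
        obtain ⟨g, hg⟩ := IsCyclic.exists_generator (α := Fˣ)
        have h1 : orderOf g = Nat.card Fˣ := orderOf_eq_card_of_forall_mem_zpowers hg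
        have h2 : g ^ (q - 1) = 1 := by
          apply Units.ext
          have h3 := hno g
          rw [hσ] at h3
          have h4 : (g : F) * (g : F) ^ (q - 1) = (g : F) * 1 := by
            rw [← pow_succ', mul_one, Nat.sub_add_cancel (by omega)]
            exact h3
          simpa using mul_left_cancel₀ g.ne_zero h4
        have h3 := orderOf_dvd_of_pow_eq_one h2
        rw [h1, TwoFusion.GUTwo.card_units_eq hF] at h3
        have h4 := Nat.le_of_dvd (by omega) h3
        obtain ⟨m, rfl⟩ : ∃ m, q = m + 2 := ⟨q - 2, by omega⟩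
        have h5 : (m + 2 - 1) * (m + 2 + 1) = (m + 1) * (m + 3) := by congr 1
        rw [h5] at h4
        have h6 : m + 2 - 1 = m + 1 := by omega
        rw [h6] at h4
        nlinarith)
      exact hx (hs x).symm
    have : Fintype Gal(F/ZMod p) := Fintype.ofFinite _
    have hcard := IsCyclic.card_pow_eq_one_le (α := Gal(F/ZMod p)) (n := 2) (by norm_num)
    by_cases hg1 : g = 1
    · left
      intro x
      rw [← hg, hg1]
      rfl
    · right
      have hgs : g = s := by
        by_contra hgs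
        have h3 : ({1, s, g} : Finset Gal(F/ZMod p)) ⊆ Finset.univ.filter (fun a => a ^ 2 = 1) := by
          intro a ha
          simp only [Finset.mem_insert, Finset.mem_singleton] at ha
          rcases ha with rfl | rfl | rfl
          · simp
          · simpa using hs2
          · simpa using hg2
        have h4 := Finset.card_le_card h3
        have h5 : ({1, s, g} : Finset Gal(F/ZMod p)).card = 3 := by
          rw [Finset.card_eq_three]
          exact ⟨1, s, g, hne.symm, fun h => hg1 h.symm, fun h => hgs h.symm, rfl⟩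
        omega
      intro x
      rw [← hg, hgs, hs]

end Cfsg.Agent.FixBN.UNode
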