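import Cfsg.Agent.FixBN.FieldNode
import Cfsg.Agent.FixBN.UNode
import Cfsg.Agent.FixBN.GoodFam
import Cfsg.Agent.FixBN.RankOneL2

/-!
# Split (B, N)-pairs with good panels

* `GoodNode P U s` : the node `s` is parametrised by a field of odd order (`FieldNode`) or it is of unitary type
  (`UNode`);
* `GoodNode.goodFam` : then (R1) holds for all panels of this type;
* `GoodSplit P p U` : a split (B, N)-pair all of whose nodes are good, with a solvable Borel subgroup;
* `HasGoodSplit p K` : the group `K` has a `GoodSplit`.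
-/

set_option autoImplicit false

namespace Cfsg.Agent.FixBN

open Cfsg Cfsg.Agent.Tits.Core Cfsg.Agent.Tits.OfBN Cfsg.Agent.Schreier.BNSch Cfsg.Agent.FixBN.UNode
  Cfsg.Agent.FixBN.U3Model Cfsg.Agent.FixBN.RankOneU3 Cfsg.Agent.FixBN.U3Core

/-- The rank one group at the node `s` is of type `L₂` or `U₃`, over a finite field of odd order. -/
def GoodNode {K : Type*} [Group K] (P : Cfsg.BNPair K) (U : Subgroup K) (s : K) : Prop :=
  ∃ V : Subgroup K, Node P U s V ∧
    ((∃ (F : Type) (_ : Field F) (_ : Finite F), (2 : F) ≠ 0 ∧ Nonempty (FieldNode P U s V F)) ∨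
      (∃ (F : Type) (_ : Field F) (σ : F →+* F) (_ : Inv2 σ), UF σ ∧ Nonempty (UNode P U s V σ)))

section

variable {K : Type*} [Group K] [Finite K] {P : Cfsg.BNPair K} {U : Subgroup K} {p : ℕ} [Fact p.Prime]
  [hN : ((P.B ⊓ P.N).subgroupOf P.N).Normal] (S : Split P p U)
  {I : Type*} {M : CoxeterMatrix I} (e : I ≃ P.S) (cs : CoxeterSystem M (WP P))
  (hcs : ∀ i, cs.simple i = QuotientGroup.mk (⟨(e i : K), P.subset (e i).2⟩ : P.N))

/-- **(R1)** -/
theorem GoodNode.goodFam {i : I} (h : GoodNode P U (e i : K)) (x : K ⧸ P.B) :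
    GoodFam ((OfBN.sys e cs hcs S).fam i x) := by
  obtain ⟨V, Nd, ⟨F, _, _, h2, ⟨N⟩⟩ | ⟨F, _, σ, _, hσ, ⟨N⟩⟩⟩ := h
  · exact N.goodFam S e cs hcs i Nd (RankOneL2.goodFam_lineFam h2) x fun y f => Iff.rfl
  · exact N.goodFam S e cs hcs i Nd hσ x fun y f => Iff.rfl

end

/-- A split (B, N)-pair of characteristic `p` all of whose nodes are good, with a solvable Borel subgroup. -/
structure GoodSplit {K : Type*} [Group K] (P : Cfsg.BNPair K) (p : ℕ) (U : Subgroup K) : Prop extends
    Split P p U where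
  good : ∀ s ∈ P.S, GoodNode P U s
  solv : Group.IsSolvable P.B

/-- The group `K` has a split (B, N)-pair of characteristic `p`, of positive rank, with good nodes. -/
def HasGoodSplit (p : ℕ) (K : Type*) [Group K] : Prop :=
  ∃ (P : Cfsg.BNPair K) (U : Subgroup K), P.S.Nonempty ∧ GoodSplit P p U

theorem HasGoodSplit.hasSplit {p : ℕ} {K : Type*} [Group K] (h : HasGoodSplit p K) : HasSplit p K := by
  obtain ⟨P, U, h1, h2⟩ := h
  exact ⟨P, U, h1, h2.toSplit⟩

end Cfsg.Agent.FixBN
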