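import Mathlib
import Cfsg.Agent.FixBN.Disp
import Cfsg.Agent.FixBN.TraceSys
import Cfsg.Agent.FixBN.GoodFam
/-!
(T4) The stabiliser of an anisotropic residue in the centraliser of the automorphism is solvable,
given the rank one condition `GoodFam` on the panels.

The type `J` of the residue `Q` is commuting, so `Q` is the product of its panels; `res j` is the
action on the factor `Pan j x`, by projection.
-/

set_option autoImplicit false
set_option linter.unusedSectionVars false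

open scoped Pointwise

namespace Cfsg.Agent.FixBN

open Cfsg.Agent.Tits.Core Cfsg.Agent.Tits.Core.Bldg Cfsg.Agent.Tits.Exchange Cfsg.Agent.Tits

namespace RankProd

/-! ### Solvability -/

theorem isSolvable_of_le {N : Type*} [Group N] {K : Subgroup N} [hK : Group.IsSolvable K] {n : ℕ}
    (h : derivedSeries N n ≤ K) : Group.IsSolvable N := by
  obtain ⟨m, hm⟩ := id hK
  refine ⟨⟨n + m, le_bot_iff.mp (Subgroup.map_bot K.subtype ▸ hm ▸ ?_)⟩⟩
  clear hm
  induction m with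
  | zero =>
    rw [add_zero, derivedSeries_zero, ← MonoidHom.range_eq_map, Subgroup.range_subtype]
    exact h
  | succ m hm => exact Subgroup.commutator_le_map_commutator hm hm

theorem isSolvable_of_homs {N : Type*} [Group N] {ι : Type*} [Finite ι] {P : ι → Type*}
    [∀ i, Group (P i)] (ψ : ∀ i, N →* P i) (h : ∀ i, Group.IsSolvable (ψ i).range) (K : Subgroup N)
    [Group.IsSolvable K] (hK : ∀ n, (∀ i, ψ i n = 1) → n ∈ K) : Group.IsSolvable N := by
  classical
  have := Fintype.ofFinite ι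
  have h1 : ∀ s : Finset ι, ∃ n, ∀ i ∈ s, derivedSeries N n ≤ (ψ i).ker := by
    intro s
    induction s using Finset.induction_on with
    | empty => exact ⟨0, fun i hi => absurd hi (Finset.notMem_empty i)⟩
    | insert j s _ ih =>
      obtain ⟨n, hn⟩ := ih
      obtain ⟨m, hm⟩ := (h j).solvable
      refine ⟨max n m, fun i hi => ?_⟩
      rcases Finset.mem_insert.1 hi with rfl | hi
      · refine (derivedSeries_antitone N (le_max_right n m)).trans ?_
        have h2 := map_derivedSeries_le_derivedSeries (ψ i).rangeRestrict m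
        rw [hm, le_bot_iff, Subgroup.map_eq_bot_iff, MonoidHom.ker_rangeRestrict] at h2
        exact h2
      · exact (derivedSeries_antitone N (le_max_left n m)).trans (hn i hi)
  obtain ⟨n, hn⟩ := h1 Finset.univ
  exact isSolvable_of_le (K := K) (n := n) fun g hg => hK g fun i => hn i (Finset.mem_univ i) hg

/-! ### Commuting types -/

variable {I : Type*} {M : CoxeterMatrix I} {W : Type*} [Group W] {cs : CoxeterSystem M W} {C : Type*}
  {Δ : Bldg cs C} [F : OppRes.Cox cs]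

local prefix:100 "ℓ" => cs.length

/-- the type `J` is commuting -/
def Com (cs : CoxeterSystem M W) (J : Set I) : Prop :=
  ∀ i ∈ J, ∀ j ∈ J, cs.simple i * cs.simple j = cs.simple j * cs.simple i

variable {J : Set I} {j : I}

theorem mem_or (hJ : Com cs J) (hj : j ∈ J) {w : W} (hw : w ∈ WJ cs J) :
    w ∈ WJ cs (J \ {j}) ∨ w * cs.simple j ∈ WJ cs (J \ {j}) := by
  obtain ⟨ω, hω, rfl⟩ := exists_word_of_mem_WJ cs hw
  clear hw
  induction ω with
  | nil => left; rw [cs.wordProd_nil]; exact one_mem _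
  | cons i ω ih =>
    have hi : i ∈ J := hω i (by simp)
    have hω' : ∀ k ∈ ω, k ∈ J := fun k hk => hω k (by simp [hk])
    have hcomm : cs.simple j * cs.wordProd ω = cs.wordProd ω * cs.simple j :=
      commute_of_mem_WJ (fun k hk => hJ j hj k hk) (wordProd_mem_WJ cs hω')
    rw [cs.wordProd_cons]
    by_cases hij : i = j
    · subst hij
      rcases ih hω' with h | h
      · right
        rw [hcomm, mul_assoc, cs.simple_mul_simple_self, mul_one]
        exact h
      · left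
        rw [hcomm]
        exact h
    · have hi' : i ∈ J \ {j} := ⟨hi, hij⟩
      rcases ih hω' with h | h
      · left
        exact mul_mem (Exchange.simple_mem_WJ cs hi') h
      · right
        rw [mul_assoc]
        exact mul_mem (Exchange.simple_mem_WJ cs hi') h

theorem not_simple_mem : cs.simple j ∉ WJ cs (J \ {j}) :=
  fun h => (Cox.mem_of_simple_mem h).2 rfl

/-- the projection to `Pan j x` lies in the same residue of type `J - j` -/
theorem δ_proj_mem (hJ : Com cs J) (hj : j ∈ J) {x y : C} (hy : y ∈ Δ.Res J x) :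
    Δ.δ y (Δ.proj {j} x y) ∈ WJ cs (J \ {j}) := by
  have hp := Δ.isProj_proj {j} x y
  have hpQ : Δ.proj {j} x y ∈ Δ.Res J x :=
    Δ.Res_mono (Set.singleton_subset_iff.2 hj) x hp.1
  have h1 : Δ.δ y (Δ.proj {j} x y) ∈ WJ cs J := Δ.δ_mem_of_mem_Res hy hpQ
  have h2 := hp.isMinR _ (Exchange.simple_mem_WJ cs (Set.mem_singleton j))
  rw [cs.length_simple] at h2
  rcases mem_or hJ hj h1 with h3 | h3
  · exact h3
  · exfalso
    have h4 : ℓ (Δ.δ y (Δ.proj {j} x y) * cs.simple j * cs.simple j) <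
        ℓ (Δ.δ y (Δ.proj {j} x y) * cs.simple j) := by
      rw [mul_assoc, cs.simple_mul_simple_self, mul_one]
      omega
    exact (F.descent_mem _ _ h3 j h4).2 rfl

theorem sub_J : J \ {j} ⊆ J := Set.sdiff_subset

theorem eq_of_mem_Pan {y z : C} (h : z ∈ Δ.Pan j y) (h' : Δ.δ y z ∈ WJ cs (J \ {j})) : z = y := by
  rcases h with h | h
  · exact h
  · rw [h] at h'
    exact absurd h' not_simple_mem

theorem proj_mem_Pan (x y : C) : Δ.proj {j} x y ∈ Δ.Pan j x := by
  rw [Δ.Pan_eq_Res]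
  exact Δ.proj_mem {j} x y

theorem symm_mem {y z : C} {K : Set I} (h : Δ.δ y z ∈ WJ cs K) : Δ.δ z y ∈ WJ cs K := by
  rw [Δ.symm y z]; exact inv_mem h

theorem trans_mem {y z a : C} {K : Set I} (h : Δ.δ y z ∈ WJ cs K) (h' : Δ.δ z a ∈ WJ cs K) :
    Δ.δ y a ∈ WJ cs K := OppRes.delta_mem_of_mem h h'

/-- `y`, `y'` have the same projection iff they lie in the same residue of type `J - j` -/
theorem proj_eq_iff (hJ : Com cs J) (hj : j ∈ J) {x y y' : C} (hy : y ∈ Δ.Res J x)
    (hy' : y' ∈ Δ.Res J x) :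
    Δ.proj {j} x y = Δ.proj {j} x y' ↔ Δ.δ y y' ∈ WJ cs (J \ {j}) := by
  have h1 := δ_proj_mem hJ hj hy
  have h2 := δ_proj_mem hJ hj hy'
  constructor
  · intro h
    rw [← h] at h2
    exact trans_mem h1 (symm_mem h2)
  · intro h
    have h3 := trans_mem (trans_mem (symm_mem h2) (symm_mem h)) h1
    have h4 : Δ.proj {j} x y ∈ Δ.Pan j (Δ.proj {j} x y') :=
      Δ.mem_Pan_trans (Δ.mem_Pan_symm (proj_mem_Pan x y')) (proj_mem_Pan x y)
    exact eq_of_mem_Pan h4 h3

theorem proj_of_mem_Pan {x z : C} (hz : z ∈ Δ.Pan j x) : Δ.proj {j} x z = z := by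
  rw [Δ.Pan_eq_Res] at hz
  exact Δ.proj_of_mem hz

theorem mem_Res_of_Pan (hj : j ∈ J) {x z : C} (hz : z ∈ Δ.Pan j x) : z ∈ Δ.Res J x :=
  Δ.Pan_subset_Res hj x hz

theorem proj_mem_Res (hj : j ∈ J) (x y : C) : Δ.proj {j} x y ∈ Δ.Res J x :=
  mem_Res_of_Pan hj (proj_mem_Pan x y)

/-! ### The action on a factor -/

/-- The permutations which preserve the residue and its subresidues of type `J - j`. -/
def PA (Δ : Bldg cs C) (J : Set I) (j : I) (x : C) : Subgroup (Equiv.Perm C) where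
  carrier := {f | (∀ y, y ∈ Δ.Res J x ↔ f y ∈ Δ.Res J x) ∧
    ∀ y ∈ Δ.Res J x, ∀ y' ∈ Δ.Res J x, (Δ.δ y y' ∈ WJ cs (J \ {j}) ↔ Δ.δ (f y) (f y') ∈ WJ cs (J \ {j}))}
  one_mem' := ⟨fun y => Iff.rfl, fun y _ y' _ => Iff.rfl⟩
  mul_mem' := fun {a b} ha hb => ⟨fun y => by rw [hb.1, ha.1]; rfl, fun y hy y' hy' => by
    rw [hb.2 y hy y' hy', ha.2 _ ((hb.1 y).1 hy) _ ((hb.1 y').1 hy')]; rfl⟩
  inv_mem' := fun {a} ha => by
    have h1 : ∀ y, a (a⁻¹ y) = y := fun y => a.apply_symm_apply y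
    have h2 : ∀ y, y ∈ Δ.Res J x ↔ a⁻¹ y ∈ Δ.Res J x := fun y => by
      rw [ha.1 (a⁻¹ y), h1]
    exact ⟨h2, fun y hy y' hy' => by
      rw [ha.2 _ ((h2 y).1 hy) _ ((h2 y').1 hy'), h1, h1]⟩

variable (hJ : Com cs J) (hj : j ∈ J)

/-- The action on the factor `Pan j x`. -/
noncomputable def res (x : C) : PA Δ J j x →* Equiv.Perm (Δ.Pan j x) :=
  MonoidHom.toHomPerm
    { toFun := fun f z => ⟨Δ.proj {j} x (f.1 z), proj_mem_Pan x _⟩
      map_one' := by
        funext z
        apply Subtype.ext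
        exact proj_of_mem_Pan z.2
      map_mul' := fun f g => by
        funext z
        apply Subtype.ext
        change Δ.proj {j} x (f.1 (g.1 z)) = Δ.proj {j} x (f.1 (Δ.proj {j} x (g.1 z)))
        have hz : (z : C) ∈ Δ.Res J x := mem_Res_of_Pan hj z.2
        have hgz : g.1 z ∈ Δ.Res J x := (g.2.1 _).1 hz
        have hp : Δ.proj {j} x (g.1 z) ∈ Δ.Res J x := proj_mem_Res hj x _
        rw [proj_eq_iff hJ hj ((f.2.1 _).1 hgz) ((f.2.1 _).1 hp)]
        exact (f.2.2 _ hgz _ hp).1 (δ_proj_mem hJ hj hgz) }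

theorem res_apply (x : C) (f : PA Δ J j x) (z : Δ.Pan j x) :
    (res hJ hj x f z : C) = Δ.proj {j} x (f.1 z) := rfl

/-- the image of the projection -/
theorem res_proj (x : C) (f : PA Δ J j x) {y : C} (hy : y ∈ Δ.Res J x) :
    (res hJ hj x f ⟨Δ.proj {j} x y, proj_mem_Pan x y⟩ : C) = Δ.proj {j} x (f.1 y) := by
  rw [res_apply]
  have hp : Δ.proj {j} x y ∈ Δ.Res J x := proj_mem_Res hj x _
  change Δ.proj {j} x (f.1 (Δ.proj {j} x y)) = _
  rw [proj_eq_iff hJ hj ((f.2.1 _).1 hp) ((f.2.1 _).1 hy), ← f.2.2 _ hp _ hy]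
  exact symm_mem (δ_proj_mem hJ hj hy)

/-! ### The root groups -/

section Grp

variable {G : Type*} [Group G] [MulAction G C] {p : ℕ} (S : Sys Δ G p)

include hJ hj

/-- (F3) The image of `U y` on the factor `j` depends only on the residue of type `J - j` of `y`. -/
theorem exists_same (hth : Δ.Thick) {x y₀ y₁ : C} (h0 : y₀ ∈ Δ.Res J x)
    (h01 : Δ.δ y₀ y₁ ∈ WJ cs (J \ {j})) {u : G} (hu : u ∈ S.U y₀) :
    ∃ v ∈ S.U y₁, ∀ z ∈ Δ.Res J x, Δ.proj {j} x (v • z) = Δ.proj {j} x (u • z) := by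
  set K : Set I := J \ {j} with hK
  have hKJ : K ⊆ J := sub_J
  -- a chamber `z₀` of the panel of `y₀` and its image
  obtain ⟨z₀, hz₀⟩ := Δ.exists_δ y₀ (cs.simple j)
  have hz₁ : Δ.δ y₀ (u • z₀) = cs.simple j := by rw [S.δ_smul hu]; exact hz₀
  -- the chamber of `Res K y₀` opposite `y₀`
  obtain ⟨ym, hym⟩ := Δ.exists_δ y₀ (wJ cs K)
  have hymK : Δ.δ y₀ ym ∈ WJ cs K := by rw [hym]; exact F.wJ_mem K
  have hymQ : ym ∈ Δ.Res J x := Δ.mem_Res_trans h0 (WJ_mono cs hKJ hymK)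
  have hQ : ∀ {a b : C}, a ∈ Δ.Res J x → b ∈ Δ.Pan j a → b ∈ Δ.Res J x := fun ha hb =>
    Δ.mem_Res_trans ha (Δ.Pan_subset_Res hj _ hb)
  have key : ∀ z, Δ.δ y₀ z = cs.simple j → ∃ z', Δ.δ ym z' = cs.simple j ∧ Δ.δ z z' ∈ WJ cs K := by
    intro z hz
    have hzQ : z ∈ Δ.Res J x := hQ h0 (Δ.mem_Pan_of_δ hz)
    have hzQ' : z ∈ Δ.Res J ym := by rw [Δ.Res_eq_of_mem hymQ]; exact hzQ
    refine ⟨Δ.proj {j} ym z, ?_, δ_proj_mem hJ hj hzQ'⟩
    rcases proj_mem_Pan (Δ := Δ) (j := j) ym z with h | h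
    · exfalso
      have h1 := δ_proj_mem hJ hj hzQ'
      rw [h] at h1
      have h2 : Δ.δ y₀ z ∈ WJ cs K := trans_mem hymK (symm_mem h1)
      rw [hz] at h2
      exact not_simple_mem h2
    · exact h
  obtain ⟨z₀', h1, h2⟩ := key z₀ hz₀
  obtain ⟨z₁', h3, h4⟩ := key (u • z₀) hz₁
  have hl : ℓ (wJ cs K * cs.simple j) = ℓ (wJ cs K) + ℓ (cs.simple j) := by
    rw [cs.length_simple]
    rcases cs.length_mul_simple (wJ cs K) j with h | h
    · exact h
    · exfalso
      exact (F.descent_mem K _ (F.wJ_mem K) j (by omega)).2 rfl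
  have h5 : Δ.δ y₀ z₀' = wJ cs K * cs.simple j := Δ.δ_mul_of hym h1 hl
  have h6 : Δ.δ y₀ z₁' = wJ cs K * cs.simple j := Δ.δ_mul_of hym h3 hl
  obtain ⟨v, hv, hvz⟩ := S.exists_move (h5.trans h6.symm)
  have hvym : v • ym = ym := by
    refine Δ.between_unique hl (x := y₀) (z := z₁') ?_ ?_ hym h3
    · rw [S.δ_smul hv, hym]
    · rw [← hvz, S.iso, h1]
  have hvfix := S.fixRes hth hv hym hvym
  have hv1 : v ∈ S.U y₁ := S.mem_U_of_fix hv (hvfix y₁ h01)
  -- `v⁻¹ u` fixes `z₀`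
  have hw : v⁻¹ * u ∈ S.U y₀ := mul_mem (inv_mem hv) hu
  have hwz : (v⁻¹ * u) • z₀ = z₀ := by
    have h7 : Δ.δ z₀ ((v⁻¹ * u) • z₀) ∈ WJ cs K := by
      refine trans_mem h2 ?_
      rw [← S.iso v, hvz, mul_smul, smul_inv_smul]
      exact symm_mem h4
    refine eq_of_mem_Pan ?_ h7
    refine Δ.mem_Pan_trans (Δ.mem_Pan_symm (Δ.mem_Pan_of_δ hz₀)) ?_
    refine Δ.mem_Pan_of_δ ?_
    rw [S.δ_smul hw, hz₀]
  have hpan := S.pan y₀ z₀ j hz₀ _ hw hwz
  refine ⟨v, hv1, fun z hz => ?_⟩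
  have hz' : z ∈ Δ.Res J y₀ := by rw [Δ.Res_eq_of_mem h0]; exact hz
  set zb := Δ.proj {j} y₀ z with hzb
  have h8 : zb ∈ Δ.Pan j y₀ := proj_mem_Pan y₀ z
  have h9 : v • zb = u • zb := by
    have := hpan zb h8
    rw [mul_smul, inv_smul_eq_iff] at this
    exact this.symm
  have h10 : Δ.δ z zb ∈ WJ cs K := δ_proj_mem hJ hj hz'
  have hmem : ∀ {g : G}, g ∈ S.U y₀ → ∀ a ∈ Δ.Res J x, g • a ∈ Δ.Res J x := by
    intro g hg a ha
    have h11 := S.smul_mem_Res (g := g) (J := J) (x := y₀) (y := a)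
      (by rw [Δ.Res_eq_of_mem h0]; exact ha)
    rw [S.fix y₀ g hg, Δ.Res_eq_of_mem h0] at h11
    exact h11
  rw [proj_eq_iff hJ hj (hmem hv z hz) (hmem hu z hz)]
  refine trans_mem (z := v • zb) (by rw [S.iso]; exact h10) ?_
  rw [h9, S.iso]
  exact symm_mem h10

/-- A permutation of the chambers permuting the groups `U y` permutes the root groups of the
factor. -/
theorem res_mem_fam (hth : Δ.Thick) {x : C} (f : PA Δ J j x) (α : G → G)
    (hα : ∀ y ∈ Δ.Res J x, ∀ u ∈ S.U y, α u ∈ S.U (f.1 y))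
    (hf : ∀ (u : G) (z : C), f.1 (u • z) = α u • f.1 z) (y : Δ.Pan j x)
    (g : Equiv.Perm (Δ.Pan j x)) (hg : g ∈ S.fam j x y) :
    res hJ hj x f * g * (res hJ hj x f)⁻¹ ∈ S.fam j x (res hJ hj x f y) := by
  obtain ⟨u, hu, hug⟩ := hg
  have hyQ : (y : C) ∈ Δ.Res J x := mem_Res_of_Pan hj y.2
  have h1 := hα y hyQ u hu
  have hfy : f.1 y ∈ Δ.Res J x := (f.2.1 _).1 hyQ
  obtain ⟨v, hv, hvz⟩ := exists_same hJ hj S hth hfy (δ_proj_mem hJ hj hfy) h1
  refine ⟨v, hv, fun z => ?_⟩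
  obtain ⟨z', rfl⟩ := (res hJ hj x f).surjective z
  have h2 : (res hJ hj x f * g * (res hJ hj x f)⁻¹) (res hJ hj x f z') = res hJ hj x f (g z') := by
    rw [Equiv.Perm.mul_apply, Equiv.Perm.mul_apply]
    congr 2
    exact (res hJ hj x f).symm_apply_apply z'
  rw [h2, res_apply, hug, hf]
  have hz'Q : (z' : C) ∈ Δ.Res J x := mem_Res_of_Pan hj z'.2
  have hfz' : f.1 z' ∈ Δ.Res J x := (f.2.1 _).1 hz'Q
  -- `v` preserves the panel
  have hvp : v • (res hJ hj x f z' : C) ∈ Δ.Pan j x := by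
    have h3 : Δ.proj {j} x (f.1 y) ∈ Δ.Pan j x := proj_mem_Pan x _
    have h4 : Δ.Pan j (Δ.proj {j} x (f.1 y)) = Δ.Pan j x := Δ.Pan_eq_of_mem h3
    have h5 := S.smul_mem_Res (g := v) (J := {j}) (x := Δ.proj {j} x (f.1 y))
      (y := (res hJ hj x f z' : C)) (by
        rw [← Δ.Pan_eq_Res, h4]; exact (res hJ hj x f z').2)
    rw [S.fix _ v hv, ← Δ.Pan_eq_Res, h4] at h5
    exact h5
  rw [← proj_of_mem_Pan hvp, res_apply, hvz _ (proj_mem_Res hj x _)]
  -- both are projections of chambers in the same residue of type `J - j`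
  have hmem : ∀ a ∈ Δ.Res J x, α u • a ∈ Δ.Res J x := by
    intro a ha
    have h11 := S.smul_mem_Res (g := α u) (J := J) (x := f.1 y) (y := a)
      (by rw [Δ.Res_eq_of_mem hfy]; exact ha)
    rw [S.fix _ _ h1, Δ.Res_eq_of_mem hfy] at h11
    exact h11
  rw [proj_eq_iff hJ hj (hmem _ hfz') (hmem _ (proj_mem_Res hj x _)), S.iso]
  exact δ_proj_mem hJ hj hfz'

omit hJ in
/-- The elements of `G` stabilising the residue. -/
def toPA (S : Sys Δ G p) (J : Set I) (j : I) (x : C) :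
    MulAction.stabilizer G (Δ.Res J x) →* PA Δ J j x where
  toFun c := ⟨MulAction.toPermHom G C c.1, fun y => by
      have h1 : c.1 • Δ.Res J x = Δ.Res J x := c.2
      change y ∈ Δ.Res J x ↔ c.1 • y ∈ Δ.Res J x
      exact ((Set.smul_mem_smul_set_iff (a := c.1) (s := Δ.Res J x) (x := y)).symm).trans
        (by rw [h1]), fun y _ y' _ => by
      change _ ↔ Δ.δ (c.1 • y) (c.1 • y') ∈ _
      rw [S.iso]⟩
  map_one' := Subtype.ext (map_one _)
  map_mul' a b := Subtype.ext (map_mul (MulAction.toPermHom G C) a.1 b.1)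

theorem toPA_apply (x : C) (c : MulAction.stabilizer G (Δ.Res J x)) (z : C) :
    (toPA S J j x c).1 z = c.1 • z := rfl

theorem toPA_mem_famStab (hth : Δ.Thick) (x : C) (c : MulAction.stabilizer G (Δ.Res J x)) :
    res hJ hj x (toPA S J j x c) ∈ famStab (S.fam j x) := by
  have key : ∀ c : MulAction.stabilizer G (Δ.Res J x), ∀ (y : Δ.Pan j x) (g : Equiv.Perm (Δ.Pan j x)),
      g ∈ S.fam j x y → res hJ hj x (toPA S J j x c) * g * (res hJ hj x (toPA S J j x c))⁻¹ ∈
        S.fam j x (res hJ hj x (toPA S J j x c) y) := by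
    intro c y g hg
    refine res_mem_fam hJ hj S hth (toPA S J j x c) (fun u => c.1 * u * c.1⁻¹)
      (fun y _ u hu => S.conj_mem_U hu c.1) (fun u z => ?_) y g hg
    change c.1 • u • z = (c.1 * u * c.1⁻¹) • c.1 • z
    rw [mul_smul, inv_smul_smul, mul_smul]
  intro y g
  refine ⟨key c y g, fun h => ?_⟩
  have h1 := key c⁻¹ _ _ h
  rw [map_inv, map_inv] at h1
  have h2 : (res hJ hj x (toPA S J j x c))⁻¹ *
      (res hJ hj x (toPA S J j x c) * g * (res hJ hj x (toPA S J j x c))⁻¹) *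
      (res hJ hj x (toPA S J j x c))⁻¹⁻¹ = g := by group
  have h3 : (res hJ hj x (toPA S J j x c))⁻¹ (res hJ hj x (toPA S J j x c) y) = y :=
    (res hJ hj x (toPA S J j x c)).symm_apply_apply y
  rwa [h2, h3] at h1

end Grp

end RankProd

open RankProd

variable {I : Type*} {M : CoxeterMatrix I} {W : Type*} [Group W] {cs : CoxeterSystem M W} {C : Type*}
  {Δ : Bldg cs C} [F : OppRes.Cox cs] {G : Type*} [Group G] [MulAction G C] {p : ℕ}

theorem Sys.τ_mem_U_aux (S : Sys Δ G p) (t : Tw Δ G) {y : C} {u : G} (hu : u ∈ S.U y) :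
    t.τ u ∈ S.U (t.θ y) := by
  have h1 : IsPGroup p ((S.U y).map t.τ.toMonoidHom) := (S.isP y).map _
  refine S.max (t.θ y) _ h1 ?_ ⟨u, hu, rfl⟩
  rintro _ ⟨v, hv, rfl⟩
  change t.τ v • t.θ y = t.θ y
  rw [← t.θ_smul, S.fix y v hv]

/-- **(T4)** The stabiliser of an anisotropic residue in the centraliser of the automorphism is
solvable, given the rank one condition. -/
theorem Sys.isSolvable_stab (S : Sys Δ G p) [hp : Fact p.Prime] [Finite I] [Finite C] (hth : Δ.Thick)
    {t : Tw Δ G} {J : Set I} {x : C} (h : t.Gd J x)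
    (hsol : Group.IsSolvable (MulAction.stabilizer G x))
    (hR : ∀ j ∈ J, GoodFam (S.fam j x)) :
    Group.IsSolvable ↥(t.cent ⊓ MulAction.stabilizer G (Δ.Res J x)) := by
  have hJ : Com cs J := fun i hi j hj => S.gd_comm hth h hi hj
  set N : Subgroup G := t.cent ⊓ MulAction.stabilizer G (Δ.Res J x) with hN
  let inc : N →* MulAction.stabilizer G (Δ.Res J x) := Subgroup.inclusion inf_le_right
  let ψ : ∀ j : J, N →* Equiv.Perm (Δ.Pan (j : I) x) := fun j =>
    (res hJ j.2 x).comp ((toPA S J j x).comp inc)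
  let K : Subgroup N := (MulAction.stabilizer G x).subgroupOf N
  have hK : Group.IsSolvable K := by
    refine Group.isSolvable_of_isSolvable_injective
      (f := ((N.subtype.comp K.subtype).codRestrict (MulAction.stabilizer G x) fun k => k.2)) ?_
    intro a b hab
    have h1 : ((a : N) : G) = ((b : N) : G) :=
      congrArg (fun y : MulAction.stabilizer G x => (y : G)) hab
    exact Subtype.ext (Subtype.ext h1)
  refine isSolvable_of_homs ψ (fun j => ?_) K fun n hn => ?_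
  · -- the action of the automorphism on the factor
    have hθQ := h.θ_stable
    have hθ1 : ∀ y, y ∈ Δ.Res J x ↔ t.θ y ∈ Δ.Res J x := fun y => (t.mem_of_θ_mem hθQ).symm
    have hθ2 : ∀ w, w ∈ WJ cs (J \ {(j : I)}) ↔ t.φ w ∈ WJ cs (J \ {(j : I)}) := by
      have hst : t.Stab (J \ {(j : I)}) := fun i hi => by
        rw [S.gd_σ hth h hi.1]; exact hi
      intro w
      refine ⟨t.φ_mem hst, fun hw => ?_⟩
      have := t.φ_mem hst hw
      rwa [t.φφ] at this
    let T : PA Δ J j x := ⟨t.θ, hθ1, fun y _ y' _ => by rw [t.δ_θ]; exact hθ2 _⟩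
    let th := res hJ j.2 x T
    have hTT : T * T = 1 := by
      apply Subtype.ext
      ext y
      exact t.θθ y
    have hth2 : th * th = 1 := by
      change res hJ j.2 x T * res hJ j.2 x T = 1
      rw [← map_mul, hTT, map_one]
    have hfree : ∀ y, th y ≠ y := by
      intro y hy
      have h1 := congrArg Subtype.val hy
      change Δ.proj {(j : I)} x (t.θ y) = y at h1
      have hyQ : (y : C) ∈ Δ.Res J x := mem_Res_of_Pan j.2 y.2
      rw [← proj_of_mem_Pan y.2] at h1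
      rw [proj_of_mem_Pan y.2, ← proj_of_mem_Pan y.2,
        proj_eq_iff hJ j.2 (by rw [proj_of_mem_Pan y.2]; exact (hθ1 _).1 hyQ) hyQ,
        proj_of_mem_Pan y.2] at h1
      have h2 := symm_mem h1
      rw [h.2 _ hyQ] at h2
      have h3 := F.len_wJ_mul (Exchange.simple_mem_WJ cs j.2)
      rw [cs.length_simple] at h3
      exact (F.descent_mem _ _ h2 j (by omega)).2 rfl
    have hthfam : th ∈ famStab (S.fam (j : I) x) := by
      have key : ∀ (y : Δ.Pan (j : I) x) (g : Equiv.Perm (Δ.Pan (j : I) x)),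
          g ∈ S.fam (j : I) x y → th * g * th⁻¹ ∈ S.fam (j : I) x (th y) := fun y g hg =>
        res_mem_fam hJ j.2 S hth T t.τ (fun y _ u hu => S.τ_mem_U_aux t hu)
          (fun u z => t.θ_smul u z) y g hg
      have hinv : th⁻¹ = th := inv_eq_of_mul_eq_one_left hth2
      intro y g
      refine ⟨key y g, fun h1 => ?_⟩
      have h2 := key _ _ h1
      have h3 : th * (th * g * th⁻¹) * th⁻¹ = g := by
        calc th * (th * g * th⁻¹) * th⁻¹ = (th * th) * g * (th⁻¹ * th⁻¹) := by group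
          _ = (th * th) * g * (th * th) := by rw [hinv]
          _ = g := by rw [hth2, one_mul, mul_one]
      have h4 : th (th y) = y := by
        rw [← Equiv.Perm.mul_apply, hth2]; rfl
      rwa [h3, h4] at h2
    have hsolv := hR j j.2 th hthfam hth2 hfree
    have hle : (ψ j).range ≤ famStab (S.fam (j : I) x) ⊓
        Subgroup.centralizer ({th} : Set (Equiv.Perm (Δ.Pan (j : I) x))) := by
      rintro _ ⟨n, rfl⟩
      refine ⟨toPA_mem_famStab hJ j.2 S hth x (inc n), ?_⟩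
      refine Subgroup.mem_centralizer_singleton_iff.2 ?_
      change res hJ j.2 x (toPA S J j x (inc n)) * res hJ j.2 x T =
        res hJ j.2 x T * res hJ j.2 x (toPA S J j x (inc n))
      rw [← map_mul, ← map_mul]
      congr 1
      apply Subtype.ext
      ext y
      change n.1 • t.θ y = t.θ (n.1 • y)
      have h5 : t.τ n.1 = n.1 := n.2.1
      rw [t.θ_smul, h5]
    exact Group.isSolvable_of_isSolvable_injective (Subgroup.inclusion_injective hle)
  · change n.1 • x = x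
    have hx : x ∈ Δ.Res J x := Δ.self_mem_Res J x
    have hnx : n.1 • x ∈ Δ.Res J x := by
      have h1 : n.1 • Δ.Res J x = Δ.Res J x := n.2.2
      rw [← h1]
      exact Set.smul_mem_smul_set hx
    have h1 : ∀ j ∈ J, Δ.δ x (n.1 • x) ∈ WJ cs (J \ {j}) := by
      intro j hj
      have h2 := congrArg (fun f => ((f ⟨x, Δ.self_mem_Pan j x⟩ : Δ.Pan j x) : C)) (hn ⟨j, hj⟩)
      change Δ.proj {j} x (n.1 • x) = x at h2
      have h3 : Δ.proj {j} x x = x := proj_of_mem_Pan (Δ.self_mem_Pan j x)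
      rw [← h3] at h2
      have h4 : Δ.proj {j} x (n.1 • x) = Δ.proj {j} x x := by
        rw [h3] at h2
        rw [h2, h3]
      exact symm_mem ((proj_eq_iff hJ hj hnx hx).1 h4)
    by_contra hne
    have h2 : Δ.δ x (n.1 • x) ≠ 1 := fun h3 => hne (Δ.eq_of_δ_eq_one h3).symm
    obtain ⟨j, hj, hlt⟩ := F.exists_descent (Δ.δ_mem_of_mem_Res hx hnx) h2
    exact (F.descent_mem _ _ (h1 j hj) j hlt).2 rfl

end Cfsg.Agent.FixBN
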