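import Cfsg.Agent.FixBN.Out
import Cfsg.Agent.FixBN.FixSplit
import Cfsg.Agent.FixBN.RankProd
import Cfsg.Agent.FixBN.GoodSplit
import Cfsg.Agent.FixBN.ExpTwo
/-!
THEOREM FIX + THEOREM OUT for simple groups with a split (B,N)-pair of odd characteristic whose rank one
groups are of type `L2` or `U3`: the hypothesis `SB` of the B-theorem.
-/

set_option autoImplicit false

open scoped commutatorElement Pointwise

namespace Cfsg.Agent.FixBN

open Cfsg.Agent.Tits.Core Cfsg.Agent.Tits.Core.Bldg Cfsg.Agent.Tits.OfBN Cfsg.Agent.Schreier.BNSch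
open Cfsg.Agent.Lib

namespace Split

variable {K : Type*} [Group K] {P : Cfsg.BNPair K} {p : ℕ} {U : Subgroup K}

/-- The Borel group is solvable if the torus is solvable. -/
theorem isSolvable_B [Finite K] [hp : Fact p.Prime] (h : Split P p U)
    (hT : Group.IsSolvable ↥(P.B ⊓ P.N)) : Group.IsSolvable P.B := by
  have hn : (U.subgroupOf P.B).Normal := by
    constructor
    intro u hu b
    rw [Subgroup.mem_subgroupOf] at hu ⊢
    exact h.norm b b.2 u hu
  rw [Group.isSolvable_iff_subgroup_quotient (U.subgroupOf P.B)]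
  constructor
  · have h1 : IsPGroup p ↥(U.subgroupOf P.B) := h.isP.comap_subtype
    have h2 : Group.IsNilpotent ↥(U.subgroupOf P.B) := h1.isNilpotent
    infer_instance
  · let f : ↥(P.B ⊓ P.N) →* ↥P.B ⧸ U.subgroupOf P.B :=
      (QuotientGroup.mk' (U.subgroupOf P.B)).comp (Subgroup.inclusion inf_le_left)
    refine Group.isSolvable_of_surjective (f := f) ?_
    intro y
    obtain ⟨b, rfl⟩ := QuotientGroup.mk_surjective y
    obtain ⟨u, hu, t, ht, hb⟩ := h.cover' b.2
    refine ⟨⟨t, ht⟩, ?_⟩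
    change (QuotientGroup.mk (⟨t, ht.1⟩ : P.B) : ↥P.B ⧸ U.subgroupOf P.B) = QuotientGroup.mk b
    rw [QuotientGroup.eq, Subgroup.mem_subgroupOf]
    change t⁻¹ * (b : K) ∈ U
    rw [hb]
    have h3 := h.norm t⁻¹ (inv_mem ht.1) u hu
    have h4 : t⁻¹ * u * t⁻¹⁻¹ = t⁻¹ * (u * t) := by group
    rwa [h4] at h3

theorem isSolvable_B_of_comm [Finite K] [hp : Fact p.Prime] (h : Split P p U)
    (hT : ∀ a ∈ P.B ⊓ P.N, ∀ b ∈ P.B ⊓ P.N, a * b = b * a) : Group.IsSolvable P.B :=
  h.isSolvable_B (Group.isSolvable_of_comm fun a b => Subtype.ext (hT a a.2 b b.2))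

end Split

/-- The stabiliser of a chamber is solvable. -/
theorem isSolvable_stabilizer {K : Type*} [Group K] {P : Cfsg.BNPair K}
    (h : Group.IsSolvable P.B) (x : K ⧸ P.B) : Group.IsSolvable ↥(MulAction.stabilizer K x) := by
  induction x using QuotientGroup.induction_on with
  | _ g =>
  have key : ∀ s ∈ MulAction.stabilizer K (QuotientGroup.mk g : K ⧸ P.B), g⁻¹ * s * g ∈ P.B := by
    intro s hs
    exact OfBN.smul_mk_eq.1 hs
  let f : ↥(MulAction.stabilizer K (QuotientGroup.mk g : K ⧸ P.B)) →* ↥P.B :=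
    { toFun := fun s => ⟨g⁻¹ * s * g, key s s.2⟩
      map_one' := Subtype.ext (by simp)
      map_mul' := fun a b => Subtype.ext (by
        change g⁻¹ * ((a : K) * (b : K)) * g = g⁻¹ * a * g * (g⁻¹ * b * g)
        group) }
  refine Group.isSolvable_of_isSolvable_injective (f := f) ?_
  intro a b hab
  have h1 : g⁻¹ * (a : K) * g = g⁻¹ * b * g := congrArg Subtype.val hab
  exact Subtype.ext (mul_left_cancel (mul_right_cancel h1))

/-- There is a good residue. -/
theorem exists_good {I : Type*} {M : CoxeterMatrix I} {W : Type*} [Group W]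
    {cs : CoxeterSystem M W} {C : Type*} {Δ : Bldg cs C} {G : Type*} [Group G] [MulAction G C]
    (t : Tw Δ G) [F : Tits.OppRes.Cox cs] (x : C) : ∃ J y, t.Gd J y := by
  obtain ⟨K, _, y, _, h⟩ := Tw.exists_gd (t := t) (J := Set.univ) (fun _ _ => trivial) (x := x)
    (by rw [Δ.Res_univ]; trivial)
  exact ⟨K, y, h⟩

/-- (R1): the root groups of every panel form a good family. -/
def AllGood {K : Type*} [Group K] [Finite K] {p : ℕ} [Fact p.Prime] {P : Cfsg.BNPair K}
    {U : Subgroup K} (h : Split P p U) : Prop :=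
  ∀ (_ : ((P.B ⊓ P.N).subgroupOf P.N).Normal) (M : CoxeterMatrix P.S)
    (cs : CoxeterSystem M (WP P)) (hcs : ∀ i, cs.simple i =
      QuotientGroup.mk (⟨((Equiv.refl P.S i : P.S) : K), P.subset (Equiv.refl P.S i).2⟩ : P.N))
    (i : P.S) (x : K ⧸ P.B), GoodFam ((OfBN.sys (Equiv.refl P.S) cs hcs h).fam i x)

theorem GoodSplit.allGood {K : Type*} [Group K] [Finite K] {p : ℕ} [hp : Fact p.Prime]
    {P : Cfsg.BNPair K} {U : Subgroup K} (h : GoodSplit P p U) : AllGood h.toSplit :=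
  fun _ _ cs hcs i x => GoodNode.goodFam h.toSplit (Equiv.refl P.S) cs hcs (h.good i i.2) x

/-- **THEOREM OUT** for the split (B,N)-pairs of odd characteristic. -/
theorem out_of_allGood {K : Type*} [Group K] [Finite K] {p : ℕ} [hp : Fact p.Prime] (hp2 : p ≠ 2)
    {P : Cfsg.BNPair K} {U : Subgroup K} (h : Split P p U) (hB : Group.IsSolvable P.B)
    (hR : AllGood h) (τ : K ≃* K) (hτ : ∀ g, τ (τ g) = g) {L : Subgroup K}
    (hL : L ≤ Reduce.fixSub τ) (hLp : ⁅L, L⁆ = L) :
    L ≤ PComponents.pElem p (Reduce.fixSub τ) := by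
  have hN : ((P.B ⊓ P.N).subgroupOf P.N).Normal := normal_subgroupOf P
  obtain ⟨M, cs, hcs⟩ := S0320.result P
  obtain ⟨t, ht⟩ := TwOfBN.exists_tw h (Equiv.refl P.S) cs hcs τ hτ
  have hI : Finite P.S := OfBN.finite_I (Equiv.refl P.S)
  have hth := thick P (Equiv.refl P.S) cs hcs
  have hcent : t.cent = Reduce.fixSub τ := by
    ext g
    rw [t.mem_cent, ht]
    exact Iff.rfl
  obtain ⟨J, x, hgd⟩ := exists_good t (QuotientGroup.mk 1)
  let S := OfBN.sys (Equiv.refl P.S) cs hcs h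
  have h4 := Sys.isSolvable_stab S hth hgd
    (isSolvable_stabilizer hB x) (fun j _ => hR hN M cs hcs j x)
  rw [← hcent] at hL ⊢
  exact Tw.out S hth hp2 hgd
    (fun g hg hn => Tw.sq_smul_Res S hth hp2 hgd hg hn)
    (fun g hg hn c hc hcx => Tw.conj_smul_Res S hth hp2 hgd hg hn hc hcx) h4 hL hLp

/-- **SB** for the simple groups with a split (B,N)-pair of odd characteristic. -/
theorem sb_of_allGood {K : Type*} [Group K] [Finite K] [hs : IsSimpleGroup K] {p : ℕ}
    [hp : Fact p.Prime] (hp2 : p ≠ 2) {P : Cfsg.BNPair K} {U : Subgroup K}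
    (h : Split P p U) (hB : Group.IsSolvable P.B) (hR : AllGood h) : Reduce.SB K := by
  refine Reduce.sb_of_fix fun τ hτ _ => ⟨p, ?_, ?_⟩
  · intro W hW hWn hWo v hv hvn w hw
    exact (fix_of_split hp2 h τ hτ (X := W) (fun x hx => hW hx)
      (fun g hg x hx => hWn g hg x hx) hWo).2 v hv hvn w hw
  · intro L hL hLp
    exact out_of_allGood hp2 h hB hR τ hτ hL hLp

theorem GoodSplit.out {K : Type*} [Group K] [Finite K] {p : ℕ} [hp : Fact p.Prime] (hp2 : p ≠ 2)
    {P : Cfsg.BNPair K} {U : Subgroup K} (h : GoodSplit P p U) (τ : K ≃* K)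
    (hτ : ∀ g, τ (τ g) = g) {L : Subgroup K} (hL : L ≤ Reduce.fixSub τ) (hLp : ⁅L, L⁆ = L) :
    L ≤ PComponents.pElem p (Reduce.fixSub τ) :=
  out_of_allGood hp2 h.toSplit h.solv h.allGood τ hτ hL hLp

/-- **SB** for the simple groups of Lie type of odd characteristic (except the Ree groups). -/
theorem GoodSplit.sb {K : Type*} [Group K] [Finite K] [hs : IsSimpleGroup K] {p : ℕ}
    [hp : Fact p.Prime] (hp2 : p ≠ 2) {P : Cfsg.BNPair K} {U : Subgroup K}
    (h : GoodSplit P p U) : Reduce.SB K :=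
  sb_of_allGood hp2 h.toSplit h.solv h.allGood

theorem HasGoodSplit.sb {K : Type*} [Group K] [Finite K] [hs : IsSimpleGroup K] {p : ℕ}
    [hp : Fact p.Prime] (hp2 : p ≠ 2) (h : HasGoodSplit p K) : Reduce.SB K := by
  obtain ⟨P, U, _, h⟩ := h
  exact h.sb hp2

end Cfsg.Agent.FixBN
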