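import Cfsg.Agent.FixBN.ChevGood
import Cfsg.Agent.FixBN.OutSplit

/-!
helper617: `SB` for the exceptional Chevalley groups of odd characteristic (input of U3-LIE).
-/

set_option autoImplicit false

namespace Cfsg.Agent.FixBN.ChevGood

open Cfsg Cfsg.Lie Cfsg.Agent.ChevalleyStructure.CoxeterGeomTypes Cfsg.Agent.Nodes.RGDChev Cfsg.Agent.FixBN

theorem sb_of_equiv {G : Type*} [Group G] [IsSimpleGroup G] {D : ChevalleyDatum} {l : ℕ}
    {M : CoxeterMatrix (Fin l)} (hp : IsType D l M) [Nonempty (Fin l)] {K : Type} [Field K] [Finite K] {p : ℕ}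
    [CharP K p] (hp2 : p ≠ 2) (e : G ≃* ↥(D.group K)) : Reduce.SB G := by
  have : IsSimpleGroup ↥(D.group K) := e.symm.isSimpleGroup
  have : Fact p.Prime := ⟨CharP.char_is_prime K p⟩
  exact Reduce.SB.congr e.symm ((hasGoodSplit_group K p hp2 hp).sb hp2)

/-- **`SB` for the exceptional Chevalley groups of odd characteristic.** -/
theorem sb_of_exceptional {p : ℕ} (hp2 : p ≠ 2) {G : Type*} [Group G] [IsSimpleGroup G]
    (hG : IsExceptionalChevChar p G) : Reduce.SB G := by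
  obtain ⟨F, _, _, _, ⟨-, ⟨e⟩⟩ | ⟨⟨e⟩⟩ | ⟨⟨e⟩⟩ | ⟨⟨e⟩⟩ | ⟨⟨e⟩⟩⟩ := hG
  · exact sb_of_equiv (l := 2) (M := CoxeterMatrix.G₂) (by simp [IsType, typeList]) hp2 e
  · exact sb_of_equiv (l := 4) (M := CoxeterMatrix.F₄) (by simp [IsType, typeList]) hp2 e
  · exact sb_of_equiv (l := 6) (M := CoxeterMatrix.E₆) (by simp [IsType, typeList]) hp2 e
  · exact sb_of_equiv (l := 7) (M := CoxeterMatrix.E₇) (by simp [IsType, typeList]) hp2 e
  · exact sb_of_equiv (l := 8) (M := CoxeterMatrix.E₈) (by simp [IsType, typeList]) hp2 e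

end Cfsg.Agent.FixBN.ChevGood
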