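import Mathlib
import Cfsg.Agent.FixBN.Fix
import Cfsg.Agent.FixBN.SylSub
import Cfsg.Agent.FixBN.ThinOpp

/-!
Components of the centraliser of an involutory automorphism and good residues, part A.

* `IsC t p L` : the abstract properties of a component `L` of the centraliser, of type `SL₂` or `PSL₂` in
  characteristic `p`;
* `Tw.P_syl` : the groups `P Q` are Sylow subgroups of the centraliser;
* `IsC.exists_pan` : there is a panel `T` such that `L` stabilises `Res T y` and moves a good residue of it.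
-/

set_option autoImplicit false
set_option linter.unusedSectionVars false

open scoped Pointwise

namespace Cfsg.Agent.FixBN

open Cfsg.Agent.Tits.Core Cfsg.Agent.Tits.Core.Bldg Cfsg.Agent.Tits.Exchange Cfsg.Agent.Tits
open Cfsg.Agent.FixBN.Cox Cfsg.Agent.FixBN.SylSub

variable {I : Type*} {M : CoxeterMatrix I} {W : Type*} [Group W] {cs : CoxeterSystem M W} {C : Type*}

local prefix:100 "ℓ" => cs.length

variable {Δ : Bldg cs C} {G : Type*} [Group G] [MulAction G C] {p : ℕ} {t : Tw Δ G}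

/-- The abstract properties of a component `L` of the centraliser of `t`, of type `SL₂(p^n)` or `PSL₂(p^n)`. -/
structure IsC (t : Tw Δ G) (p : ℕ) (L : Subgroup G) : Prop where
  le : L ≤ t.cent
  sub : (L.subgroupOf t.cent).IsSubnormal
  pcomm : ∀ H : Subgroup G, L ≤ H → H ≤ t.cent → ∀ O : Subgroup G, O ≤ H →
    (∀ h ∈ H, ∀ o ∈ O, h * o * h⁻¹ ∈ O) → IsPGroup p O → ∀ l ∈ L, ∀ o ∈ O, l * o = o * l
  disj : ∀ g ∈ t.cent, MulAut.conj g • L = L ∨ ∀ l ∈ L, ∀ l' ∈ MulAut.conj g • L, l * l' = l' * l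
  perf : ∀ N : Subgroup G, N ≤ L → (∀ l ∈ L, ∀ x ∈ N, l * x * l⁻¹ ∈ N) → (∃ k : ℕ, N.relIndex L = p ^ k) → N = L
  two : ∀ A, Syl p L A → ∃ l ∈ L, MulAut.conj l • A ≠ A
  trans : ∀ A A₁ A₂, Syl p L A → Syl p L A₁ → Syl p L A₂ → A₁ ≠ A → A₂ ≠ A →
    ∃ a ∈ A, MulAut.conj a • A₁ = A₂
  gen : ∀ A A', Syl p L A → Syl p L A' → A ≠ A' → A ⊔ A' = L
  cen : ∀ A, Syl p L A → ∀ a ∈ A, (∀ l ∈ L, a * l = l * a) → a = 1

variable [F : OppRes.Cox cs] [Finite G] [hp : Fact p.Prime] [Finite C]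

namespace Tw

/-- The groups `P Q` are Sylow `p`-subgroups of the centraliser. -/
theorem P_syl (S : Sys Δ G p) (hth : Δ.Thick) (hp2 : p ≠ 2) {J : Set I} {x : C} (h : t.Gd J x) :
    Syl p t.cent (t.P S (Δ.Res J x)) := by
  refine Syl.of_max inf_le_left (P_isP S ⟨x, Δ.self_mem_Res _ _⟩) fun V hV hVp => ?_
  obtain ⟨K, z, hgz, hle⟩ := exists_P S hth hV hVp
  rw [card_P_const S hth hp2 hgz h]
  exact Subgroup.card_le_of_le hle

theorem P_syl_of_mem (S : Sys Δ G p) (hth : Δ.Thick) (hp2 : p ≠ 2) {T : Set I} {y : C} {Z : Set C}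
    (hZ : Z ∈ t.Gds T y) : Syl p t.cent (t.P S Z) := by
  obtain ⟨J, z, hJ, hz, hgd, rfl⟩ := hZ
  exact P_syl S hth hp2 hgd

/-- The stabiliser of a residue in the centraliser. -/
def Mst (t : Tw Δ G) (R : Set C) : Subgroup G := t.cent ⊓ MulAction.stabilizer G R

omit F [Finite G] hp [Finite C] in
theorem mem_Mst {R : Set C} {g : G} : g ∈ t.Mst R ↔ g ∈ t.cent ∧ g • R = R := Iff.rfl

omit F [Finite G] hp [Finite C] in
theorem Mst_le (R : Set C) : t.Mst R ≤ t.cent := inf_le_left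

/-- `P Z` stabilises the residues containing `Z`. -/
theorem P_le_Mst (S : Sys Δ G p) {T : Set I} {y : C} {Z : Set C} (hZ : Z ∈ t.Gds T y) :
    t.P S Z ≤ t.Mst (Δ.Res T y) := by
  obtain ⟨J, z, hJ, hz, hgd, rfl⟩ := hZ
  intro u hu
  refine ⟨hu.1, ?_⟩
  have h1 := smul_Res_of_sub S hJ (smul_of_mem_UR S hu.2)
  rwa [Δ.Res_eq_of_mem hz] at h1

/-- conjugation of `P Z` -/
theorem smul_P (S : Sys Δ G p) {Z : Set C} {g : G} (hg : g ∈ t.cent) :
    MulAut.conj g • t.P S Z = t.P S (g • Z) := by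
  ext x
  rw [mem_smul]
  constructor
  · rintro ⟨h1, h2⟩
    have e : x = g * (g⁻¹ * x * g) * g⁻¹ := by group
    refine ⟨?_, ?_⟩
    · rw [e]
      exact t.cent.mul_mem (t.cent.mul_mem hg h1) (t.cent.inv_mem hg)
    · rw [e]
      exact S.conj_mem_UR_iff.2 h2
  · rintro ⟨h1, h2⟩
    refine ⟨t.cent.mul_mem (t.cent.mul_mem (t.cent.inv_mem hg) h1) hg, ?_⟩
    have e : x = g * (g⁻¹ * x * g) * g⁻¹ := by group
    rw [e] at h2
    exact S.conj_mem_UR_iff.1 h2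

/-- An element of `P (Res K y)` which fixes another good residue of the panel lies in the radical of the panel. -/
theorem PD.mem_UR (S : Sys Δ G p) (hth : Δ.Thick) {T K K' : Set I} {b : W} {y : C}
    (h : t.PD T K K' b y) {Z : Set C} (hZ : Z ∈ t.Gds T y) (hne : Z ≠ Δ.Res K y) {u : G}
    (hu : u ∈ S.UR (Δ.Res K y)) (huZ : u • Z = Z) : u ∈ S.UR (Δ.Res T y) := by
  have h1 := h.mem_SS hZ hne
  have h2 : u ∈ S.UR Z := S.mem_UR_of_stab h.ad.par h1 hu huZ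
  obtain ⟨z, hz, rfl⟩ := SS_all h.ad.par h1 (Δ.self_mem_Res _ _)
  have h3 : u • z = z := S.fix z u (h2 z (Δ.self_mem_Res _ _))
  have h4 := Thin.fix_of_UR_fix S hth h.ad hz hu h3
  intro c hc
  exact S.mem_U_of_fix (hu y (Δ.self_mem_Res _ _)) (h4 c hc)

end Tw

open Tw

namespace IsC

variable {L : Subgroup G} (hL : IsC t p L) (S : Sys Δ G p) (hth : Δ.Thick) (hp2 : p ≠ 2)

include hL hth hp2

theorem syl {J : Set I} {x : C} (h : t.Gd J x) : Syl p L (L ⊓ t.P S (Δ.Res J x)) :=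
  Syl.inf hL.le hL.sub (P_syl S hth hp2 h)

theorem syl_of_mem {T : Set I} {y : C} {Z : Set C} (hZ : Z ∈ t.Gds T y) : Syl p L (L ⊓ t.P S Z) := by
  obtain ⟨J, z, hJ, hz, hgd, rfl⟩ := hZ
  exact hL.syl S hth hp2 hgd

/-- Two adjacent good residues with different Sylow subgroups of `L`. -/
theorem exists_adj : ∃ (T K K' : Set I) (b : W) (y : C) (Z : Set C), t.PD T K K' b y ∧
    Z ∈ t.Gds T y ∧ L ⊓ t.P S Z ≠ L ⊓ t.P S (Δ.Res K y) := by
  -- two good residues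
  obtain ⟨J, x0, hx0, -⟩ := exists_P (t := t) S hth (V := ⊥) bot_le IsPGroup.of_bot
  obtain ⟨l, hl, hne⟩ := hL.two _ (hL.syl S hth hp2 hx0)
  have hlc := hL.le hl
  have hy0 : t.Gd J (l • x0) := gd_smul S hx0 hlc
  have hne' : L ⊓ t.P S (Δ.Res J (l • x0)) ≠ L ⊓ t.P S (Δ.Res J x0) := by
    intro h
    apply hne
    rw [← S.smul_Res, ← smul_P S hlc] at h
    rw [Subgroup.smul_inf, smul_eq_of_mem hl, h]
  obtain ⟨x, hx, y, hy, hpar, hφ⟩ := parallel hx0 hy0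
  rw [← Δ.Res_eq_of_mem hx, ← Δ.Res_eq_of_mem hy] at hne'
  replace hx0 := hx0.congr hx
  replace hy0 := hy0.congr hy
  clear hx hy
  have key : ∀ (n : ℕ) (J' : Set I) (y : C), ℓ (Δ.δ x y) = n → t.Gd J' y → Par cs J J' (Δ.δ x y) →
      t.φ (Δ.δ x y) = Δ.δ x y → L ⊓ t.P S (Δ.Res J' y) ≠ L ⊓ t.P S (Δ.Res J x) →
      ∃ (T K K' : Set I) (b : W) (y : C) (Z : Set C), t.PD T K K' b y ∧
        Z ∈ t.Gds T y ∧ L ⊓ t.P S Z ≠ L ⊓ t.P S (Δ.Res K y) := by
    intro n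
    induction n using Nat.strong_induction_on with
    | _ n ih =>
      intro J' y hn hy0 hpar hφ hne'
      by_cases hne : Δ.δ x y = 1
      · exfalso
        apply hne'
        rw [hne] at hpar
        rw [← hpar.eq_of_one, Δ.eq_of_δ_eq_one hne]
      · obtain ⟨T, J'', v, b, y1, h1, h2, h3, h4, h5, h6, h7, h8, h9, h10, h11⟩ :=
          exists_PD hx0 hy0 hpar hφ hne
        by_cases hc : L ⊓ t.P S (Δ.Res J' y) = L ⊓ t.P S (Δ.Res J'' y1)
        · rw [← h1] at h5 h6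
          exact ih _ (by rw [← hn, h1]; exact h3) J'' y1 rfl h7.gd h6 h5 (by rw [← hc]; exact hne')
        · exact ⟨T, J'', J', b, y1, _, h7, h9, hc⟩
  exact key _ J y rfl hy0 hpar hφ hne'

/-- If the Sylow subgroups of `L` of two good residues of a panel are different, `L` stabilises the panel and moves
the residues in it. -/
theorem le_Mst {T K K' : Set I} {b : W} {y : C} {Z : Set C} (h : t.PD T K K' b y) (hZ : Z ∈ t.Gds T y)
    (hne : L ⊓ t.P S Z ≠ L ⊓ t.P S (Δ.Res K y)) : L ≤ t.Mst (Δ.Res T y) := by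
  have hR : Δ.Res K y ∈ t.Gds T y := ⟨K, y, h.ad.sub'', Δ.self_mem_Res _ _, h.gd, rfl⟩
  have hA := hL.syl S hth hp2 h.gd
  have hAM : L ⊓ t.P S (Δ.Res K y) ≤ t.Mst (Δ.Res T y) := inf_le_right.trans (P_le_Mst S hR)
  -- some element of `L ⊓ M` does not normalise `A`
  have key : ∃ g ∈ L ⊓ t.Mst (Δ.Res T y), MulAut.conj g • (L ⊓ t.P S (Δ.Res K y)) ≠ L ⊓ t.P S (Δ.Res K y) := by
    by_contra hcon
    push Not at hcon
    have h1 : ((L ⊓ t.P S (Δ.Res K y)).subgroupOf (t.Mst (Δ.Res T y))).IsSubnormal := by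
      refine subnormal_trans (H := L ⊓ t.Mst (Δ.Res T y)) (le_inf inf_le_left hAM) inf_le_right ?_
        (subnormal_inf (Mst_le _) hL.sub)
      intro g hg a ha
      rw [← hcon g hg]
      exact conj_mem_smul ha
    have h2 : Syl p (t.Mst (Δ.Res T y)) (t.P S Z) :=
      (P_syl_of_mem S hth hp2 hZ).mono (P_le_Mst S hZ) (Mst_le _)
    have h3 := Syl.le_of_subnormal hAM hA.isP h1 h2
    exact hne ((hA.eq_of_le (hL.syl_of_mem S hth hp2 hZ) (le_inf inf_le_left h3)).symm)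
  obtain ⟨g, hg, hgne⟩ := key
  rw [← hL.gen _ _ hA (hA.smul_of_mem hg.1) (Ne.symm hgne)]
  refine sup_le hAM ?_
  rw [smul_le_iff]
  intro a ha
  exact mul_mem (mul_mem hg.2 (hAM ha)) (inv_mem hg.2)

/-- **The panel of `L`**: `L` stabilises a residue `Res T y` where `T` is a relative panel. -/
theorem exists_pan : ∃ (T K K' : Set I) (b : W) (y : C), t.PD T K K' b y ∧ L ≤ t.Mst (Δ.Res T y) ∧
    ∃ Z ∈ t.Gds T y, L ⊓ t.P S Z ≠ L ⊓ t.P S (Δ.Res K y) := by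
  obtain ⟨T, K, K', b, y, Z, h, hZ, hne⟩ := hL.exists_adj S hth hp2
  exact ⟨T, K, K', b, y, h, hL.le_Mst S hth hp2 h hZ hne, Z, hZ, hne⟩

end IsC

end Cfsg.Agent.FixBN
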