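import Mathlib
import Cfsg.Agent.FixBN.CompA

/-!
Components of the centraliser of an involutory automorphism and good residues, part B.

`Adp t L T K K' b y` : the panel data `PD T K K' b y`, and `L` stabilises `Res T y`. Then the Sylow subgroup
`P (Res K y)` of the centraliser is the product of `A = L ⊓ P (Res K y)` and of the fixed points in the radical of
`Res T y`, which centralise `L` (`Adp.exists_mul`).
-/

set_option autoImplicit false
set_option linter.unusedSectionVars false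

open scoped Pointwise

namespace Cfsg.Agent.FixBN

open Cfsg.Agent.Tits.Core Cfsg.Agent.Tits.Core.Bldg Cfsg.Agent.Tits.Exchange Cfsg.Agent.Tits
open Cfsg.Agent.FixBN.Cox Cfsg.Agent.FixBN.SylSub

variable {I : Type*} {M : CoxeterMatrix I} {W : Type*} [Group W] {cs : CoxeterSystem M W} {C : Type*}

local prefix:100 "ℓ" => cs.length

variable {Δ : Bldg cs C} {G : Type*} [Group G] [MulAction G C] {p : ℕ} {t : Tw Δ G}

/-- `L` stabilises the panel `Res T y` of the good residue `Res K y`. -/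
structure Adp (t : Tw Δ G) (L : Subgroup G) (T K K' : Set I) (b : W) (y : C) : Prop where
  pd : t.PD T K K' b y
  st : L ≤ t.Mst (Δ.Res T y)

variable [F : OppRes.Cox cs] [Finite G] [hp : Fact p.Prime] [Finite C]

namespace Tw

/-- The fixed points in the radical of a set of chambers. -/
theorem UR_normal (S : Sys Δ G p) {R : Set C} {g o : G} (hg : g ∈ t.Mst R) (ho : o ∈ t.cent ⊓ S.UR R) :
    g * o * g⁻¹ ∈ t.cent ⊓ S.UR R := by
  refine ⟨t.cent.mul_mem (t.cent.mul_mem hg.1 ho.1) (t.cent.inv_mem hg.1), ?_⟩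
  have h1 : g • R = R := hg.2
  have h2 := (S.conj_mem_UR_iff (Q := R) (u := o) (g := g)).2 ho.2
  rwa [h1] at h2

theorem UR_le_Mst (S : Sys Δ G p) {T : Set I} {y : C} : t.cent ⊓ S.UR (Δ.Res T y) ≤ t.Mst (Δ.Res T y) :=
  fun _ hu => ⟨hu.1, smul_of_mem_UR S hu.2⟩

theorem mem_Gds_self {T K K' : Set I} {b : W} {y : C} (h : t.PD T K K' b y) : Δ.Res K y ∈ t.Gds T y :=
  ⟨K, y, h.ad.sub'', Δ.self_mem_Res _ _, h.gd, rfl⟩

end Tw

open Tw

namespace Adp

variable {L : Subgroup G} {T K K' : Set I} {b : W} {y : C} (D : Adp t L T K K' b y) (hL : IsC t p L)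
  (S : Sys Δ G p) (hth : Δ.Thick) (hp2 : p ≠ 2)

include D hL

/-- The radical of the panel centralises `L`. -/
theorem comm {o : G} (ho : o ∈ t.cent ⊓ S.UR (Δ.Res T y)) {l : G} (hl : l ∈ L) : l * o = o * l := by
  refine hL.pcomm (t.Mst (Δ.Res T y)) D.st (Mst_le _) (t.cent ⊓ S.UR (Δ.Res T y)) (UR_le_Mst S)
    (fun h hh o ho => UR_normal S hh ho) ?_ l hl o ho
  exact (S.UR_isP ⟨y, Δ.self_mem_Res _ _⟩).to_le inf_le_right

include hth hp2

/-- some element of `L` moves the good residue inside the panel, and its Sylow subgroup -/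
theorem exists_moved : ∃ l ∈ L, l • Δ.Res K y ≠ Δ.Res K y ∧ l • Δ.Res K y ∈ t.Gds T y ∧
    MulAut.conj l • (L ⊓ t.P S (Δ.Res K y)) = L ⊓ t.P S (l • Δ.Res K y) ∧
    L ⊓ t.P S (l • Δ.Res K y) ≠ L ⊓ t.P S (Δ.Res K y) := by
  obtain ⟨l, hl, hne⟩ := hL.two _ (hL.syl S hth hp2 D.pd.gd)
  have he : MulAut.conj l • (L ⊓ t.P S (Δ.Res K y)) = L ⊓ t.P S (l • Δ.Res K y) := by
    rw [Subgroup.smul_inf, smul_eq_of_mem hl, smul_P S (hL.le hl)]
  refine ⟨l, hl, ?_, smul_mem_Gds S (hL.le hl) (D.st hl).2 (mem_Gds_self D.pd), he, he ▸ hne⟩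
  intro h
  rw [h] at he
  exact hne he

/-- An element of `P R` which centralises `L` lies in the radical of the panel. -/
theorem mem_UR_of_comm {u : G} (hu : u ∈ t.P S (Δ.Res K y)) (hc : ∀ l ∈ L, u * l = l * u) :
    u ∈ S.UR (Δ.Res T y) := by
  obtain ⟨l, hl, h1, h2, -⟩ := D.exists_moved hL S hth hp2
  refine D.pd.mem_UR S hth h2 h1 hu.2 ?_
  rw [← mul_smul, hc l hl, mul_smul, smul_of_mem_UR S hu.2]

theorem eq_one_of_mem {a : G} (ha : a ∈ L ⊓ t.P S (Δ.Res K y)) (ha' : a ∈ S.UR (Δ.Res T y)) : a = 1 :=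
  hL.cen _ (hL.syl S hth hp2 D.pd.gd) a ha fun l hl => (D.comm hL S ⟨hL.le ha.1, ha'⟩ hl).symm

theorem exists_ne_one : ∃ a ∈ L ⊓ t.P S (Δ.Res K y), a ≠ 1 := by
  by_contra hcon
  push Not at hcon
  have h1 : L ⊓ t.P S (Δ.Res K y) = ⊥ := (Subgroup.eq_bot_iff_forall _).2 hcon
  obtain ⟨l, hl, hne⟩ := hL.two _ (hL.syl S hth hp2 D.pd.gd)
  rw [h1, Subgroup.smul_bot] at hne
  exact hne rfl

/-- `P R` normalises `L`. -/
theorem smul_eq {u : G} (hu : u ∈ t.P S (Δ.Res K y)) : MulAut.conj u • L = L := by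
  rcases hL.disj u hu.1 with h | h
  · exact h
  · exfalso
    obtain ⟨a, ha, hne⟩ := D.exists_ne_one hL S hth hp2
    have h1 : u * a * u⁻¹ ∈ t.P S (Δ.Res K y) := mul_mem (mul_mem hu ha.2) (inv_mem hu)
    have h2 : u * a * u⁻¹ ∈ S.UR (Δ.Res T y) :=
      D.mem_UR_of_comm hL S hth hp2 h1 fun l hl => (h l hl _ (conj_mem_smul ha.1)).symm
    have h3 : u ∈ t.Mst (Δ.Res T y) := P_le_Mst S (mem_Gds_self D.pd) hu
    have h4 := UR_normal S (inv_mem h3) ⟨h1.1, h2⟩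
    have h5 : u⁻¹ * (u * a * u⁻¹) * u⁻¹⁻¹ = a := by group
    rw [h5] at h4
    exact hne (D.eq_one_of_mem hL S hth hp2 ha h4.2)

/-- The normaliser in `L` of the Sylow subgroup fixes the good residue. -/
theorem fix_of_norm {l : G} (hl : l ∈ L)
    (h : MulAut.conj l • (L ⊓ t.P S (Δ.Res K y)) = L ⊓ t.P S (Δ.Res K y)) : l • Δ.Res K y = Δ.Res K y := by
  by_contra hne
  obtain ⟨a, ha, hne1⟩ := D.exists_ne_one hL S hth hp2
  have hZ : l • Δ.Res K y ∈ t.Gds T y := smul_mem_Gds S (hL.le hl) (D.st hl).2 (mem_Gds_self D.pd)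
  have h1 : a ∈ t.P S (l • Δ.Res K y) := by
    rw [← smul_P S (hL.le hl)]
    have h2 : a ∈ MulAut.conj l • (L ⊓ t.P S (Δ.Res K y)) := by rw [h]; exact ha
    rw [Subgroup.smul_inf] at h2
    exact h2.2
  have h3 : a • l • Δ.Res K y = l • Δ.Res K y := by
    rw [S.smul_Res] at h1 ⊢
    exact smul_of_mem_UR S h1.2
  exact hne1 (D.eq_one_of_mem hL S hth hp2 ha (D.pd.mem_UR S hth hZ hne ha.2.2 h3))

/-- **`P R = A × C_{P R}(L)`** -/
theorem exists_mul {u : G} (hu : u ∈ t.P S (Δ.Res K y)) :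
    ∃ a ∈ L ⊓ t.P S (Δ.Res K y), ∃ m ∈ t.cent ⊓ S.UR (Δ.Res T y), u = a * m := by
  obtain ⟨l, hl, h1, h2, h3, h4⟩ := D.exists_moved hL S hth hp2
  have hA := hL.syl S hth hp2 D.pd.gd
  have huL := D.smul_eq hL S hth hp2 hu
  have huA : MulAut.conj u • (L ⊓ t.P S (Δ.Res K y)) = L ⊓ t.P S (Δ.Res K y) := by
    rw [Subgroup.smul_inf, huL, smul_eq_of_mem hu]
  have hA1 : Syl p L (MulAut.conj l • (L ⊓ t.P S (Δ.Res K y))) := hA.smul_of_mem hl
  have hA2 : Syl p L (MulAut.conj u • MulAut.conj l • (L ⊓ t.P S (Δ.Res K y))) := by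
    have := hA1.smul u
    rwa [huL] at this
  obtain ⟨a, ha, he⟩ := hL.trans _ _ _ hA hA2 hA1 (by
    intro h
    have h5 : MulAut.conj u • MulAut.conj l • (L ⊓ t.P S (Δ.Res K y)) =
        MulAut.conj u • (L ⊓ t.P S (Δ.Res K y)) := by rw [h, huA]
    rw [smul_left_cancel_iff, h3] at h5
    exact h4 h5) (by rw [h3]; exact h4)
  have hv : a * u ∈ t.P S (Δ.Res K y) := mul_mem ha.2 hu
  have hvL := D.smul_eq hL S hth hp2 hv
  have hvA : MulAut.conj (a * u) • (L ⊓ t.P S (Δ.Res K y)) = L ⊓ t.P S (Δ.Res K y) := by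
    rw [Subgroup.smul_inf, hvL, smul_eq_of_mem hv]
  have hvA1 : MulAut.conj (a * u) • MulAut.conj l • (L ⊓ t.P S (Δ.Res K y)) =
      MulAut.conj l • (L ⊓ t.P S (Δ.Res K y)) := by
    rw [map_mul, mul_smul, he]
  -- `v` fixes `l R`
  have hl' : (a * u) * l * (a * u)⁻¹ ∈ L := by
    rw [← hvL]; exact conj_mem_smul hl
  have h6 : l⁻¹ * ((a * u) * l * (a * u)⁻¹) ∈ L := mul_mem (inv_mem hl) hl'
  have h7 : MulAut.conj (l⁻¹ * ((a * u) * l * (a * u)⁻¹)) • (L ⊓ t.P S (Δ.Res K y)) =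
      L ⊓ t.P S (Δ.Res K y) := by
    have h8 : MulAut.conj (a * u)⁻¹ • (L ⊓ t.P S (Δ.Res K y)) = L ⊓ t.P S (Δ.Res K y) := by
      rw [map_inv, inv_smul_eq_iff, hvA]
    rw [map_mul, map_mul, map_mul, mul_smul, mul_smul, mul_smul, h8, hvA1, map_inv, inv_smul_smul]
  have h9 := D.fix_of_norm hL S hth hp2 h6 h7
  have h10 : (a * u)⁻¹ • Δ.Res K y = Δ.Res K y := by
    rw [inv_smul_eq_iff, smul_of_mem_UR S hv.2]
  have h11 : (a * u) • l • Δ.Res K y = l • Δ.Res K y := by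
    rw [mul_smul, mul_smul, mul_smul, h10, inv_smul_eq_iff] at h9
    exact h9
  have h12 := D.pd.mem_UR S hth h2 h1 hv.2 h11
  exact ⟨a⁻¹, inv_mem ha, a * u, ⟨hv.1, h12⟩, by group⟩

end Adp

end Cfsg.Agent.FixBN
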