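import Mathlib
import Cfsg.Agent.FixBN.Thin
import Cfsg.Agent.FixBN.Fix
/-!
THEOREM FIX, part T3 (exponent two), first part: thin residues, the good residues fixed by a Sylow
`p`-subgroup `P` of the centraliser.
-/

set_option autoImplicit false
set_option linter.unusedSectionVars false

open scoped Pointwise

namespace Cfsg.Agent.FixBN

open Cfsg.Agent.Tits.Core Cfsg.Agent.Tits.Core.Bldg Cfsg.Agent.Tits.Exchange Cfsg.Agent.Tits
open Cfsg.Agent.FixBN.Cox

variable {I : Type*} {M : CoxeterMatrix I} {W : Type*} [Group W] {cs : CoxeterSystem M W} {C : Type*}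

local prefix:100 "ℓ" => cs.length

namespace ExpTwo

section Coxeter

variable [F : OppRes.Cox cs]

theorem ad_insert {φ : W ≃* W} {σ : I → I} (hφ : ∀ i, φ (cs.simple i) = cs.simple (σ i))
    {L : Set I} {i : I} (hi : i ∉ L) (hL : ∀ j ∈ L, σ j ∈ L) (hσi : σ i = i)
    (hc : ∀ j ∈ L, cs.simple i * cs.simple j = cs.simple j * cs.simple i) :
    Ad cs φ σ (insert i L) L L (cs.simple i) := by
  have hne : ∀ j ∈ L, j ≠ i := fun j hj h => hi (h ▸ hj)
  have hmem : cs.simple i ∈ WJ cs {i} := simple_mem_WJ cs rfl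
  have hcL : cs.simple i * wJ cs L = wJ cs L * cs.simple i := commute_of_mem_WJ hc (F.wJ_mem L)
  have hlen : ℓ (cs.simple i * wJ cs L) = ℓ (wJ cs L) + 1 :=
    Thin.length_simple_mul_of_notMem (F.wJ_mem L) hi
  refine ⟨?_, hL, hL, Set.subset_insert i L, Set.subset_insert i L,
    simple_mem_WJ cs (Set.mem_insert i L), by rw [hφ, hσi], ⟨fun j hj => ⟨j, hj, hc j hj⟩,
    fun k hk => ⟨k, hk, (hc k hk).symm⟩, ?_, ?_⟩, ?_⟩
  · rintro k (rfl | hk)
    · rw [hσi]; exact Set.mem_insert _ _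
    · exact Set.mem_insert_of_mem _ (hL k hk)
  · rw [isMinL_iff]
    intro j hj
    rw [Thin.length_simple_mul_of_notMem hmem (hne j hj)]
    exact Nat.lt_succ_self _
  · rw [isMinR_iff]
    intro j hj
    rw [Thin.length_mul_simple_of_notMem hmem (hne j hj)]
    exact Nat.lt_succ_self _
  · refine F.eq_wJ_of_descents (mul_mem (simple_mem_WJ cs (Set.mem_insert i L))
      (WJ_mono cs (Set.subset_insert i L) (F.wJ_mem L))) fun k hk => ?_
    rcases hk with rfl | hk
    · rw [hlen, hcL, mul_assoc, cs.simple_mul_simple_self, mul_one]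
      exact Nat.lt_succ_self _
    · rw [hlen, mul_assoc]
      have h1 := cs.length_mul_le (cs.simple i) (wJ cs L * cs.simple k)
      have h2 := F.len_wJ_mul (simple_mem_WJ cs hk)
      rw [cs.length_simple] at h1 h2
      omega

theorem mem_insert_cases {L : Set I} {i : I}
    (hc : ∀ j ∈ L, cs.simple i * cs.simple j = cs.simple j * cs.simple i) {w : W}
    (hw : w ∈ WJ cs (insert i L)) : w ∈ WJ cs L ∨ cs.simple i * w ∈ WJ cs L := by
  obtain ⟨ω, hω, rfl⟩ := exists_word_of_mem_WJ cs hw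
  clear hw
  induction ω with
  | nil => left; exact one_mem _
  | cons k ω ih =>
    have ih' := ih fun j hj => hω j (by simp [hj])
    rw [cs.wordProd_cons]
    rcases hω k (by simp) with rfl | hk
    · rcases ih' with h | h
      · right
        rwa [← mul_assoc, cs.simple_mul_simple_self, one_mul]
      · left; exact h
    · rcases ih' with h | h
      · left; exact mul_mem (simple_mem_WJ cs hk) h
      · right
        rw [← mul_assoc, hc k hk, mul_assoc]
        exact mul_mem (simple_mem_WJ cs hk) h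

theorem letters_mem {L : Set I} (ω : List I) (hred : cs.IsReduced ω)
    (h : cs.wordProd ω ∈ WJ cs L) : ∀ i ∈ ω, i ∈ L := by
  induction ω using List.reverseRecOn with
  | nil => simp
  | append_singleton ω i ih =>
    have hred' : cs.IsReduced ω := by
      have := hred.take ω.length
      rwa [List.take_left'] at this
      rfl
    have h1 : cs.wordProd (ω ++ [i]) = cs.wordProd ω * cs.simple i := by
      rw [cs.wordProd_append, cs.wordProd_singleton]
    have h2 : i ∈ L := by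
      refine F.descent_mem L _ h i ?_
      rw [h1, mul_assoc, cs.simple_mul_simple_self, mul_one, ← h1, hred.eq, hred'.eq]
      simp
    have h3 : cs.wordProd ω ∈ WJ cs L := by
      have h4 := mul_mem h (simple_mem_WJ cs h2)
      rwa [h1, mul_assoc, cs.simple_mul_simple_self, mul_one] at h4
    intro j hj
    rcases List.mem_append.1 hj with hj | hj
    · exact ih hred' h3 j hj
    · rw [List.mem_singleton] at hj
      rw [hj]; exact h2

theorem mem_WJ_of_all {J K : Set I} {w : W} (h0 : w ∈ WJ cs (J ∪ K))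
    (h : ∀ i ∈ K, w ∈ WJ cs (J ∪ (K \ {i}))) : w ∈ WJ cs J := by
  obtain ⟨ω, hred, rfl⟩ := cs.exists_isReduced w
  refine wordProd_mem_WJ cs fun i hi => ?_
  rcases letters_mem ω hred h0 i hi with h1 | h1
  · exact h1
  · rcases letters_mem ω hred (h i h1) i hi with h2 | h2
    · exact h2
    · exact absurd rfl h2.2

end Coxeter

section Building

variable {Δ : Bldg cs C} {G : Type*} [Group G] [MulAction G C] {p : ℕ} (S : Sys Δ G p) {t : Tw Δ G}
variable [F : OppRes.Cox cs]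

include S

/-- A thin residue has exactly two stable residues of a given corank-one type. -/
theorem two_classes [Finite G] [hp : Fact p.Prime] (hp2 : p ≠ 2) (hth : Δ.Thick)
    {L J : Set I} {i : I} (hJL : J ⊆ L) (hiL : i ∉ L) (hL : t.Stab L) (hσi : t.σ i = i)
    (hc : ∀ j ∈ L, cs.simple i * cs.simple j = cs.simple j * cs.simple i) {x y z : C}
    (hx : t.Gd J x) (hthin : ∀ u ∈ t.P S (Δ.Res J x), ∀ c ∈ Δ.Res (insert i L) x, u • c = c)
    (hy : y ∈ Δ.Res (insert i L) x) (hgy : t.θ y ∈ Δ.Res L y) (hyx : y ∉ Δ.Res L x)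
    (hz : z ∈ Δ.Res (insert i L) x) (hgz : t.θ z ∈ Δ.Res L z) (hzx : z ∉ Δ.Res L x) :
    z ∈ Δ.Res L y := by
  have had := ad_insert (cs := cs) t.φ_simple hiL hL hσi hc
  have key : ∀ y ∈ Δ.Res (insert i L) x, y ∉ Δ.Res L x → ∃ y1, y1 ∈ Δ.Res L y ∧
      Δ.δ x y1 = cs.simple i := by
    intro y hy hyx
    rcases mem_insert_cases hc hy with h | h
    · exact absurd h hyx
    · have h1 : Δ.δ x y = cs.simple i * (cs.simple i * Δ.δ x y) := by
        rw [← mul_assoc, cs.simple_mul_simple_self, one_mul]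
      obtain ⟨y1, h2, h3⟩ := Δ.exists_between h1 (had.par.minR _ h)
      refine ⟨y1, Δ.mem_Res_symm ?_, h2⟩
      rw [mem_Res, h3]
      exact h
  obtain ⟨y1, hy1, hxy1⟩ := key y hy hyx
  obtain ⟨z1, hz1, hxz1⟩ := key z hz hzx
  obtain ⟨u, hu, huy⟩ := Thin.exists_UR_move S hth had hxy1 hxz1
  have hθx : ∀ c ∈ Δ.Res L x, t.θ c ∈ Δ.Res L x :=
    Tw.θ_stable_Res hL (Δ.Res_mono hJL x hx.θ_mem)
  have e1 : t.θ '' Δ.Res L y = Δ.Res L y := by rw [t.image_Res hL, Δ.Res_eq_of_mem hgy]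
  have e2 : t.θ '' Δ.Res L z = Δ.Res L z := by rw [t.image_Res hL, Δ.Res_eq_of_mem hgz]
  obtain ⟨a, ha, hac, haz⟩ := t.exists_cent (S.UR (Δ.Res L x))
    (fun a ha => S.τ_mem_UR t hθx ha) (S.odd_card hp2 (S.UR_isP ⟨x, Δ.self_mem_Res L x⟩)) e1 e2
    ⟨u, hu, by rw [← Δ.Res_eq_of_mem hy1, ← Δ.Res_eq_of_mem hz1, S.smul_Res, huy]⟩
  have haP : a ∈ t.P S (Δ.Res J x) := ⟨hac, fun c hc => ha c (Δ.Res_mono hJL x hc)⟩
  have hay : a • y = y := hthin a haP y hy
  have h1 : y ∈ Δ.Res L z := by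
    rw [← haz, ← hay]
    exact Set.smul_mem_smul_set (by rw [hay]; exact Δ.self_mem_Res L y)
  exact Δ.mem_Res_symm h1

theorem mem_P_of_mem_U (hth : Δ.Thick) {J : Set I} {c : C} (hc : t.Gd J c) {u : G}
    (hu : u ∈ t.cent) (hU : u ∈ S.U c) : u ∈ t.P S (Δ.Res J c) := by
  refine ⟨hu, S.mem_UR_of_fix hth hU hc.δ_θ ?_⟩
  have h1 := t.θ_smul u c
  rw [S.fix c u hU, t.mem_cent.1 hu] at h1
  exact h1.symm

theorem P_eq [Finite G] [Finite C] [hp : Fact p.Prime] (hp2 : p ≠ 2) (hth : Δ.Thick) {J J' : Set I}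
    {x c : C} (hx : t.Gd J x) (hc : t.Gd J' c) (hfix : ∀ u ∈ t.P S (Δ.Res J x), u • c = c) :
    t.P S (Δ.Res J x) = t.P S (Δ.Res J' c) := by
  refine Subgroup.eq_of_le_of_card_ge ?_ (Tw.card_P_const S hth hp2 hx hc).le
  intro u hu
  exact mem_P_of_mem_U S hth hc hu.1 (S.mem_U_of_fix (hu.2 x (Δ.self_mem_Res J x)) (hfix u hu))

/-- The representatives (chambers next to `x`) of the good residues fixed by `P`. -/
def AA (t : Tw Δ G) (J : Set I) (x : C) : Set C :=
  {c | t.Gd J c ∧ (∀ u ∈ t.P S (Δ.Res J x), u • c = c) ∧ Par cs J J (Δ.δ x c) ∧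
    t.φ (Δ.δ x c) = Δ.δ x c}

omit [F : OppRes.Cox cs] in
theorem self_mem_AA [F : OppRes.Cox cs] {J : Set I} {x : C} (hx : t.Gd J x) : x ∈ AA S t J x := by
  refine ⟨hx, fun u hu => S.fix x u (hu.2 x (Δ.self_mem_Res J x)), ?_, ?_⟩
  · rw [Δ.δ_self]; exact par_one J
  · rw [Δ.δ_self, map_one]

/-- each good residue fixed by `P` of type `J` has a representative. -/
theorem exists_AA {J : Set I} {x y : C} (hx : t.Gd J x) (hy : t.Gd J y)
    (hfix : ∀ u ∈ t.P S (Δ.Res J x), u • y = y) (hth : Δ.Thick) :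
    ∃ c ∈ AA S t J x, c ∈ Δ.Res J y := by
  obtain ⟨x', hx', y', hy', hpar, hφ⟩ := Tw.parallel hx hy
  obtain ⟨c, hc, hxc⟩ := par_transfer hpar (x := x') (y := y') (a := x) rfl (Δ.mem_Res_symm hx')
  have hcy : c ∈ Δ.Res J y := Δ.mem_Res_trans hy' hc
  refine ⟨c, ⟨hy.congr hcy, ?_, by rw [hxc]; exact hpar, by rw [hxc]; exact hφ⟩, hcy⟩
  intro u hu
  have h1 := mem_P_of_mem_U S hth hy hu.1
    (S.mem_U_of_fix (hu.2 x (Δ.self_mem_Res J x)) (hfix u hu))
  exact S.fix c u (h1.2 c hcy)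

/-- The step from a representative towards `x` along a right descent. -/
theorem step [Finite G] [Finite C] [hp : Fact p.Prime] (hp2 : p ≠ 2) (hth : Δ.Thick) {J : Set I}
    {x c : C} (hx : t.Gd J x) (hc : c ∈ AA S t J x) {i : I}
    (hi : ℓ (Δ.δ x c * cs.simple i) < ℓ (Δ.δ x c)) :
    i ∉ J ∧ t.σ i = i ∧ (∀ j ∈ J, cs.simple i * cs.simple j = cs.simple j * cs.simple i) ∧
      (∀ u ∈ t.P S (Δ.Res J x), ∀ z ∈ Δ.Res (insert i J) c, u • z = z) ∧
      ∃ e ∈ AA S t J x, Δ.δ x e = Δ.δ x c * cs.simple i ∧ Δ.δ e c = cs.simple i := by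
  obtain ⟨hgc, hfix, hpar, hφ⟩ := hc
  have hiJ : i ∉ J := by
    intro h
    have := hpar.minR _ (simple_mem_WJ cs h)
    omega
  obtain ⟨v, b, hvb, hb, hv, hφv, hφb, hb1, hpv, hpb, hst, hlong⟩ :=
    exists_step t.φ_simple t.σσ hpar hx.1 hgc.1 hφ hi (T := J ∪ {i, t.σ i}) rfl
  have hl := hv b hb
  obtain ⟨e, he, he'⟩ := Δ.exists_between hvb hl
  have hTst : t.Stab (J ∪ {i, t.σ i}) := by
    rintro k (hk | hk | hk)
    · left; exact hgc.1 k hk
    · right; right
      rw [Set.mem_singleton_iff, hk]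
    · right; left
      rw [Set.mem_singleton_iff] at hk
      rw [hk, t.σσ]
  have hsub : J ⊆ J ∪ {i, t.σ i} := Set.subset_union_left
  have hP : t.P S (Δ.Res J x) = t.P S (Δ.Res J c) := P_eq S hp2 hth hx hgc hfix
  have hux : ∀ u ∈ t.P S (Δ.Res J x), u • x = x := fun u hu =>
    S.fix x u (hu.2 x (Δ.self_mem_Res J x))
  have hue : ∀ u ∈ t.P S (Δ.Res J x), u • e = e := by
    intro u hu
    refine Δ.between_unique hl (x := x) (z := c) ?_ ?_ he he'
    · rw [← he, ← S.iso u x e, hux u hu]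
    · rw [← he', ← S.iso u e c, hfix u hu]
  -- `P` is trivial on the residue of type `T` of `c`
  have hce : c ∈ Δ.Res (J ∪ {i, t.σ i}) e := by rw [mem_Res, he']; exact hb
  have htriv : ∀ u ∈ t.P S (Δ.Res J x), ∀ z ∈ Δ.Res (J ∪ {i, t.σ i}) c, u • z = z := by
    intro u hu z hz
    obtain ⟨c', hc'⟩ := Δ.exists_δ c (wJ cs J)
    have hc'm : c' ∈ Δ.Res J c := by rw [mem_Res, hc']; exact F.wJ_mem J
    have huc' : u • c' = c' := by
      rw [hP] at hu
      exact S.fix c' u (hu.2 c' hc'm)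
    have h1 : Δ.δ e c' = wJ cs (J ∪ {i, t.σ i}) := by
      rw [← hlong]
      exact Δ.δ_mul_of he' hc' (hpb.minR _ (F.wJ_mem J))
    have h2 := S.fixRes hth (S.mem_U_of_fix (hu.2 x (Δ.self_mem_Res J x)) (hue u hu)) h1 huc'
    exact h2 z (by rwa [← Δ.Res_eq_of_mem hce])
  obtain ⟨hcomm, hσ⟩ := S.thin hp2 hth hgc hTst hsub (fun u hu hut => htriv u (by
    rw [hP]; exact ⟨hut, hu⟩))
  have hiT : i ∈ J ∪ {i, t.σ i} := by right; simp
  have hσi : t.σ i = i := hσ i hiT
  have hci : ∀ j ∈ J, cs.simple i * cs.simple j = cs.simple j * cs.simple i :=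
    fun j hj => hcomm i hiT j (hsub hj)
  have hT : J ∪ {i, t.σ i} = insert i J := by
    rw [hσi]
    ext k
    simp only [Set.mem_union, Set.mem_insert_iff, Set.mem_singleton_iff, or_self]
    tauto
  rw [hT] at htriv hlong hv hb hTst
  have had := ad_insert (cs := cs) t.φ_simple hiJ hgc.1 hσi hci
  have hbi : b = cs.simple i := by
    have h1 := had.long
    rw [← hlong] at h1
    exact (mul_right_cancel h1).symm
  have hcj : conjSet cs (J ∪ {i, t.σ i}) J b = J := by
    ext k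
    constructor
    · rintro ⟨_, j, hj, h1⟩
      rw [hbi, hci j hj] at h1
      have h2 : j = k := F.inj (mul_right_cancel h1)
      rw [← h2]; exact hj
    · intro hk
      refine ⟨hsub hk, k, hk, ?_⟩
      rw [hbi, hci k hk]
  rw [hcj] at hpv
  have hv' : v = Δ.δ x c * cs.simple i := by
    rw [hvb, hbi, mul_assoc, cs.simple_mul_simple_self, mul_one]
  refine ⟨hiJ, hσi, hci, htriv, e, ⟨?_, hue, by rw [he]; exact hpv, by rw [he]; exact hφv⟩,
    by rw [he, hv'], by rw [he', hbi]⟩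
  refine Tw.gd_transfer' hx hpv he hφv hgc.1 hTst (Set.subset_insert i J) hv ?_
  have h1 : c ∈ Δ.Res (insert i J) e := by rw [mem_Res, he']; exact hb
  have h2 : t.θ c ∈ Δ.Res (insert i J) c := Δ.Res_mono (Set.subset_insert i J) c hgc.θ_mem
  have h3 := t.θ_mem_Res hTst (Δ.mem_Res_symm h1)
  exact Δ.mem_Res_trans (Δ.mem_Res_trans h1 h2) h3

/-- An element of the centraliser which stabilises one good residue fixed by `P` stabilises all. -/
theorem fix_walk [Finite G] [Finite C] [hp : Fact p.Prime] (hp2 : p ≠ 2) (hth : Δ.Thick)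
    {J : Set I} {x c : C} (hx : t.Gd J x) (hc : c ∈ AA S t J x) {h : G} (hh : h ∈ t.cent)
    (hhc : h • c ∈ Δ.Res J c) : h • x ∈ Δ.Res J x := by
  induction hn : ℓ (Δ.δ x c) using Nat.strong_induction_on generalizing c with
  | _ n ih =>
    by_cases h1 : Δ.δ x c = 1
    · rw [Δ.eq_of_δ_eq_one h1]; exact hhc
    obtain ⟨i, hi⟩ := cs.exists_rightDescent_of_ne_one h1
    have hi' : ℓ (Δ.δ x c * cs.simple i) < ℓ (Δ.δ x c) := hi
    obtain ⟨hiJ, hσi, hci, htriv, e, he, hxe, hec⟩ := step S hp2 hth hx hc hi'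
    refine ih _ (by rw [← hn, hxe]; exact hi') he ?_ rfl
    have hP : t.P S (Δ.Res J x) = t.P S (Δ.Res J c) := P_eq S hp2 hth hx hc.1 hc.2.1
    have hce : Δ.δ c e = cs.simple i := Δ.δ_symm_simple hec
    have hem : e ∈ Δ.Res (insert i J) c := by
      rw [mem_Res, hce]; exact simple_mem_WJ cs (Set.mem_insert i J)
    have hem' : e ∉ Δ.Res J c := by
      intro h2
      rw [mem_Res, hce] at h2
      exact hiJ (Cox.mem_of_simple_mem h2)
    have hhem : h • e ∈ Δ.Res (insert i J) c := by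
      have h2 := S.smul_mem_Res (g := h) hem
      rwa [Δ.Res_eq_of_mem (Δ.Res_mono (Set.subset_insert i J) c hhc)] at h2
    have hhem' : h • e ∉ Δ.Res J c := by
      intro h2
      rw [← Δ.Res_eq_of_mem hhc] at h2
      apply hem'
      have h3 := S.smul_mem_Res (g := h⁻¹) h2
      rwa [inv_smul_smul, inv_smul_smul] at h3
    refine two_classes S hp2 hth (le_refl J) hiJ hc.1.1 hσi hci hc.1
      (by rw [← hP]; exact htriv) hem he.1.θ_mem hem' hhem (Tw.gd_smul S he.1 hh).θ_mem hhem'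

end Building

end ExpTwo

end Cfsg.Agent.FixBN
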