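import Mathlib
import Cfsg.Agent.FixBN.ExpTwoA
/-!
THEOREM FIX, part T3 (exponent two), second part: the thin residues and the Euler characteristic.
-/

set_option autoImplicit false
set_option linter.unusedSectionVars false

open scoped Pointwise

namespace Cfsg.Agent.FixBN

open Cfsg.Agent.Tits.Core Cfsg.Agent.Tits.Core.Bldg Cfsg.Agent.Tits.Exchange Cfsg.Agent.Tits
open Cfsg.Agent.FixBN.Cox

variable {I : Type*} {M : CoxeterMatrix I} {W : Type*} [Group W] {cs : CoxeterSystem M W} {C : Type*}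

local prefix:100 "ℓ" => cs.length

namespace ExpTwo

variable {Δ : Bldg cs C} {G : Type*} [Group G] [MulAction G C] {p : ℕ} (S : Sys Δ G p) {t : Tw Δ G}
variable [F : OppRes.Cox cs] [Finite G] [Finite C] [hp : Fact p.Prime]

/-- the representatives whose set of descents contains `K`. -/
def AK (S : Sys Δ G p) (t : Tw Δ G) (J : Set I) (x : C) (K : Set I) : Set C :=
  {c | c ∈ AA S t J x ∧ ∀ i ∈ K, ℓ (Δ.δ x c * cs.simple i) < ℓ (Δ.δ x c)}

include S

/-- `T = J ∪ K` for a set `K` of descents of the representative `c`: the residue is thin, and the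
position of `c` with respect to the projection `q` of `x`. -/
theorem thinD (hp2 : p ≠ 2) (hth : Δ.Thick) {J K : Set I} {x c : C} (hx : t.Gd J x)
    (hc : c ∈ AK S t J x K) :
    t.Stab (J ∪ K) ∧ (∀ u ∈ t.P S (Δ.Res J x), ∀ z ∈ Δ.Res (J ∪ K) c, u • z = z) ∧
      ∃ v, IsMinR cs (J ∪ K) v ∧ Δ.δ x c = v * (wJ cs (J ∪ K) * wJ cs J) := by
  obtain ⟨hcA, hK⟩ := hc
  have hgc := hcA.1
  have hfix := hcA.2.1
  have hpar := hcA.2.2.1
  have hst : t.Stab (J ∪ K) := by
    rintro k (hk | hk)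
    · left; exact hx.1 k hk
    · right
      obtain ⟨_, h1, _⟩ := step S hp2 hth hx hcA (hK k hk)
      rw [h1]; exact hk
  obtain ⟨v, hv, b, hb, hvb⟩ := exists_isMinR cs (J ∪ K) (Δ.δ x c)
  have hl := hv b hb
  have hbJ : ∀ a ∈ WJ cs J, ℓ (b * a) = ℓ b + ℓ a := by
    intro a ha
    have h1 := hpar.minR a ha
    have h2 := hv _ (mul_mem hb (WJ_mono cs Set.subset_union_left ha))
    rw [← mul_assoc, ← hvb] at h2
    rw [← hvb] at hl
    omega
  have hbw : b * wJ cs J = wJ cs (J ∪ K) := by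
    refine F.eq_wJ_of_descents (mul_mem hb (WJ_mono cs Set.subset_union_left (F.wJ_mem J)))
      fun k hk => ?_
    rcases hk with hk | hk
    · have h1 := hbJ _ (mul_mem (F.wJ_mem J) (simple_mem_WJ cs hk))
      have h2 := hbJ _ (F.wJ_mem J)
      have h3 := F.len_wJ_mul (simple_mem_WJ cs hk)
      rw [cs.length_simple] at h3
      rw [mul_assoc]
      omega
    · obtain ⟨_, _, h1, _⟩ := step S hp2 hth hx hcA (hK k hk)
      have h2 : wJ cs J * cs.simple k = cs.simple k * wJ cs J :=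
        (commute_of_mem_WJ h1 (F.wJ_mem J)).symm
      have h3 := hv _ (mul_mem hb (simple_mem_WJ cs (Set.mem_union_right J hk)))
      have h4 := hK k hk
      rw [← mul_assoc, ← hvb] at h3
      rw [← hvb] at hl
      have h5 := cs.length_mul_le (b * cs.simple k) (wJ cs J)
      have h6 := hbJ _ (F.wJ_mem J)
      rw [mul_assoc, h2, ← mul_assoc]
      omega
  have hb' : b = wJ cs (J ∪ K) * wJ cs J := by
    rw [← hbw, mul_assoc, F.wJ_mul_self, mul_one]
  refine ⟨hst, fun u hu => ?_, v, hv, by rw [hvb, hb']⟩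
  obtain ⟨q, hq, hq'⟩ := Δ.exists_between hvb hl
  have hux : u • x = x := S.fix x u (hu.2 x (Δ.self_mem_Res J x))
  have huq : u • q = q := by
    refine Δ.between_unique hl (x := x) (z := c) ?_ ?_ hq hq'
    · rw [← hq, ← S.iso u x q, hux]
    · rw [← hq', ← S.iso u q c, hfix u hu]
  have hP : t.P S (Δ.Res J x) = t.P S (Δ.Res J c) := P_eq S hp2 hth hx hgc hfix
  obtain ⟨c', hc'⟩ := Δ.exists_δ c (wJ cs J)
  have hc'm : c' ∈ Δ.Res J c := by rw [mem_Res, hc']; exact F.wJ_mem J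
  have huc' : u • c' = c' := by
    rw [hP] at hu
    exact S.fix c' u (hu.2 c' hc'm)
  have h1 : Δ.δ q c' = wJ cs (J ∪ K) := by
    rw [← hbw]
    exact Δ.δ_mul_of hq' hc' (hbJ _ (F.wJ_mem J))
  have h2 := S.fixRes hth (S.mem_U_of_fix (hu.2 x (Δ.self_mem_Res J x)) huq) h1 huc'
  intro z hz
  refine h2 z ?_
  have h3 : c ∈ Δ.Res (J ∪ K) q := by rw [mem_Res, hq']; exact hb
  rwa [← Δ.Res_eq_of_mem h3]

theorem thin_comm' (hp2 : p ≠ 2) (hth : Δ.Thick) {J K : Set I} {x c : C} (hx : t.Gd J x)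
    (hc : c ∈ AK S t J x K) :
    (∀ i ∈ J ∪ K, ∀ j ∈ J ∪ K, cs.simple i * cs.simple j = cs.simple j * cs.simple i) ∧
      ∀ i ∈ J ∪ K, t.σ i = i := by
  obtain ⟨hst, htriv, _⟩ := thinD S hp2 hth hx hc
  have hP : t.P S (Δ.Res J x) = t.P S (Δ.Res J c) := P_eq S hp2 hth hx hc.1.1 hc.1.2.1
  refine S.thin hp2 hth hc.1.1 hst Set.subset_union_left fun u hu hut => htriv u ?_
  rw [hP]
  exact ⟨hut, hu⟩

/-- two representatives with descents in `K` in the same residue of type `J ∪ K` are equal. -/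
theorem AK_inj (hp2 : p ≠ 2) (hth : Δ.Thick) {J K : Set I} {x c c' : C} (hx : t.Gd J x)
    (hc : c ∈ AK S t J x K) (hc' : c' ∈ AK S t J x K) (h : c' ∈ Δ.Res (J ∪ K) c) : c' = c := by
  obtain ⟨hst, htriv, v, hv, hxc⟩ := thinD S hp2 hth hx hc
  obtain ⟨_, _, v', hv', hxc'⟩ := thinD S hp2 hth hx hc'
  obtain ⟨hcomm, hσ⟩ := thin_comm' S hp2 hth hx hc
  have hbT : wJ cs (J ∪ K) * wJ cs J ∈ WJ cs (J ∪ K) :=
    mul_mem (F.wJ_mem _) (WJ_mono cs Set.subset_union_left (F.wJ_mem J))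
  -- the same position
  have hvv : v' = v := by
    obtain ⟨a, ha, he⟩ := Δ.exists_mul_of_mem (J := J ∪ K) x h
    refine hv.unique cs hv' (u := wJ cs (J ∪ K) * wJ cs J * a * (wJ cs (J ∪ K) * wJ cs J)⁻¹)
      (mul_mem (mul_mem hbT ha) (inv_mem hbT)) ?_
    have h1 : v' * (wJ cs (J ∪ K) * wJ cs J) = v * (wJ cs (J ∪ K) * wJ cs J) * a := by
      rw [← hxc', he, hxc]
    calc v' = v' * (wJ cs (J ∪ K) * wJ cs J) * (wJ cs (J ∪ K) * wJ cs J)⁻¹ := by group
      _ = _ := by rw [h1]; group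
  have hsame : Δ.δ x c' = Δ.δ x c := by rw [hxc, hxc', hvv]
  -- `c'` is in all the residues of type `J ∪ (K \ {i})`
  have hall : ∀ i ∈ K, c' ∈ Δ.Res (J ∪ (K \ {i})) c := by
    intro i hi
    obtain ⟨hiJ, hσi, hci, -, e, he, hxe, hec⟩ := step S hp2 hth hx hc.1 (hc.2 i hi)
    set L : Set I := J ∪ (K \ {i}) with hL
    have hiL : i ∉ L := by
      rintro (h1 | h1)
      · exact hiJ h1
      · exact h1.2 rfl
    have hTL : insert i L = J ∪ K := by
      ext k
      simp only [hL, Set.mem_insert_iff, Set.mem_union, Set.mem_diff, Set.mem_singleton_iff]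
      constructor
      · rintro (rfl | h1 | h1)
        · right; exact hi
        · left; exact h1
        · right; exact h1.1
      · rintro (h1 | h1)
        · right; left; exact h1
        · by_cases hk : k = i
          · left; exact hk
          · right; right; exact ⟨h1, hk⟩
    have hLT : L ⊆ J ∪ K := by rw [← hTL]; exact Set.subset_insert i L
    have hLst : t.Stab L := fun k hk => by rw [hσ k (hLT hk)]; exact hk
    have hiT : i ∈ J ∪ K := Or.inr hi
    have hcL : ∀ j ∈ L, cs.simple i * cs.simple j = cs.simple j * cs.simple i :=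
      fun j hj => hcomm i hiT j (hLT hj)
    have hJL : J ⊆ L := Set.subset_union_left
    have hcT : c ∈ Δ.Res (insert i L) e := by
      rw [mem_Res, hec]; exact simple_mem_WJ cs (Set.mem_insert i L)
    have hc'T : c' ∈ Δ.Res (insert i L) e := by
      refine Δ.mem_Res_trans hcT ?_
      rw [hTL]; exact h
    have hRes : Δ.Res (insert i L) e = Δ.Res (J ∪ K) c := by
      rw [← hTL, Δ.Res_eq_of_mem hcT]
    have hPe : t.P S (Δ.Res J x) = t.P S (Δ.Res J e) := P_eq S hp2 hth hx he.1 he.2.1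
    refine two_classes S hp2 hth hJL hiL hLst hσi hcL he.1 (by rw [hRes, ← hPe]; exact htriv)
      hcT (Δ.Res_mono hJL c hc.1.1.θ_mem) ?_ hc'T (Δ.Res_mono hJL c' hc'.1.1.θ_mem) ?_
    · intro h1
      rw [mem_Res, hec] at h1
      exact hiL (Cox.mem_of_simple_mem h1)
    · intro h1
      -- `δ x c' ∈ δ x e W_L`
      obtain ⟨a, ha, he'⟩ := Δ.exists_mul_of_mem (J := L) x h1
      rw [hsame, hxe, mul_assoc] at he'
      have h2 : cs.simple i * a = 1 := by
        have := congrArg (fun z => (Δ.δ x c)⁻¹ * z) he'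
        simpa using this.symm
      have h3 : cs.simple i = a⁻¹ := mul_eq_one_iff_eq_inv.1 h2
      exact hiL (Cox.mem_of_simple_mem (h3 ▸ inv_mem ha))
  have hJ : c' ∈ Δ.Res J c := mem_WJ_of_all h hall
  exact eq_of_isMinR hc.1.2.2.1.minR rfl hsame hJ

/-- Existence of representatives with all descents in `K`. -/
theorem exists_AK (hp2 : p ≠ 2) (hth : Δ.Thick) {J K : Set I} {x y : C} (hx : t.Gd J x)
    (hy : t.Gd J y) (hfix : ∀ u ∈ t.P S (Δ.Res J x), u • y = y)
    (hcomm : ∀ i ∈ J ∪ K, ∀ j ∈ J ∪ K, cs.simple i * cs.simple j = cs.simple j * cs.simple i)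
    (hσ : ∀ i ∈ J ∪ K, t.σ i = i) (hJK : ∀ i ∈ K, i ∉ J)
    (htriv : ∀ u ∈ t.P S (Δ.Res J x), ∀ z ∈ Δ.Res (J ∪ K) y, u • z = z) :
    ∃ c ∈ AK S t J x K, c ∈ Δ.Res (J ∪ K) y := by
  classical
  -- choose a representative at maximal distance from `x`
  obtain ⟨c0, hc0, hc0y⟩ := exists_AA S hx hy hfix hth
  have hfin : {c | c ∈ AA S t J x ∧ c ∈ Δ.Res (J ∪ K) y}.Finite := Set.toFinite _
  obtain ⟨c, ⟨hc, hcy⟩, hmax⟩ := hfin.exists_maximalFor (fun c => ℓ (Δ.δ x c)) _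
    ⟨c0, hc0, Δ.Res_mono Set.subset_union_left y hc0y⟩
  refine ⟨c, ⟨hc, fun i hi => ?_⟩, hcy⟩
  by_contra hlt
  have hiT : i ∈ J ∪ K := Or.inr hi
  have hgt : ℓ (Δ.δ x c) < ℓ (Δ.δ x c * cs.simple i) := by
    have := cs.length_mul_simple_ne (Δ.δ x c) i
    omega
  have hci : ∀ j ∈ J, cs.simple i * cs.simple j = cs.simple j * cs.simple i :=
    fun j hj => hcomm i hiT j (Or.inl hj)
  have had := ad_insert (cs := cs) t.φ_simple (hJK i hi) hx.1 (hσ i hiT) hci
  obtain ⟨z, hz, hgz⟩ := Thin.exists_opp_gd S hp2 hth had hc.1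
  have hxz : Δ.δ x z = Δ.δ x c * cs.simple i := Δ.step_lt x c z i hz hgt
  have hminR : IsMinR cs (insert i J) (Δ.δ x c) := by
    rw [isMinR_iff]
    rintro k (rfl | hk)
    · exact hgt
    · rw [hc.2.2.1.minR _ (simple_mem_WJ cs hk), cs.length_simple]
      exact Nat.lt_succ_self _
  have hne : ∀ j ∈ J, j ≠ i := fun j hj h => hJK i hi (h ▸ hj)
  have hl2 : ∀ j ∈ J, ℓ (Δ.δ x c * cs.simple i * cs.simple j) = ℓ (Δ.δ x c) + 2 := by
    intro j hj
    have h1 := hminR (cs.simple i * cs.simple j) (mul_mem (simple_mem_WJ cs (Set.mem_insert i J))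
      (simple_mem_WJ cs (Set.mem_insert_of_mem i hj)))
    have h2 : ℓ (cs.simple i * cs.simple j) = 2 := by
      rw [Thin.length_mul_simple_of_notMem (J := {i}) (simple_mem_WJ cs rfl) (hne j hj),
        cs.length_simple]
    rw [← mul_assoc, h2] at h1
    exact h1
  have hl1 : ℓ (Δ.δ x c * cs.simple i) = ℓ (Δ.δ x c) + 1 := by
    have := cs.length_mul_simple (Δ.δ x c) i
    omega
  have hpar : Par cs J J (Δ.δ x z) := by
    rw [hxz]
    have hfwd : ∀ j ∈ J, ∃ k ∈ J, Δ.δ x c * cs.simple i * cs.simple j =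
        cs.simple k * (Δ.δ x c * cs.simple i) := by
      intro j hj
      obtain ⟨k, hk, he⟩ := hc.2.2.1.fwd j hj
      refine ⟨k, hk, ?_⟩
      rw [mul_assoc, hci j hj, ← mul_assoc, he, mul_assoc]
    have hbwd : ∀ k ∈ J, ∃ j ∈ J, cs.simple k * (Δ.δ x c * cs.simple i) =
        Δ.δ x c * cs.simple i * cs.simple j := by
      intro k hk
      obtain ⟨j, hj, he⟩ := hc.2.2.1.bwd k hk
      refine ⟨j, hj, ?_⟩
      rw [← mul_assoc, he, mul_assoc, ← hci j hj, ← mul_assoc]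
    refine ⟨hfwd, hbwd, ?_, ?_⟩
    · rw [isMinL_iff]
      intro k hk
      obtain ⟨j, hj, he⟩ := hbwd k hk
      rw [he, hl2 j hj, hl1]
      omega
    · rw [isMinR_iff]
      intro j hj
      rw [hl2 j hj, hl1]
      omega
  have hzy : z ∈ Δ.Res (J ∪ K) y := by
    refine Δ.mem_Res_trans hcy ?_
    rw [mem_Res, hz]
    exact simple_mem_WJ cs hiT
  have hzA : z ∈ AA S t J x := by
    refine ⟨hgz, fun u hu => htriv u hu z hzy, hpar, ?_⟩
    rw [hxz, map_mul, hc.2.2.2, t.φ_simple, hσ i hiT]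
  have h1 := hmax (show z ∈ {c | c ∈ AA S t J x ∧ c ∈ Δ.Res (J ∪ K) y} from ⟨hzA, hzy⟩)
    (by
      change ℓ (Δ.δ x c) ≤ ℓ (Δ.δ x z)
      rw [hxz]; exact hgt.le)
  change ℓ (Δ.δ x z) ≤ ℓ (Δ.δ x c) at h1
  rw [hxz] at h1
  omega

end ExpTwo

end Cfsg.Agent.FixBN
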