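import Cfsg.Agent.FixBN.GoodOne
import Cfsg.Agent.FixBN.OfBN

/-!
# Panels over a field

* `FieldNode P U s V F` : the node `s` of a split (B, N)-pair is parametrised by the field `F`: the root group is
  `{x a : a ∈ F}` and `s x(a) s ∈ x(-1/a) s B`;
* `FieldNode.goodFam` : then every panel of type `s` of the building is the projective line over `F`, and the family of
  root groups on it is `lineFam F`; hence `GoodFam` for the panel follows from `GoodFam (lineFam F)`.
-/

set_option autoImplicit false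

namespace Cfsg.Agent.FixBN

/-! ### An abstract criterion -/

theorem goodFam_of_model {G C : Type*} [Group G] [MulAction G C] {F : Type*} [Field F] (U : C → Subgroup G)
    (hU : ∀ (g : G) (x : C), ∀ u ∈ U x, g * u * g⁻¹ ∈ U (g • x)) {Q : Set C} (φ : Option F ≃ Q) (xx : F → G) (s : G)
    (hx : ∀ a z, xx a • (φ z : C) = φ (tr a z)) (hs : ∀ z, s • (φ z : C) = φ (ni z))
    (hxU : ∀ a, xx a ∈ U (φ none)) (hUx : ∀ u ∈ U (φ none), ∃ a, ∀ z, u • (φ z : C) = φ (tr a z))
    (hF : GoodFam (lineFam F)) {fam : Q → Subgroup (Equiv.Perm Q)}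
    (hfam : ∀ y g, g ∈ fam y ↔ ∃ u ∈ U y, ∀ z, (g z : C) = u • (z : C)) : GoodFam fam := by
  refine hF.map φ ?_
  -- the element of `G` acting as `toPt y`
  have hk : ∀ y : Option F, ∃ k : G, ∀ z, k • (φ z : C) = φ (toPt y z) := by
    rintro (_ | t)
    · exact ⟨1, fun z => by rw [one_smul]; rfl⟩
    · refine ⟨xx t * s, fun z => ?_⟩
      rw [mul_smul, hs, hx]
      rfl
  intro y g
  obtain ⟨k, hk⟩ := hk y
  have hky : k • (φ none : C) = φ y := by rw [hk, toPt_apply]
  have hk' : ∀ z, k⁻¹ • (φ z : C) = φ ((toPt y)⁻¹ z) := by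
    intro z
    rw [inv_smul_eq_iff, hk]
    congr 2
    exact ((toPt y).apply_symm_apply z).symm
  rw [hfam, mem_lineFam]
  constructor
  · rintro ⟨a, rfl⟩
    refine ⟨k * xx a * k⁻¹, ?_, ?_⟩
    · rw [← hky]
      exact hU k _ _ (hxU a)
    · intro z
      obtain ⟨z, rfl⟩ := φ.surjective z
      rw [mul_smul, mul_smul, hk', hx, hk]
      congr 1
      show φ ((toPt y * tr a * (toPt y)⁻¹) (φ.symm (φ z))) = _
      rw [φ.symm_apply_apply]
      rfl
  · rintro ⟨u, hu, h⟩
    have hv : k⁻¹ * u * k ∈ U (φ none) := by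
      have h1 := hU k⁻¹ _ u hu
      rwa [inv_inv, ← hky, inv_smul_smul] at h1
    obtain ⟨a, ha⟩ := hUx _ hv
    refine ⟨a, ?_⟩
    apply Equiv.ext
    intro z
    apply φ.injective
    apply Subtype.ext
    have h1 := h (φ z)
    have h2 : φ.permCongr g (φ z) = φ (g z) := by
      show φ (g (φ.symm (φ z))) = _
      rw [φ.symm_apply_apply]
    rw [h2] at h1
    rw [h1]
    have h3 : u = k * (k⁻¹ * u * k) * k⁻¹ := by group
    rw [h3, mul_smul, mul_smul, hk', ha, hk]
    rfl

/-! ### Nodes over a field -/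

/-- The node `s` of a split (B, N)-pair is parametrised by the field `F`. -/
structure FieldNode {K : Type*} [Group K] (P : Cfsg.BNPair K) (U : Subgroup K) (s : K) (V : Subgroup K) (F : Type*)
    [Field F] where
  x : F → K
  add : ∀ a b, x (a + b) = x a * x b
  mem : ∀ a, x a ∈ U
  cover : ∀ u ∈ U, ∃ a, (x a)⁻¹ * u ∈ V
  ne : ∀ a, x a ∈ V → a = 0
  inv : ∀ a, a ≠ 0 → (x (-a⁻¹) * s)⁻¹ * (s * x a * s) ∈ P.B

namespace FieldNode

open Cfsg Cfsg.Agent.LieExceptional.BNPairCore Cfsg.Agent.Tits.Core Cfsg.Agent.Tits.Core.Bldg Cfsg.Agent.Tits.OfBN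
  Cfsg.Agent.Schreier.BNSch Cfsg.Agent.FixBN.OfBN

variable {K : Type*} [Group K] {P : Cfsg.BNPair K} {U V : Subgroup K} {s : K} {F : Type*} [Field F]
  (N : FieldNode P U s V F)

theorem x_zero : N.x 0 = 1 := by
  have h := N.add 0 0
  rw [add_zero] at h
  exact left_eq_mul.1 h

theorem x_neg (a : F) : N.x (-a) = (N.x a)⁻¹ := by
  have h := N.add a (-a)
  rw [add_neg_cancel, N.x_zero] at h
  exact (inv_eq_of_mul_eq_one_right h.symm).symm

variable [hN : ((P.B ⊓ P.N).subgroupOf P.N).Normal] {p : ℕ} (S : Split P p U)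
variable {I : Type*} {M : CoxeterMatrix I} (e : I ≃ P.S) (cs : CoxeterSystem M (WP P))
  (hcs : ∀ i, cs.simple i = QuotientGroup.mk (⟨(e i : K), P.subset (e i).2⟩ : P.N)) (i : I)

/-- The chamber `x` has the neighbours `g x(a) s B`. -/
theorem mem_Pan_iff (S : Split P p U) (Nd : Node P U (e i : K) V) (N : FieldNode P U (e i : K) V F) (g : K)
    (z : K ⧸ P.B) :
    z ∈ (bldg P e cs hcs).Pan i (QuotientGroup.mk g) ↔
      z = QuotientGroup.mk g ∨ ∃ a : F, z = QuotientGroup.mk (g * N.x a * (e i : K)) := by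
  show (z = QuotientGroup.mk g ∨ (bldg P e cs hcs).δ (QuotientGroup.mk g) z = cs.simple i) ↔ _
  refine or_congr Iff.rfl ?_
  induction z using QuotientGroup.induction_on with
  | _ b =>
  rw [bldg_δ_mk, hcs]
  constructor
  · intro h
    obtain ⟨b₁, hb₁, b₂, hb₂, h1⟩ := mem_C.1 (mem_C_of_wt P h)
    obtain ⟨u, hu, t, ht, rfl⟩ := S.cover' hb₁
    obtain ⟨a, ha⟩ := N.cover u hu
    refine ⟨a, ?_⟩
    rw [mk_eq]
    have h2 : b = g * (u * t * (e i : K) * b₂) := by rw [← h1]; group
    have h3 : b⁻¹ * (g * N.x a * (e i : K)) =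
        b₂⁻¹ * ((e i : K)⁻¹ * t * (e i : K))⁻¹ * ((e i : K)⁻¹ * ((N.x a)⁻¹ * u) * (e i : K))⁻¹ := by
      rw [h2]; group
    rw [h3]
    refine mul_mem (mul_mem (inv_mem hb₂) (inv_mem ?_)) (inv_mem ?_)
    · have := P.conj_mem (e i : K)⁻¹ (inv_mem (P.subset (e i).2)) _ ht
      rwa [inv_inv] at this
    · exact S.le (Nd.le (Nd.conj_s _ ha))
  · rintro ⟨a, ha⟩
    rw [mk_eq] at ha
    apply wt_of_mem P
    have h1 : g⁻¹ * b = N.x a * (e i : K) * (b⁻¹ * (g * N.x a * (e i : K)))⁻¹ := by group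
    rw [h1]
    exact mul_mem_C_right (inv_mem ha) (mul_mem_C_left (S.le (N.mem a)) (self_mem_C _))

/-- The parametrisation of the panel by the projective line. -/
noncomputable def par (S : Split P p U) (Nd : Node P U (e i : K) V) (N : FieldNode P U (e i : K) V F) (g : K) :
    Option F ≃ (bldg P e cs hcs).Pan i (QuotientGroup.mk g) :=
  Equiv.ofBijective
    (fun z => match z with
      | none => ⟨QuotientGroup.mk g, Or.inl rfl⟩
      | some a => ⟨QuotientGroup.mk (g * N.x a * (e i : K)), (mem_Pan_iff e cs hcs i S Nd N g _).2 (Or.inr ⟨a, rfl⟩)⟩)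
    (by
      have hns : (e i : K) ∉ P.B := not_mem_B P (e i).2
      have h0 : ∀ a : F, (QuotientGroup.mk g : K ⧸ P.B) ≠ QuotientGroup.mk (g * N.x a * (e i : K)) := by
        intro a h
        rw [mk_eq] at h
        apply hns
        have h1 : (e i : K) = (N.x a)⁻¹ * (g⁻¹ * (g * N.x a * (e i : K))) := by group
        rw [h1]
        exact mul_mem (inv_mem (S.le (N.mem a))) h
      constructor
      · rintro (_ | a) (_ | b) h
        · rfl
        · exact absurd (congrArg Subtype.val h) (h0 b)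
        · exact absurd (congrArg Subtype.val h).symm (h0 a)
        · have h1 : (QuotientGroup.mk (g * N.x a * (e i : K)) : K ⧸ P.B) = QuotientGroup.mk (g * N.x b * (e i : K)) :=
            congrArg Subtype.val h
          rw [mk_eq] at h1
          have h2 : (g * N.x a * (e i : K))⁻¹ * (g * N.x b * (e i : K)) = (e i : K)⁻¹ * N.x (-a + b) * (e i : K) := by
            rw [N.add, N.x_neg]; group
          rw [h2] at h1
          have h3 := N.ne _ (Nd.stab _ (N.mem _) h1)
          congr 1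
          linear_combination -h3
      · rintro ⟨z, hz⟩
        rcases (mem_Pan_iff e cs hcs i S Nd N g z).1 hz with rfl | ⟨a, rfl⟩
        · exact ⟨none, rfl⟩
        · exact ⟨some a, rfl⟩)

theorem par_none (Nd : Node P U (e i : K) V) (N : FieldNode P U (e i : K) V F) (g : K) :
    (par e cs hcs i S Nd N g none : K ⧸ P.B) = QuotientGroup.mk g := rfl

theorem par_some (Nd : Node P U (e i : K) V) (N : FieldNode P U (e i : K) V F) (g : K) (a : F) :
    (par e cs hcs i S Nd N g (some a) : K ⧸ P.B) = QuotientGroup.mk (g * N.x a * (e i : K)) := rfl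

include S in
/-- The panel is the projective line, and the root groups are those of the line. -/
theorem goodFam_mk (Nd : Node P U (e i : K) V) (N : FieldNode P U (e i : K) V F) (hF : GoodFam (lineFam F)) (g : K)
    {fam : (bldg P e cs hcs).Pan i (QuotientGroup.mk g) →
      Subgroup (Equiv.Perm ((bldg P e cs hcs).Pan i (QuotientGroup.mk g)))}
    (hfam : ∀ y f, f ∈ fam y ↔ ∃ u ∈ UU P U (y : K ⧸ P.B), ∀ z, (f z : K ⧸ P.B) = u • (z : K ⧸ P.B)) :
    GoodFam fam := by
  have hBx : ∀ a, N.x a ∈ P.B := fun a => S.le (N.mem a)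
  -- the action of `V`
  have hV : ∀ v ∈ V, ∀ a : F, (QuotientGroup.mk (g * v * N.x a * (e i : K)) : K ⧸ P.B) =
      QuotientGroup.mk (g * N.x a * (e i : K)) := by
    intro v hv a
    rw [mk_eq]
    have h1 : (g * v * N.x a * (e i : K))⁻¹ * (g * N.x a * (e i : K)) =
        ((e i : K)⁻¹ * ((N.x a)⁻¹ * v * (N.x a)⁻¹⁻¹) * (e i : K))⁻¹ := by group
    rw [h1]
    exact inv_mem (S.le (Nd.le (Nd.conj_s _ (Nd.conj_B _ (inv_mem (hBx a)) _ hv))))
  have hxact : ∀ a z, (g * N.x a * g⁻¹) • (par e cs hcs i S Nd N g z : K ⧸ P.B) =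
      par e cs hcs i S Nd N g (tr a z) := by
    rintro a (_ | t)
    · rw [tr_none, par_none, smul_mk, mk_eq]
      have h1 : (g * N.x a * g⁻¹ * g)⁻¹ * g = (N.x a)⁻¹ := by group
      rw [h1]
      exact inv_mem (hBx a)
    · rw [tr_some, par_some, par_some, smul_mk, add_comm t a, N.add]
      congr 1
      group
  refine goodFam_of_model (UU P U) (fun g x u hu => (smul_UU S).2 hu) (par e cs hcs i S Nd N g)
    (fun a => g * N.x a * g⁻¹) (g * (e i : K) * g⁻¹) hxact ?_ ?_ ?_ hF hfam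
  · rintro (_ | t)
    · rw [ni_none, par_none, par_some, smul_mk, N.x_zero]
      congr 1
      group
    · by_cases ht : t = 0
      · subst ht
        rw [ni_zero, par_none, par_some, smul_mk, mk_eq, N.x_zero]
        have h1 : (g * (e i : K) * g⁻¹ * (g * 1 * (e i : K)))⁻¹ * g = ((e i : K) * (e i : K))⁻¹ := by group
        rw [h1]
        exact inv_mem (P.sq_mem _ (e i).2)
      · rw [ni_some ht, par_some, par_some, smul_mk, mk_eq]
        have h1 : (g * (e i : K) * g⁻¹ * (g * N.x t * (e i : K)))⁻¹ * (g * N.x (-t⁻¹) * (e i : K)) =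
            ((N.x (-t⁻¹) * (e i : K))⁻¹ * ((e i : K) * N.x t * (e i : K)))⁻¹ := by group
        rw [h1]
        exact inv_mem (N.inv t ht)
  · intro a
    rw [par_none, mem_UU S]
    have h1 : g⁻¹ * (g * N.x a * g⁻¹) * g = N.x a := by group
    rw [h1]
    exact N.mem a
  · intro u hu
    rw [par_none, mem_UU S] at hu
    obtain ⟨a, ha⟩ := N.cover _ hu
    refine ⟨a, fun z => ?_⟩
    have h1 : u = (g * N.x a * g⁻¹) * (g * ((N.x a)⁻¹ * (g⁻¹ * u * g)) * g⁻¹) := by group
    have h2 : (g * ((N.x a)⁻¹ * (g⁻¹ * u * g)) * g⁻¹) • (par e cs hcs i S Nd N g z : K ⧸ P.B) =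
        par e cs hcs i S Nd N g z := by
      rcases z with _ | t
      · rw [par_none, smul_mk_eq]
        have h3 : g⁻¹ * (g * ((N.x a)⁻¹ * (g⁻¹ * u * g)) * g⁻¹) * g = (N.x a)⁻¹ * (g⁻¹ * u * g) := by group
        rw [h3]
        exact S.le (Nd.le ha)
      · rw [par_some, smul_mk]
        have h3 : g * ((N.x a)⁻¹ * (g⁻¹ * u * g)) * g⁻¹ * (g * N.x t * (e i : K)) =
            g * ((N.x a)⁻¹ * (g⁻¹ * u * g)) * N.x t * (e i : K) := by group
        rw [h3]
        exact hV _ ha t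
    rw [h1, mul_smul, h2, hxact]

include S in
/-- **(R1) for a node over a field.** -/
theorem goodFam (Nd : Node P U (e i : K) V) (N : FieldNode P U (e i : K) V F) (hF : GoodFam (lineFam F))
    (x : K ⧸ P.B) {fam : (bldg P e cs hcs).Pan i x → Subgroup (Equiv.Perm ((bldg P e cs hcs).Pan i x))}
    (hfam : ∀ y f, f ∈ fam y ↔ ∃ u ∈ UU P U (y : K ⧸ P.B), ∀ z, (f z : K ⧸ P.B) = u • (z : K ⧸ P.B)) :
    GoodFam fam := by
  induction x using QuotientGroup.induction_on with
  | _ g => exact goodFam_mk S e cs hcs i Nd N hF g hfam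

end FieldNode

end Cfsg.Agent.FixBN
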