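import Cfsg.Agent.FixBN.NodeRGD
import Cfsg.Agent.FixBN.Split
import Cfsg.Agent.Tits.OfBN

/-!
Root group data give split (B,N)-pairs of characteristic `p`.
-/

set_option autoImplicit false
set_option linter.unusedSectionVars false

namespace Cfsg.Agent.FixBN.SplitRGD

open CoxeterSystem Cfsg.Agent.ChevalleyStructure.CoxeterGeom Cfsg.Agent.Tits.Roots Cfsg.Agent.Tits.Core
  Cfsg.Agent.Tits.RootComb Cfsg.Agent.Nodes.Comb Cfsg.Agent.Nodes.Reps Cfsg.Agent.Nodes.BNOf
open scoped commutatorElement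

variable {I W Y : Type*} [Fintype I] [DecidableEq I] [Group W] [Group Y] {M : CoxeterMatrix I}
  {cs : CoxeterSystem M W} {A : I → I → ℤ} {h : IsCartan M A} {p : ℕ} {T : Subgroup Y} {n : I → Y}
  {X : (I → ℤ) → Subgroup Y}

theorem split_of_rgd [Finite W] (hp : p.Prime) (R : RGD cs h p T n X) (hgen : RGD.B cs h T X ⊔ NN cs R.nsys = ⊤)
    (hcore : (RGD.B cs h T X).normalCore = ⊥) :
    Split (R.bnPair hgen) p (RGD.Sup X (RGD.Pos cs h)) where
  le := RGD.U_le_B
  norm := by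
    intro b hb u hu
    have h1 := mem_normalizer_iff_cj.1 (R.B_le_normalizer_U hb)
    have h2 : b * u * b⁻¹ ∈ cj b (RGD.Sup X (RGD.Pos cs h)) := conj_mem_cj.2 hu
    rwa [h1] at h2
  isP := R.isPGroup_Upos
  cover := by
    intro b hb
    obtain ⟨u, hu, hT⟩ := NodeRGD.cover R hb
    exact ⟨u, hu, ⟨1, rp_of_mem hT⟩⟩
  tor := by
    refine ⟨Nat.card T, ?_, ?_⟩
    · intro hdvd
      exact hp.one_lt.ne' (Nat.Coprime.eq_one_of_dvd R.tcop.symm hdvd)
    · intro t ht htN
      have h1 : t ∈ RGD.B cs h T X ⊓ NN cs R.nsys := ⟨ht, htN⟩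
      rw [R.B_inf_NN] at h1
      have h2 : (⟨t, h1⟩ : ↥T) ^ Nat.card T = 1 := pow_card_eq_one'
      have h3 := congrArg Subtype.val h2
      rwa [SubgroupClass.coe_pow] at h3
  node := by
    rintro _ ⟨i, rfl⟩
    exact ⟨_, NodeRGD.node R hgen i⟩
  core := hcore

/-- A simple group with root group data which generate it has a split (B,N)-pair. -/
theorem hasSplit_of_rgd [Finite W] [Nonempty I] [IsSimpleGroup Y] (hp : p.Prime) (R : RGD cs h p T n X)
    (hgen : RGD.B cs h T X ⊔ NN cs R.nsys = ⊤) : HasSplit p Y := by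
  obtain ⟨i⟩ := (inferInstance : Nonempty I)
  have hne : (R.bnPair hgen).S.Nonempty := ⟨n i, i, rfl⟩
  exact ⟨R.bnPair hgen, _, hne, split_of_rgd hp R hgen
    (Cfsg.Agent.Tits.OfBN.normalCore_eq_bot (R.bnPair hgen) hne)⟩

/-- Version with generation by the root groups. -/
theorem hasSplit_of_rgd_top [Finite W] [Nonempty I] [IsSimpleGroup Y] (hp : p.Prime) (R : RGD cs h p T n X)
    (hgen : (⨆ z : {x // IsRoot cs h x}, X z.1) = ⊤) : HasSplit p Y :=
  hasSplit_of_rgd hp R (NodeRGD.gen_of_top R hgen)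

end Cfsg.Agent.FixBN.SplitRGD
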