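import Cfsg.Agent.FixBN.GoodSplit
import Cfsg.Agent.FixBN.OfRGD
import Cfsg.Agent.FixBN.SplitRGD

/-!
# Good nodes from root group data

`R : RGD cs h p T n X`, the associated (B, N)-pair `R.bnPair hgen` with `U = Sup X Pos`, `V i = Sup X (PosNe i)`.

* `fieldNode_of_rgd` : a field parametrisation of `X (α_i)` with `n x(a) n ∈ x(-1/a) n B` gives `FieldNode`;
* `SLNode R i` : a homomorphism from `SL(2, F)` onto the rank one group; `SLNode.fieldNode`;
* `uNode_of_rgd` : the same for nodes of unitary type;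
* `goodSplit_of_rgd`, `hasGoodSplit_of_rgd` : the conclusion.
-/

set_option autoImplicit false
set_option linter.unusedSectionVars false

namespace Cfsg.Agent.FixBN.FieldRGD

open CoxeterSystem Cfsg.Agent.ChevalleyStructure.CoxeterGeom Cfsg.Agent.Tits.Roots Cfsg.Agent.Tits.Core
  Cfsg.Agent.Tits.RootComb Cfsg.Agent.Nodes.Comb Cfsg.Agent.Nodes.Reps Cfsg.Agent.Nodes.BNOf Cfsg.Agent.Nodes.BNOf.RGD
  Cfsg.Agent.Schreier.BNSch Cfsg.Agent.FixBN Cfsg.Agent.FixBN.U3Model Cfsg.Agent.FixBN.UNode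
open scoped MatrixGroups

variable {I W Y : Type*} [Fintype I] [DecidableEq I] [Group W] [Group Y] {M : CoxeterMatrix I}
variable {cs : CoxeterSystem M W} {A : I → I → ℤ} {h : IsCartan M A} {p : ℕ} {T : Subgroup Y} {n : I → Y}
  {X : (I → ℤ) → Subgroup Y} [Finite W]

/-! ### Intersection with `V` and the covering -/

theorem eq_one_of_mem_V (R : RGD cs h p T n X) (i : I) {y : Y} (hy : y ∈ X (sr i))
    (hV : y ∈ Sup X (PosNe cs h i)) : y = 1 := by
  have h1 : (n i)⁻¹ * y * n i ∈ X (-sr i) := by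
    have := R.conj_mem' (rp_simple cs R.nsys i) (isRoot_sr cs h i) hy
    rwa [inv_simple, rep_simple_sr] at this
  have h2 : (n i)⁻¹ * y * n i ∈ RGD.B cs h T X :=
    U_le_B (Sup_mono (S := PosNe cs h i) (S' := Pos cs h) (fun z hz => ⟨hz.1, hz.2.1⟩) (NodeRGD.conj_V_mem R i hV))
  have h3 : (n i)⁻¹ * y * n i = 1 := by
    by_contra hne
    exact NodeRGD.not_mem_B_of_neg R i h1 hne h2
  have h4 : y = n i * ((n i)⁻¹ * y * n i) * (n i)⁻¹ := by group
  rw [h4, h3]; group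

theorem exists_cover (R : RGD cs h p T n X) (i : I) {u : Y} (hu : u ∈ Sup X (Pos cs h)) :
    ∃ y ∈ X (sr i), y⁻¹ * u ∈ Sup X (PosNe cs h i) := by
  rw [R.Upos_eq i] at hu
  have h1 : u ∈ ((X (sr i) ⊔ Sup X (PosNe cs h i) : Subgroup Y) : Set Y) := hu
  rw [Subgroup.coe_mul_of_left_le_normalizer_right _ _ (R.X_le_normalizer_V i), Set.mem_mul] at h1
  obtain ⟨x, hx, v, hv, rfl⟩ := h1
  exact ⟨x, hx, by rw [inv_mul_cancel_left]; exact hv⟩

theorem mem_U {i : I} {y : Y} (hy : y ∈ X (sr i)) : y ∈ Sup X (Pos cs h) :=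
  le_Sup (S := Pos cs h) ⟨isRoot_sr cs h i, sr_nonneg i⟩ hy

/-! ### Nodes over fields -/

/-- A field parametrisation of the root group `X (α_i)`. -/
def fieldNode_of_rgd (R : RGD cs h p T n X) (hgen : RGD.B cs h T X ⊔ NN cs R.nsys = ⊤) (i : I) {F : Type*} [Field F]
    (x : F → Y) (add : ∀ a b, x (a + b) = x a * x b) (range : ∀ y, y ∈ X (sr i) ↔ ∃ a, x a = y)
    (inj : ∀ a, x a = 1 → a = 0)
    (hinv : ∀ a, a ≠ 0 → (x (-a⁻¹) * n i)⁻¹ * (n i * x a * n i) ∈ RGD.B cs h T X) :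
    FieldNode (R.bnPair hgen) (Sup X (Pos cs h)) (n i) (Sup X (PosNe cs h i)) F where
  x := x
  add := add
  mem a := mem_U ((range _).2 ⟨a, rfl⟩)
  cover u hu := by
    obtain ⟨y, hy, h1⟩ := exists_cover R i hu
    obtain ⟨a, rfl⟩ := (range y).1 hy
    exact ⟨a, h1⟩
  ne a ha := inj a (eq_one_of_mem_V R i ((range _).2 ⟨a, rfl⟩) ha)
  inv := hinv

/-- A parametrisation of the root group `X (α_i)` of unitary type. -/
def uNode_of_rgd (R : RGD cs h p T n X) (hgen : RGD.B cs h T X ⊔ NN cs R.nsys = ⊤) (i : I) {F : Type*} [Field F]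
    {σ : F →+* F} [Inv2 σ] (x : Pt σ → Y) (mul : ∀ a b, x (a * b) = x a * x b)
    (range : ∀ y, y ∈ X (sr i) ↔ ∃ a, x a = y) (inj : ∀ a, x a = 1 → a = 1)
    (hinv : ∀ a, a ≠ 1 → (x (J a) * n i)⁻¹ * (n i * x a * n i) ∈ RGD.B cs h T X) :
    UNode (R.bnPair hgen) (Sup X (Pos cs h)) (n i) (Sup X (PosNe cs h i)) σ where
  x := x
  mul := mul
  mem a := mem_U ((range _).2 ⟨a, rfl⟩)
  cover u hu := by
    obtain ⟨y, hy, h1⟩ := exists_cover R i hu
    obtain ⟨a, rfl⟩ := (range y).1 hy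
    exact ⟨a, h1⟩
  ne a ha := inj a (eq_one_of_mem_V R i ((range _).2 ⟨a, rfl⟩) ha)
  inv := hinv

/-! ### Homomorphisms from `SL(2, F)` -/

section SL

variable {F : Type*} [Field F]

/-- Upper unipotent matrices. -/
def uu (a : F) : SL(2, F) := ⟨!![1, a; 0, 1], by simp [Matrix.det_fin_two]⟩

/-- Lower unipotent matrices. -/
def vv (a : F) : SL(2, F) := ⟨!![1, 0; a, 1], by simp [Matrix.det_fin_two]⟩

/-- Diagonal matrices. -/
def dd (c : F) (hc : c ≠ 0) : SL(2, F) := ⟨!![c, 0; 0, c⁻¹], by simp [Matrix.det_fin_two, hc]⟩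

/-- Antidiagonal matrices. -/
def ww (b : F) (hb : b ≠ 0) : SL(2, F) := ⟨!![0, b; -b⁻¹, 0], by simp [Matrix.det_fin_two, hb]⟩

theorem uu_add (a b : F) : uu (a + b) = uu a * uu b := by
  apply Subtype.ext
  show !![1, a + b; 0, 1] = !![1, a; 0, 1] * !![1, b; 0, 1]
  rw [Matrix.mul_fin_two]
  congr 1
  simp [add_comm]

theorem inv_key {a b : F} (ha : a ≠ 0) (hb : b ≠ 0) :
    (uu (b * -a⁻¹) * ww b hb)⁻¹ * (ww b hb * uu (b * a) * ww b hb) = dd (-a) (neg_ne_zero.2 ha) * uu (b * -a⁻¹) := by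
  rw [inv_mul_eq_iff_eq_mul]
  apply Subtype.ext
  show !![0, b; -b⁻¹, 0] * !![1, b * a; 0, 1] * !![0, b; -b⁻¹, 0] =
    !![1, b * -a⁻¹; 0, 1] * !![0, b; -b⁻¹, 0] * (!![-a, 0; 0, (-a)⁻¹] * !![1, b * -a⁻¹; 0, 1])
  rw [Matrix.mul_fin_two, Matrix.mul_fin_two, Matrix.mul_fin_two, Matrix.mul_fin_two, Matrix.mul_fin_two]
  congr 1
  ext i j
  fin_cases i <;> fin_cases j <;> simp [ha, hb] <;> field_simp <;> try ring

end SL

/-- A homomorphism of `SL(2, F)` onto the rank one group of the node `i`, normalised. -/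
def SLNode (cs : CoxeterSystem M W) (h : IsCartan M A) (T : Subgroup Y) (n : I → Y) (X : (I → ℤ) → Subgroup Y)
    (i : I) : Prop :=
  ∃ (F : Type) (_ : Field F) (_ : Finite F) (φ : SL(2, F) →* Y) (b : F) (hb : b ≠ 0), (2 : F) ≠ 0 ∧
    (∀ y, y ∈ X (sr i) ↔ ∃ a, φ (uu a) = y) ∧ (∀ a, φ (uu a) = 1 → a = 0) ∧
    (∀ c hc, φ (dd c hc) ∈ RGD.B cs h T X) ∧ φ (ww b hb) = n i

theorem goodNode_of_sl (R : RGD cs h p T n X) (hgen : RGD.B cs h T X ⊔ NN cs R.nsys = ⊤) {i : I}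
    (H : SLNode cs h T n X i) : GoodNode (R.bnPair hgen) (Sup X (Pos cs h)) (n i) := by
  obtain ⟨F, _, _, φ, b, hb, h2, hr, hi, hd, hw⟩ := H
  refine ⟨_, NodeRGD.node R hgen i, Or.inl ⟨F, inferInstance, inferInstance, h2, ⟨?_⟩⟩⟩
  refine fieldNode_of_rgd R hgen i (fun a => φ (uu (b * a))) (fun a c => ?_) (fun y => ?_) (fun a ha => ?_)
    (fun a ha => ?_)
  · rw [mul_add, uu_add, map_mul]
  · rw [hr]
    constructor
    · rintro ⟨a, rfl⟩
      exact ⟨b⁻¹ * a, by rw [mul_inv_cancel_left₀ hb]⟩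
    · rintro ⟨a, rfl⟩
      exact ⟨_, rfl⟩
  · exact (mul_eq_zero.1 (hi _ ha)).resolve_left hb
  · show (φ (uu (b * -a⁻¹)) * n i)⁻¹ * (n i * φ (uu (b * a)) * n i) ∈ _
    rw [← hw, ← map_mul, ← map_mul, ← map_mul, ← map_inv, ← map_mul, inv_key ha hb, map_mul]
    exact mul_mem (hd _ _) (U_le_B (mem_U ((hr _).2 ⟨_, rfl⟩)))

/-! ### The Borel subgroup is solvable -/

theorem isSolvable_B [hp : Fact p.Prime] [Finite Y] (R : RGD cs h p T n X) (hT : Group.IsSolvable T) :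
    Group.IsSolvable (RGD.B cs h T X) := by
  have hUB : Sup X (Pos cs h) ≤ RGD.B cs h T X := U_le_B
  have hnor : ((Sup X (Pos cs h)).subgroupOf (RGD.B cs h T X)).Normal := by
    constructor
    intro u hu b
    rw [Subgroup.mem_subgroupOf] at hu ⊢
    exact (Subgroup.mem_normalizer_iff.1 (R.B_le_normalizer_U b.2) u).1 hu
  have hUs : Group.IsSolvable ((Sup X (Pos cs h)).subgroupOf (RGD.B cs h T X)) := by
    have h1 : IsPGroup p ((Sup X (Pos cs h)).subgroupOf (RGD.B cs h T X)) :=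
      R.isPGroup_Upos.comap_of_injective (RGD.B cs h T X).subtype (Subgroup.subtype_injective _)
    have h2 := h1.isNilpotent
    infer_instance
  let f : T →* (RGD.B cs h T X) ⧸ ((Sup X (Pos cs h)).subgroupOf (RGD.B cs h T X)) :=
    (QuotientGroup.mk' _).comp (Subgroup.inclusion T_le_B)
  have hf : Function.Surjective f := by
    intro y
    induction y using QuotientGroup.induction_on with
    | _ b =>
    obtain ⟨t, ht, u, hu, e⟩ := R.mem_B.1 b.2
    refine ⟨⟨t, ht⟩, ?_⟩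
    show QuotientGroup.mk (⟨t, T_le_B ht⟩ : RGD.B cs h T X) = QuotientGroup.mk b
    rw [QuotientGroup.eq, Subgroup.mem_subgroupOf]
    show t⁻¹ * (b : Y) ∈ _
    rw [e, inv_mul_cancel_left]
    exact hu
  have hq : Group.IsSolvable ((RGD.B cs h T X) ⧸ ((Sup X (Pos cs h)).subgroupOf (RGD.B cs h T X))) :=
    Group.isSolvable_of_surjective hf
  exact Group.isSolvable_of_ker_le_range ((Sup X (Pos cs h)).subgroupOf (RGD.B cs h T X)).subtype
    (QuotientGroup.mk' ((Sup X (Pos cs h)).subgroupOf (RGD.B cs h T X)))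
    (by rw [QuotientGroup.ker_mk', Subgroup.range_subtype])

/-! ### The conclusion -/

/-- **Root group data with good nodes and solvable torus.** -/
theorem goodSplit_of_rgd [Finite Y] (hp : p.Prime) (R : RGD cs h p T n X)
    (hgen : RGD.B cs h T X ⊔ NN cs R.nsys = ⊤) (hcore : (RGD.B cs h T X).normalCore = ⊥) (hT : Group.IsSolvable T)
    (hgood : ∀ i, GoodNode (R.bnPair hgen) (Sup X (Pos cs h)) (n i)) :
    GoodSplit (R.bnPair hgen) p (Sup X (Pos cs h)) := by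
  have : Fact p.Prime := ⟨hp⟩
  refine { SplitRGD.split_of_rgd hp R hgen hcore with
    good := ?_
    solv := isSolvable_B R hT }
  rintro _ ⟨i, rfl⟩
  exact hgood i

/-- A simple group with root group data with good nodes and solvable torus. -/
theorem hasGoodSplit_of_rgd [Finite Y] [Nonempty I] [IsSimpleGroup Y] (hp : p.Prime) (R : RGD cs h p T n X)
    (hgen : RGD.B cs h T X ⊔ NN cs R.nsys = ⊤) (hT : Group.IsSolvable T)
    (hgood : ∀ i, GoodNode (R.bnPair hgen) (Sup X (Pos cs h)) (n i)) : HasGoodSplit p Y := by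
  obtain ⟨i⟩ := (inferInstance : Nonempty I)
  have hne : (R.bnPair hgen).S.Nonempty := ⟨n i, i, rfl⟩
  exact ⟨R.bnPair hgen, _, hne, goodSplit_of_rgd hp R hgen
    (Cfsg.Agent.Tits.OfBN.normalCore_eq_bot (R.bnPair hgen) hne) hT hgood⟩

end Cfsg.Agent.FixBN.FieldRGD
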