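import Mathlib
/-!
THEOREM LO, the abstract part: a finite group `H` whose Sylow `p`-subgroups (`p` odd) form a chamber system
with gates. If the normaliser of a Sylow `p`-subgroup is solvable then every perfect subgroup of `H`
centralises every normal `2`-subgroup of `H`.
-/

set_option autoImplicit false
set_option linter.unusedSectionVars false

open scoped Pointwise commutatorElement

namespace Cfsg.Agent.FixBN.Gates

variable {H : Type*} [Group H] {p : ℕ}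

theorem mem_smul_iff {c x : H} {a : Sylow p H} : x ∈ (c • a : Sylow p H) ↔ c⁻¹ * x * c ∈ a := by
  change x ∈ ((c • a : Sylow p H) : Subgroup H) ↔ c⁻¹ * x * c ∈ (a : Subgroup H)
  rw [Sylow.coe_subgroup_smul, Subgroup.mem_pointwise_smul_iff_inv_smul_mem]
  have h : (MulAut.conj c)⁻¹ • x = c⁻¹ * x * c := by
    rw [← map_inv, MulAut.smul_def, MulAut.conj_apply, inv_inv]
  rw [h]

theorem smul_self {u : H} {a : Sylow p H} (hu : u ∈ a) : u • a = a :=
  Sylow.smul_eq_iff_mem_normalizer.2 (Subgroup.le_normalizer hu)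

theorem inv_smul_self {u : H} {a : Sylow p H} (hu : u ∈ a) : u⁻¹ • a = a :=
  smul_self (inv_mem hu)

theorem mem_of_smul_eq {u : H} {a b : Sylow p H} (hu : u ∈ b) (h : u • a = a) : u ∈ a := by
  have h1 := b.isPGroup'.inf_normalizer_sylow a
  have h2 : u ∈ (b : Subgroup H) ⊓ Subgroup.normalizer (a : Set H) :=
    ⟨hu, Sylow.smul_eq_iff_mem_normalizer.1 h⟩
  rw [h1] at h2
  exact h2.2

/-- `c` is the gate of `a` on the panel `S`. -/
structure Gate (a : Sylow p H) (S : Set (Sylow p H)) (c : Sylow p H) : Prop where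
  fix : ∀ u ∈ a, u • S = S → u • c = c
  tr : ∀ b ∈ S, ∀ b' ∈ S, b ≠ c → b' ≠ c → ∃ u ∈ a, u • S = S ∧ u • b = b'

/-- A chamber system with gates on the set of Sylow `p`-subgroups. -/
structure GSys (Pa : Set (Set (Sylow p H))) (d : Sylow p H → Sylow p H → ℕ) : Prop where
  smul : ∀ S ∈ Pa, ∀ g : H, g • S ∈ Pa
  three : ∀ S ∈ Pa, ∀ a ∈ S, ∀ b ∈ S, ∃ c ∈ S, c ≠ a ∧ c ≠ b
  self : ∀ S ∈ Pa, ∀ a ∈ S, ∀ u ∈ a, u • S = S
  ker : ∀ S ∈ Pa, ∃ K : Subgroup H, ∀ a : Sylow p H, a ∈ S ↔ K ≤ a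
  gate : ∀ S ∈ Pa, ∀ a : Sylow p H, ∃ c ∈ S, Gate a S c
  desc : ∀ a b : Sylow p H, a ≠ b → ∃ S ∈ Pa, b ∈ S ∧ ∃ c ∈ S, Gate a S c ∧ c ≠ b ∧ d a c < d a b

variable {Pa : Set (Set (Sylow p H))} {d : Sylow p H → Sylow p H → ℕ}

namespace GSys

theorem gate_unique (hG : GSys Pa d) {S : Set (Sylow p H)} (hS : S ∈ Pa) {a c c' : Sylow p H}
    (h : Gate a S c) (h' : Gate a S c') (hc : c ∈ S) (hc' : c' ∈ S) : c = c' := by
  by_contra hne
  obtain ⟨e, he, he1, he2⟩ := hG.three S hS c hc c' hc'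
  obtain ⟨u, hu, huS, huc⟩ := h.tr c' hc' e he (Ne.symm hne) he1
  rw [h'.fix u hu huS] at huc
  exact he2 huc.symm

theorem gate_self (hG : GSys Pa d) {S : Set (Sylow p H)} (hS : S ∈ Pa) {a : Sylow p H}
    (ha : a ∈ S) : Gate a S a := by
  obtain ⟨c, hc, hg⟩ := hG.gate S hS a
  by_cases hne : a = c
  · rw [← hne] at hg; exact hg
  exfalso
  obtain ⟨e, he, he1, he2⟩ := hG.three S hS a ha c hc
  obtain ⟨u, hu, huS, hua⟩ := hg.tr a ha e he hne he2
  rw [smul_self hu] at hua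
  exact he1 hua.symm

section Two

variable {X : Subgroup H} [hX : X.Normal] [hp : Fact p.Prime]

include hX hp in
/-- an element of `X` centralises the intersection of a Sylow subgroup with its conjugate -/
theorem comm_of_mem (h2 : IsPGroup 2 X) (hp2 : p ≠ 2) {a : Sylow p H} {c k : H}
    (hc : c ∈ X) (hk : k ∈ a) (hk' : k ∈ (c • a : Sylow p H)) : c * k = k * c := by
  have h1 : c * k * c⁻¹ * k⁻¹ ∈ (c • a : Sylow p H) := by
    refine mul_mem ?_ (inv_mem hk')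
    rw [mem_smul_iff]
    have e : c⁻¹ * (c * k * c⁻¹) * c = k := by group
    rw [e]
    exact hk
  have h3 : c * k * c⁻¹ * k⁻¹ ∈ X := by
    have e : c * k * c⁻¹ * k⁻¹ = c * (k * c⁻¹ * k⁻¹) := by group
    rw [e]
    exact mul_mem hc (hX.conj_mem _ (inv_mem hc) k)
  have h4 : Disjoint X ((c • a : Sylow p H) : Subgroup H) :=
    IsPGroup.disjoint_of_ne 2 p (Ne.symm hp2) X _ h2 (c • a : Sylow p H).isPGroup'
  have h5 := Subgroup.disjoint_def.1 h4 h3 h1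
  calc c * k = (c * k * c⁻¹ * k⁻¹) * (k * c) := by group
    _ = k * c := by rw [h5, one_mul]

include hX hp in
theorem stab (hG : GSys Pa d) (h2 : IsPGroup 2 X) (hp2 : p ≠ 2) {S : Set (Sylow p H)}
    (hS : S ∈ Pa) {a : Sylow p H} {c : H} (hc : c ∈ X) (ha : a ∈ S) (hca : c • a ∈ S) :
    c • S = S := by
  obtain ⟨K, hK⟩ := hG.ker S hS
  have hcomm : ∀ k ∈ K, c * k = k * c := fun k hk =>
    comm_of_mem h2 hp2 hc ((hK a).1 ha hk) ((hK _).1 hca hk)
  have h1 : ∀ b ∈ S, c • b ∈ S := by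
    intro b hb
    rw [hK] at hb ⊢
    intro k hk
    change k ∈ (c • b : Sylow p H)
    rw [mem_smul_iff]
    have e : c⁻¹ * k * c = k := by
      rw [mul_assoc, ← hcomm k hk]; group
    rw [e]
    exact hb hk
  have h3 : ∀ b ∈ S, c⁻¹ • b ∈ S := by
    intro b hb
    rw [hK] at hb ⊢
    intro k hk
    change k ∈ (c⁻¹ • b : Sylow p H)
    rw [mem_smul_iff]
    have e : c⁻¹⁻¹ * k * c⁻¹ = k := by
      rw [inv_inv, hcomm k hk]; group
    rw [e]
    exact hb hk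
  ext b
  constructor
  · rintro ⟨b', hb', rfl⟩
    exact h1 b' hb'
  · intro hb
    exact ⟨c⁻¹ • b, h3 b hb, smul_inv_smul c b⟩

/-- the panel `S` is moved by `X` -/
def Mv (X : Subgroup H) (S : Set (Sylow p H)) : Prop :=
  ∃ c ∈ X, c • S = S ∧ ∃ b ∈ S, c • b ≠ b

theorem Mv.smul {S : Set (Sylow p H)} (h : Mv X S) (g : H) : Mv X (g • S) := by
  obtain ⟨c, hc, hcS, b, hb, hne⟩ := h
  refine ⟨g * c * g⁻¹, hX.conj_mem c hc g, ?_, g • b, Set.smul_mem_smul_set hb, ?_⟩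
  · rw [mul_smul, mul_smul, inv_smul_smul, hcS]
  · rw [mul_smul, mul_smul, inv_smul_smul]
    intro h
    exact hne (smul_left_cancel g h)

/-- `X` is transitive on the moved panels. -/
theorem Mv.tr (hG : GSys Pa d) {S : Set (Sylow p H)} (hS : S ∈ Pa)
    (h : Mv X S) {b b' : Sylow p H} (hb : b ∈ S) (hb' : b' ∈ S) :
    ∃ c ∈ X, c • S = S ∧ c • b = b' := by
  obtain ⟨g, hg, hgS, b0, hb0, hne⟩ := h
  have key : ∀ e ∈ S, ∃ c ∈ X, c • S = S ∧ c • b0 = e := by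
    intro e he
    by_cases h1 : e = b0
    · exact ⟨1, one_mem _, one_smul _ _, by rw [one_smul, h1]⟩
    have hgb : g • b0 ∈ S := by rw [← hgS]; exact Set.smul_mem_smul_set hb0
    obtain ⟨u, hu, huS, hue⟩ := (hG.gate_self hS hb0).tr _ hgb e he hne h1
    have huS' : u⁻¹ • S = S := by rw [inv_smul_eq_iff, huS]
    refine ⟨u * g * u⁻¹, hX.conj_mem g hg u, ?_, ?_⟩
    · rw [mul_smul, mul_smul, huS', hgS, huS]
    · rw [mul_smul, mul_smul, inv_smul_self hu, hue]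
  obtain ⟨c1, hc1, hS1, he1⟩ := key b hb
  obtain ⟨c2, hc2, hS2, he2⟩ := key b' hb'
  have hS1' : c1⁻¹ • S = S := by rw [inv_smul_eq_iff, hS1]
  refine ⟨c2 * c1⁻¹, mul_mem hc2 (inv_mem hc1), ?_, ?_⟩
  · rw [mul_smul, hS1', hS2]
  · rw [mul_smul, ← he1, inv_smul_smul, he2]

include hX hp in
theorem star (hG : GSys Pa d) (h2 : IsPGroup 2 X) (hp2 : p ≠ 2) {S : Set (Sylow p H)}
    (hS : S ∈ Pa) (hM : ¬ Mv X S) {a : Sylow p H} {c : H} (hc : c ∈ X) (hca : c • a ∈ S) :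
    Gate a S (c • a) := by
  obtain ⟨c1, hc1, hg⟩ := hG.gate S hS a
  by_cases hne : c1 = c • a
  · rw [← hne]; exact hg
  exfalso
  obtain ⟨e, he, he1, he2⟩ := hG.three S hS c1 hc1 _ hca
  obtain ⟨u, hu, huS, hue⟩ := hg.tr _ hca e he (Ne.symm hne) he1
  have h1 : (u * c * u⁻¹ * c⁻¹) • (c • a) = e := by
    rw [← mul_smul]
    have e1 : u * c * u⁻¹ * c⁻¹ * c = u * c * u⁻¹ := by group
    rw [e1, mul_smul, mul_smul, inv_smul_self hu, hue]
  have h3 : u * c * u⁻¹ * c⁻¹ ∈ X := mul_mem (hX.conj_mem c hc u) (inv_mem hc)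
  refine hM ⟨_, h3, hG.stab h2 hp2 hS h3 hca (by rw [h1]; exact he), _, hca, ?_⟩
  rw [h1]
  exact he2

include hX hp in
theorem key4 (hG : GSys Pa d) (h2 : IsPGroup 2 X) (hp2 : p ≠ 2) {S : Set (Sylow p H)}
    (hS : S ∈ Pa) (hM : ¬ Mv X S) {a : Sylow p H} (ha : a ∈ S) {c : H} (hc : c ∈ X)
    {b b' : Sylow p H} (hb : b ∈ S) (hb' : b' ∈ S) (hba : b ≠ a) (hba' : b' ≠ a) :
    ∃ u ∈ a, u ∈ (c • a : Sylow p H) ∧ u • b = b' := by
  have h1 := hG.star h2 hp2 hS hM (a := c • a) (c := c⁻¹) (inv_mem hc)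
    (by rw [inv_smul_smul]; exact ha)
  rw [inv_smul_smul] at h1
  obtain ⟨u, hu, huS, hub⟩ := h1.tr b hb b' hb' hba hba'
  exact ⟨u, mem_of_smul_eq hu (h1.fix u hu huS), hu, hub⟩

end Two

end GSys

/-! ### The size of a moved panel -/

theorem exists_odd_mul {p : ℕ} (hp : Odd p) (j : ℕ) :
    ∃ c : ℕ, Odd c ∧ p ^ (2 * j + 1) + 1 = (p + 1) * c := by
  induction j with
  | zero => exact ⟨1, odd_one, by ring⟩
  | succ j ih =>
    obtain ⟨c, hc, he⟩ := ih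
    have hp0 : 1 ≤ p := hp.pos
    have hc0 : 1 ≤ c := hc.pos
    have h1 : p - 1 ≤ p ^ 2 * c := by
      have : p ≤ p ^ 2 * c := by nlinarith
      omega
    refine ⟨p ^ 2 * c - (p - 1), ?_, ?_⟩
    · have h2 : Odd (p ^ 2 * c) := (hp.pow).mul hc
      have h3 : Even (p - 1) := by
        rcases hp with ⟨k, hk⟩
        exact ⟨k, by omega⟩
      exact Nat.Odd.sub_even h1 h2 h3
    · zify [h1, hp0]
      have he' : (p : ℤ) ^ (2 * j + 1) + 1 = (p + 1) * c := by exact_mod_cast he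
      have e1 : (p : ℤ) ^ (2 * (j + 1) + 1) = p ^ 2 * p ^ (2 * j + 1) := by ring
      rw [e1]
      linear_combination (p : ℤ) ^ 2 * he'

/-- `p ^ m + 1` is a power of two only for `m ≤ 1`. -/
theorem eq_one_of_pow {p m n : ℕ} (hp : Odd p) (hp1 : 1 < p) (hm : m ≠ 0)
    (h : p ^ m + 1 = 2 ^ n) : m = 1 := by
  rcases Nat.even_or_odd m with ⟨k, hk⟩ | ⟨j, hj⟩
  · exfalso
    have h1 : p ^ m = (p ^ k) ^ 2 := by rw [hk, ← pow_mul]; congr 1; omega
    have h2 : (p ^ k) ^ 2 % 4 = 1 := by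
      obtain ⟨a, ha⟩ := hp.pow (n := k)
      rw [ha]
      have : (2 * a + 1) ^ 2 = 4 * (a ^ 2 + a) + 1 := by ring
      omega
    have h3 : 2 < p ^ m + 1 := by
      have h4 : 1 < p ^ m := Nat.one_lt_pow hm hp1
      omega
    have h4 : 2 ≤ n := by
      by_contra hn
      have : 2 ^ n ≤ 2 ^ 1 := Nat.pow_le_pow_right (by norm_num) (by omega)
      omega
    have h5 : 4 ∣ 2 ^ n := by
      have : (2 : ℕ) ^ 2 ∣ 2 ^ n := pow_dvd_pow 2 h4
      simpa using this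
    omega
  · obtain ⟨c, hc, he⟩ := exists_odd_mul hp j
    rw [← hj, h] at he
    have h1 : c ∣ 2 ^ n := ⟨p + 1, by rw [he]; ring⟩
    have h2 : c = 1 := by
      obtain ⟨k, _, hk⟩ := (Nat.dvd_prime_pow Nat.prime_two).1 h1
      rcases Nat.eq_zero_or_pos k with h0 | h0
      · rw [hk, h0, pow_zero]
      · exfalso
        have : Even c := by rw [hk]; exact (Nat.even_pow.2 ⟨even_two, by omega⟩)
        exact (Nat.not_odd_iff_even.2 this) hc
    rw [h2, mul_one, ← h] at he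
    have h3 : p ^ m = p ^ 1 := by rw [pow_one]; omega
    exact Nat.pow_right_injective hp1 h3

end Cfsg.Agent.FixBN.Gates
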