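import Mathlib
import Cfsg.Agent.FixBN.Gates
/-!
THEOREM LO, the abstract part, continued: the normal `2`-subgroups of a group with a gate system.
-/

set_option autoImplicit false
set_option linter.unusedSectionVars false

open scoped Pointwise commutatorElement

namespace Cfsg.Agent.FixBN.Gates

variable {H : Type*} [Group H] {p : ℕ}
variable {Pa : Set (Set (Sylow p H))} {d : Sylow p H → Sylow p H → ℕ}

/-- A perfect subgroup is contained in every normal subgroup with solvable quotient. -/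
theorem perfect_le {N : Subgroup H} [hn : N.Normal] (hsol : Group.IsSolvable (H ⧸ N))
    {P : Subgroup H} (hP : ⁅P, P⁆ = P) : P ≤ N := by
  let f : ↥P →* H ⧸ N := (QuotientGroup.mk' N).comp P.subtype
  have h1 : f.range = ⊥ := by
    have h2 : Group.IsPerfect ↥P := Subgroup.isPerfect_iff.mpr hP
    have h3 : Group.IsPerfect f.range := Group.IsPerfect.ofSurjective f.rangeRestrict_surjective
    by_contra hne
    have h4 : Nontrivial f.range := (Subgroup.nontrivial_iff_ne_bot _).mpr hne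
    exact Group.IsPerfect.not_isSolvable f.range inferInstance
  intro x hx
  have h2 : f ⟨x, hx⟩ = 1 := by
    have : f ⟨x, hx⟩ ∈ f.range := ⟨_, rfl⟩
    rw [h1] at this
    exact this
  exact (QuotientGroup.eq_one_iff (N := N) x).mp h2

/-- A perfect subgroup of a normal subgroup `X K`, `X` a `p`-group. -/
theorem perfect_le_of_sup [Finite H] {q : ℕ} [Fact q.Prime] {X K : Subgroup H} [K.Normal]
    (hX : IsPGroup q X) {P : Subgroup H} (hP : ⁅P, P⁆ = P) (hle : P ≤ X ⊔ K) : P ≤ K := by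
  let f : ↥P →* H ⧸ K := (QuotientGroup.mk' K).comp P.subtype
  have h0 : f.range ≤ X.map (QuotientGroup.mk' K) := by
    rintro _ ⟨x, rfl⟩
    have h1 : (x : H) ∈ X ⊔ K := hle x.2
    obtain ⟨y, hy, z, hz, he⟩ := Subgroup.mem_sup_of_normal_right.1 h1
    refine ⟨y, hy, ?_⟩
    change (QuotientGroup.mk y : H ⧸ K) = QuotientGroup.mk (x : H)
    rw [QuotientGroup.eq, ← he, inv_mul_cancel_left]
    exact hz
  have h1 : f.range = ⊥ := by
    have h2 : Group.IsPerfect ↥P := Subgroup.isPerfect_iff.mpr hP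
    have h3 : Group.IsPerfect f.range := Group.IsPerfect.ofSurjective f.rangeRestrict_surjective
    have h5 : IsPGroup q ↥f.range := (hX.map (QuotientGroup.mk' K)).to_le h0
    have h6 : Group.IsNilpotent ↥f.range := h5.isNilpotent
    by_contra hne
    have h4 : Nontrivial f.range := (Subgroup.nontrivial_iff_ne_bot _).mpr hne
    exact Group.IsPerfect.not_isSolvable f.range inferInstance
  intro x hx
  have h2 : f ⟨x, hx⟩ = 1 := by
    have : f ⟨x, hx⟩ ∈ f.range := ⟨_, rfl⟩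
    rw [h1] at this
    exact this
  exact (QuotientGroup.eq_one_iff (N := K) x).mp h2

namespace GSys

variable [Finite H] {X : Subgroup H} [hX : X.Normal] [hp : Fact p.Prime]

include hX hp in
/-- A moved panel has `p + 1` elements. -/
theorem card_sdiff (hG : GSys Pa d) (h2 : IsPGroup 2 X) (hp2 : p ≠ 2)
    {S : Set (Sylow p H)} (hS : S ∈ Pa) (hM : Mv X S) {a : Sylow p H} (ha : a ∈ S) {b : Sylow p H}
    (hb : b ∈ S) (hba : b ≠ a) :
    MulAction.orbit ↥(a : Subgroup H) b = S \ {a} ∧ Nat.card (MulAction.orbit ↥(a : Subgroup H) b) = p := by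
  classical
  have hpo : Odd p := hp.out.odd_of_ne_two hp2
  have h1 : MulAction.orbit ↥(a : Subgroup H) b = S \ {a} := by
    ext e
    constructor
    · rintro ⟨⟨u, hu⟩, rfl⟩
      have huS := hG.self S hS a ha u hu
      refine ⟨?_, ?_⟩
      · change u • b ∈ S
        rw [← huS]; exact Set.smul_mem_smul_set hb
      · intro he
        have he' : u • b = a := he
        rw [← smul_self (a := a) hu] at he'
        exact hba (smul_left_cancel u he')
    · rintro ⟨he, hea⟩
      obtain ⟨u, hu, _, hue⟩ := (hG.gate_self hS ha).tr b hb e he hba hea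
      exact ⟨⟨u, hu⟩, hue⟩
  have h3 : MulAction.orbit ↥(X ⊓ MulAction.stabilizer H S) a = S := by
    ext e
    constructor
    · rintro ⟨⟨u, hu, huS⟩, rfl⟩
      change u • a ∈ S
      have huS' : u • S = S := huS
      rw [← huS']; exact Set.smul_mem_smul_set ha
    · intro he
      obtain ⟨c, hc, hcS, hce⟩ := hM.tr hG hS ha he
      exact ⟨⟨c, hc, hcS⟩, hce⟩
  obtain ⟨m, hm⟩ := a.isPGroup'.card_orbit b
  have hX2 : IsPGroup 2 ↥(X ⊓ MulAction.stabilizer H S) := h2.to_inf_left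
  obtain ⟨n, hn⟩ := hX2.card_orbit a
  rw [h3, Nat.card_coe_set_eq] at hn
  have h4 : (S \ {a}).ncard + 1 = S.ncard := Set.ncard_sdiff_singleton_add_one ha (Set.toFinite _)
  have hm' := hm
  rw [h1, Nat.card_coe_set_eq] at hm'
  rw [hm', hn] at h4
  have hm0 : m ≠ 0 := by
    intro h0
    rw [h0, pow_zero, Set.ncard_eq_one] at hm'
    obtain ⟨e, he⟩ := hm'
    obtain ⟨f, hf, hfa, hfb⟩ := hG.three S hS a ha b hb
    have h5 : f ∈ S \ {a} := ⟨hf, hfa⟩
    have h6 : b ∈ S \ {a} := ⟨hb, hba⟩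
    rw [he, Set.mem_singleton_iff] at h5 h6
    exact hfb (h5.trans h6.symm)
  have h7 := eq_one_of_pow hpo hp.out.one_lt hm0 h4
  refine ⟨h1, ?_⟩
  rw [hm, h7, pow_one]

include hX hp in
/-- (R) an element of `a` fixing a second point of a moved panel is trivial on the panel. -/
theorem regular (hG : GSys Pa d) (h2 : IsPGroup 2 X) (hp2 : p ≠ 2)
    {S : Set (Sylow p H)} (hS : S ∈ Pa) (hM : Mv X S) {a : Sylow p H} (ha : a ∈ S) {b : Sylow p H}
    (hb : b ∈ S) (hba : b ≠ a) {k : H} (hk : k ∈ a) (hkb : k • b = b) :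
    ∀ e ∈ S, k • e = e := by
  obtain ⟨h1, hc⟩ := hG.card_sdiff h2 hp2 hS hM ha hb hba
  have hidx : (MulAction.stabilizer ↥(a : Subgroup H) b).index = p := by
    rw [MulAction.index_stabilizer, ← Nat.card_coe_set_eq, hc]
  have hnorm : (MulAction.stabilizer ↥(a : Subgroup H) b).Normal := by
    refine Subgroup.normal_of_index_eq_minFac_card ?_
    obtain ⟨n, hn⟩ := (IsPGroup.iff_card (p := p) (G := ↥(a : Subgroup H))).1 a.isPGroup'
    have hn0 : n ≠ 0 := by
      intro h0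
      rw [h0, pow_zero] at hn
      have h3 := Subgroup.index_dvd_card (MulAction.stabilizer ↥(a : Subgroup H) b)
      rw [hidx, hn] at h3
      exact hp.out.one_lt.ne' (Nat.dvd_one.1 h3)
    rw [hidx, hn, hp.out.pow_minFac hn0]
  intro e he
  by_cases hea : e = a
  · rw [hea]; exact smul_self hk
  obtain ⟨u, hu, huS, hue⟩ := (hG.gate_self hS ha).tr b hb e he hba hea
  have hkm : (⟨k, hk⟩ : ↥(a : Subgroup H)) ∈ MulAction.stabilizer ↥(a : Subgroup H) b := hkb
  have h3 := hnorm.conj_mem _ hkm (⟨u, hu⟩ : ↥(a : Subgroup H))⁻¹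
  have h4 : (u⁻¹ * k * u⁻¹⁻¹) • b = b := h3
  rw [inv_inv, mul_smul, mul_smul, inv_smul_eq_iff, hue] at h4
  exact h4

theorem coe_inf_smul (a : Sylow p H) (e c : H) :
    Nat.card ↥(((e • a : Sylow p H) : Subgroup H) ⊓ ((c • a : Sylow p H) : Subgroup H)) =
      Nat.card ↥((a : Subgroup H) ⊓ (((e⁻¹ * c) • a : Sylow p H) : Subgroup H)) := by
  refine Nat.card_congr ⟨fun x => ⟨e⁻¹ * x.1 * e, ?_, ?_⟩, fun x => ⟨e * x.1 * e⁻¹, ?_, ?_⟩, ?_, ?_⟩
  · exact mem_smul_iff.1 x.2.1
  · have h1 : x.1 ∈ (c • a : Sylow p H) := x.2.2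
    change e⁻¹ * x.1 * e ∈ ((e⁻¹ * c) • a : Sylow p H)
    rw [mem_smul_iff] at h1 ⊢
    have e1 : (e⁻¹ * c)⁻¹ * (e⁻¹ * x.1 * e) * (e⁻¹ * c) = c⁻¹ * x.1 * c := by group
    rw [e1]; exact h1
  · change e * x.1 * e⁻¹ ∈ (e • a : Sylow p H)
    rw [mem_smul_iff]
    have e1 : e⁻¹ * (e * x.1 * e⁻¹) * e = x.1 := by group
    rw [e1]; exact x.2.1
  · change e * x.1 * e⁻¹ ∈ (c • a : Sylow p H)
    have h1 : x.1 ∈ ((e⁻¹ * c) • a : Sylow p H) := x.2.2
    rw [mem_smul_iff] at h1 ⊢
    have e1 : c⁻¹ * (e * x.1 * e⁻¹) * c = (e⁻¹ * c)⁻¹ * x.1 * (e⁻¹ * c) := by group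
    rw [e1]; exact h1
  · intro x; apply Subtype.ext; change e * (e⁻¹ * x.1 * e) * e⁻¹ = x.1; group
  · intro x; apply Subtype.ext; change e⁻¹ * (e * x.1 * e⁻¹) * e = x.1; group

include hX hp in
/-- There is an element `c` of `X` such that `a ⊓ c • a` centralises `X`. -/
theorem exists_min (hG : GSys Pa d) (h2 : IsPGroup 2 X) (hp2 : p ≠ 2) (a : Sylow p H) :
    ∃ c ∈ X, ∀ k ∈ a, k ∈ (c • a : Sylow p H) → ∀ x ∈ X, k * x = x * k := by
  classical
  have hex : ∃ n, ∃ c ∈ X, Nat.card ↥((a : Subgroup H) ⊓ ((c • a : Sylow p H) : Subgroup H)) = n :=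
    ⟨_, 1, one_mem _, rfl⟩
  obtain ⟨c, hc, hn⟩ := Nat.find_spec hex
  have hmin : ∀ c' ∈ X, Nat.card ↥((a : Subgroup H) ⊓ ((c • a : Sylow p H) : Subgroup H)) ≤
      Nat.card ↥((a : Subgroup H) ⊓ ((c' • a : Sylow p H) : Subgroup H)) :=
    fun c' hc' => by rw [hn]; exact Nat.find_min' hex ⟨c', hc', rfl⟩
  clear hn
  -- `V = a ⊓ c • a` is trivial on the moved panels through `a`
  have hV : ∀ S ∈ Pa, Mv X S → a ∈ S → ∀ k ∈ a, k ∈ (c • a : Sylow p H) → ∀ e ∈ S, k • e = e := by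
    intro S hS hM ha k hk hk' b hb
    obtain ⟨c1, hc1, hg⟩ := hG.gate S hS (c • a)
    by_cases hne : c1 = a
    · rw [hne] at hg
      by_contra hkb
      have hba : b ≠ a := by
        intro h; rw [h] at hkb; exact hkb (smul_self hk)
      obtain ⟨e, he, heS, hea⟩ := hM.tr hG hS ha hb
      have hle : (b : Subgroup H) ⊓ ((c • a : Sylow p H) : Subgroup H) ≤
          (a : Subgroup H) ⊓ ((c • a : Sylow p H) : Subgroup H) := by
        intro x hx
        have hxb : x ∈ b := hx.1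
        have hxc : x ∈ (c • a : Sylow p H) := hx.2
        have h1 := hg.fix x hxc (hG.self S hS b hb x hxb)
        exact ⟨mem_of_smul_eq hxc h1, hxc⟩
      have hlt : (b : Subgroup H) ⊓ ((c • a : Sylow p H) : Subgroup H) <
          (a : Subgroup H) ⊓ ((c • a : Sylow p H) : Subgroup H) := by
        refine lt_of_le_of_ne hle fun heq => hkb ?_
        have h1 : k ∈ (b : Subgroup H) ⊓ ((c • a : Sylow p H) : Subgroup H) := by
          rw [heq]; exact ⟨hk, hk'⟩
        exact smul_self (a := b) h1.1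
      have h3 : Nat.card ↥((b : Subgroup H) ⊓ ((c • a : Sylow p H) : Subgroup H)) <
          Nat.card ↥((a : Subgroup H) ⊓ ((c • a : Sylow p H) : Subgroup H)) :=
        Set.ncard_lt_ncard (s := (((b : Subgroup H) ⊓ ((c • a : Sylow p H) : Subgroup H) : Subgroup H) : Set H))
          (t := (((a : Subgroup H) ⊓ ((c • a : Sylow p H) : Subgroup H) : Subgroup H) : Set H))
          hlt (Set.toFinite _)
      rw [← hea, coe_inf_smul a e c] at h3
      exact absurd (hmin _ (mul_mem (inv_mem he) hc)) (not_le.2 h3)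
    · have h1 := hg.fix k hk' (hG.self S hS a ha k hk)
      exact hG.regular h2 hp2 hS hM ha hc1 hne hk h1 b hb
  have hV2 : ∀ S ∈ Pa, Mv X S → a ∈ S → ∀ k ∈ a, k ∈ (c • a : Sylow p H) → ∀ e ∈ X, e • S = S →
      k * e = e * k := by
    intro S hS hM ha k hk hk' e he heS
    have hea : e • a ∈ S := by rw [← heS]; exact Set.smul_mem_smul_set ha
    have h1 := hV S hS hM ha k hk hk' _ hea
    exact (comm_of_mem h2 hp2 he hk (mem_of_smul_eq hk h1)).symm
  refine ⟨c, hc, fun k hk hk' => ?_⟩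
  intro x
  induction hn : d a (x • a) using Nat.strong_induction_on generalizing x with
  | _ n ih =>
    intro hx
    by_cases hxa : x • a = a
    · exact (comm_of_mem h2 hp2 hx hk (by rw [hxa]; exact hk)).symm
    obtain ⟨S, hS, hxS, c1, hc1, hg, hne, hlt⟩ := hG.desc a (x • a) (Ne.symm hxa)
    have hM : Mv X S := by
      by_contra hM
      have h1 := hG.star h2 hp2 hS hM hx hxS
      exact hne (hG.gate_unique hS hg h1 hc1 hxS)
    obtain ⟨e, he, heS, hea⟩ := hM.tr hG hS hxS hc1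
    have h1 : k * (e * x) = (e * x) * k := by
      refine ih (d a ((e * x) • a)) ?_ (e * x) rfl (mul_mem he hx)
      rw [mul_smul, hea, ← hn]
      exact hlt
    have heS' : (x⁻¹ * e * x) • (x⁻¹ • S) = x⁻¹ • S := by
      rw [← mul_smul]
      have e1 : x⁻¹ * e * x * x⁻¹ = x⁻¹ * e := by group
      rw [e1, mul_smul, heS]
    have haS : a ∈ x⁻¹ • S := by
      rw [Set.mem_smul_set_iff_inv_smul_mem, inv_inv]
      exact hxS
    have h3 : k * (x⁻¹ * e * x) = (x⁻¹ * e * x) * k := by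
      refine hV2 (x⁻¹ • S) (hG.smul S hS _) (hM.smul x⁻¹) haS k hk hk' _ ?_ heS'
      have := hX.conj_mem e he x⁻¹
      rwa [inv_inv] at this
    have h4 : Commute k (e * x) := h1
    have h5 : Commute k (x⁻¹ * e * x) := h3
    have h6 : Commute k ((e * x) * (x⁻¹ * e * x)⁻¹) := h4.mul_right h5.inv_right
    have e1 : (e * x) * (x⁻¹ * e * x)⁻¹ = x := by group
    rw [e1] at h6
    exact h6

include hX hp in
/-- `X` and its centraliser are transitive on the chambers. -/
theorem conn (hG : GSys Pa d) (h2 : IsPGroup 2 X) (hp2 : p ≠ 2) (a b : Sylow p H) :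
    ∃ h ∈ X ⊔ Subgroup.centralizer (X : Set H), h • a = b := by
  induction hn : d a b using Nat.strong_induction_on generalizing b with
  | _ n ih =>
    by_cases hab : a = b
    · exact ⟨1, one_mem _, by rw [one_smul, hab]⟩
    obtain ⟨S, hS, hbS, c1, hc1, hg, hne, hlt⟩ := hG.desc a b hab
    obtain ⟨h, hh, hha⟩ := ih _ (by rw [← hn]; exact hlt) c1 rfl
    by_cases hM : Mv X S
    · obtain ⟨e, he, _, hee⟩ := hM.tr hG hS hc1 hbS
      refine ⟨e * h, mul_mem (Subgroup.mem_sup_left he) hh, ?_⟩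
      rw [mul_smul, hha, hee]
    · obtain ⟨f, hf, hf1, hf2⟩ := hG.three S hS c1 hc1 b hbS
      obtain ⟨c, hc, hcen⟩ := hG.exists_min h2 hp2 f
      obtain ⟨u, hu, hu', hub⟩ := hG.key4 h2 hp2 hS hM hf hc hc1 hbS (Ne.symm hf1) (Ne.symm hf2)
      have h3 := hcen u hu hu'
      refine ⟨u * h, mul_mem (Subgroup.mem_sup_right ?_) hh, ?_⟩
      · rw [Subgroup.mem_centralizer_iff]
        intro x hx
        exact (h3 x hx).symm
      · rw [mul_smul, hha, hub]

include hX hp in
/-- **THEOREM LO**, abstract form. -/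
theorem perfect_le_centralizer (hG : GSys Pa d) (h2 : IsPGroup 2 X) (hp2 : p ≠ 2) (a : Sylow p H)
    (hN : Group.IsSolvable ↥(Subgroup.normalizer (a : Set H))) {P : Subgroup H}
    (hP : ⁅P, P⁆ = P) : P ≤ Subgroup.centralizer (X : Set H) := by
  have hK : (Subgroup.centralizer (X : Set H)).Normal := inferInstance
  have hY : (X ⊔ Subgroup.centralizer (X : Set H)).Normal := inferInstance
  refine perfect_le_of_sup (q := 2) h2 hP (perfect_le (N := X ⊔ Subgroup.centralizer (X : Set H)) ?_ hP)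
  let f : ↥(Subgroup.normalizer (a : Set H)) →* H ⧸ (X ⊔ Subgroup.centralizer (X : Set H)) :=
    (QuotientGroup.mk' _).comp (Subgroup.subtype _)
  refine Group.isSolvable_of_surjective (f := f) ?_
  intro y
  obtain ⟨g, rfl⟩ := QuotientGroup.mk_surjective y
  obtain ⟨h, hh, hha⟩ := hG.conn h2 hp2 a (g • a)
  have h1 : h⁻¹ * g ∈ Subgroup.normalizer (a : Set H) := by
    refine Sylow.smul_eq_iff_mem_normalizer.1 ?_
    rw [mul_smul, ← hha, inv_smul_smul]
  refine ⟨⟨h⁻¹ * g, h1⟩, ?_⟩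
  change (QuotientGroup.mk (h⁻¹ * g) : H ⧸ (X ⊔ Subgroup.centralizer (X : Set H))) = QuotientGroup.mk g
  rw [QuotientGroup.eq]
  have e1 : (h⁻¹ * g)⁻¹ * g = g⁻¹ * h * g⁻¹⁻¹ := by group
  rw [e1]
  exact hY.conj_mem h hh g⁻¹

end GSys

end Cfsg.Agent.FixBN.Gates
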