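import Mathlib
import Cfsg.Agent.FixBN.Fix
import Cfsg.Agent.FixBN.ReduceMain
/-!
THEOREM OUT, part T7: the assembly. If the normaliser in the centraliser of the group `P Q` is solvable
then every perfect subgroup of the centraliser is generated by `p`-elements of the centraliser.
-/

set_option autoImplicit false
set_option linter.unusedSectionVars false

open scoped Pointwise commutatorElement

namespace Cfsg.Agent.FixBN

open Cfsg.Agent.Tits.Core Cfsg.Agent.Tits.Core.Bldg Cfsg.Agent.Tits.Exchange Cfsg.Agent.Tits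
open Cfsg.Agent.FixBN.Cox Cfsg.Agent.Lib

variable {I : Type*} {M : CoxeterMatrix I} {W : Type*} [Group W] {cs : CoxeterSystem M W} {C : Type*}

variable {Δ : Bldg cs C} {G : Type*} [Group G] [MulAction G C] {p : ℕ} {t : Tw Δ G}
  [F : OppRes.Cox cs] [Finite G] [hp : Fact p.Prime] [Finite C]

namespace Tw

/-- The groups `P Q` are maximal among the `p`-subgroups of the centraliser. -/
theorem P_max (S : Sys Δ G p) (hth : Δ.Thick) (hp2 : p ≠ 2) {J : Set I} {x : C} (h : t.Gd J x)
    {V : Subgroup G} (hV : V ≤ t.cent) (hVp : IsPGroup p V) (hle : t.P S (Δ.Res J x) ≤ V) :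
    V = t.P S (Δ.Res J x) := by
  obtain ⟨K, z, hgz, hVz⟩ := exists_P S hth hV hVp
  have hcard := card_P_const S hth hp2 h hgz
  have h1 : t.P S (Δ.Res J x) = t.P S (Δ.Res K z) :=
    Subgroup.eq_of_le_of_card_ge (hle.trans hVz) hcard.le
  exact le_antisymm (hVz.trans h1.ge) hle

/-- The groups `P Q` are Sylow `p`-subgroups of the centraliser. -/
theorem exists_sylow (S : Sys Δ G p) (hth : Δ.Thick) (hp2 : p ≠ 2) {J : Set I} {x : C}
    (h : t.Gd J x) : ∃ R : Sylow p ↥t.cent,
      (R : Subgroup ↥t.cent) = (t.P S (Δ.Res J x)).subgroupOf t.cent := by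
  refine ⟨⟨(t.P S (Δ.Res J x)).subgroupOf t.cent,
    (P_isP S ⟨x, Δ.self_mem_Res _ _⟩ : IsPGroup p (t.P S (Δ.Res J x))).comap_subtype, ?_⟩, rfl⟩
  intro R hR hle
  have h1 : R.map t.cent.subtype = t.P S (Δ.Res J x) := by
    refine P_max S hth hp2 h (Subgroup.map_subtype_le R) (hR.map _) ?_
    intro u hu
    exact ⟨⟨u, hu.1⟩, hle (Subgroup.mem_subgroupOf.2 hu), rfl⟩
  rw [← h1, Subgroup.subgroupOf, Subgroup.comap_map_eq_self_of_injective t.cent.subtype_injective]

/-- solvability of the quotient of the centraliser by the group generated by the `p`-elements -/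
theorem isSolvable_quotient (S : Sys Δ G p) (hth : Δ.Thick) (hp2 : p ≠ 2) {J : Set I} {x : C}
    (h : t.Gd J x)
    (hN : Group.IsSolvable ↥(Subgroup.normalizer
      (((t.P S (Δ.Res J x)).subgroupOf t.cent : Subgroup ↥t.cent) : Set ↥t.cent))) :
    ∃ _ : ((PComponents.pElem p t.cent).subgroupOf t.cent).Normal,
      Group.IsSolvable (↥t.cent ⧸ (PComponents.pElem p t.cent).subgroupOf t.cent) := by
  have hn := PComponents.pElem_normal_subgroupOf (p := p) t.cent
  refine ⟨hn, ?_⟩
  obtain ⟨R, hR⟩ := exists_sylow S hth hp2 h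
  have hRO : (R : Subgroup ↥t.cent) ≤ (PComponents.pElem p t.cent).subgroupOf t.cent := by
    intro u hu
    obtain ⟨k, hk⟩ := R.isPGroup' ⟨u, hu⟩
    have hk' : u ^ p ^ k = 1 := by simpa using congrArg Subtype.val hk
    refine Subgroup.mem_subgroupOf.2 (PComponents.mem_pElem (n := k) u.2 ?_)
    simpa using congrArg Subtype.val hk'
  have h1 := Sylow.normalizer_sup_eq_top' R hRO
  let f : ↥(Subgroup.normalizer (((t.P S (Δ.Res J x)).subgroupOf t.cent : Subgroup ↥t.cent) :
      Set ↥t.cent)) →* ↥t.cent ⧸ (PComponents.pElem p t.cent).subgroupOf t.cent :=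
    (QuotientGroup.mk' _).comp (Subgroup.subtype _)
  refine Group.isSolvable_of_surjective (f := f) ?_
  intro y
  obtain ⟨g, rfl⟩ := QuotientGroup.mk_surjective y
  have hg := Subgroup.mem_top g
  rw [← h1] at hg
  obtain ⟨n, hn', o, ho, rfl⟩ := Subgroup.mem_sup_of_normal_right.1 hg
  refine ⟨⟨n, by rw [← hR]; exact hn'⟩, ?_⟩
  change (QuotientGroup.mk n : ↥t.cent ⧸ (PComponents.pElem p t.cent).subgroupOf t.cent) =
    QuotientGroup.mk (n * o)
  rw [QuotientGroup.eq]
  rwa [inv_mul_cancel_left]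

/-- **T7.** -/
theorem out (S : Sys Δ G p) (hth : Δ.Thick) (hp2 : p ≠ 2) {J : Set I} {x : C} (h : t.Gd J x)
    (h3 : ∀ g ∈ t.cent, (∀ u, u ∈ t.P S (Δ.Res J x) ↔ g * u * g⁻¹ ∈ t.P S (Δ.Res J x)) →
      (g * g) • Δ.Res J x = Δ.Res J x)
    (h3' : ∀ g ∈ t.cent, (∀ u, u ∈ t.P S (Δ.Res J x) ↔ g * u * g⁻¹ ∈ t.P S (Δ.Res J x)) →
      ∀ c ∈ t.cent, c • Δ.Res J x = Δ.Res J x → (g * c * g⁻¹) • Δ.Res J x = Δ.Res J x)
    (h4 : Group.IsSolvable ↥(t.cent ⊓ MulAction.stabilizer G (Δ.Res J x))) {L : Subgroup G}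
    (hL : L ≤ t.cent) (hLp : ⁅L, L⁆ = L) : L ≤ PComponents.pElem p t.cent := by
  have hNsol : Group.IsSolvable ↥(Subgroup.normalizer
      (((t.P S (Δ.Res J x)).subgroupOf t.cent : Subgroup ↥t.cent) : Set ↥t.cent)) := by
    have hmem : ∀ g : ↥t.cent, g ∈ Subgroup.normalizer
        (((t.P S (Δ.Res J x)).subgroupOf t.cent : Subgroup ↥t.cent) : Set ↥t.cent) →
        ∀ u, u ∈ t.P S (Δ.Res J x) ↔ (g : G) * u * (g : G)⁻¹ ∈ t.P S (Δ.Res J x) := by
      intro g hg u
      rw [Subgroup.mem_normalizer_iff] at hg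
      constructor
      · intro hu
        exact Subgroup.mem_subgroupOf.1 ((hg ⟨u, hu.1⟩).1 (Subgroup.mem_subgroupOf.2 hu))
      · intro hu
        have huc : u ∈ t.cent := by
          have h1 := t.cent.mul_mem (t.cent.mul_mem (t.cent.inv_mem g.2) hu.1) g.2
          have h2 : (g : G)⁻¹ * ((g : G) * u * (g : G)⁻¹) * g = u := by group
          rwa [h2] at h1
        exact Subgroup.mem_subgroupOf.1 ((hg ⟨u, huc⟩).2 (Subgroup.mem_subgroupOf.2 hu))
    set N := Subgroup.normalizer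
      (((t.P S (Δ.Res J x)).subgroupOf t.cent : Subgroup ↥t.cent) : Set ↥t.cent) with hNdef
    let D : Subgroup ↥N :=
      { carrier := {n | ((n : ↥t.cent) : G) • Δ.Res J x = Δ.Res J x}
        one_mem' := one_smul _ _
        mul_mem' := by
          intro a b (ha : ((a : ↥t.cent) : G) • Δ.Res J x = Δ.Res J x)
            (hb : ((b : ↥t.cent) : G) • Δ.Res J x = Δ.Res J x)
          change (((a : ↥t.cent) : G) * ((b : ↥t.cent) : G)) • Δ.Res J x = Δ.Res J x
          rw [mul_smul, hb, ha]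
        inv_mem' := by
          intro a (ha : ((a : ↥t.cent) : G) • Δ.Res J x = Δ.Res J x)
          change (((a : ↥t.cent) : G)⁻¹) • Δ.Res J x = Δ.Res J x
          rw [inv_smul_eq_iff, ha] }
    have hD : ∀ n : ↥N, n ∈ D ↔ ((n : ↥t.cent) : G) • Δ.Res J x = Δ.Res J x := fun n => Iff.rfl
    have hDn : D.Normal := by
      constructor
      intro c hc g
      rw [hD] at hc ⊢
      exact h3' _ (g : ↥t.cent).2 (hmem _ g.2) _ (c : ↥t.cent).2 hc
    rw [Group.isSolvable_iff_subgroup_quotient D]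
    constructor
    · let f : ↥D →* ↥(t.cent ⊓ MulAction.stabilizer G (Δ.Res J x)) :=
        { toFun := fun d => ⟨((d : ↥N) : ↥t.cent), ((d : ↥N) : ↥t.cent).2, d.2⟩
          map_one' := rfl
          map_mul' := fun _ _ => rfl }
      refine Group.isSolvable_of_isSolvable_injective (f := f) ?_
      intro a b hab
      apply Subtype.ext
      apply Subtype.ext
      apply Subtype.ext
      have h1 := congrArg Subtype.val hab
      exact h1
    · have hsq : ∀ a : ↥N ⧸ D, a * a = 1 := by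
        intro a
        obtain ⟨n, rfl⟩ := QuotientGroup.mk_surjective a
        rw [← QuotientGroup.mk_mul, QuotientGroup.eq_one_iff]
        exact h3 _ (n : ↥t.cent).2 (hmem _ n.2)
      refine Group.isSolvable_of_comm fun a b => ?_
      have h1 : ∀ c : ↥N ⧸ D, c⁻¹ = c := fun c => inv_eq_of_mul_eq_one_left (hsq c)
      have h2 := h1 (a * b)
      rw [mul_inv_rev, h1, h1] at h2
      exact h2.symm
  obtain ⟨hn, hsol⟩ := isSolvable_quotient S hth hp2 h hNsol
  exact Reduce.le_pElem_of_isSolvable (N := PComponents.pElem p t.cent) le_rfl hsol hL hLp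

end Tw

end Cfsg.Agent.FixBN
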