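import Mathlib
import Cfsg.Agent.FixBN.GatesBldg
/-!
THEOREM LO: in a group with a split (B,N)-pair of odd characteristic, every perfect subgroup of the centraliser
of an involutory automorphism centralises every normal `2`-subgroup of this centraliser.
-/

set_option autoImplicit false
set_option linter.unusedSectionVars false

open scoped Pointwise commutatorElement

namespace Cfsg.Agent.FixBN

open Cfsg.Agent.Tits.Core Cfsg.Agent.Tits.Core.Bldg Cfsg.Agent.Tits.Exchange Cfsg.Agent.Tits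
open Cfsg.Agent.FixBN.Cox Cfsg.Agent.Lib

variable {I : Type*} {M : CoxeterMatrix I} {W : Type*} [Group W] {cs : CoxeterSystem M W} {C : Type*}

variable {Δ : Bldg cs C} {G : Type*} [Group G] [MulAction G C] {p : ℕ} {t : Tw Δ G}
  [F : OppRes.Cox cs] [Finite G] [hp : Fact p.Prime] [Finite C]

namespace Tw

/-- The normaliser of the groups `P Q` is solvable. -/
theorem isSolvable_normalizer (S : Sys Δ G p) {J : Set I} {x : C}
    (h3 : ∀ g ∈ t.cent, (∀ u, u ∈ t.P S (Δ.Res J x) ↔ g * u * g⁻¹ ∈ t.P S (Δ.Res J x)) →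
      (g * g) • Δ.Res J x = Δ.Res J x)
    (h3' : ∀ g ∈ t.cent, (∀ u, u ∈ t.P S (Δ.Res J x) ↔ g * u * g⁻¹ ∈ t.P S (Δ.Res J x)) →
      ∀ c ∈ t.cent, c • Δ.Res J x = Δ.Res J x → (g * c * g⁻¹) • Δ.Res J x = Δ.Res J x)
    (h4 : Group.IsSolvable ↥(t.cent ⊓ MulAction.stabilizer G (Δ.Res J x))) :
    Group.IsSolvable ↥(Subgroup.normalizer
      (((t.P S (Δ.Res J x)).subgroupOf t.cent : Subgroup ↥t.cent) : Set ↥t.cent)) := by
  have hmem : ∀ g : ↥t.cent, g ∈ Subgroup.normalizer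
      (((t.P S (Δ.Res J x)).subgroupOf t.cent : Subgroup ↥t.cent) : Set ↥t.cent) →
      ∀ u, u ∈ t.P S (Δ.Res J x) ↔ (g : G) * u * (g : G)⁻¹ ∈ t.P S (Δ.Res J x) := by
    intro g hg u
    rw [Subgroup.mem_normalizer_iff] at hg
    constructor
    · intro hu
      exact Subgroup.mem_subgroupOf.1 ((hg ⟨u, hu.1⟩).1 (Subgroup.mem_subgroupOf.2 hu))
    · intro hu
      have huc : u ∈ t.cent := by
        have h1 := t.cent.mul_mem (t.cent.mul_mem (t.cent.inv_mem g.2) hu.1) g.2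
        have h2 : (g : G)⁻¹ * ((g : G) * u * (g : G)⁻¹) * g = u := by group
        rwa [h2] at h1
      exact Subgroup.mem_subgroupOf.1 ((hg ⟨u, huc⟩).2 (Subgroup.mem_subgroupOf.2 hu))
  set N := Subgroup.normalizer
    (((t.P S (Δ.Res J x)).subgroupOf t.cent : Subgroup ↥t.cent) : Set ↥t.cent) with hNdef
  let D : Subgroup ↥N :=
    { carrier := {n | ((n : ↥t.cent) : G) • Δ.Res J x = Δ.Res J x}
      one_mem' := one_smul _ _
      mul_mem' := by
        intro a b (ha : ((a : ↥t.cent) : G) • Δ.Res J x = Δ.Res J x)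
          (hb : ((b : ↥t.cent) : G) • Δ.Res J x = Δ.Res J x)
        change (((a : ↥t.cent) : G) * ((b : ↥t.cent) : G)) • Δ.Res J x = Δ.Res J x
        rw [mul_smul, hb, ha]
      inv_mem' := by
        intro a (ha : ((a : ↥t.cent) : G) • Δ.Res J x = Δ.Res J x)
        change (((a : ↥t.cent) : G)⁻¹) • Δ.Res J x = Δ.Res J x
        rw [inv_smul_eq_iff, ha] }
  have hD : ∀ n : ↥N, n ∈ D ↔ ((n : ↥t.cent) : G) • Δ.Res J x = Δ.Res J x := fun n => Iff.rfl
  have hDn : D.Normal := by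
    constructor
    intro c hc g
    rw [hD] at hc ⊢
    exact h3' _ (g : ↥t.cent).2 (hmem _ g.2) _ (c : ↥t.cent).2 hc
  rw [Group.isSolvable_iff_subgroup_quotient D]
  constructor
  · let f : ↥D →* ↥(t.cent ⊓ MulAction.stabilizer G (Δ.Res J x)) :=
      { toFun := fun d => ⟨((d : ↥N) : ↥t.cent), ((d : ↥N) : ↥t.cent).2, d.2⟩
        map_one' := rfl
        map_mul' := fun _ _ => rfl }
    refine Group.isSolvable_of_isSolvable_injective (f := f) ?_
    intro a b hab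
    apply Subtype.ext
    apply Subtype.ext
    apply Subtype.ext
    have h1 := congrArg Subtype.val hab
    exact h1
  · have hsq : ∀ a : ↥N ⧸ D, a * a = 1 := by
      intro a
      obtain ⟨n, rfl⟩ := QuotientGroup.mk_surjective a
      rw [← QuotientGroup.mk_mul, QuotientGroup.eq_one_iff]
      exact h3 _ (n : ↥t.cent).2 (hmem _ n.2)
    refine Group.isSolvable_of_comm fun a b => ?_
    have h1 : ∀ c : ↥N ⧸ D, c⁻¹ = c := fun c => inv_eq_of_mul_eq_one_left (hsq c)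
    have h2 := h1 (a * b)
    rw [mul_inv_rev, h1, h1] at h2
    exact h2.symm

/-- **THEOREM LO**, geometric form. -/
theorem lo (S : Sys Δ G p) (hth : Δ.Thick) (hp2 : p ≠ 2) {J : Set I} {x : C} (h : t.Gd J x)
    (h3 : ∀ g ∈ t.cent, (∀ u, u ∈ t.P S (Δ.Res J x) ↔ g * u * g⁻¹ ∈ t.P S (Δ.Res J x)) →
      (g * g) • Δ.Res J x = Δ.Res J x)
    (h3' : ∀ g ∈ t.cent, (∀ u, u ∈ t.P S (Δ.Res J x) ↔ g * u * g⁻¹ ∈ t.P S (Δ.Res J x)) →
      ∀ c ∈ t.cent, c • Δ.Res J x = Δ.Res J x → (g * c * g⁻¹) • Δ.Res J x = Δ.Res J x)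
    (h4 : Group.IsSolvable ↥(t.cent ⊓ MulAction.stabilizer G (Δ.Res J x)))
    {X P : Subgroup G} (hX : X ≤ t.cent) (hn : ∀ g ∈ t.cent, ∀ x ∈ X, g * x * g⁻¹ ∈ X)
    (h2 : IsPGroup 2 X) (hP : P ≤ t.cent) (hPP : ⁅P, P⁆ = P) : ∀ g ∈ P, ∀ x ∈ X, g * x = x * g := by
  obtain ⟨R, hR⟩ := exists_sylow S hth hp2 h
  have hN := isSolvable_normalizer S h3 h3' h4
  rw [← hR] at hN
  have hXn : (X.subgroupOf t.cent).Normal := by
    constructor
    intro y hy g
    exact Subgroup.mem_subgroupOf.2 (hn g g.2 y (Subgroup.mem_subgroupOf.1 hy))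
  have hX2 : IsPGroup 2 ↥(X.subgroupOf t.cent) := h2.comap_subtype
  have hP' : ⁅P.subgroupOf t.cent, P.subgroupOf t.cent⁆ = P.subgroupOf t.cent := by
    apply Subgroup.map_injective t.cent.subtype_injective
    rw [Subgroup.map_commutator, Subgroup.subgroupOf_map_subtype, inf_eq_left.2 hP, hPP]
  have key := (gsys S hth hp2).perfect_le_centralizer hX2 hp2 R hN hP'
  intro g hg y hy
  have h5 := key (Subgroup.mem_subgroupOf.2 (show ((⟨g, hP hg⟩ : ↥t.cent) : G) ∈ P from hg))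
  rw [Subgroup.mem_centralizer_iff] at h5
  have h6 := h5 ⟨y, hX hy⟩ (Subgroup.mem_subgroupOf.2 (show ((⟨y, hX hy⟩ : ↥t.cent) : G) ∈ X from hy))
  exact (congrArg Subtype.val h6).symm

end Tw

end Cfsg.Agent.FixBN
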