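import Cfsg.Agent.FixBN.FieldRGD
import Cfsg.Agent.Nodes.RGDTypeA

/-!
The groups `PSL_{n+1}(F)`, `F` finite of odd characteristic, `n ≥ 1`, have a good split (B, N)-pair.
-/

set_option autoImplicit false
set_option linter.unusedSectionVars false

namespace Cfsg.Agent.FixBN.PslGood

open Matrix CoxeterSystem Cfsg.Agent.ChevalleyStructure.CoxeterGeom Cfsg.Agent.Tits.Roots Cfsg.Agent.Tits.Core
  Cfsg.Agent.Tits.RootComb Cfsg.Agent.Nodes.Comb Cfsg.Agent.Nodes.Reps Cfsg.Agent.Nodes.BNOf Cfsg.Agent.Nodes.BNOf.RGD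
open Cfsg.Agent.Nodes.RGDLib Cfsg.Agent.Nodes.RootsA Cfsg.Agent.Nodes.RGDTypeA Cfsg.Agent.FixBN.FieldRGD
open Cfsg.Agent.LieRecognition.BNCox (cA)
open Cfsg.Agent.LieClassical.SLGen
open Cfsg.Agent.TitsThree.KSideA (tv tv_of_ne tv_add tv_zero tv_neg)

section Mat

variable {ι F : Type*} [Field F] [DecidableEq ι] [Fintype ι]

theorem key {a b : ι} (hab : a ≠ b) {t : F} (ht : t ≠ 0) :
    nn a b 1 * tv a b t * nn a b 1 = tv a b (-t⁻¹) * nn a b 1 *
      (SpecialLinearGroup.diag2n hab (-t) (neg_ne_zero.2 ht) * tv a b (-t⁻¹)) := by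
  apply smul_ext
  intro v
  have hn : ∀ v : ι → F, nn a b (1 : F) • v = fun l => if l = a then v b else if l = b then - v a else v l := by
    intro v
    funext l
    rw [nn_smul hab one_ne_zero, one_mul, inv_one, neg_one_mul]
  rw [tv_of_ne hab, tv_of_ne hab]
  simp only [mul_smul, transvection_smul, diag2n_smul, hn]
  funext l
  by_cases hl : l = a
  · subst hl
    simp [hab, hab.symm]
    field_simp
    try ring
  · by_cases hl' : l = b
    · subst hl'
      simp [hab, hab.symm]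
      field_simp
      try ring
    · simp [hl, hl', hab.symm]

theorem torus_comm {s t : SpecialLinearGroup ι F} (hs : s ∈ T ι F) (ht : t ∈ T ι F) : s * t = t * s := by
  have hd : ∀ {s : SpecialLinearGroup ι F}, s ∈ T ι F → s.1 = Matrix.diagonal fun a => s.1 a a := by
    intro s hs
    ext a b
    rw [Matrix.diagonal_apply]
    split_ifs with h
    · rw [h]
    · by_contra h0
      exact h (mem_T.1 hs a b h0)
  apply Subtype.ext
  change s.1 * t.1 = t.1 * s.1
  rw [hd hs, hd ht, Matrix.diagonal_mul_diagonal, Matrix.diagonal_mul_diagonal]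
  congr 1
  funext a
  exact mul_comm _ _

theorem isSolvable_T : Group.IsSolvable (T ι F) := by
  apply Group.isSolvable_of_comm
  rintro ⟨a, ha⟩ ⟨b, hb⟩
  exact Subtype.ext (torus_comm ha hb)

end Mat

/-- **`PSL_{n+1}(F)`, `n ≥ 1`.** -/
theorem hasGoodSplit_succ {F : Type} [Field F] [Finite F] {p : ℕ} [CharP F p] (hp2 : p ≠ 2) {n : ℕ} (hn : 1 ≤ n)
    [IsSimpleGroup (ProjectiveSpecialLinearGroup (Fin (n + 1)) F)] :
    HasGoodSplit p (ProjectiveSpecialLinearGroup (Fin (n + 1)) F) := by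
  have hpp : p.Prime := CharP.char_is_prime F p
  have : Fact p.Prime := ⟨hpp⟩
  have h2 : (2 : F) ≠ 0 := by
    intro h0
    have h1 : ((2 : ℕ) : F) = 0 := by exact_mod_cast h0
    rw [CharP.cast_eq_zero_iff F p] at h1
    exact hp2 ((Nat.prime_dvd_prime_iff_eq hpp Nat.prime_two).1 h1)
  have : Finite (cA n).Group := finite_W (cA n).toCoxeterSystem (isCartan n)
  have : Finite (ProjectiveSpecialLinearGroup (Fin (n + 1)) F) := Quotient.finite _
  have : Nonempty (Fin n) := ⟨⟨0, by omega⟩⟩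
  have R := rgd_psl (F := F) (p := p) (cA n).toCoxeterSystem (isCartan n)
  have hgen := rgd_gen_of_G1 R (G1_psl_eq_top (cA n).toCoxeterSystem (isCartan n))
  have hT : Group.IsSolvable ((T (Fin (n + 1)) F).map (pr n F)) := by
    have := isSolvable_T (ι := Fin (n + 1)) (F := F)
    exact Group.isSolvable_of_surjective ((pr n F).subgroupMap_surjective (T (Fin (n + 1)) F))
  refine hasGoodSplit_of_rgd hpp R hgen hT fun i => ?_
  have hab : i.castSucc ≠ i.succ := (Fin.castSucc_lt_succ).ne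
  refine ⟨_, NodeRGD.node R hgen i, Or.inl ⟨F, inferInstance, inferInstance, h2, ⟨?_⟩⟩⟩
  refine fieldNode_of_rgd R hgen i (fun a => pr n F (tv i.castSucc i.succ a)) (fun a c => ?_) (fun y => ?_)
    (fun a ha => ?_) (fun a ha => ?_)
  · rw [tv_add, map_mul]
  · show y ∈ (X F (sr i)).map (pr n F) ↔ _
    rw [X_sr, Subgroup.mem_map]
    constructor
    · rintro ⟨_, ⟨a, rfl⟩, rfl⟩
      exact ⟨a, rfl⟩
    · rintro ⟨a, rfl⟩
      exact ⟨_, ⟨a, rfl⟩, rfl⟩
  · -- the unipotent elements are not central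
    have h1 : tv i.castSucc i.succ a ∈ (pr n F).ker := ha
    rw [ker_pr] at h1
    by_contra hne
    have h3 := Subgroup.mem_center_iff.1 h1 (tv i.succ i.castSucc 1)
    have h4 := congrArg (fun g : SpecialLinearGroup (Fin (n + 1)) F =>
      (g • (Pi.single i.castSucc 1 : Fin (n + 1) → F)) i.castSucc) h3
    rw [tv_of_ne hab, tv_of_ne hab.symm] at h4
    simp only [mul_smul, transvection_smul] at h4
    simp [hab, hab.symm] at h4
    exact hne h4
  · have hk := key hab ha
    have hns : ns n F i = nn i.castSucc i.succ 1 := rfl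
    show (pr n F (tv i.castSucc i.succ (-a⁻¹)) * pr n F (ns n F i))⁻¹ *
      (pr n F (ns n F i) * pr n F (tv i.castSucc i.succ a) * pr n F (ns n F i)) ∈ _
    rw [hns, ← map_mul, ← map_mul, ← map_mul, hk, map_mul _ (_ * _) (_ * _), inv_mul_cancel_left, map_mul]
    refine mul_mem (T_le_B ⟨_, diag_mem_T hab _, rfl⟩) (U_le_B (mem_U (i := i) ?_))
    exact ⟨_, by rw [X_sr]; exact tv_mem_XX _ _ _, rfl⟩

/-- **`PSL_n(F)`, `n ≥ 2`.** -/
theorem hasGoodSplit_psl {F : Type} [Field F] [Finite F] {p : ℕ} [CharP F p] (hp2 : p ≠ 2) {n : ℕ} (hn : 2 ≤ n)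
    [IsSimpleGroup (ProjectiveSpecialLinearGroup (Fin n) F)] :
    HasGoodSplit p (ProjectiveSpecialLinearGroup (Fin n) F) := by
  obtain ⟨m, rfl⟩ : ∃ m, n = m + 1 := ⟨n - 1, by omega⟩
  exact hasGoodSplit_succ hp2 (by omega)

end Cfsg.Agent.FixBN.PslGood
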