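import Cfsg.Agent.FixBN.ReeSplit
import Cfsg.Agent.FixBN.TwOfBN
import Cfsg.Agent.FixBN.BTheorem
import Cfsg.Agent.S1157
import Cfsg.Agent.S1152
import Cfsg.Agent.S1073

/-!
# Automorphisms of order two of the small Ree groups are inner

The automorphism is first moved to one which preserves `B` and the coset `n B` and has 2-power order. On
`U / [U,U]` it is then semilinear for a field automorphism of 2-power order, hence linear; after correcting by an
element of the torus it is the identity on `U / [U,U]`, on the torus, then on `U`, then on the building.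
-/

set_option autoImplicit false

namespace Cfsg.Agent.FixBN.RankOneRee

open Cfsg.Agent.LieRecognition.ReeAbs Cfsg.Agent.LieRecognition.ReeSylowThree Cfsg.Agent.FixBN.ReeSplit
open Cfsg.Agent.Schreier.BNSch (Node)

section Field

variable {K : Type*} [Field K] [Fintype K] {m : ℕ}

/-- A field endomorphism of 2-power order of a field of order `3^(2m+1)` is trivial. -/
theorem field_trivial (hK : Fintype.card K = 3 ^ (2 * m + 1)) (g : K →+* K) (l : ℕ)
    (hg : ∀ x, g^[2 ^ l] x = x) : ∀ x, g x = x := by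
  classical
  have hchar := charP_three hK
  have h3 : Fact (Nat.Prime 3) := ⟨Nat.prime_three⟩
  let _alg : Algebra (ZMod 3) K := ZMod.algebra K 3
  have hbij : Function.Bijective g := Finite.injective_iff_bijective.1 g.injective
  have hcomm : ∀ r : ZMod 3, g (algebraMap (ZMod 3) K r) = algebraMap (ZMod 3) K r := by
    intro r
    have : g.comp (algebraMap (ZMod 3) K) = algebraMap (ZMod 3) K := Subsingleton.elim _ _
    exact congrArg (fun f : ZMod 3 →+* K => f r) this
  let g' : K →ₐ[ZMod 3] K := { g with commutes' := hcomm }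
  let e : K ≃ₐ[ZMod 3] K := AlgEquiv.ofBijective g' hbij
  have he : ∀ x, e x = g x := fun x => rfl
  have hcard : Nat.card (K ≃ₐ[ZMod 3] K) = 2 * m + 1 := by
    rw [IsGalois.card_aut_eq_finrank]
    have h1 := Module.natCard_eq_pow_finrank (K := ZMod 3) (V := K)
    rw [Nat.card_eq_fintype_card, hK, Nat.card_zmod] at h1
    exact (Nat.pow_right_injective (le_refl 2 |>.trans (by norm_num)) h1).symm
  have h1 : e ^ (2 * m + 1) = 1 := by
    rw [← hcard]
    exact pow_card_eq_one'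
  have h2 : e ^ 2 ^ l = 1 := by
    ext x
    have h : ∀ k : ℕ, (e ^ k) x = g^[k] x := by
      intro k
      induction k generalizing x with
      | zero => rfl
      | succ k ih =>
        rw [pow_succ, AlgEquiv.mul_apply, ih, he, Function.iterate_succ_apply]
    rw [h, hg]; rfl
  have h4 : orderOf e = 1 := by
    have hcop : Nat.Coprime (2 * m + 1) (2 ^ l) :=
      Nat.Coprime.pow_right _ (Nat.coprime_two_right.2 ⟨m, rfl⟩)
    exact Nat.eq_one_of_dvd_coprimes hcop (orderOf_dvd_of_pow_eq_one h1) (orderOf_dvd_of_pow_eq_one h2)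
  rw [orderOf_eq_one_iff] at h4
  intro x
  rw [← he, h4]; rfl

/-- the map `s ↦ s + s^P` is onto, `P = 3^(m+1)` -/
theorem add_pow_surjective (hK : Fintype.card K = 3 ^ (2 * m + 1)) (r : K) :
    ∃ s : K, s + s ^ 3 ^ (m + 1) = r := by
  have hchar := charP_three hK
  have h3 : Fact (Nat.Prime 3) := ⟨Nat.prime_three⟩
  have h30 : (3 : K) = 0 := by exact_mod_cast CharP.cast_eq_zero K 3
  let φ : K →+ K := AddMonoidHom.mk' (fun s => s + s ^ 3 ^ (m + 1)) (fun a b => by
    show a + b + (a + b) ^ 3 ^ (m + 1) = _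
    rw [add_pow_char_pow]; ring)
  have hinj : Function.Injective φ := by
    rw [injective_iff_map_eq_zero]
    intro s hs
    have h1 : s ^ 3 ^ (m + 1) = -s := by
      have : s + s ^ 3 ^ (m + 1) = 0 := hs
      linear_combination this
    have h2 : (s ^ 3 ^ (m + 1)) ^ 3 ^ (m + 1) = s := by
      rw [h1, (odd_three_pow _).neg_pow, h1, neg_neg]
    have h3' : (s ^ 3 ^ (m + 1)) ^ 3 ^ (m + 1) = s ^ 3 := by
      rw [← pow_mul, ← pow_add, show m + 1 + (m + 1) = 2 * m + 1 + 1 by ring, pow_succ, pow_mul, ← hK,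
        FiniteField.pow_card]
    have h4 : s ^ 3 = s := by rw [← h3', h2]
    have h5 : ∀ k : ℕ, s ^ 3 ^ k = s := by
      intro k
      induction k with
      | zero => rw [pow_zero, pow_one]
      | succ k ih => rw [pow_succ, pow_mul, ih, h4]
    rw [h5] at h1
    linear_combination s * h30 - h1
  obtain ⟨s, hs⟩ := (Finite.injective_iff_surjective.1 hinj) r
  exact ⟨s, hs⟩

/-- the map `s ↦ s^P - s` is not zero for `m ≥ 1` -/
theorem exists_pow_ne (hm : 1 ≤ m) (hK : Fintype.card K = 3 ^ (2 * m + 1)) :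
    ∃ t : K, t ^ 3 ^ (m + 1) - t ≠ 0 := by
  classical
  by_contra hcon
  push Not at hcon
  have h1 : ∀ t : K, t ^ 3 = t := by
    intro t
    have h2 : t ^ 3 ^ (m + 1) = t := sub_eq_zero.1 (hcon t)
    have h3' : (t ^ 3 ^ (m + 1)) ^ 3 ^ (m + 1) = t ^ 3 := by
      rw [← pow_mul, ← pow_add, show m + 1 + (m + 1) = 2 * m + 1 + 1 by ring, pow_succ, pow_mul, ← hK,
        FiniteField.pow_card]
    rw [← h3', h2, h2]
  have h2 : (Finset.univ : Finset K) ⊆ {0, 1, -1} := by
    intro t _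
    simp only [Finset.mem_insert, Finset.mem_singleton]
    have h3 : t * ((t - 1) * (t + 1)) = 0 := by linear_combination h1 t
    rcases mul_eq_zero.1 h3 with h | h
    · exact Or.inl h
    · rcases mul_eq_zero.1 h with h | h
      · exact Or.inr (Or.inl (sub_eq_zero.1 h))
      · exact Or.inr (Or.inr (eq_neg_of_add_eq_zero_left h))
  have h3 := (Finset.card_le_card h2).trans Finset.card_le_three
  rw [Finset.card_univ, hK] at h3
  have h4 : 3 ^ 3 ≤ 3 ^ (2 * m + 1) := Nat.pow_le_pow_right (by norm_num) (by omega)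
  omega

/-- An additive map fixing all `t' t^P - t t'^P` is the identity. -/
theorem add_trivial (hm : 1 ≤ m) (hK : Fintype.card K = 3 ^ (2 * m + 1)) (e : K → K)
    (hadd : ∀ a b, e (a + b) = e a + e b)
    (hfix : ∀ t t' : K, e (t' * t ^ 3 ^ (m + 1) - t * t' ^ 3 ^ (m + 1)) =
      t' * t ^ 3 ^ (m + 1) - t * t' ^ 3 ^ (m + 1)) (x : K) : e x = x := by
  have hchar := charP_three hK
  have h3 : Fact (Nat.Prime 3) := ⟨Nat.prime_three⟩
  obtain ⟨t, ht⟩ := exists_pow_ne hm hK
  have h1 : ∀ s : K, e (s * s ^ 3 ^ (m + 1) * (t ^ 3 ^ (m + 1) - t)) =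
      s * s ^ 3 ^ (m + 1) * (t ^ 3 ^ (m + 1) - t) := by
    intro s
    have h := hfix (s * t) s
    have e1 : s * (s * t) ^ 3 ^ (m + 1) - s * t * s ^ 3 ^ (m + 1) =
        s * s ^ 3 ^ (m + 1) * (t ^ 3 ^ (m + 1) - t) := by rw [mul_pow]; ring
    rwa [e1] at h
  have hs := add_pow_surjective hK (x / (t ^ 3 ^ (m + 1) - t))
  obtain ⟨s, hs⟩ := hs
  have hx : x = (s + s ^ 3 ^ (m + 1)) * (t ^ 3 ^ (m + 1) - t) := by
    rw [hs, div_mul_cancel₀ _ ht]
  have h2 := h1 (s + 1)
  have h4 := h1 s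
  have h5 := h1 1
  rw [one_pow, mul_one, one_mul] at h5
  have e2 : (s + 1) * (s + 1) ^ 3 ^ (m + 1) * (t ^ 3 ^ (m + 1) - t) =
      s * s ^ 3 ^ (m + 1) * (t ^ 3 ^ (m + 1) - t) + (x + (t ^ 3 ^ (m + 1) - t)) := by
    rw [add_pow_char_pow, one_pow, hx]; ring
  rw [e2, hadd, hadd, h4, h5] at h2
  exact add_right_cancel (add_left_cancel h2)

end Field

section Grp

variable {K : Type*} [Field K] [Fintype K] {G : Type*} [Group G] {m : ℕ} {U : K → K → K → G} {h : Kˣ → G} {n : G}

omit [Fintype K] in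
theorem zero_pow' (m : ℕ) : (0 : K) ^ 3 ^ (m + 1) = 0 := zero_pow (by positivity)

omit [Fintype K] in
theorem U_split (D : Data m U h n) (t u v : K) : U t u v = U t 0 0 * U 0 u v := by
  rw [D.U_mul]; congr 1 <;> simp

omit [Fintype K] in
theorem U_split' (D : Data m U h n) (t u v w : K) : U t u v * U 0 0 w = U t u (v + w) := by
  rw [D.U_mul]; congr 1 <;> simp

theorem cube (hK : Fintype.card K = 3 ^ (2 * m + 1)) (D : Data m U h n) (t u v : K) :
    U t u v * U t u v * U t u v = U 0 0 (-(t ^ 2 * t ^ 3 ^ (m + 1))) := by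
  have hchar := charP_three hK
  have h30 : (3 : K) = 0 := by exact_mod_cast CharP.cast_eq_zero K 3
  rw [D.U_mul, D.U_mul]
  congr 1
  · linear_combination t * h30
  · linear_combination (u - t * t ^ 3 ^ (m + 1)) * h30
  · linear_combination (v - u * t) * h30

/-- the coordinates -/
theorem cube_eq_one (hK : Fintype.card K = 3 ^ (2 * m + 1)) (D : Data m U h n) (t u v : K) :
    U t u v * U t u v * U t u v = 1 ↔ t = 0 := by
  rw [cube hK D, ← D.U_zero]
  constructor
  · intro he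
    obtain ⟨-, -, h1⟩ := U_injective D he
    rw [neg_eq_zero, ← pow_add] at h1
    exact eq_zero_of_pow_eq_zero h1
  · rintro rfl
    rw [zero_pow']; simp

/-- The conditions on an automorphism which are stable under products. -/
structure Good (U : K → K → K → G) (h : Kˣ → G) (n : G) (B : Subgroup G) (β : MulAut G) : Prop where
  torus : ∀ a, β (h a) = h a
  unip : ∀ t u v, ∃ u' v', β (U t u v) = U t u' v'
  refl : ∃ b ∈ B, β n = n * b

omit [Fintype K] in
theorem Good.mem {D : Data m U h n} {β : MulAut G} (hβ : Good U h n (bSub D) β) {b : G} (hb : b ∈ bSub D) :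
    β b ∈ bSub D := by
  obtain ⟨_, ⟨t, u, v, rfl⟩, a, rfl⟩ := hb
  obtain ⟨u', v', he⟩ := hβ.unip t u v
  rw [map_mul, he, hβ.torus]
  exact ⟨_, ⟨t, u', v', rfl⟩, a, rfl⟩

omit [Fintype K] in
theorem Good.mul {D : Data m U h n} {β γ : MulAut G} (hβ : Good U h n (bSub D) β) (hγ : Good U h n (bSub D) γ) :
    Good U h n (bSub D) (β * γ) where
  torus a := by rw [MulAut.mul_apply, hγ.torus, hβ.torus]
  unip t u v := by
    obtain ⟨u', v', he⟩ := hγ.unip t u v
    rw [MulAut.mul_apply, he]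
    exact hβ.unip t u' v'
  refl := by
    obtain ⟨b, hb, he⟩ := hβ.refl
    obtain ⟨c, hc, he'⟩ := hγ.refl
    refine ⟨b * β c, mul_mem hb (hβ.mem hc), ?_⟩
    rw [MulAut.mul_apply, he', map_mul, he, mul_assoc]

omit [Fintype K] in
theorem Good.one {D : Data m U h n} : Good U h n (bSub D) 1 where
  torus _ := rfl
  unip _ u v := ⟨u, v, rfl⟩
  refl := ⟨1, one_mem _, (mul_one n).symm⟩

omit [Fintype K] in
theorem Good.pow {D : Data m U h n} {β : MulAut G} (hβ : Good U h n (bSub D) β) (k : ℕ) :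
    Good U h n (bSub D) (β ^ k) := by
  induction k with
  | zero => exact Good.one
  | succ k ih => rw [pow_succ]; exact ih.mul hβ

omit [Fintype K] in
theorem two_pow_fix {β : MulAut G} {l : ℕ} (hl : β ^ 2 ^ l = 1) {g d : G} (h1 : β g = g * d) (h2 : β d = d)
    (h3 : d * d * d = 1) : d = 1 := by
  have h4 : ∀ k : ℕ, (β ^ k) g = g * d ^ k := by
    intro k
    induction k with
    | zero => rw [pow_zero, pow_zero, mul_one]; rfl
    | succ k ih =>
      rw [pow_succ', MulAut.mul_apply, ih, map_mul, map_pow, h1, h2, pow_succ', mul_assoc]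
  have h5 := h4 (2 ^ l)
  rw [hl, MulAut.one_apply] at h5
  have h6 : d ^ 2 ^ l = 1 := mul_eq_left.1 h5.symm
  have h7 : d ^ 3 = 1 := by rw [pow_succ, pow_two]; exact h3
  have hcop : Nat.Coprime 3 (2 ^ l) := Nat.Coprime.pow_right _ (by norm_num)
  exact orderOf_eq_one_iff.1
    (Nat.eq_one_of_dvd_coprimes hcop (orderOf_dvd_of_pow_eq_one h7) (orderOf_dvd_of_pow_eq_one h6))

/-- A good automorphism of 2-power order is trivial. -/
theorem Good.eq_one (hm : 1 ≤ m) (hK : Fintype.card K = 3 ^ (2 * m + 1)) {D : Data m U h n}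
    (hcore : (bSub D).normalCore = ⊥) {β : MulAut G} (hβ : Good U h n (bSub D) β) {l : ℕ} (hl : β ^ 2 ^ l = 1) :
    β = 1 := by
  classical
  have hchar := charP_three hK
  have h30 : (3 : K) = 0 := by exact_mod_cast CharP.cast_eq_zero K 3
  -- the action on `[U,U]`
  choose x y hxy using hβ.unip
  have eU : ∀ u v, β (U 0 u v) = U 0 (x 0 u v) (y 0 u v) := fun u v => hxy 0 u v
  -- on the centre
  have hz : ∀ v, x 0 0 v = 0 := by
    intro v
    have h1 : U 0 0 v * U 1 0 0 = U 1 0 0 * U 0 0 v := by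
      rw [D.U_mul, D.U_mul]; congr 1 <;> simp
    have h2 := congrArg β h1
    rw [map_mul, map_mul, hxy 0 0 v, hxy 1 0 0, D.U_mul, D.U_mul] at h2
    obtain ⟨-, -, h3⟩ := U_injective D h2
    rw [one_pow, zero_pow'] at h3
    linear_combination -h3
  have hxv : ∀ u v, x 0 u v = x 0 u 0 := by
    intro u v
    have h1 : U 0 u v = U 0 u 0 * U 0 0 v := by rw [U_split' D, zero_add]
    have h2 := congrArg β h1
    rw [map_mul, hxy, hxy, hxy, hz, D.U_mul] at h2
    obtain ⟨-, h3, -⟩ := U_injective D h2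
    rw [h3]; ring
  have hxadd : ∀ u u', x 0 (u + u') 0 = x 0 u 0 + x 0 u' 0 := by
    intro u u'
    have h1 : U 0 (u + u') 0 = U 0 u 0 * U 0 u' 0 := D.U_add u u'
    have h2 := congrArg β h1
    rw [map_mul, hxy, hxy, hxy, D.U_mul] at h2
    obtain ⟨-, h3, -⟩ := U_injective D h2
    rw [h3]; ring
  have hcomm : ∀ t a b t' a' b' : K, ∃ z, U t a b * U t' a' b' =
      U t' a' b' * U t a b * U 0 (t' * t ^ 3 ^ (m + 1) - t * t' ^ 3 ^ (m + 1)) z := by
    intro t a b t' a' b'
    rw [D.U_mul, D.U_mul]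
    refine ⟨(b + b' - a * t' - t ^ 2 * t' ^ (3 ^ (m + 1)) + t * t' * t' ^ (3 ^ (m + 1))) -
      (b' + b - a' * t - t' ^ 2 * t ^ (3 ^ (m + 1)) + t' * t * t ^ (3 ^ (m + 1))), ?_⟩
    rw [D.U_mul]
    congr 1
    · ring
    · rw [zero_pow']; ring
    · rw [zero_pow']; ring
  have he1 : ∀ u, x 0 u 0 = u := by
    intro u
    refine add_trivial hm hK (fun u => x 0 u 0) hxadd ?_ u
    intro t t'
    show x 0 _ 0 = _
    obtain ⟨z, hz1⟩ := hcomm t 0 0 t' 0 0
    obtain ⟨z', hz2⟩ := hcomm t (x t 0 0) (y t 0 0) t' (x t' 0 0) (y t' 0 0)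
    have h2 := congrArg β hz1
    rw [map_mul, map_mul, map_mul, hxy, hxy, hxy, hz2] at h2
    have h3 := mul_left_cancel h2
    obtain ⟨-, h4, -⟩ := U_injective D h3
    rw [← hxv _ z, ← h4]
  have hU0 : ∀ u v, β (U 0 u v) = U 0 u (y 0 u v) := fun u v => by rw [hxy, hxv, he1]
  have hZ : ∀ v, β (U 0 0 v) = U 0 0 v := by
    intro v
    have hc : ∀ a b c : K, U 1 a b * U 0 v c = U 0 v c * U 1 a b * U 0 0 v := by
      intro a b c
      rw [D.U_mul, D.U_mul, D.U_mul]
      congr 1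
      · ring
      · rw [zero_pow']; ring
      · rw [zero_pow']; ring
    have h2 := congrArg β (hc 0 0 0)
    rw [map_mul, map_mul, map_mul, hxy 1 0 0, hU0 v 0, hc] at h2
    exact (mul_left_cancel h2).symm
  have hfix0 : ∀ u, β (U 0 u 0) = U 0 u 0 := by
    intro u
    have h1 : β (U 0 u 0) = U 0 u 0 * U 0 0 (y 0 u 0) := by rw [hU0, U_split' D, zero_add]
    have h2 := two_pow_fix hl h1 (hZ _) ((cube_eq_one hK D _ _ _).2 rfl)
    rw [h1, h2, mul_one]
  have hfix1 : ∀ u v, β (U 0 u v) = U 0 u v := by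
    intro u v
    have h1 : U 0 u v = U 0 u 0 * U 0 0 v := by rw [U_split' D, zero_add]
    rw [h1, map_mul, hfix0, hZ]
  have hfix2 : ∀ t, β (U t 0 0) = U t 0 0 := by
    intro t
    have h1 : β (U t 0 0) = U t 0 0 * U 0 (x t 0 0) (y t 0 0) := by rw [hxy, U_split D]
    have h2 := two_pow_fix hl h1 (hfix1 _ _) ((cube_eq_one hK D _ _ _).2 rfl)
    rw [h1, h2, mul_one]
  have hfix : ∀ t u v, β (U t u v) = U t u v := by
    intro t u v
    rw [U_split D, map_mul, hfix1, hfix2]
  -- all cosets are fixed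
  have hcos : ∀ g, ∃ b ∈ bSub D, β g = g * b := by
    intro g
    obtain ⟨b, hb, hbn⟩ := hβ.refl
    rcases D.bruhat g with ⟨t, u, v, a, rfl⟩ | ⟨t, u, v, a, t', u', v', rfl⟩
    · exact ⟨1, one_mem _, by rw [map_mul, hfix, hβ.torus, mul_one]⟩
    · refine ⟨(U t' u' v')⁻¹ * b * U t' u' v', mul_mem (mul_mem (inv_mem ?_) hb) ?_, ?_⟩
      · exact uSub_le_bSub D ⟨t', u', v', rfl⟩
      · exact uSub_le_bSub D ⟨t', u', v', rfl⟩
      · rw [map_mul, map_mul, map_mul, hfix, hfix, hβ.torus, hbn]; group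
  ext g
  have h1 : g⁻¹ * β g ∈ (bSub D).normalCore := by
    intro c
    obtain ⟨b₁, hb₁, h1⟩ := hcos (g * c⁻¹)
    obtain ⟨b₂, hb₂, h2⟩ := hcos c⁻¹
    have h3 : c * (g⁻¹ * β g) * c⁻¹ = b₁ * b₂⁻¹ := by
      rw [map_mul, h2] at h1
      have h4 : β g * c⁻¹ = g * c⁻¹ * b₁ * b₂⁻¹ := by
        rw [eq_mul_inv_iff_mul_eq, ← h1, mul_assoc]
      calc c * (g⁻¹ * β g) * c⁻¹ = c * g⁻¹ * (β g * c⁻¹) := by group
        _ = _ := by rw [h4]; group
    rw [h3]
    exact mul_mem hb₁ (inv_mem hb₂)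
  rw [hcore, Subgroup.mem_bot] at h1
  rw [MulAut.one_apply]
  exact (inv_mul_eq_one.1 h1).symm

/-! ### Automorphisms modulo inner automorphisms -/

omit [Fintype K] in
theorem mul_conj (τ : MulAut G) (g : G) : τ * MulAut.conj g = MulAut.conj (τ g) * τ := by
  ext x; simp

/-- `β` and `τ` differ by an inner automorphism. -/
def Eqv (τ β : MulAut G) : Prop := ∃ g : G, β = MulAut.conj g * τ

theorem Eqv.conj_mul {τ β : MulAut G} (h : Eqv τ β) (g : G) : Eqv τ (MulAut.conj g * β) := by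
  obtain ⟨x, rfl⟩ := h
  exact ⟨g * x, by rw [map_mul, mul_assoc]⟩

theorem Eqv.mul_conj {τ β : MulAut G} (h : Eqv τ β) (g : G) : Eqv τ (β * MulAut.conj g) := by
  rw [RankOneRee.mul_conj]
  exact h.conj_mul _

theorem Eqv.sq {τ β : MulAut G} (h : Eqv τ β) (hτ : τ * τ = 1) : ∃ c, β * β = MulAut.conj c := by
  obtain ⟨x, rfl⟩ := h
  refine ⟨x * τ x, ?_⟩
  calc MulAut.conj x * τ * (MulAut.conj x * τ) = MulAut.conj x * (τ * MulAut.conj x) * τ := by
        simp only [mul_assoc]
    _ = MulAut.conj x * MulAut.conj (τ x) * (τ * τ) := by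
        rw [RankOneRee.mul_conj]; simp only [mul_assoc]
    _ = _ := by rw [hτ, mul_one, map_mul]

theorem Eqv.pow {τ β : MulAut G} (h : Eqv τ β) (hτ : τ * τ = 1) {k : ℕ} (hk : Odd k) : Eqv τ (β ^ k) := by
  obtain ⟨j, rfl⟩ := hk
  obtain ⟨c, hc⟩ := h.sq hτ
  rw [pow_succ', pow_mul, pow_two, hc, ← map_pow]
  exact h.mul_conj _

theorem exists_odd_pow [Finite G] (β : MulAut G) : ∃ k l : ℕ, Odd k ∧ (β ^ k) ^ 2 ^ l = 1 := by
  have : Finite (MulAut G) := DFunLike.finite _
  obtain ⟨l, k, hk, he⟩ := Nat.exists_eq_two_pow_mul_odd (orderOf_pos β).ne'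
  exact ⟨k, l, hk, by rw [← pow_mul, mul_comm, ← he, pow_orderOf_eq_one]⟩

/-! ### A second fixed point on the building -/

theorem card_bSub (D : Data m U h n) : Nat.card (bSub D) = Fintype.card K ^ 3 * (Fintype.card K - 1) := by
  let f : (K × K × K) × Kˣ → bSub D := fun x => ⟨U x.1.1 x.1.2.1 x.1.2.2 * h x.2, _, ⟨_, _, _, rfl⟩, _, rfl⟩
  have hf : Function.Bijective f := by
    constructor
    · rintro ⟨⟨t, u, v⟩, a⟩ ⟨⟨t', u', v'⟩, a'⟩ he
      obtain ⟨rfl, rfl, rfl, rfl⟩ := D.inj₁ _ _ _ _ _ _ _ _ (congrArg Subtype.val he)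
      rfl
    · rintro ⟨_, _, ⟨t, u, v, rfl⟩, a, rfl⟩
      exact ⟨((t, u, v), a), rfl⟩
  rw [← Nat.card_congr (Equiv.ofBijective f hf), Nat.card_prod, Nat.card_prod, Nat.card_prod, Nat.card_units,
    Nat.card_eq_fintype_card]
  ring

theorem card_quot (hK : Fintype.card K = 3 ^ (2 * m + 1)) (D : Data m U h n) :
    Nat.card (G ⧸ bSub D) = Fintype.card K ^ 3 + 1 := by
  have hG := card_eq D
  rw [Subgroup.card_eq_card_quotient_mul_card_subgroup (bSub D), card_bSub, mul_comm] at hG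
  refine Nat.eq_of_mul_eq_mul_left ?_ hG
  have h1 : 1 < Fintype.card K := Fintype.one_lt_card
  exact Nat.mul_pos (by positivity) (by omega)

theorem exists_coset (hK : Fintype.card K = 3 ^ (2 * m + 1)) (D : Data m U h n) {η : MulAut G}
    (hη : ∀ b, η b ∈ bSub D ↔ b ∈ bSub D) {l : ℕ} (hl : η ^ 2 ^ l = 1) :
    ∃ u ∈ uSub D, ∃ b ∈ bSub D, η (u * n) = u * n * b := by
  classical
  have hfin : Finite G := finite D
  let _ft : Fintype (G ⧸ bSub D) := Fintype.ofFinite _
  have h2 : Fact (Nat.Prime 2) := ⟨Nat.prime_two⟩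
  let σ : Equiv.Perm (G ⧸ bSub D) := Quotient.congr η.toEquiv (by
    intro a b
    show (QuotientGroup.leftRel (bSub D)) a b ↔ (QuotientGroup.leftRel (bSub D)) (η a) (η b)
    rw [QuotientGroup.leftRel_apply, QuotientGroup.leftRel_apply, ← map_inv, ← map_mul, hη])
  have hσ : ∀ g : G, σ (QuotientGroup.mk g) = QuotientGroup.mk (η g) := fun g => rfl
  have hσk : ∀ (k : ℕ) (g : G), (σ ^ k) (QuotientGroup.mk g) = QuotientGroup.mk ((η ^ k) g) := by
    intro k
    induction k with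
    | zero => intro g; rfl
    | succ k ih => intro g; rw [pow_succ, Equiv.Perm.mul_apply, hσ, ih, pow_succ, MulAut.mul_apply]
  have hσl : σ ^ 2 ^ l = 1 := by
    ext x
    obtain ⟨g, rfl⟩ := QuotientGroup.mk_surjective x
    rw [hσk, hl]; rfl
  have hcard : 2 ∣ Fintype.card (G ⧸ bSub D) := by
    rw [← Nat.card_eq_fintype_card, card_quot hK D, hK, ← pow_mul]
    have := odd_three_pow ((2 * m + 1) * 3)
    exact (this.add_odd odd_one).two_dvd
  obtain ⟨x, hx, hx1⟩ := Equiv.Perm.exists_fixed_point_of_prime' hcard hσl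
    (a := QuotientGroup.mk (1 : G)) (by rw [hσ, map_one])
  obtain ⟨g, rfl⟩ := QuotientGroup.mk_surjective x
  rcases D.bruhat g with ⟨t, u, v, a, rfl⟩ | ⟨t, u, v, a, t', u', v', rfl⟩
  · exfalso
    apply hx1
    rw [eq_comm, QuotientGroup.eq, inv_one, one_mul]
    exact ⟨_, ⟨t, u, v, rfl⟩, a, rfl⟩
  · refine ⟨U t u v, ⟨t, u, v, rfl⟩, (U t u v * n)⁻¹ * η (U t u v * n), ?_, by group⟩
    have h1 : (QuotientGroup.mk (U t u v * h a * n * U t' u' v') : G ⧸ bSub D) = QuotientGroup.mk (U t u v * n) := by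
      rw [eq_comm, QuotientGroup.eq]
      have e1 : (U t u v * n)⁻¹ * (U t u v * h a * n * U t' u' v') = (n * (h a * n)) * U t' u' v' := by
        rw [mul_inv_rev, D.n_inv]; group
      rw [e1, D.n_h', ← mul_assoc, D.n_n, one_mul]
      exact mul_mem (h_mem_bSub D _) (uSub_le_bSub D ⟨t', u', v', rfl⟩)
    rw [h1, hσ, eq_comm, QuotientGroup.eq] at hx
    exact hx

/-! ### The action on `U / [U,U]` and on the torus -/

/-- After a further correction an automorphism of 2-power order preserving `B` and `n B` is good. -/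
theorem exists_good (hK : Fintype.card K = 3 ^ (2 * m + 1)) (D : Data m U h n) {η : MulAut G}
    (hη : ∀ b, η b ∈ bSub D ↔ b ∈ bSub D) {l : ℕ} (hl : η ^ 2 ^ l = 1) (hn : ∃ b ∈ bSub D, η n = n * b) :
    ∃ c : G, Good U h n (bSub D) (MulAut.conj c * η) := by
  classical
  have hchar := charP_three hK
  have hp3 : Fact (Nat.Prime 3) := ⟨Nat.prime_three⟩
  have S := split hK D
  obtain ⟨b, hb, hbn⟩ := hn
  -- the torus
  have htor : ∀ a, ∃ a', η (h a) = h a' := by
    intro a
    obtain ⟨u', hu', a', he⟩ := (hη (h a)).2 (h_mem_bSub D a)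
    refine ⟨a', ?_⟩
    have h1 : η n = b⁻¹ * n := by
      have h2 : (η n)⁻¹ = η n := by rw [← map_inv, D.n_inv]
      rw [← h2, hbn, mul_inv_rev, D.n_inv]
    have h2 : b⁻¹ * (n * (u' * h a') * n) * b ∈ bSub D := by
      have h3 : b⁻¹ * (n * (u' * h a') * n) * b = η (h a⁻¹) := by
        have h4 : h a⁻¹ = n * h a * n := by rw [D.n_h, mul_assoc, D.n_n, mul_one]
        calc b⁻¹ * (n * (u' * h a') * n) * b = b⁻¹ * n * (u' * h a') * (n * b) := by simp only [mul_assoc]
          _ = η n * η (h a) * η n := by rw [he, ← hbn, ← h1]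
          _ = _ := by rw [h4, map_mul, map_mul]
      rw [h3, hη]
      exact h_mem_bSub D _
    have h3 : n * (u' * h a') * n ∈ bSub D := by
      have := mul_mem (mul_mem hb h2) (inv_mem hb)
      have e : b * (b⁻¹ * (n * (u' * h a') * n) * b) * b⁻¹ = n * (u' * h a') * n := by group
      rwa [e] at this
    have h4 : n * u' * n ∈ bSub D := by
      have e : n * (u' * h a') * n = n * u' * n * h a'⁻¹ := by
        calc n * (u' * h a') * n = n * u' * (h a' * n) := by simp only [mul_assoc]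
          _ = _ := by rw [D.n_h']; simp only [mul_assoc]
      rw [e] at h3
      have := mul_mem h3 (inv_mem (h_mem_bSub D a'⁻¹))
      rwa [mul_inv_cancel_right] at this
    rw [he, eq_one_of_conj D hu' h4, one_mul]
  have huni : ∀ t u v, ∃ t' u' v', η (U t u v) = U t' u' v' := by
    intro t u v
    have hx : U t u v ∈ uSub D := ⟨t, u, v, rfl⟩
    obtain ⟨k, hk⟩ := S.isP ⟨U t u v, hx⟩
    have hk' : (U t u v) ^ 3 ^ k = 1 := congrArg Subtype.val hk
    exact S.mem_of_pow (n := k) ((hη _).2 (uSub_le_bSub D hx)) (by rw [← map_pow, hk', map_one])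
  choose α hα using htor
  choose F X Y hF using huni
  have hF0 : ∀ u v, F 0 u v = 0 := by
    intro u v
    have h1 := congrArg η ((cube_eq_one hK D 0 u v).2 rfl)
    rw [map_mul, map_mul, map_one, hF] at h1
    exact (cube_eq_one hK D _ _ _).1 h1
  have hFt : ∀ t u v, F t u v = F t 0 0 := by
    intro t u v
    have h1 := congrArg η (U_split D t u v)
    rw [map_mul, hF, hF, hF, D.U_mul] at h1
    obtain ⟨h2, -, -⟩ := U_injective D h1
    rw [h2, hF0, add_zero]
  have hadd : ∀ t t', F (t + t') 0 0 = F t 0 0 + F t' 0 0 := by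
    intro t t'
    have h1 := congrArg η (D.U_mul t 0 0 t' 0 0)
    rw [map_mul, hF, hF, hF, D.U_mul] at h1
    obtain ⟨h2, -, -⟩ := U_injective D h1
    exact (hFt _ _ _).symm.trans h2.symm
  have hmul : ∀ (a : Kˣ) t, F ((a : K) ^ 3 ^ (m + 1) * t) 0 0 = ((α a : Kˣ) : K) ^ 3 ^ (m + 1) * F t 0 0 := by
    intro a t
    have h1 := congrArg η (D.h_U a t 0 0)
    rw [map_mul, map_mul, hF, hF, hα, D.h_U] at h1
    obtain ⟨h2, -, -⟩ := U_injective D (mul_right_cancel h1)
    exact (hFt _ _ _).symm.trans h2.symm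
  have hone : F 1 0 0 ≠ 0 := by
    intro h0
    have h1 : η (U 1 0 0 * U 1 0 0 * U 1 0 0) = 1 := by
      rw [map_mul, map_mul, hF]
      exact (cube_eq_one hK D _ _ _).2 h0
    have h2 : U 1 0 0 * U 1 0 0 * U 1 0 0 = 1 := by
      apply η.injective
      rw [h1, map_one]
    exact one_ne_zero ((cube_eq_one hK D _ _ _).1 h2)
  have hzero : F 0 0 0 = 0 := hF0 0 0
  -- the field automorphism
  have hroot : ∀ s : K, s ≠ 0 → ∃ a : Kˣ, (a : K) ^ 3 ^ (m + 1) = s := by
    intro s hs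
    refine ⟨(Units.mk0 s hs) ^ 3 ^ m, ?_⟩
    have h1 := congrArg Units.val (units_pow_card hK (Units.mk0 s hs))
    rw [Units.val_pow_eq_pow_val, Units.val_mk0] at h1
    rw [Units.val_pow_eq_pow_val, Units.val_mk0, ← pow_mul, ← pow_add, show m + (m + 1) = 2 * m + 1 by ring, h1]
  let g : K →+* K :=
    { toFun := fun s => F s 0 0 / F 1 0 0
      map_zero' := by rw [hzero, zero_div]
      map_one' := div_self hone
      map_add' := fun s t => by rw [hadd, add_div]
      map_mul' := fun s t => by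
        by_cases hs : s = 0
        · rw [hs, zero_mul, hzero, zero_div, zero_mul]
        · obtain ⟨a, rfl⟩ := hroot s hs
          have h1 := hmul a 1
          rw [mul_one] at h1
          rw [hmul, h1]
          field_simp }
  have hg : ∀ s, F s 0 0 = F 1 0 0 * g s := by
    intro s
    show F s 0 0 = F 1 0 0 * (F s 0 0 / F 1 0 0)
    field_simp
  have hit : ∀ j : ℕ, ∃ c : K, ∀ t, ∃ u v, (η ^ j) (U t 0 0) = U (c * g^[j] t) u v := by
    intro j
    induction j with
    | zero => exact ⟨1, fun t => ⟨0, 0, by rw [one_mul]; rfl⟩⟩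
    | succ j ih =>
      obtain ⟨c, hc⟩ := ih
      refine ⟨F 1 0 0 * g c, fun t => ?_⟩
      obtain ⟨u, v, he⟩ := hc t
      refine ⟨X (c * g^[j] t) u v, Y (c * g^[j] t) u v, ?_⟩
      rw [pow_succ', MulAut.mul_apply, he, hF, hFt, hg, map_mul, Function.iterate_succ_apply', mul_assoc]
  have hgt : ∀ x, g x = x := by
    apply field_trivial hK g l
    obtain ⟨c, hc⟩ := hit (2 ^ l)
    have h1 : ∀ t, t = c * g^[2 ^ l] t := by
      intro t
      obtain ⟨u, v, he⟩ := hc t
      rw [hl, MulAut.one_apply] at he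
      exact (U_injective D he).1
    have h2 : g^[2 ^ l] 1 = 1 := iterate_map_one g _
    have h3 := h1 1
    rw [h2, mul_one] at h3
    intro x
    have h4 := h1 x
    rw [← h3, one_mul] at h4
    exact h4.symm
  have hlin : ∀ t, F t 0 0 = F 1 0 0 * t := fun t => by rw [hg, hgt]
  have hαid : ∀ a, α a = a := by
    intro a
    have h1 := hmul a 1
    rw [mul_one, hlin, mul_comm] at h1
    have h2 := mul_right_cancel₀ hone h1
    have h3 : (α a * a⁻¹) ^ 3 ^ (m + 1) = 1 := by
      rw [mul_pow, inv_pow, mul_inv_eq_one]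
      apply Units.ext
      rw [Units.val_pow_eq_pow_val, Units.val_pow_eq_pow_val, h2]
    exact mul_inv_eq_one.1 (eq_one_of_pow_three hK _ _ h3)
  obtain ⟨a0, ha0⟩ := hroot _ hone
  refine ⟨(h a0)⁻¹, ?_, ?_, ?_⟩
  · intro a
    rw [MulAut.mul_apply, hα, hαid, MulAut.conj_apply, inv_inv, mul_assoc, D.h_comm, inv_mul_cancel_left]
  · intro t u v
    rw [MulAut.mul_apply, hF, MulAut.conj_apply, hFt, hlin, ← ha0, ← D.h_inv, D.h_U, D.h_inv,
      mul_inv_cancel_right]
    have h1 : ((a0⁻¹ : Kˣ) : K) ^ 3 ^ (m + 1) * ((a0 : K) ^ 3 ^ (m + 1) * t) = t := by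
      rw [← mul_assoc, ← mul_pow, ← Units.val_mul, inv_mul_cancel, Units.val_one, one_pow, one_mul]
    rw [h1]
    exact ⟨_, _, rfl⟩
  · refine ⟨h a0 * b * h a0, mul_mem (mul_mem (h_mem_bSub D _) hb) (h_mem_bSub D _), ?_⟩
    rw [MulAut.mul_apply, hbn, MulAut.conj_apply, inv_inv, ← D.h_inv]
    calc h a0⁻¹ * (n * b) * h a0 = (h a0⁻¹ * n) * b * h a0 := by simp only [mul_assoc]
      _ = _ := by rw [D.n_h', inv_inv]; simp only [mul_assoc]

/-- Every automorphism of order two is inner. -/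
theorem inner (hm : 1 ≤ m) (hK : Fintype.card K = 3 ^ (2 * m + 1)) (D : Data m U h n) (τ : MulAut G)
    (hτ : τ * τ = 1) : ∃ g, τ = MulAut.conj g := by
  have hfin : Finite G := finite D
  have hp3 : Fact (Nat.Prime 3) := ⟨Nat.prime_three⟩
  have S := split hK D
  obtain ⟨g, hg⟩ := TwOfBN.exists_conj S τ
  have e0 : Eqv τ (MulAut.conj g⁻¹ * τ) := ⟨g⁻¹, rfl⟩
  obtain ⟨k, l, hk, hl⟩ := exists_odd_pow (MulAut.conj g⁻¹ * τ)
  have e1 := e0.pow hτ hk
  have hB : ∀ (j : ℕ) (b : G), ((MulAut.conj g⁻¹ * τ) ^ j) b ∈ bSub D ↔ b ∈ bSub D := by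
    intro j
    induction j with
    | zero => intro b; rfl
    | succ j ih =>
      intro b
      rw [pow_succ, MulAut.mul_apply, ih, MulAut.mul_apply, MulAut.conj_apply, inv_inv]
      exact hg b
  set η := (MulAut.conj g⁻¹ * τ) ^ k with hη
  obtain ⟨u, hu, b, hb, hub⟩ := exists_coset hK D (hB k) hl
  -- conjugate by `u`
  have e2 : Eqv τ (MulAut.conj u⁻¹ * η * MulAut.conj u) := (e1.conj_mul u⁻¹).mul_conj u
  have hpow : ∀ j : ℕ, (MulAut.conj u⁻¹ * η * MulAut.conj u) ^ j = MulAut.conj u⁻¹ * η ^ j * MulAut.conj u := by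
    intro j
    induction j with
    | zero => rw [pow_zero, pow_zero, mul_one, ← map_mul, inv_mul_cancel, map_one]
    | succ j ih =>
      rw [pow_succ, ih, pow_succ, map_inv]
      group
  have hu' := uSub_le_bSub D hu
  have hηu : η u ∈ bSub D := (hB k u).2 hu'
  obtain ⟨c, hc⟩ := exists_good hK D (η := MulAut.conj u⁻¹ * η * MulAut.conj u) (l := l)
    (by
      intro x
      rw [MulAut.mul_apply, MulAut.mul_apply, MulAut.conj_apply, MulAut.conj_apply, inv_inv]
      have h1 : u⁻¹ * η (u * x * u⁻¹) * u ∈ bSub D ↔ η (u * x * u⁻¹) ∈ bSub D := by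
        rw [Subgroup.mul_mem_cancel_right _ hu', Subgroup.mul_mem_cancel_left _ (inv_mem hu')]
      rw [h1, hB k, Subgroup.mul_mem_cancel_right _ (inv_mem hu'), Subgroup.mul_mem_cancel_left _ hu'])
    (by rw [hpow, hl, mul_one, ← map_mul, inv_mul_cancel, map_one])
    (by
      refine ⟨b * (η u)⁻¹ * u, mul_mem (mul_mem hb (inv_mem hηu)) hu', ?_⟩
      rw [MulAut.mul_apply, MulAut.mul_apply, MulAut.conj_apply, MulAut.conj_apply, inv_inv, map_mul, hub, map_inv]
      group)
  have e3 := e2.conj_mul c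
  obtain ⟨k', l', hk', hl'⟩ := exists_odd_pow (MulAut.conj c * (MulAut.conj u⁻¹ * η * MulAut.conj u))
  obtain ⟨x, hx⟩ := e3.pow hτ hk'
  rw [(hc.pow k').eq_one hm hK S.core hl'] at hx
  refine ⟨x⁻¹, ?_⟩
  rw [map_inv]
  exact eq_inv_of_mul_eq_one_right hx.symm

end Grp

/-! ### The property `SB` -/

section SB

open Cfsg Cfsg.Agent.FixBN.Reduce Cfsg.Agent.LieRecognition

/-- An odd normal subgroup of `Z₂ × L` is trivial. -/
theorem odd_normal_prod {L : Type*} [Group L] [Finite L] [IsSimpleGroup L] (he : Even (Nat.card L))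
    (W : Subgroup (Multiplicative (ZMod 2) × L)) (hn : W.Normal) (ho : Odd (Nat.card W)) : W = ⊥ := by
  have h1 : W.map (MonoidHom.snd _ _) = ⊥ := by
    have hn' : (W.map (MonoidHom.snd (Multiplicative (ZMod 2)) L)).Normal :=
      hn.map _ fun x => ⟨(1, x), rfl⟩
    rcases IsSimpleGroup.eq_bot_or_eq_top_of_normal _ hn' with h | h
    · exact h
    · exfalso
      have h2 := Subgroup.card_map_dvd (H := W) (MonoidHom.snd (Multiplicative (ZMod 2)) L)
      rw [h, Subgroup.card_top] at h2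
      have h3 := ho.of_dvd_nat h2
      exact (Nat.not_even_iff_odd.2 h3) he
  rw [Subgroup.eq_bot_iff_forall]
  intro w hw
  have h2 : w.2 = 1 := by
    have : w.2 ∈ W.map (MonoidHom.snd _ _) := ⟨w, hw, rfl⟩
    rw [h1] at this
    exact this
  have h3 : w ^ 2 = 1 := by
    refine Prod.ext ?_ ?_
    · show w.1 ^ 2 = 1
      have : ∀ z : Multiplicative (ZMod 2), z ^ 2 = 1 := by decide
      exact this _
    · show w.2 ^ 2 = 1
      rw [h2, one_pow]
  have h4 : w ^ Nat.card W = 1 := by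
    have := pow_card_eq_one' (x := (⟨w, hw⟩ : W))
    exact congrArg Subtype.val this
  have hcop : Nat.Coprime 2 (Nat.card W) := Nat.coprime_two_left.2 ho
  exact orderOf_eq_one_iff.1
    (Nat.eq_one_of_dvd_coprimes hcop (orderOf_dvd_of_pow_eq_one h3) (orderOf_dvd_of_pow_eq_one h4))

theorem even_of_sq {L : Type*} [Group L] {x : L} (h : x ≠ 1) (h2 : x * x = 1) : Even (Nat.card L) := by
  rw [even_iff_two_dvd]
  have h1 : orderOf x = 2 := orderOf_eq_prime (by rw [pow_two]; exact h2) h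
  rw [← h1]
  exact orderOf_dvd_natCard _

theorem even_card_psl {F : Type*} [Field F] [Fintype F] {m : ℕ} (hF : Fintype.card F = 3 ^ (2 * m + 1)) :
    Even (Nat.card (Matrix.ProjectiveSpecialLinearGroup (Fin 2) F)) := by
  have := charP_three hF
  have hk := ReePSL.klein (K := F)
  exact even_of_sq hk.i_ne hk.ii

theorem sb_of {G : Type*} [Group G] [Finite G] [IsSimpleGroup G] (hcen : Subgroup.center G = ⊥)
    {L : Type*} [Group L] [Finite L] [IsSimpleGroup L] (heL : Even (Nat.card L)) {a : G} (ha1 : a ≠ 1)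
    (ha2 : a * a = 1) (e : ↥(Subgroup.centralizer ({a} : Set G)) ≃* Multiplicative (ZMod 2) × L)
    (hconj : ∀ g : G, g ≠ 1 → g * g = 1 → ∃ c, c * a * c⁻¹ = g)
    (hin : ∀ τ : MulAut G, τ * τ = 1 → ∃ g, τ = MulAut.conj g) : SB G := by
  intro τ hτ L₀ _ W hWn hWo
  obtain ⟨g, hg⟩ := hin (τ : MulAut G) (MulEquiv.ext hτ)
  have hgx : ∀ x, τ x = g * x * g⁻¹ := fun x => by
    have := congrArg (fun f : MulAut G => f x) hg
    simpa using this
  have hg2 : g * g = 1 := by
    have h1 : g * g ∈ Subgroup.center G := by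
      rw [Subgroup.mem_center_iff]
      intro x
      have h2 := hτ x
      rw [hgx, hgx] at h2
      calc x * (g * g) = g * (g * x * g⁻¹) * g⁻¹ * (g * g) := by rw [h2]
        _ = g * g * x := by group
    rw [hcen] at h1
    exact h1
  suffices hW : W = ⊥ by rw [hW, Subgroup.commutator_bot_right]
  by_cases hg1 : g = 1
  · -- `τ = 1`
    have hall : ∀ x, x ∈ fixSub τ := fun x => by rw [mem_fixSub, hgx, hg1]; group
    have hn : (W.map (fixSub τ).subtype).Normal := by
      constructor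
      rintro _ ⟨w, hw, rfl⟩ x
      exact ⟨⟨x, hall x⟩ * w * ⟨x, hall x⟩⁻¹, hWn.conj_mem w hw _, rfl⟩
    have hcard : Nat.card (W.map (fixSub τ).subtype) = Nat.card W :=
      (Nat.card_congr (W.equivMapOfInjective _ (fixSub τ).subtype_injective).toEquiv).symm
    rcases IsSimpleGroup.eq_bot_or_eq_top_of_normal _ hn with h1 | h1
    · exact (Subgroup.map_eq_bot_iff_of_injective _ (fixSub τ).subtype_injective).1 h1
    · exfalso
      rw [h1, Subgroup.card_top] at hcard
      rw [← hcard] at hWo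
      exact (Nat.not_even_iff_odd.2 hWo) (even_of_sq ha1 ha2)
  · obtain ⟨c, hc'⟩ := hconj g hg1 hg2
    -- `C(τ) ≃ C(a)`
    have hmem : ∀ x, x ∈ fixSub τ ↔ c⁻¹ * x * c ∈ Subgroup.centralizer ({a} : Set G) := by
      intro x
      rw [mem_fixSub, hgx, Subgroup.mem_centralizer_singleton_iff, ← hc']
      constructor
      · intro h1
        have h2 := congrArg (fun y => c⁻¹ * y * (c * a)) h1
        calc c⁻¹ * x * c * a = c⁻¹ * x * (c * a) := by group
          _ = c⁻¹ * (c * a * c⁻¹ * x * (c * a * c⁻¹)⁻¹) * (c * a) := h2.symm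
          _ = _ := by group
      · intro h1
        calc c * a * c⁻¹ * x * (c * a * c⁻¹)⁻¹ = c * (a * (c⁻¹ * x * c)) * a⁻¹ * c⁻¹ := by group
          _ = c * (c⁻¹ * x * c * a) * a⁻¹ * c⁻¹ := by rw [h1]
          _ = x := by group
    let f : ↥(fixSub τ) →* ↥(Subgroup.centralizer ({a} : Set G)) :=
      { toFun := fun x => ⟨c⁻¹ * x * c, (hmem x).1 x.2⟩
        map_one' := Subtype.ext (by simp)
        map_mul' := fun x y => Subtype.ext (by
          show c⁻¹ * ((x : G) * y) * c = c⁻¹ * x * c * (c⁻¹ * y * c)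
          group) }
    have hf : Function.Injective f := by
      intro x y hxy
      have h1 : c⁻¹ * (x : G) * c = c⁻¹ * y * c := congrArg Subtype.val hxy
      exact Subtype.ext (mul_left_cancel (mul_right_cancel h1))
    have hf' : Function.Surjective f := by
      rintro ⟨y, hy⟩
      refine ⟨⟨c * y * c⁻¹, (hmem _).2 ?_⟩, Subtype.ext ?_⟩
      · have : c⁻¹ * (c * y * c⁻¹) * c = y := by group
        rw [this]; exact hy
      · show c⁻¹ * (c * y * c⁻¹) * c = y
        group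
    let F := e.toMonoidHom.comp f
    have hF : Function.Injective F := e.injective.comp hf
    have hF' : Function.Surjective F := e.surjective.comp hf'
    have h1 : W.map F = ⊥ := by
      refine odd_normal_prod heL _ (hWn.map F hF') ?_
      rwa [← Nat.card_congr (W.equivMapOfInjective _ hF).toEquiv]
    exact (Subgroup.map_eq_bot_iff_of_injective _ hF).1 h1

theorem sb_twistedG2 {K : Type*} [Field K] [Fintype K] {m : ℕ} (hm : 1 ≤ m)
    (hK : Fintype.card K = 3 ^ (2 * m + 1)) : SB ↥(Cfsg.Lie.twistedG2 K (3 ^ m)) := by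
  classical
  have hchar := charP_three hK
  obtain ⟨U, h, n, D⟩ := Cfsg.Agent.ChevalleyStructure.Ree.Data.exists_data hK
  have hfin : Finite ↥(Cfsg.Lie.twistedG2 K (3 ^ m)) := finite D
  obtain ⟨hs, hc⟩ := Cfsg.Agent.S1073.result hm hK
  obtain ⟨a, haH, ha1, ha2⟩ := Cfsg.Agent.S1157.exists_involution hK
  obtain ⟨⟨e⟩, hS⟩ := Cfsg.Agent.S1152.result hK a haH ha1 ha2
  have hcd := ReeCent.centData ha1 ha2 e ReePSL.klein
  have hL : IsSimpleGroup (Matrix.ProjectiveSpecialLinearGroup (Fin 2) K) := by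
    apply Matrix.ProjectiveSpecialLinearGroup.rank_two_simple
    rw [Nat.card_eq_fintype_card, hK]
    have : 3 ^ 3 ≤ 3 ^ (2 * m + 1) := Nat.pow_le_pow_right (by norm_num) (by omega)
    omega
  exact sb_of (BTheorem.center_eq_bot hc) (even_card_psl hK) ha1 ha2 e
    (fun g hg1 hg2 => ReeInv.isConj_involution hcd ReePSL.klein (Cfsg.Agent.S1116.result hK hm) hS hg1 hg2)
    (inner hm hK D)

/-- `SB` for the small Ree groups. -/
theorem sb_of_isoRee {G : Type*} [Group G] (h : Cfsg.Lie.IsoRee G) : SB G := by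
  obtain ⟨K, _, _, m, hm, hK, ⟨e⟩⟩ := h
  exact BTheorem.sb_congr e.symm (sb_twistedG2 hm hK)

end SB

end Cfsg.Agent.FixBN.RankOneRee
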