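import Cfsg.Agent.FixBN.ChevSB
import Cfsg.Agent.Nodes.RGDTwNode
import Cfsg.Agent.S1070
import Cfsg.Agent.S1071

/-!
The twisted groups `³D₄(q)`, `²E₆(q)` of odd characteristic have good split (B, N)-pairs, hence satisfy `SB`.
-/

set_option autoImplicit false
set_option linter.unusedSectionVars false
set_option maxHeartbeats 400000

namespace Cfsg.Agent.FixBN.TwGood

open CoxeterSystem Cfsg.Agent.ChevalleyStructure.CoxeterGeom Cfsg.Agent.Tits.Roots Cfsg.Agent.Tits.Core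
  Cfsg.Agent.Tits.RootComb Cfsg.Agent.Nodes.Comb Cfsg.Agent.Nodes.Reps Cfsg.Agent.Nodes.BNOf Cfsg.Agent.Nodes.BNOf.RGD
open Cfsg.Lie Cfsg.Agent.ChevalleyStructure Cfsg.Agent.ChevalleyStructure.Elts
  Cfsg.Agent.Nodes.RGDChev Cfsg.Agent.Nodes.RGDFold Cfsg.Agent.Nodes.RGDFoldSL Cfsg.Agent.FixBN.FieldRGD
open scoped MatrixGroups

section Fold

variable {D : ChevalleyDatum} {l : ℕ} {M' : CoxeterMatrix (Fin l)} {hp : IsType D l M'} {K : Type} [Field K]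
  {m : ℕ} {M : CoxeterMatrix (Fin m)} {W : Type*} [Group W] (cs : CoxeterSystem M W)
  {A : Fin m → Fin m → ℤ} (h : IsCartan M A)
  {J : Fin m → List (Fin l)} {L : List (List ℕ)} {σ : GL D.Idx K →* GL D.Idx K} {ρ ρ' : ℕ → ℕ}
  {f : ℕ → K → K} {G : Subgroup (GL D.Idx K)}

theorem slNode_fold [Finite K] (FG : FoldGrp hp K J L σ ρ ρ' f G) {i : Fin m} {r : ℕ}
    {o : List ℕ} (N : NodeOK D J L ρ i r o) {φ : K →+* K} (hf : ∀ s ∈ r :: o, ∀ t, f s t = φ t)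
    (h2 : (2 : K) ≠ 0) :
    SLNode cs h ((D.diagonalSubgroup K ⊓ G).subgroupOf G) (fun i => (⟨nI hp K (J i), FG.nG i⟩ : ↥G))
      (fun z => (R D hp K J σ z).subgroupOf G) i := by
  have huu : ∀ a : Fx φ (o.length + 1), uu a = SL2Hom.up a := fun a => rfl
  refine ⟨Fx φ (o.length + 1), inferInstance, inferInstance, Phi FG N hf, 1, one_ne_zero, ?_, ?_, ?_, ?_, ?_⟩
  · intro h0
    apply h2
    have h3 : ((2 : Fx φ (o.length + 1)) : K) = 0 := by rw [h0]; rfl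
    exact h3
  · intro y
    rw [mem_X_iff FG N hf]
    exact ⟨fun ⟨a, e⟩ => ⟨a, e.symm⟩, fun ⟨a, e⟩ => ⟨a, e.symm⟩⟩
  · intro a ha
    refine Phi_up_injective FG N hf ?_
    show Phi FG N hf (SL2Hom.up a) = Phi FG N hf (SL2Hom.up 0)
    have h3 : (SL2Hom.up (0 : Fx φ (o.length + 1))) = 1 := by
      apply Subtype.ext
      show (!![1, 0; 0, 1] : Matrix (Fin 2) (Fin 2) _) = 1
      exact Matrix.one_fin_two.symm
    rw [h3, map_one]
    exact ha
  · intro c hc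
    refine T_le_B ?_
    have h3 : dd c hc = hS c := by
      apply Subtype.ext
      exact (coe_hS hc).symm
    rw [h3]
    exact Phi_hS FG N hf hc
  · have h3 : ww (1 : Fx φ (o.length + 1)) one_ne_zero = wS 1 := by
      apply Subtype.ext
      exact (coe_wS one_ne_zero).symm
    rw [h3]
    exact Phi_wS FG N hf

theorem isSolvable_T (hp : IsType D l M') : Group.IsSolvable ((D.diagonalSubgroup K ⊓ G).subgroupOf G) := by
  apply Group.isSolvable_of_comm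
  rintro ⟨a, ha⟩ ⟨b, hb⟩
  apply Subtype.ext
  apply Subtype.ext
  exact ChevGood.diag_comm K hp (Subgroup.mem_subgroupOf.1 ha).1 (Subgroup.mem_subgroupOf.1 hb).1

theorem two_ne {p : ℕ} [CharP K p] (hp2 : p ≠ 2) [Finite K] : (2 : K) ≠ 0 := by
  have hpp : p.Prime := CharP.char_is_prime K p
  intro h0
  have h1 : ((2 : ℕ) : K) = 0 := by exact_mod_cast h0
  rw [CharP.cast_eq_zero_iff K p] at h1
  exact hp2 ((Nat.prime_dvd_prime_iff_eq hpp Nat.prime_two).1 h1)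

theorem hasGoodSplit_fold [Finite K] (p : ℕ) [CharP K p] (hp2 : p ≠ 2) [Nonempty (Fin m)] [IsSimpleGroup ↥G]
    (h : IsCartan M A)
    (FD : FoldData D M A J L) (FG : FoldGrp hp K J L σ ρ ρ' f G) (r : Fin m → ℕ) (o : Fin m → List ℕ)
    (N : ∀ i, NodeOK D J L ρ i (r i) (o i)) {φ : K →+* K} (hf : ∀ i, ∀ s ∈ r i :: o i, ∀ t, f s t = φ t) :
    HasGoodSplit p ↥G := by
  have hpp : p.Prime := CharP.char_is_prime K p
  have : Fact p.Prime := ⟨hpp⟩
  have : Finite M.Group := finite_W (hp := hp) M.toCoxeterSystem h FD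
  have hR := Nodes.RGDFold.rgd M.toCoxeterSystem h FD FG p
  have hgen := Cfsg.Agent.Nodes.RGDLib.rgd_gen_of_G1 hR (Nodes.RGDFold.G1_eq_top M.toCoxeterSystem h FD FG p)
  exact hasGoodSplit_of_rgd hpp hR hgen (isSolvable_T hp) fun i =>
    goodNode_of_sl hR hgen (slNode_fold M.toCoxeterSystem h FG (N i) (hf i) (two_ne hp2))

end Fold

/-- **`³D₄(q)`, `q` odd.** -/
theorem hasGoodSplit_D4 {K : Type} [Field K] [Fintype K] {q : ℕ} (hq : IsPrimePow q) (hK : Fintype.card K = q ^ 3)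
    (p : ℕ) [CharP K p] (hp2 : p ≠ 2) : HasGoodSplit p ↥(twistedD4 K q) := by
  obtain ⟨φ, hφ⟩ := D4Fixed.exists_frob hq hK
  have : IsSimpleGroup ↥(twistedD4 K q) := (Cfsg.Agent.S1071.result hq hK).1
  exact hasGoodSplit_fold p hp2 Nodes.RGDTwD4.isCartan Nodes.RGDTwD4.foldData
    (Nodes.RGDTwD4.foldGrp hφ (D4Fixed.twisted_le_fix hK hφ)) _ _ Nodes.RGDTwNode.D4.nodeOK (φ := φ)
    fun i s hs t => by rw [Nodes.RGDTwNode.D4.eps_one i s hs, Int.cast_one, one_mul]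

/-- **`²E₆(q)`, `q` odd.** -/
theorem hasGoodSplit_E6 {K : Type} [Field K] [Fintype K] {q : ℕ} (hq : IsPrimePow q) (hK : Fintype.card K = q ^ 2)
    (p : ℕ) [CharP K p] (hp2 : p ≠ 2) : HasGoodSplit p ↥(twistedE6 K q) := by
  obtain ⟨φ, hφ, hqq⟩ := TwE6Basic.exists_frob hq hK
  have : IsSimpleGroup ↥(twistedE6 K q) := (Cfsg.Agent.S1070.result hq hK).1
  exact hasGoodSplit_fold p hp2 Nodes.RGDTwE6.isCartan Nodes.RGDTwE6.foldData
    (Nodes.RGDTwE6.foldGrp hφ hqq) _ _ Nodes.RGDTwNode.E6.nodeOK (φ := φ)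
    fun i s hs t => by rw [Nodes.RGDTwNode.E6.eps_one i s hs, Int.cast_one, one_mul]

/-- **`SB` for `³D₄(q)`, `²E₆(q)`, `q` odd.** -/
theorem sb_of_twisted {p : ℕ} (hp2 : p ≠ 2) {G : Type*} [Group G] [IsSimpleGroup G] (hG : IsTwistedE6D4Char p G) :
    Reduce.SB G := by
  obtain ⟨K, _, _, _, q, hq, ⟨hK, ⟨e⟩⟩ | ⟨hK, ⟨e⟩⟩⟩ := hG
  · have : IsSimpleGroup ↥(twistedE6 K q) := (Cfsg.Agent.S1070.result hq hK).1
    have : Fact p.Prime := ⟨CharP.char_is_prime K p⟩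
    exact Reduce.SB.congr e.symm ((hasGoodSplit_E6 hq hK p hp2).sb hp2)
  · have : IsSimpleGroup ↥(twistedD4 K q) := (Cfsg.Agent.S1071.result hq hK).1
    have : Fact p.Prime := ⟨CharP.char_is_prime K p⟩
    exact Reduce.SB.congr e.symm ((hasGoodSplit_D4 hq hK p hp2).sb hp2)

end Cfsg.Agent.FixBN.TwGood
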