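import Cfsg.Agent.FixBN.WittNodeD
import Cfsg.Agent.FixBN.OutSplit
import Cfsg.Prelude.Def_LieTypeChar

/-!
# `SB` for the classical groups `PSp`, `PSU`, `PΩ` of odd characteristic

`sb_of_psp`, `sb_of_psu`, `sb_of_pomegaOdd`, `sb_of_pomegaPlus`, `sb_of_pomegaMinus`.
-/

set_option autoImplicit false

namespace Cfsg.Agent.FixBN.WittNodeE

open Cfsg Cfsg.Agent.FixBN

variable {p : ℕ} {G : Type*} [Group G] [IsSimpleGroup G]

/-- transport of `SB` along an isomorphism from a simple group with a good split (B, N)-pair -/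
theorem sb_of_equiv {K : Type*} [Group K] [Finite K] [hp : Fact p.Prime] (hp2 : p ≠ 2)
    (h : ∀ _ : IsSimpleGroup K, HasGoodSplit p K) (e : G ≃* K) : Reduce.SB G := by
  have hK : IsSimpleGroup K := e.symm.isSimpleGroup
  exact Reduce.SB.congr e.symm ((h hK).sb hp2)

theorem odd_of_ne [hp : Fact p.Prime] (hp2 : p ≠ 2) : Odd p := hp.out.odd_of_ne_two hp2

/-- **`SB` for `PSp_{2m}(q)`, `q` odd.** -/
theorem sb_of_psp (hp2 : p ≠ 2) (hG : IsPSpChar p G) : Reduce.SB G := by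
  obtain ⟨F, _, _, _, m, hm, -, ⟨e⟩⟩ := hG
  have : Fact p.Prime := ⟨CharP.char_is_prime F p⟩
  have : Finite (PSp m F) := Quotient.finite _
  exact sb_of_equiv hp2 (fun _ => WittNodeC.hasGoodSplit_PSp (by omega) (odd_of_ne hp2)) e

/-- **`SB` for `PSU_n(q)`, `q` odd.** -/
theorem sb_of_psu (hp2 : p ≠ 2) (hG : IsPSUChar p G) : Reduce.SB G := by
  obtain ⟨F, _, _, _, n, q, hq, hn, -, ⟨e⟩⟩ := hG
  have : Fact p.Prime := ⟨CharP.char_is_prime F p⟩
  have : Finite (PSU n F q) := Quotient.finite _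
  exact sb_of_equiv hp2 (fun _ => WittNodeC.hasGoodSplit_PSU hq hn (odd_of_ne hp2)) e

/-- **`SB` for `PΩ_{2m+1}(q)`, `q` odd.** -/
theorem sb_of_pomegaOdd (hp2 : p ≠ 2) (hG : IsPOmegaOddChar p G) : Reduce.SB G := by
  obtain ⟨F, _, _, _, m, hm, -, ⟨e⟩⟩ := hG
  have : Fact p.Prime := ⟨CharP.char_is_prime F p⟩
  have : Finite (POmega F (quadFormOdd m F)) := Quotient.finite _
  exact sb_of_equiv hp2 (fun _ => WittNodeO.hasGoodSplit_odd (by omega) (odd_of_ne hp2)) e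

/-- **`SB` for `PΩ⁺_{2m}(q)`, `q` odd.** -/
theorem sb_of_pomegaPlus (hp2 : p ≠ 2) (hG : IsPOmegaPlusChar p G) : Reduce.SB G := by
  obtain ⟨F, _, _, _, m, hm, ⟨e⟩⟩ := hG
  have : Fact p.Prime := ⟨CharP.char_is_prime F p⟩
  have : Finite (POmega F (quadFormPlus m F)) := Quotient.finite _
  exact sb_of_equiv hp2 (fun _ => WittNodeD.hasGoodSplit_plus (odd_of_ne hp2) (by omega)) e

/-- **`SB` for `PΩ⁻_{2m}(q)`, `q` odd.** -/
theorem sb_of_pomegaMinus (hp2 : p ≠ 2) (hG : IsPOmegaMinusChar p G) : Reduce.SB G := by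
  obtain ⟨F, _, _, _, m, a, b, hm, hab, ⟨e⟩⟩ := hG
  have : Fact p.Prime := ⟨CharP.char_is_prime F p⟩
  have : Finite (POmega F (quadFormMinus (m - 1) F a b)) := Quotient.finite _
  exact sb_of_equiv hp2 (fun _ => WittNodeO.hasGoodSplit_minus (by omega) (odd_of_ne hp2) a b hab) e

end Cfsg.Agent.FixBN.WittNodeE
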