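import Cfsg.Agent.FixBN.LOSplit
import Cfsg.Agent.FixBN.PslGood
import Cfsg.Agent.FixBN.ChevSB
import Cfsg.Agent.FixBN.TwGood
import Cfsg.Agent.FixBN.WittNodeE
import Cfsg.Agent.FixBN.RankOneRee
/-!
THEOREM LO for all the simple groups of Lie type of odd characteristic.

* `exists_good_model` : a simple group of Lie type of odd characteristic `p` is isomorphic to a simple group
  with a good split (B,N)-pair of characteristic `p`, or it is a small Ree group;
* `loAut_of_isLieTypeChar`.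
-/

set_option autoImplicit false

open scoped commutatorElement

namespace Cfsg.Agent.FixBN

open Cfsg Cfsg.Lie Cfsg.Agent.ChevalleyStructure.CoxeterGeomTypes Cfsg.Agent.Nodes.RGDChev

/-- `G` is isomorphic to a simple group with a good split (B,N)-pair of characteristic `p`. -/
def GoodModel (p : ℕ) (G : Type*) [Group G] : Prop :=
  ∃ (K : Type) (_ : Group K) (_ : Finite K) (_ : IsSimpleGroup K) (_ : Fact p.Prime),
    HasGoodSplit p K ∧ Nonempty (G ≃* K)

theorem GoodModel.mk' {p : ℕ} {G : Type*} [Group G] [IsSimpleGroup G] {K : Type} [Group K] [Finite K]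
    [hp : Fact p.Prime] (h : ∀ _ : IsSimpleGroup K, HasGoodSplit p K) (e : G ≃* K) : GoodModel p G := by
  have hK : IsSimpleGroup K := e.symm.isSimpleGroup
  exact ⟨K, inferInstance, inferInstance, hK, hp, h hK, ⟨e⟩⟩

theorem GoodModel.of_group {G : Type*} [Group G] [IsSimpleGroup G] {D : ChevalleyDatum} {l : ℕ}
    {M : CoxeterMatrix (Fin l)} (hp : IsType D l M) [Nonempty (Fin l)] {K : Type} [Field K] [Finite K] {p : ℕ}
    [CharP K p] (hp2 : p ≠ 2) (e : G ≃* ↥(D.group K)) : GoodModel p G := by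
  have : Fact p.Prime := ⟨CharP.char_is_prime K p⟩
  exact GoodModel.mk' (fun _ => ChevGood.hasGoodSplit_group K p hp2 hp) e

/-- **The simple groups of Lie type of odd characteristic have a good split (B,N)-pair** (up to
isomorphism), except the small Ree groups. -/
theorem exists_good_model {p : ℕ} (hp2 : p ≠ 2) {G : Type*} [Group G] [IsSimpleGroup G]
    (hG : IsLieTypeChar p G) : GoodModel p G ∨ Lie.IsoRee G := by
  have hodd : ∀ [Fact p.Prime], Odd p := fun {h} => h.out.odd_of_ne_two hp2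
  rcases hG with hG | hG | hG | hG | hG | hG | hG | hG | hG | hG | hG
  · obtain ⟨F, _, _, _, n, hn, -, ⟨e⟩⟩ := hG
    have : Fact p.Prime := ⟨CharP.char_is_prime F p⟩
    have : Finite (Matrix.ProjectiveSpecialLinearGroup (Fin n) F) := Quotient.finite _
    exact Or.inl (GoodModel.mk' (fun _ => PslGood.hasGoodSplit_psl hp2 hn) e)
  · obtain ⟨F, _, _, _, m, hm, -, ⟨e⟩⟩ := hG
    have : Fact p.Prime := ⟨CharP.char_is_prime F p⟩
    have : Finite (PSp m F) := Quotient.finite _
    exact Or.inl (GoodModel.mk' (fun _ => WittNodeC.hasGoodSplit_PSp (by omega) hodd) e)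
  · obtain ⟨F, _, _, _, n, q, hq, hn, -, ⟨e⟩⟩ := hG
    have : Fact p.Prime := ⟨CharP.char_is_prime F p⟩
    have : Finite (PSU n F q) := Quotient.finite _
    exact Or.inl (GoodModel.mk' (fun _ => WittNodeC.hasGoodSplit_PSU hq hn hodd) e)
  · obtain ⟨F, _, _, _, m, hm, -, ⟨e⟩⟩ := hG
    have : Fact p.Prime := ⟨CharP.char_is_prime F p⟩
    have : Finite (POmega F (quadFormOdd m F)) := Quotient.finite _
    exact Or.inl (GoodModel.mk' (fun _ => WittNodeO.hasGoodSplit_odd (by omega) hodd) e)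
  · obtain ⟨F, _, _, _, m, hm, ⟨e⟩⟩ := hG
    have : Fact p.Prime := ⟨CharP.char_is_prime F p⟩
    have : Finite (POmega F (quadFormPlus m F)) := Quotient.finite _
    exact Or.inl (GoodModel.mk' (fun _ => WittNodeD.hasGoodSplit_plus hodd (by omega)) e)
  · obtain ⟨F, _, _, _, m, a, b, hm, hab, ⟨e⟩⟩ := hG
    have : Fact p.Prime := ⟨CharP.char_is_prime F p⟩
    have : Finite (POmega F (quadFormMinus (m - 1) F a b)) := Quotient.finite _
    exact Or.inl (GoodModel.mk' (fun _ => WittNodeO.hasGoodSplit_minus (by omega) hodd a b hab) e)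
  · obtain ⟨F, _, _, _, ⟨-, ⟨e⟩⟩ | ⟨⟨e⟩⟩ | ⟨⟨e⟩⟩ | ⟨⟨e⟩⟩ | ⟨⟨e⟩⟩⟩ := hG
    · exact Or.inl (GoodModel.of_group (l := 2) (M := CoxeterMatrix.G₂) (by simp [IsType, typeList]) hp2 e)
    · exact Or.inl (GoodModel.of_group (l := 4) (M := CoxeterMatrix.F₄) (by simp [IsType, typeList]) hp2 e)
    · exact Or.inl (GoodModel.of_group (l := 6) (M := CoxeterMatrix.E₆) (by simp [IsType, typeList]) hp2 e)
    · exact Or.inl (GoodModel.of_group (l := 7) (M := CoxeterMatrix.E₇) (by simp [IsType, typeList]) hp2 e)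
    · exact Or.inl (GoodModel.of_group (l := 8) (M := CoxeterMatrix.E₈) (by simp [IsType, typeList]) hp2 e)
  · obtain ⟨K, _, _, _, q, hq, ⟨hK, ⟨e⟩⟩ | ⟨hK, ⟨e⟩⟩⟩ := hG
    · have : Fact p.Prime := ⟨CharP.char_is_prime K p⟩
      exact Or.inl (GoodModel.mk' (fun _ => TwGood.hasGoodSplit_E6 hq hK p hp2) e)
    · have : Fact p.Prime := ⟨CharP.char_is_prime K p⟩
      exact Or.inl (GoodModel.mk' (fun _ => TwGood.hasGoodSplit_D4 hq hK p hp2) e)
  · exact absurd hG.1 hp2
  · exact absurd hG.1 hp2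
  · exact Or.inr hG.2

/-! ### The small Ree groups -/

/-- A perfect subgroup of a `2`-group is trivial. -/
theorem eq_bot_of_perfect {G : Type*} [Group G] [Finite G] {P : Subgroup G} (hP : ⁅P, P⁆ = P)
    (h2 : IsPGroup 2 P) : P = ⊥ := by
  have h1 : Group.IsNilpotent ↥P := h2.isNilpotent
  by_contra hne
  have h3 : Nontrivial ↥P := (Subgroup.nontrivial_iff_ne_bot _).mpr hne
  have h4 : Group.IsPerfect ↥P := Subgroup.isPerfect_iff.mpr hP
  exact Group.IsPerfect.not_isSolvable ↥P inferInstance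

theorem lo_prod {L : Type*} [Group L] [Finite L] [IsSimpleGroup L]
    {X P : Subgroup (Multiplicative (ZMod 2) × L)} (hn : X.Normal) (h2 : IsPGroup 2 X)
    (hP : ⁅P, P⁆ = P) : ∀ g ∈ P, ∀ x ∈ X, g * x = x * g := by
  have hn' : (X.map (MonoidHom.snd (Multiplicative (ZMod 2)) L)).Normal :=
    hn.map _ fun x => ⟨(1, x), rfl⟩
  rcases IsSimpleGroup.eq_bot_or_eq_top_of_normal _ hn' with h | h
  · intro g _ x hx
    have h3 : x.2 = 1 := by
      have : x.2 ∈ X.map (MonoidHom.snd _ _) := ⟨x, hx, rfl⟩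
      rw [h] at this
      exact this
    refine Prod.ext (mul_comm _ _) ?_
    change g.2 * x.2 = x.2 * g.2
    rw [h3, mul_one, one_mul]
  · have h3 : IsPGroup 2 ↥(⊤ : Subgroup L) := h ▸ h2.map _
    have h4 : IsPGroup 2 L := h3.of_equiv Subgroup.topEquiv
    have h5 : IsPGroup 2 ↥P := by
      intro y
      obtain ⟨k, hk⟩ := h4 (y : Multiplicative (ZMod 2) × L).2
      refine ⟨k + 1, Subtype.ext (Prod.ext ?_ ?_)⟩
      · change (y : Multiplicative (ZMod 2) × L).1 ^ 2 ^ (k + 1) = 1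
        have h6 : ∀ z : Multiplicative (ZMod 2), z ^ 2 = 1 := by decide
        rw [pow_succ, mul_comm, pow_mul, h6, one_pow]
      · change (y : Multiplicative (ZMod 2) × L).2 ^ 2 ^ (k + 1) = 1
        rw [pow_succ, pow_mul, hk, one_pow]
    have h7 := eq_bot_of_perfect hP h5
    intro g hg x _
    rw [h7, Subgroup.mem_bot] at hg
    rw [hg, one_mul, mul_one]

theorem loAut_of {G : Type*} [Group G] [Finite G] [IsSimpleGroup G] (hcen : Subgroup.center G = ⊥)
    {L : Type*} [Group L] [Finite L] [IsSimpleGroup L] {a : G}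
    (e : ↥(Subgroup.centralizer ({a} : Set G)) ≃* Multiplicative (ZMod 2) × L)
    (hconj : ∀ g : G, g ≠ 1 → g * g = 1 → ∃ c, c * a * c⁻¹ = g)
    (hin : ∀ τ : MulAut G, τ * τ = 1 → ∃ g, τ = MulAut.conj g) : LOAut G := by
  intro τ hτ X P hX hXn h2 hP hPP
  obtain ⟨g, hg⟩ := hin (τ : MulAut G) (MulEquiv.ext hτ)
  have hgx : ∀ x, τ x = g * x * g⁻¹ := fun x => by
    have := congrArg (fun f : MulAut G => f x) hg
    simpa using this
  have hg2 : g * g = 1 := by
    have h1 : g * g ∈ Subgroup.center G := by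
      rw [Subgroup.mem_center_iff]
      intro x
      have h2 := hτ x
      rw [hgx, hgx] at h2
      calc x * (g * g) = g * (g * x * g⁻¹) * g⁻¹ * (g * g) := by rw [h2]
        _ = g * g * x := by group
    rw [hcen] at h1
    exact h1
  by_cases hg1 : g = 1
  · have hall : ∀ x, x ∈ Reduce.fixSub τ := fun x => by
      rw [Reduce.mem_fixSub, hgx, hg1]; group
    have hn : X.Normal := ⟨fun x hx g => hXn g (hall g) x hx⟩
    rcases IsSimpleGroup.eq_bot_or_eq_top_of_normal _ hn with h1 | h1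
    · intro y _ x hx
      rw [h1, Subgroup.mem_bot] at hx
      rw [hx, one_mul, mul_one]
    · have h3 : IsPGroup 2 ↥P := h2.to_le (by rw [h1]; exact le_top)
      have h4 := eq_bot_of_perfect hPP h3
      intro y hy x _
      rw [h4, Subgroup.mem_bot] at hy
      rw [hy, one_mul, mul_one]
  · obtain ⟨c, hc'⟩ := hconj g hg1 hg2
    have hmem : ∀ x, x ∈ Reduce.fixSub τ ↔ c⁻¹ * x * c ∈ Subgroup.centralizer ({a} : Set G) := by
      intro x
      rw [Reduce.mem_fixSub, hgx, Subgroup.mem_centralizer_singleton_iff, ← hc']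
      constructor
      · intro h1
        have h2 := congrArg (fun y => c⁻¹ * y * (c * a)) h1
        calc c⁻¹ * x * c * a = c⁻¹ * x * (c * a) := by group
          _ = c⁻¹ * (c * a * c⁻¹ * x * (c * a * c⁻¹)⁻¹) * (c * a) := h2.symm
          _ = _ := by group
      · intro h1
        calc c * a * c⁻¹ * x * (c * a * c⁻¹)⁻¹ = c * (a * (c⁻¹ * x * c)) * a⁻¹ * c⁻¹ := by group
          _ = c * (c⁻¹ * x * c * a) * a⁻¹ * c⁻¹ := by rw [h1]
          _ = x := by group
    let f : ↥(Reduce.fixSub τ) →* ↥(Subgroup.centralizer ({a} : Set G)) :=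
      { toFun := fun x => ⟨c⁻¹ * x * c, (hmem x).1 x.2⟩
        map_one' := Subtype.ext (by simp)
        map_mul' := fun x y => Subtype.ext (by
          change c⁻¹ * ((x : G) * y) * c = c⁻¹ * x * c * (c⁻¹ * y * c)
          group) }
    have hf : Function.Injective f := by
      intro x y hxy
      have h1 : c⁻¹ * (x : G) * c = c⁻¹ * y * c := congrArg Subtype.val hxy
      exact Subtype.ext (mul_left_cancel (mul_right_cancel h1))
    have hf' : Function.Surjective f := by
      rintro ⟨y, hy⟩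
      refine ⟨⟨c * y * c⁻¹, (hmem _).2 ?_⟩, Subtype.ext ?_⟩
      · have : c⁻¹ * (c * y * c⁻¹) * c = y := by group
        rw [this]; exact hy
      · change c⁻¹ * (c * y * c⁻¹) * c = y
        group
    let E := e.toMonoidHom.comp f
    have hE : Function.Injective E := e.injective.comp hf
    have hE' : Function.Surjective E := e.surjective.comp hf'
    have hXn' : (X.subgroupOf (Reduce.fixSub τ)).Normal :=
      ⟨fun x hx g => Subgroup.mem_subgroupOf.2 (hXn g g.2 x (Subgroup.mem_subgroupOf.1 hx))⟩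
    have hP' : ⁅P.subgroupOf (Reduce.fixSub τ), P.subgroupOf (Reduce.fixSub τ)⁆ =
        P.subgroupOf (Reduce.fixSub τ) := by
      apply Subgroup.map_injective (Reduce.fixSub τ).subtype_injective
      rw [Subgroup.map_commutator, Subgroup.subgroupOf_map_subtype, inf_eq_left.2 hP, hPP]
    have hX2 : IsPGroup 2 ↥(X.subgroupOf (Reduce.fixSub τ)) := h2.comap_subtype
    have key := lo_prod (X := (X.subgroupOf (Reduce.fixSub τ)).map E)
      (P := (P.subgroupOf (Reduce.fixSub τ)).map E) (hXn'.map E hE')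
      (hX2.map E) (by rw [← Subgroup.map_commutator, hP'])
    intro y hy x hx
    have h5 := key (E ⟨y, hP hy⟩) ⟨_, Subgroup.mem_subgroupOf.2 hy, rfl⟩
      (E ⟨x, hX hx⟩) ⟨_, Subgroup.mem_subgroupOf.2 hx, rfl⟩
    rw [← map_mul, ← map_mul] at h5
    exact congrArg Subtype.val (hE h5)

theorem loAut_of_isoRee {G : Type*} [Group G] (h : Lie.IsoRee G) : LOAut G := by
  obtain ⟨K, _, _, m, hm, hK, ⟨e⟩⟩ := h
  refine LOAut.congr e ?_
  classical
  have hchar := Cfsg.Agent.LieRecognition.ReeAbs.charP_three hK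
  obtain ⟨U, h, n, D⟩ := Cfsg.Agent.ChevalleyStructure.Ree.Data.exists_data hK
  have hfin : Finite ↥(Cfsg.Lie.twistedG2 K (3 ^ m)) := Cfsg.Agent.LieRecognition.ReeSylowThree.finite D
  obtain ⟨hs, hc⟩ := Cfsg.Agent.S1073.result hm hK
  obtain ⟨a, haH, ha1, ha2⟩ := Cfsg.Agent.S1157.exists_involution hK
  obtain ⟨⟨e⟩, hS⟩ := Cfsg.Agent.S1152.result hK a haH ha1 ha2
  have hcd := Cfsg.Agent.LieRecognition.ReeCent.centData ha1 ha2 e Cfsg.Agent.LieRecognition.ReePSL.klein
  have hL : IsSimpleGroup (Matrix.ProjectiveSpecialLinearGroup (Fin 2) K) := by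
    apply Matrix.ProjectiveSpecialLinearGroup.rank_two_simple
    rw [Nat.card_eq_fintype_card, hK]
    have : 3 ^ 3 ≤ 3 ^ (2 * m + 1) := Nat.pow_le_pow_right (by norm_num) (by omega)
    omega
  exact loAut_of (BTheorem.center_eq_bot hc) e
    (fun g hg1 hg2 => Cfsg.Agent.LieRecognition.ReeInv.isConj_involution hcd
      Cfsg.Agent.LieRecognition.ReePSL.klein (Cfsg.Agent.S1116.result hK hm) hS hg1 hg2)
    (RankOneRee.inner hm hK D)

/-- **THEOREM LO** for the simple groups of Lie type of odd characteristic. -/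
theorem loAut_of_isLieTypeChar {p : ℕ} (hp2 : p ≠ 2) {G : Type*} [Group G] [IsSimpleGroup G]
    (hG : IsLieTypeChar p G) : LOAut G := by
  rcases exists_good_model hp2 hG with ⟨K, _, _, _, _, h, ⟨e⟩⟩ | h
  · exact (h.loAut hp2).congr e
  · exact loAut_of_isoRee h

end Cfsg.Agent.FixBN
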