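import Cfsg.Agent.FixBN.LO
import Cfsg.Agent.FixBN.OutSplit
/-!
THEOREM LO for the groups with a split (B,N)-pair of odd characteristic, and for their central extensions.
-/

set_option autoImplicit false

open scoped commutatorElement Pointwise

namespace Cfsg.Agent.FixBN

open Cfsg.Agent.Tits.Core Cfsg.Agent.Tits.Core.Bldg Cfsg.Agent.Tits.OfBN Cfsg.Agent.Schreier.BNSch
open Cfsg.Agent.Lib

/-- **(LO)**: for every automorphism `τ` of `K` with `τ² = 1`, the perfect subgroups of `C_K(τ)` centralise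
the normal `2`-subgroups of `C_K(τ)`. -/
def LOAut (K : Type*) [Group K] : Prop :=
  ∀ τ : K ≃* K, (∀ g, τ (τ g) = g) → ∀ X P : Subgroup K, X ≤ Reduce.fixSub τ →
    (∀ g ∈ Reduce.fixSub τ, ∀ x ∈ X, g * x * g⁻¹ ∈ X) → IsPGroup 2 X →
    P ≤ Reduce.fixSub τ → ⁅P, P⁆ = P → ∀ g ∈ P, ∀ x ∈ X, g * x = x * g

theorem LOAut.congr {K K' : Type*} [Group K] [Group K'] (e : K' ≃* K) (h : LOAut K) : LOAut K' := by
  intro τ hτ X P hX hn h2 hP hPP g hg x hx
  have hfix : ∀ y, y ∈ Reduce.fixSub ((e.symm.trans τ).trans e) ↔ e.symm y ∈ Reduce.fixSub τ := by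
    intro y
    change e (τ (e.symm y)) = y ↔ τ (e.symm y) = e.symm y
    rw [← e.eq_symm_apply]
  have hmem : ∀ (A : Subgroup K') (y : K), y ∈ A.map (e : K' →* K) ↔ e.symm y ∈ A := by
    intro A y
    constructor
    · rintro ⟨a, ha, rfl⟩
      change e.symm (e a) ∈ A
      rw [e.symm_apply_apply]
      exact ha
    · intro ha
      exact ⟨e.symm y, ha, e.apply_symm_apply y⟩
  have key := h ((e.symm.trans τ).trans e) (fun g => by
      change e (τ (e.symm (e (τ (e.symm g))))) = g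
      rw [e.symm_apply_apply, hτ, e.apply_symm_apply])
    (X.map (e : K' →* K)) (P.map (e : K' →* K))
    (fun y hy => (hfix y).2 (hX ((hmem X y).1 hy)))
    (fun y hy z hz => by
      rw [hmem] at hz ⊢
      rw [map_mul, map_mul, map_inv]
      exact hn _ ((hfix y).1 hy) _ hz)
    (h2.map _) (fun y hy => (hfix y).2 (hP ((hmem P y).1 hy)))
    (by rw [← Subgroup.map_commutator, hPP])
    (e g) ⟨g, hg, rfl⟩ (e x) ⟨x, hx, rfl⟩
  apply e.injective
  rw [map_mul, map_mul]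
  exact key

/-- **THEOREM LO** for the split (B,N)-pairs of odd characteristic. -/
theorem loAut_of_allGood {K : Type*} [Group K] [Finite K] {p : ℕ} [hp : Fact p.Prime] (hp2 : p ≠ 2)
    {P : Cfsg.BNPair K} {U : Subgroup K} (h : Split P p U) (hB : Group.IsSolvable P.B)
    (hR : AllGood h) : LOAut K := by
  intro τ hτ X L hX hn h2 hL hLp
  have hN : ((P.B ⊓ P.N).subgroupOf P.N).Normal := normal_subgroupOf P
  obtain ⟨M, cs, hcs⟩ := S0320.result P
  obtain ⟨t, ht⟩ := TwOfBN.exists_tw h (Equiv.refl P.S) cs hcs τ hτ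
  have hI : Finite P.S := OfBN.finite_I (Equiv.refl P.S)
  have hth := thick P (Equiv.refl P.S) cs hcs
  have hcent : t.cent = Reduce.fixSub τ := by
    ext g
    rw [t.mem_cent, ht]
    exact Iff.rfl
  obtain ⟨J, x, hgd⟩ := exists_good t (QuotientGroup.mk 1)
  let S := OfBN.sys (Equiv.refl P.S) cs hcs h
  have h4 := Sys.isSolvable_stab S hth hgd
    (isSolvable_stabilizer hB x) (fun j _ => hR hN M cs hcs j x)
  rw [← hcent] at hX hn hL
  exact Tw.lo S hth hp2 hgd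
    (fun g hg hn => Tw.sq_smul_Res S hth hp2 hgd hg hn)
    (fun g hg hn c hc hcx => Tw.conj_smul_Res S hth hp2 hgd hg hn hc hcx) h4 hX hn h2 hL hLp

theorem GoodSplit.loAut {K : Type*} [Group K] [Finite K] {p : ℕ} [hp : Fact p.Prime] (hp2 : p ≠ 2)
    {P : Cfsg.BNPair K} {U : Subgroup K} (h : GoodSplit P p U) : LOAut K :=
  loAut_of_allGood hp2 h.toSplit h.solv h.allGood

theorem HasGoodSplit.loAut {K : Type*} [Group K] [Finite K] {p : ℕ} [hp : Fact p.Prime] (hp2 : p ≠ 2)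
    (h : HasGoodSplit p K) : LOAut K := by
  obtain ⟨P, U, _, h⟩ := h
  exact h.loAut hp2

/-! ### Central extensions -/

section Central

variable {M : Type*} [Group M]

/-- A perfect group acting on `Y` with `[Y, R, R] = 1` centralises `Y`. -/
theorem comm_of_perfect {R Y : Subgroup M} (hR : ⁅R, R⁆ = R) (h : ⁅⁅Y, R⁆, R⁆ = ⊥) : ⁅R, Y⁆ = ⊥ := by
  have h1 : ⁅⁅R, Y⁆, R⁆ = ⊥ := by rw [Subgroup.commutator_comm R Y]; exact h
  have h2 := Subgroup.commutator_commutator_eq_bot_of_rotate (H₁ := R) (H₂ := R) (H₃ := Y) h1 h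
  rwa [hR] at h2

theorem map_conj_commutator (g : M) (A : Subgroup M) (h : ⁅A, A⁆ = A) :
    ⁅A.map (MulAut.conj g).toMonoidHom, A.map (MulAut.conj g).toMonoidHom⁆ =
      A.map (MulAut.conj g).toMonoidHom := by
  rw [← Subgroup.map_commutator, h]

theorem mem_map_conj {g y : M} {A : Subgroup M} :
    y ∈ A.map (MulAut.conj g).toMonoidHom ↔ g⁻¹ * y * g ∈ A := by
  constructor
  · rintro ⟨a, ha, rfl⟩
    have e1 : g⁻¹ * (MulAut.conj g).toMonoidHom a * g = a := by
      change g⁻¹ * (g * a * g⁻¹) * g = a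
      group
    rw [e1]; exact ha
  · intro h
    refine ⟨_, h, ?_⟩
    change g * (g⁻¹ * y * g) * g⁻¹ = y
    group

/-- The solvable residual of `C`. -/
def resid (C : Subgroup M) : Subgroup M := sSup {Q | Q ≤ C ∧ ⁅Q, Q⁆ = Q}

theorem resid_le (C : Subgroup M) : resid C ≤ C := sSup_le fun _ h => h.1

theorem le_resid {C Q : Subgroup M} (h : Q ≤ C) (h' : ⁅Q, Q⁆ = Q) : Q ≤ resid C := le_sSup ⟨h, h'⟩

theorem commutator_self_le (A : Subgroup M) : ⁅A, A⁆ ≤ A :=
  Subgroup.commutator_le.2 fun _ ha _ hb =>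
    mul_mem (mul_mem (mul_mem ha hb) (inv_mem ha)) (inv_mem hb)

theorem resid_perfect (C : Subgroup M) : ⁅resid C, resid C⁆ = resid C := by
  refine le_antisymm (commutator_self_le _) ?_
  refine sSup_le fun Q hQ => ?_
  rw [← hQ.2]
  exact Subgroup.commutator_mono (le_resid hQ.1 hQ.2) (le_resid hQ.1 hQ.2)

theorem conj_mem_resid {C : Subgroup M} {g : M} (hg : ∀ c ∈ C, g * c * g⁻¹ ∈ C) {y : M}
    (hy : y ∈ resid C) : g * y * g⁻¹ ∈ resid C := by
  have h1 : (resid C).map (MulAut.conj g).toMonoidHom ≤ resid C := by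
    refine le_resid ?_ (map_conj_commutator g _ (resid_perfect C))
    rintro _ ⟨a, ha, rfl⟩
    exact hg a (resid_le C ha)
  exact h1 ⟨y, hy, rfl⟩

/-- The largest normal `2`-subgroup of `R`. -/
def two (R : Subgroup M) : Subgroup M :=
  (sSup {V : Subgroup ↥R | V.Normal ∧ IsPGroup 2 V}).map R.subtype

theorem two_le (R : Subgroup M) : two R ≤ R := Subgroup.map_subtype_le _

theorem isPGroup_two (R : Subgroup M) : IsPGroup 2 (two R) := by
  refine IsPGroup.map ?_ _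
  exact Sylow.sSup_of_normal _ (fun H h => h.2) (fun H h => h.1)

theorem le_two {R V : Subgroup M} (hV : V ≤ R) (hn : ∀ g ∈ R, ∀ v ∈ V, g * v * g⁻¹ ∈ V)
    (h2 : IsPGroup 2 V) : V ≤ two R := by
  have h1 : V = (V.subgroupOf R).map R.subtype := by
    rw [Subgroup.subgroupOf_map_subtype, inf_eq_left.2 hV]
  rw [h1]
  refine Subgroup.map_mono (le_sSup ⟨⟨fun v hv g => ?_⟩, h2.comap_subtype⟩)
  exact Subgroup.mem_subgroupOf.2 (hn g g.2 v (Subgroup.mem_subgroupOf.1 hv))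

theorem two_normal (R : Subgroup M) : ∀ g ∈ R, ∀ v ∈ two R, g * v * g⁻¹ ∈ two R := by
  rintro g hg _ ⟨v, hv, rfl⟩
  have hn : (sSup {V : Subgroup ↥R | V.Normal ∧ IsPGroup 2 V}).Normal :=
    Subgroup.sSup_normal _ fun H h => h.1
  exact ⟨⟨g, hg⟩ * v * ⟨g, hg⟩⁻¹, hn.conj_mem v hv _, rfl⟩

theorem conj_mem_two {R : Subgroup M} {g : M} (hg : ∀ c ∈ R, g * c * g⁻¹ ∈ R)
    (hg' : ∀ c ∈ R, g⁻¹ * c * g ∈ R) {y : M} (hy : y ∈ two R) : g * y * g⁻¹ ∈ two R := by
  have h1 : (two R).map (MulAut.conj g).toMonoidHom ≤ two R := by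
    refine le_two ?_ ?_ ((isPGroup_two R).map _)
    · rintro _ ⟨a, ha, rfl⟩
      exact hg a (two_le R ha)
    · intro h hh v hv
      rw [mem_map_conj] at hv ⊢
      have h3 := two_normal R _ (hg' h hh) _ hv
      have e1 : g⁻¹ * h * g * (g⁻¹ * v * g) * (g⁻¹ * h * g)⁻¹ = g⁻¹ * (h * v * h⁻¹) * g := by group
      rwa [e1] at h3
  exact h1 ⟨y, hy, rfl⟩

/-- **THEOREM LO** modulo a central subgroup. -/
theorem LOAut.of_central {N : Subgroup M} [N.Normal] (hN : N ≤ Subgroup.center M) (h : LOAut (M ⧸ N))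
    (σ : M ≃* M) (hσN : ∀ n ∈ N, σ n ∈ N) (hσ : ∀ g, (σ (σ g))⁻¹ * g ∈ N)
    {X P : Subgroup M} (hX : X ≤ Reduce.fixSub σ)
    (hn : ∀ g ∈ Reduce.fixSub σ, ∀ x ∈ X, g * x * g⁻¹ ∈ X) (h2 : IsPGroup 2 X)
    (hP : P ≤ Reduce.fixSub σ) (hPP : ⁅P, P⁆ = P) : ∀ g ∈ P, ∀ x ∈ X, g * x = x * g := by
  classical
  set C := Reduce.fixSub σ with hC
  set R := resid C with hRdef
  have hRC : R ≤ C := resid_le C
  have hPR : P ≤ R := le_resid hP hPP
  have hRR : ⁅R, R⁆ = R := resid_perfect C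
  have hcen : ∀ n ∈ N, ∀ g : M, g * n = n * g := fun n hn g =>
    (Subgroup.mem_center_iff.1 (hN hn) g)
  -- the induced automorphism
  have hle : N ≤ N.comap (σ : M →* M) := fun n hn => hσN n hn
  have hle' : N ≤ N.comap (σ.symm : M →* M) := by
    intro n hn
    change σ.symm n ∈ N
    have h1 := hσ (σ.symm n)
    rw [σ.apply_symm_apply] at h1
    have h3 : σ.symm n = σ n * ((σ n)⁻¹ * σ.symm n) := by group
    rw [h3]
    exact mul_mem (hσN n hn) h1
  let τ : M ⧸ N ≃* M ⧸ N :=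
    MonoidHom.toMulEquiv (QuotientGroup.map N N (σ : M →* M) hle)
      (QuotientGroup.map N N (σ.symm : M →* M) hle')
      (by
        ext g
        change (QuotientGroup.mk (σ.symm (σ g)) : M ⧸ N) = QuotientGroup.mk g
        rw [σ.symm_apply_apply])
      (by
        ext g
        change (QuotientGroup.mk (σ (σ.symm g)) : M ⧸ N) = QuotientGroup.mk g
        rw [σ.apply_symm_apply])
  have hτ : ∀ g : M, τ (QuotientGroup.mk g) = QuotientGroup.mk (σ g) := fun g => rfl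
  -- the elements of the centraliser of `τ` normalise `C`
  have hnorm : ∀ g : M, (QuotientGroup.mk g : M ⧸ N) ∈ Reduce.fixSub τ →
      ∀ c ∈ C, g * c * g⁻¹ ∈ C := by
    intro g hg c hc
    have h1 : (QuotientGroup.mk (σ g) : M ⧸ N) = QuotientGroup.mk g := hg
    rw [QuotientGroup.eq] at h1
    have hc' : σ c = c := hc
    change σ (g * c * g⁻¹) = g * c * g⁻¹
    rw [map_mul, map_mul, map_inv, hc']
    have h3 : g = σ g * ((σ g)⁻¹ * g) := by group
    have h4 := hcen _ h1 c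
    calc σ g * c * (σ g)⁻¹ = σ g * (c * ((σ g)⁻¹ * g)) * g⁻¹ := by group
      _ = σ g * (((σ g)⁻¹ * g) * c) * g⁻¹ := by rw [h4]
      _ = g * c * g⁻¹ := by group
  have hnorm' : ∀ g : M, (QuotientGroup.mk g : M ⧸ N) ∈ Reduce.fixSub τ →
      ∀ c ∈ C, g⁻¹ * c * g ∈ C := by
    intro g hg c hc
    have h1 : (QuotientGroup.mk g⁻¹ : M ⧸ N) ∈ Reduce.fixSub τ := inv_mem hg
    have h3 := hnorm g⁻¹ h1 c hc
    rwa [inv_inv] at h3
  have hCτ : ∀ c ∈ C, (QuotientGroup.mk c : M ⧸ N) ∈ Reduce.fixSub τ := by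
    intro c hc
    change (QuotientGroup.mk (σ c) : M ⧸ N) = QuotientGroup.mk c
    rw [show σ c = c from hc]
  -- (LO) for the quotient
  have key := h τ (by
      intro g
      obtain ⟨g, rfl⟩ := QuotientGroup.mk_surjective g
      rw [hτ, hτ, QuotientGroup.eq]
      exact hσ g)
    ((two R).map (QuotientGroup.mk' N)) (R.map (QuotientGroup.mk' N))
    (by
      rintro _ ⟨y, hy, rfl⟩
      exact hCτ y (hRC (two_le R hy)))
    (by
      intro g hg z hz
      obtain ⟨g, rfl⟩ := QuotientGroup.mk_surjective g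
      obtain ⟨y, hy, rfl⟩ := hz
      refine ⟨g * y * g⁻¹, ?_, rfl⟩
      refine conj_mem_two (fun c hc => conj_mem_resid (hnorm g hg) hc) (fun c hc => ?_) hy
      have h3 := conj_mem_resid (g := g⁻¹) (C := C)
        (fun c hc => by have := hnorm' g hg c hc; rwa [inv_inv]) hc
      rwa [inv_inv] at h3)
    ((isPGroup_two R).map _)
    (by
      rintro _ ⟨y, hy, rfl⟩
      exact hCτ y (hRC hy))
    (by rw [← Subgroup.map_commutator, hRR])
  -- `[R, O_2(R)]` is central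
  have h5 : ⁅R, two R⁆ = ⊥ := by
    refine comm_of_perfect hRR ?_
    rw [Subgroup.commutator_eq_bot_iff_le_centralizer, Subgroup.commutator_le]
    intro a ha b hb
    rw [Subgroup.mem_centralizer_iff]
    intro c _
    have h6 := key (QuotientGroup.mk b) ⟨b, hb, rfl⟩ (QuotientGroup.mk a) ⟨a, ha, rfl⟩
    have h7 : (QuotientGroup.mk (b * a) : M ⧸ N) = QuotientGroup.mk (a * b) := h6
    rw [QuotientGroup.eq] at h7
    have h8 : ⁅a, b⁆ ∈ N := by
      have h9 : ⁅a, b⁆ = (b * a) * ((b * a)⁻¹ * (a * b)) * (b * a)⁻¹ := by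
        rw [commutatorElement_def]; group
      rw [h9]
      exact (inferInstance : N.Normal).conj_mem _ h7 _
    exact hcen _ h8 c
  have h6 : ⁅R, X⁆ = ⊥ := by
    refine comm_of_perfect hRR ?_
    rw [eq_bot_iff, ← h5, Subgroup.commutator_comm R (two R)]
    refine Subgroup.commutator_mono ?_ le_rfl
    have hXR : ∀ x ∈ X, ∀ r ∈ R, ⁅x, r⁆ ∈ X ⊓ R := by
      intro x hx r hr
      refine ⟨?_, ?_⟩
      · have e1 : ⁅x, r⁆ = x * (r * x⁻¹ * r⁻¹) := by rw [commutatorElement_def]; group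
        rw [e1]
        exact mul_mem hx (hn r (hRC hr) _ (inv_mem hx))
      · have e1 : ⁅x, r⁆ = (x * r * x⁻¹) * r⁻¹ := by rw [commutatorElement_def]
        have e2 : x * r * x⁻¹ ∈ R := conj_mem_resid (C := C)
          (fun c hc => C.mul_mem (C.mul_mem (hX hx) hc) (C.inv_mem (hX hx))) hr
        have e3 : (x * r * x⁻¹) * r⁻¹ ∈ R := R.mul_mem e2 (R.inv_mem hr)
        rw [e1]
        exact e3
    refine le_trans (Subgroup.commutator_le.2 hXR) (le_two inf_le_right ?_ h2.to_inf_left)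
    intro g hg v hv
    exact ⟨hn g (hRC hg) v hv.1, R.mul_mem (R.mul_mem hg hv.2) (R.inv_mem hg)⟩
  intro g hg x hx
  rw [Subgroup.commutator_eq_bot_iff_le_centralizer] at h6
  have h7 := h6 (hPR hg)
  rw [Subgroup.mem_centralizer_iff] at h7
  exact (h7 x hx).symm

/-- **(LO)**: `M` with a central quotient satisfying `LOAut`, `t` with `t² ∈ N`. -/
theorem LOAut.inner {N : Subgroup M} [N.Normal] (hN : N ≤ Subgroup.center M) (h : LOAut (M ⧸ N))
    {t : M} (ht : t * t ∈ N) {X P : Subgroup M} (hX : X ≤ Subgroup.centralizer {t})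
    (hn : ∀ g ∈ Subgroup.centralizer {t}, ∀ x ∈ X, g * x * g⁻¹ ∈ X) (h2 : IsPGroup 2 X)
    (hP : P ≤ Subgroup.centralizer {t}) (hPP : ⁅P, P⁆ = P) : ∀ g ∈ P, ∀ x ∈ X, g * x = x * g := by
  have hfix : Reduce.fixSub (MulAut.conj t) = Subgroup.centralizer {t} := by
    ext g
    rw [Subgroup.mem_centralizer_singleton_iff]
    change t * g * t⁻¹ = g ↔ g * t = t * g
    rw [mul_inv_eq_iff_eq_mul]
    exact eq_comm
  rw [← hfix] at hX hn hP
  refine LOAut.of_central hN h (MulAut.conj t) (fun n hn => (inferInstance : N.Normal).conj_mem n hn t)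
    (fun g => ?_) hX hn h2 hP hPP
  change (t * (t * g * t⁻¹) * t⁻¹)⁻¹ * g ∈ N
  have hc := Subgroup.mem_center_iff.1 (hN ht)
  have e1 : t * (t * g * t⁻¹) * t⁻¹ = (t * t) * g * (t * t)⁻¹ := by group
  have e2 : (t * t) * g * (t * t)⁻¹ = g := by rw [← hc g]; group
  rw [e1, e2, inv_mul_cancel]
  exact one_mem N

/-- (LO) for `M / Z(M)`. -/
theorem LOAut.inner_center (h : LOAut (M ⧸ Subgroup.center M))
    {t : M} (ht : t * t = 1) {X P : Subgroup M} (hX : X ≤ Subgroup.centralizer {t})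
    (hn : ∀ g ∈ Subgroup.centralizer {t}, ∀ x ∈ X, g * x * g⁻¹ ∈ X) (h2 : IsPGroup 2 X)
    (hP : P ≤ Subgroup.centralizer {t}) (hPP : ⁅P, P⁆ = P) : ∀ g ∈ P, ∀ x ∈ X, g * x = x * g :=
  LOAut.inner le_rfl h (by rw [ht]; exact one_mem _) hX hn h2 hP hPP

end Central

end Cfsg.Agent.FixBN
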