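import Cfsg.Agent.FixBN.ChevSB
import Cfsg.Agent.FixBN.TwGood
import Cfsg.Agent.FixBN.WittNodeE
import Cfsg.Agent.FixBN.RankOneRee
import Cfsg.Agent.FixBN.PslGood
import Cfsg.Prelude.Def_LieTypeChar

/-!
# `SB` for the simple groups of Lie type of odd characteristic

`sb_of_psl` : the family `PSL_n(q)`; `lie` : all sixteen families (the field `lie` of `BTheorem.Known`).
-/

set_option autoImplicit false

namespace Cfsg.Agent.FixBN.LieAll

open Cfsg Cfsg.Agent.FixBN Cfsg.Agent.FixBN.Reduce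

universe u

/-- **`SB` for `PSL_n(q)`, `q` odd.** -/
theorem sb_of_psl {p : ℕ} {G : Type*} [Group G] [IsSimpleGroup G] (hp2 : p ≠ 2) (hG : IsPSLChar p G) : SB G := by
  obtain ⟨F, _, _, _, n, hn, -, ⟨e⟩⟩ := hG
  have : Fact p.Prime := ⟨CharP.char_is_prime F p⟩
  have : Finite (Matrix.ProjectiveSpecialLinearGroup (Fin n) F) := Quotient.finite _
  exact WittNodeE.sb_of_equiv hp2 (fun _ => PslGood.hasGoodSplit_psl hp2 hn) e

/-- **`SB` for the simple groups of Lie type of odd characteristic.** -/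
theorem lie (K : Type u) [Group K] [Finite K] (hK : IsSimpleGroup K) (p : ℕ) (_ : p.Prime) (hp2 : p ≠ 2)
    (hL : IsLieTypeChar p K) : SB K := by
  rcases hL with h | h | h | h | h | h | h | h | ⟨h0, -⟩ | ⟨h0, -⟩ | ⟨-, h⟩
  · exact sb_of_psl hp2 h
  · exact WittNodeE.sb_of_psp hp2 h
  · exact WittNodeE.sb_of_psu hp2 h
  · exact WittNodeE.sb_of_pomegaOdd hp2 h
  · exact WittNodeE.sb_of_pomegaPlus hp2 h
  · exact WittNodeE.sb_of_pomegaMinus hp2 h
  · exact ChevGood.sb_of_exceptional hp2 h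
  · exact TwGood.sb_of_twisted hp2 h
  · exact absurd h0 hp2
  · exact absurd h0 hp2
  · exact RankOneRee.sb_of_isoRee h

end Cfsg.Agent.FixBN.LieAll
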