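import Cfsg.Agent.FixBN.U3Core
import Cfsg.Agent.FixBN.GoodOne

/-!
# The rank one unitary group: no fixed point free involutions
-/

set_option autoImplicit false

namespace Cfsg.Agent.FixBN.RankOneU3

open Cfsg.Agent.FixBN.U3Model Cfsg.Agent.FixBN.U3Core

variable {F : Type*} [Field F] {σ : F →+* F} [H : Inv2 σ]

/-- translations -/
local notation "tl" => U3Model.tr

theorem tl_mul (x y : Pt σ) : tl x * tl y = tl (x * y) := by
  apply Equiv.ext
  rintro (_ | z)
  · rfl
  · show tl x (tl y (some z)) = tl (x * y) (some z)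
    rw [U3Model.tr_some, U3Model.tr_some, U3Model.tr_some, mul_assoc]

theorem tl_inv (x : Pt σ) : (tl x)⁻¹ = tl x⁻¹ := by
  rw [inv_eq_iff_mul_eq_one, tl_mul, mul_inv_cancel]
  apply Equiv.ext
  rintro (_ | z)
  · rfl
  · rw [U3Model.tr_some, one_mul]; rfl

/-- The element mapping `∞` to `y`. -/
noncomputable def toPt : Om σ → Equiv.Perm (Om σ)
  | none => 1
  | some x => tl x * jj

/-- The root groups. -/
def u3Fam (σ : F →+* F) [Inv2 σ] (y : Om σ) : Subgroup (Equiv.Perm (Om σ)) where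
  carrier := {g | ∃ a : Pt σ, g = toPt y * tl a * (toPt y)⁻¹}
  one_mem' := ⟨1, by
    have h1 : (tl (1 : Pt σ)) = 1 := by
      apply Equiv.ext
      rintro (_ | z)
      · rfl
      · rw [U3Model.tr_some, one_mul]; rfl
    rw [h1]; group⟩
  mul_mem' := by
    rintro _ _ ⟨a, rfl⟩ ⟨b, rfl⟩
    exact ⟨a * b, by rw [← tl_mul]; group⟩
  inv_mem' := by
    rintro _ ⟨a, rfl⟩
    exact ⟨a⁻¹, by rw [← tl_inv]; group⟩

theorem mem_none {g : Equiv.Perm (Om σ)} : g ∈ u3Fam σ none ↔ ∃ a : Pt σ, g = tl a := by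
  constructor
  · rintro ⟨a, rfl⟩
    exact ⟨a, by show 1 * tl a * 1⁻¹ = tl a; group⟩
  · rintro ⟨a, rfl⟩
    exact ⟨a, by show tl a = 1 * tl a * 1⁻¹; group⟩

theorem mem_some {g : Equiv.Perm (Om σ)} {x : Pt σ} :
    g ∈ u3Fam σ (some x) ↔ ∃ a : Pt σ, g = tl x * jj * tl a * (tl x * jj)⁻¹ := Iff.rfl

/-- **Every involution permuting the root groups has a fixed point.** -/
theorem exists_fixed (hF : UF σ) (th : Equiv.Perm (Om σ)) (hth : th ∈ famStab (u3Fam σ)) (h2 : th * th = 1) :
    ∃ z, th z = z := by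
  by_contra hcon
  push Not at hcon
  have htt : ∀ z, th (th z) = z := fun z => by
    have := congrArg (fun g : Equiv.Perm (Om σ) => g z) h2
    simpa using this
  have hti : th⁻¹ = th := by rw [inv_eq_iff_mul_eq_one, h2]
  obtain ⟨x, hx⟩ : ∃ x, th none = some x := by
    rcases h : th none with _ | x
    · exact absurd h (hcon none)
    · exact ⟨x, rfl⟩
  have hx' : th (some x) = none := by rw [← hx, htt]
  -- the conjugate exchanging the base points
  set θ : Equiv.Perm (Om σ) := tl x⁻¹ * th * tl x with hθ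
  have hθ2 : ∀ z, θ (θ z) = z := by
    intro z
    have h3 : θ * θ = 1 := by
      rw [hθ, ← tl_inv]
      have : (tl x)⁻¹ * th * tl x * ((tl x)⁻¹ * th * tl x) = (tl x)⁻¹ * (th * th) * tl x := by group
      rw [this, h2]; group
    have := congrArg (fun g : Equiv.Perm (Om σ) => g z) h3
    simpa using this
  have hθn : θ none = some 1 := by
    show tl x⁻¹ (th (tl x none)) = _
    rw [U3Model.tr_none, hx, U3Model.tr_some, inv_mul_cancel]
  have hθ1 : θ (some 1) = none := by rw [← hθn, hθ2]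
  have hθf : ∀ z, θ z ≠ z := by
    intro z hz
    apply hcon (tl x z)
    have h3 : tl x (θ z) = th (tl x z) := by
      show tl x (tl x⁻¹ (th (tl x z))) = _
      rw [← tl_inv]
      exact (tl x).apply_symm_apply _
    rw [← h3, hz]
  obtain ⟨φ, φ', A⟩ := exists_au (jj * θ) (by show jj (θ none) = none; rw [hθn, jj_one])
    (by show jj (θ (some 1)) = some 1; rw [hθ1, jj_none])
    (by
      intro y
      have h3 := (hth none (tl (x * y * x⁻¹))).1 (mem_none.2 ⟨_, rfl⟩)
      rw [hx] at h3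
      obtain ⟨a, ha⟩ := mem_some.1 h3
      refine ⟨a, ?_⟩
      have h4 : jj * θ * tl y * (jj * θ)⁻¹ =
          jj * (tl x)⁻¹ * (th * tl (x * y * x⁻¹) * th⁻¹) * (jj * (tl x)⁻¹)⁻¹ := by
        rw [hθ, ← tl_mul, ← tl_mul, ← tl_inv]; group
      rw [h4, ha]
      have h5 : jj * (tl x)⁻¹ * (tl x * jj * tl a * (tl x * jj)⁻¹) * (jj * (tl x)⁻¹)⁻¹ =
          (jj * jj) * tl a * (jj * jj)⁻¹ := by group
      rw [h5, jj_mul_jj]; group)
    (by
      intro y
      have h3 := (hth (some x) (tl x * jj * tl y * (tl x * jj)⁻¹)).1 ⟨y, rfl⟩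
      rw [hx'] at h3
      obtain ⟨a, ha⟩ := mem_none.1 h3
      refine ⟨x⁻¹ * a * x, ?_⟩
      have h4 : jj * (jj * θ) * jj * tl y * (jj * (jj * θ) * jj)⁻¹ =
          (jj * jj) * ((tl x)⁻¹ * (th * (tl x * jj * tl y * (tl x * jj)⁻¹) * th⁻¹) * tl x) * (jj * jj)⁻¹ := by
        rw [hθ, ← tl_inv]; group
      rw [h4, jj_mul_jj, ha, ← tl_mul, ← tl_mul, ← tl_inv]; group)
  obtain ⟨c, τ, hc, hφ⟩ := A.semilinear hF
  have hσc : σ c ≠ 0 := fun h => hc ((map_eq_zero σ).1 h)
  have hcomm := hF.comm τ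
  have hθφ : ∀ y, θ (some y) = jj (some (φ y)) := by
    intro y
    have h3 : jj (jj (θ (some y))) = jj (some (φ y)) := by rw [← A.val]; rfl
    rwa [jj_jj] at h3
  -- `τ² = 1` and `τ c = σ c`
  have hmain : ∀ y : Pt σ, y ≠ 1 → c * σ c * y.b = τ (c * σ c) * τ (τ y.b) ∧
      c * τ c * τ (τ y.a) * y.b = c * σ c * y.a * y.b := by
    intro y hy
    have hφ1 := A.ne_one hy
    have h3 : θ (θ (some y)) = some y := hθ2 _
    rw [hθφ, jj_some hφ1, hθφ, jj_some (A.ne_one (J_ne_one hφ1))] at h3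
    have h4 : J (φ (J (φ y))) = y := Option.some_injective _ h3
    have h5 : φ (J (φ y)) = J y := by rw [← h4, J_J, h4]
    have hyb := b_ne_zero hy
    have h8 : τ y.b ≠ 0 := fun h => hyb ((map_eq_zero τ).1 h)
    have h9 : τ (τ y.b) ≠ 0 := fun h => h8 ((map_eq_zero τ).1 h)
    have h10 : τ c ≠ 0 := fun h => hc ((map_eq_zero τ).1 h)
    have h11 : τ (σ c) ≠ 0 := fun h => hσc ((map_eq_zero τ).1 h)
    have h6 := (hφ (J (φ y))).2
    rw [h5, J_b hy, J_b hφ1, (hφ y).2, map_div₀, map_mul, map_mul, map_one] at h6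
    have h7 := (hφ (J (φ y))).1
    rw [h5, J_a hy, J_a hφ1, (hφ y).1, (hφ y).2, map_div₀, map_neg, map_mul, map_mul, map_mul] at h7
    constructor
    · rw [map_mul]
      field_simp at h6
      linear_combination -h6
    · field_simp at h7 h6
      linear_combination y.a * h6 + τ c * h7
  have hN : c * σ c ≠ 0 := mul_ne_zero hc hσc
  have hττ : ∀ b, τ (τ b) = b := by
    have h1 : τ (c * σ c) = c * σ c := by
      obtain ⟨y, hy⟩ := exists_pt_b hF (1 : F)
      have hy1 : y ≠ 1 := by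
        rintro rfl
        rw [one_b] at hy
        exact zero_ne_one hy
      have h3 := (hmain y hy1).1
      rw [hy, map_one, map_one, mul_one, mul_one] at h3
      exact h3.symm
    intro b
    by_cases hb : b = 0
    · rw [hb, map_zero, map_zero]
    · obtain ⟨y, hy⟩ := exists_pt_b hF b
      have hy1 : y ≠ 1 := by
        rintro rfl
        exact hb (by rw [← hy, one_b])
      have h3 := (hmain y hy1).1
      rw [hy, h1] at h3
      exact (mul_left_cancel₀ hN h3).symm
  have hτc : τ c = σ c := by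
    obtain ⟨y, hy⟩ := exists_pt (σ := σ) hF (1 : F)
    have hy1 : y ≠ 1 := by
      rintro rfl
      rw [one_a] at hy
      exact zero_ne_one hy
    have h3 := (hmain y hy1).2
    rw [hy, map_one, map_one, mul_one, mul_one] at h3
    exact mul_left_cancel₀ hc (mul_right_cancel₀ (b_ne_zero hy1) h3)
  -- a fixed point of `θ`
  have hfix : ∀ y : Pt σ, y ≠ 1 → y.b * (c * σ c * τ y.b) = 1 → y.a * (c * σ c * τ y.b) = -(c * τ y.a) → False := by
    intro y hy h3 h4
    apply hθf (some y)
    rw [hθφ, jj_some (A.ne_one hy)]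
    congr 1
    have h5 := b_ne_zero (A.ne_one hy)
    apply ext'
    · rw [J_a (A.ne_one hy), div_eq_iff h5, (hφ y).1, (hφ y).2, h4]
    · rw [J_b (A.ne_one hy), div_eq_iff h5, (hφ y).2, h3]
  rcases hF.invs τ hττ with hτ | hτ
  · -- `τ = 1`
    have hc' : σ c = c := by rw [← hτc, hτ]
    obtain ⟨a, ha⟩ := hF.norm (2 / c) (by rw [map_div₀, hc', map_ofNat])
    refine hfix ⟨a, -(1 / c), ?_⟩ ?_ ?_ ?_
    · rw [ha, map_neg, map_div₀, map_one, hc']
      field_simp
      ring
    · intro h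
      have h3 : -(1 / c) = (0 : F) := congrArg Pt.b h
      exact (neg_ne_zero.2 (one_div_ne_zero hc)) h3
    · simp only [hτ, hc']
      field_simp
    · simp only [hτ, hc']
      field_simp
  · -- `τ = σ`
    have hex : ∃ y : F, y * y / c + σ (y * y / c) ≠ 0 := by
      by_contra hno
      push Not at hno
      obtain ⟨w, hw⟩ := hF.ne
      have h3 := hno 1
      have h4 := hno w
      have h5 := hno (w + 1)
      have h6 := hno (w - 1)
      simp only [map_div₀, map_mul, map_add, map_sub, map_one] at h3 h4 h5 h6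
      have h7 : σ c = -c := by
        field_simp at h3
        linear_combination h3
      rw [h7] at h4 h5 h6
      field_simp at h4 h5 h6
      apply hw
      have h8 : (2 : F) * (2 * (σ w - w)) = 0 := by linear_combination h6 - h5
      have h9 := (mul_eq_zero.1 h8).resolve_left hF.two
      have h10 := (mul_eq_zero.1 h9).resolve_left hF.two
      exact sub_eq_zero.1 h10
    obtain ⟨y, hy⟩ := hex
    have hy0 : y ≠ 0 := by
      rintro rfl
      simp at hy
    have hσy : σ y ≠ 0 := fun h => hy0 ((map_eq_zero σ).1 h)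
    set t := y * y / c + σ (y * y / c) with ht
    have hσt : σ t = t := by rw [ht, map_add, H.invol, add_comm]
    obtain ⟨u, hu⟩ := hF.sq (t / (y * σ y * (y * σ y))) (by
      rw [map_div₀, hσt, map_mul, map_mul, H.invol, mul_comm (σ y) y])
    have hu0 : u ≠ 0 := by
      rintro rfl
      rw [mul_zero] at hu
      exact div_ne_zero hy (mul_ne_zero (mul_ne_zero hy0 hσy) (mul_ne_zero hy0 hσy)) hu.symm
    have hσu0 : σ u ≠ 0 := fun h => hu0 ((map_eq_zero σ).1 h)
    have hσu : σ u * σ u = u * u := by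
      rw [← map_mul, hu, map_div₀, hσt, map_mul, map_mul, H.invol, mul_comm (σ y) y]
    have hut : t = u * u * (y * σ y * (y * σ y)) := by
      rw [hu]
      field_simp
    refine hfix ⟨u * y, -(u * y / (σ u * σ y * c)), ?_⟩ ?_ ?_ ?_
    · rw [map_neg, map_div₀, map_mul, map_mul, map_mul, H.invol, H.invol]
      rw [ht, map_div₀, map_mul] at hut
      field_simp at hut ⊢
      linear_combination (-u ^ 2) * hut + (-c * σ y ^ 2 + y ^ 2 * c * σ y ^ 2 * σ c * u ^ 2) * hσu
    · intro h
      have h3 : -(u * y / (σ u * σ y * c)) = (0 : F) := congrArg Pt.b h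
      exact (neg_ne_zero.2 (div_ne_zero (mul_ne_zero hu0 hy0) (mul_ne_zero (mul_ne_zero hσu0 hσy) hc))) h3
    · simp only [hτ, map_neg, map_div₀, map_mul, H.invol]
      field_simp
    · simp only [hτ, map_neg, map_div₀, map_mul, H.invol]
      field_simp

/-- **(T6)**: the rank one unitary family is good. -/
theorem goodFam (hF : UF σ) : GoodFam (u3Fam σ) := by
  intro th hth h2 hfree
  obtain ⟨z, hz⟩ := exists_fixed hF th hth h2
  exact absurd hz (hfree z)

end Cfsg.Agent.FixBN.RankOneU3
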