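import Cfsg.Agent.FixBN.Split
import Cfsg.Agent.FixBN.Transport
import Cfsg.Agent.Schreier.TwESix
import Cfsg.Agent.Schreier.ThreeD4
import Cfsg.Agent.S1070
import Cfsg.Agent.S1071
import Cfsg.Prelude.Def_LieTypeChar

/-!
# The split (B,N)-pairs of ²E₆(q) and ³D₄(q)
-/

set_option autoImplicit false

namespace Cfsg.Agent.FixBN.TwESixSplit

open Cfsg.Lie
open Cfsg.Agent.ChevalleyStructure.TwistedBN
open Cfsg.Agent.Schreier.BNTwisted
open Cfsg.Agent.Schreier.BNSch (Node)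

universe u

/-- The characteristic of a field of order a power of a prime. -/
theorem char_eq {K : Type*} [Field K] [Fintype K] {p p' n : ℕ} [CharP K p] (hp' : p'.Prime)
    (hK : Fintype.card K = p' ^ n) : p = p' := by
  obtain ⟨m, hp, hc⟩ := FiniteField.card K p
  have h1 : p ∣ p' ^ n := by
    rw [← hK, hc]
    exact dvd_pow_self p m.ne_zero
  exact (Nat.prime_dvd_prime_iff_eq hp hp').1 (hp.dvd_of_dvd_pow h1)

section Twisted

variable {Γ : Type*} [Group Γ] {ι : Type*}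

theorem split_of_twisted (T : TwistedData Γ ι) [Finite T.G] {p : ℕ} [hp : Fact p.Prime]
    (hcore : ((T.U ⊔ T.H).subgroupOf T.G).normalCore = ⊥)
    (hU : IsPGroup p (T.U.subgroupOf T.G)) (hidx : ¬ p ∣ (T.U.subgroupOf T.G).index)
    (hloc : ∀ i, ∃ (E : Type _) (_ : Field E) (_ : Finite E), Nonempty (Loc T i E)) :
    Split T.toRootData.bnPair p (T.U.subgroupOf T.G) := by
  let P : Cfsg.BNPair T.G := T.toRootData.bnPair
  have hPB : P.B = (T.U ⊔ T.H).subgroupOf T.G := T.bnPair_B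
  have hPN : P.N = T.N.subgroupOf T.G := T.bnPair_N
  have hPS : P.S = Set.range T.nG := rfl
  have hBU : ∀ b ∈ T.U ⊔ T.H, ∀ u ∈ T.U, b * u * b⁻¹ ∈ T.U := by
    have h : T.U ⊔ T.H ≤ Subgroup.normalizer (T.U : Set Γ) := by
      refine sup_le Subgroup.le_normalizer ?_
      intro h hh
      rw [Subgroup.mem_normalizer_iff]
      intro u
      refine ⟨fun hu => T.conj_H_U h hh u hu, fun hu => ?_⟩
      have := T.conj_H_U h⁻¹ (inv_mem hh) _ hu
      simpa [mul_assoc] using this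
    intro b hb u hu
    exact (Subgroup.mem_normalizer_iff.1 (h hb) u).1 hu
  have hcop : ¬ p ∣ Nat.card (T.H.subgroupOf T.G) := by
    intro hdvd
    obtain ⟨x, hx⟩ := exists_prime_orderOf_dvd_card' p hdvd
    have hx1 : orderOf (x : ↥T.G) = p := by rw [Subgroup.orderOf_coe]; exact hx
    have hz : IsPGroup p (Subgroup.zpowers (x : ↥T.G)) := by
      apply IsPGroup.of_card (n := 1)
      rw [Nat.card_zpowers, hx1, pow_one]
    have hnor : Subgroup.zpowers (x : ↥T.G) ≤ Subgroup.normalizer ((T.U.subgroupOf T.G : Subgroup T.G) : Set T.G) := by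
      rw [Subgroup.zpowers_le, Subgroup.mem_normalizer_iff]
      intro u
      have hxH : (x : Γ) ∈ T.H := x.2
      refine ⟨fun hu => hBU _ (Subgroup.mem_sup_right hxH) _ hu, fun hu => ?_⟩
      have := hBU _ (Subgroup.mem_sup_right (inv_mem hxH)) _ hu
      show (u : Γ) ∈ T.U
      simpa [mul_assoc] using this
    have hsup : IsPGroup p ↥(Subgroup.zpowers (x : ↥T.G) ⊔ T.U.subgroupOf T.G) :=
      hz.to_sup_of_normal_right' hU hnor
    have hmax : Subgroup.zpowers (x : ↥T.G) ⊔ T.U.subgroupOf T.G = T.U.subgroupOf T.G :=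
      (hU.toSylow hidx).is_maximal' hsup le_sup_right
    have hxU : (x : ↥T.G) ∈ T.U.subgroupOf T.G := by
      rw [← hmax]
      exact Subgroup.mem_sup_left (Subgroup.mem_zpowers _)
    have h1 : ((x : ↥T.G) : Γ) = 1 := T.U_inf_H _ hxU x.2
    have h2 : (x : ↥T.G) = 1 := Subtype.ext h1
    rw [h2, orderOf_one] at hx1
    exact hp.1.one_lt.ne hx1
  refine ⟨?_, ?_, hU, ?_, ⟨Nat.card (T.H.subgroupOf T.G), hcop, ?_⟩, ?_, ?_⟩
  · show _ ≤ P.B
    rw [hPB]
    intro u hu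
    exact Subgroup.mem_sup_left (show (u : Γ) ∈ T.U from hu)
  · show ∀ b ∈ P.B, _
    rw [hPB]
    intro b hb u hu
    exact hBU b hb u hu
  · show ∀ b ∈ P.B, ∃ u ∈ T.U.subgroupOf T.G, u⁻¹ * b ∈ P.N
    rw [hPB, hPN]
    intro b hb
    obtain ⟨u, hu, huG, h, hh, hhG, e⟩ := (T.mem_B_iff b b.2).1 hb
    refine ⟨⟨u, huG⟩, hu, ?_⟩
    show u⁻¹ * (b : Γ) ∈ T.N
    rw [e, inv_mul_cancel_left]
    exact T.H_le_N hh
  · show ∀ h ∈ P.B, h ∈ P.N → _
    rw [hPB, hPN]
    intro h hB hN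
    have hH : (h : Γ) ∈ T.H := T.inf_le ⟨hB, hN⟩
    have h2 : (⟨h, hH⟩ : ↥(T.H.subgroupOf T.G)) ^ Nat.card (T.H.subgroupOf T.G) = 1 := pow_card_eq_one'
    have h3 := congrArg Subtype.val h2
    rwa [SubgroupClass.coe_pow] at h3
  · show ∀ s ∈ P.S, ∃ V, Node P (T.U.subgroupOf T.G) s V
    rw [hPS]
    rintro _ ⟨i, rfl⟩
    obtain ⟨E, _, _, ⟨L⟩⟩ := hloc i
    refine ⟨L.V.subgroupOf T.G, ⟨?_, ?_, ?_, ?_, ?_⟩⟩
    · intro v hv
      exact L.V_le hv
    · exact ⟨⟨L.x 1, L.x_mem_G 1⟩, L.x_mem_U 1, L.one_not_mem⟩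
    · rw [hPB]
      intro b hb v hv
      exact L.norm_B b hb v hv
    · intro v hv
      exact L.norm_n v hv
    · rw [hPB]
      intro u hu h
      exact L.stab hu u.2 h
  · show P.B.normalCore = ⊥
    rw [hPB]; exact hcore

end Twisted

/-! ### ²E₆(q) -/

section E6

open Cfsg.Agent.ChevalleyStructure.TwE6Basic
open Cfsg.Agent.ChevalleyStructure.TwE6BN
open Cfsg.Agent.Schreier.TwESix
open Cfsg.Agent.Schreier

theorem hasSplit_E6 {K : Type u} [Field K] [Fintype K] {p : ℕ} [CharP K p] {q : ℕ} (hq : IsPrimePow q)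
    (hK : Fintype.card K = q ^ 2) : HasSplit p ↥(twistedE6 K q) := by
  obtain ⟨φ, hφ, hqq⟩ := exists_frob hq hK
  obtain ⟨p', k, hp, hk, hpk⟩ := (isPrimePow_nat_iff _).1 hq
  obtain rfl : p = p' := char_eq (K := K) hp (n := k * 2) (by rw [hK, ← hpk, pow_mul])
  have : Fact p.Prime := ⟨hp⟩
  have hfin : Finite (T φ q hφ hqq).G := inferInstanceAs (Finite ↥(twistedE6 K q))
  have hq1 : 1 < q := hq.one_lt
  have hq0 : q ≠ 0 := by omega
  have hpq : p ∣ q := hpk ▸ dvd_pow_self p hk.ne'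
  have hcU : Nat.card ((chevE6.posUnipotent K).subgroupOf (twistedE6 K q)) = q ^ 36 := by
    rw [BNArith.card_subgroupOf]
    exact Cfsg.Agent.S1086.result hq hK
  have hcG := Cfsg.Agent.S1066.result hq hK
  refine ⟨(T φ q hφ hqq).toRootData.bnPair, _, ⟨_, 0, rfl⟩, split_of_twisted (T φ q hφ hqq) (p := p) ?_ ?_ ?_ ?_⟩
  · have h := Cfsg.Agent.S1105.result hq hK
    rw [Subgroup.inf_subgroupOf_right] at h
    exact h
  · apply IsPGroup.of_card (n := k * 36)
    rw [pow_mul, hpk]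
    exact hcU
  · have h1 := ((chevE6.posUnipotent K).subgroupOf (twistedE6 K q)).card_mul_index
    rw [← h1, hcU] at hcG
    simp only [mul_assoc] at hcG
    rw [mul_left_comm] at hcG
    have h2 := Nat.eq_of_mul_eq_mul_left (pow_pos (by omega : 0 < q) 36) hcG
    show ¬ p ∣ ((chevE6.posUnipotent K).subgroupOf (twistedE6 K q)).index
    intro hdvd
    have h3 := dvd_mul_of_dvd_right hdvd (Nat.gcd 3 (q + 1))
    rw [h2, hp.dvd_mul, hp.dvd_mul, hp.dvd_mul, hp.dvd_mul, hp.dvd_mul] at h3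
    rcases h3 with h | h | h | h | h | h
    · exact BNArith.not_dvd_pow_sub_one hp hpq hq1 (by norm_num) h
    · exact BNArith.not_dvd_pow_add_one hp hpq (by norm_num) h
    · exact BNArith.not_dvd_pow_sub_one hp hpq hq1 (by norm_num) h
    · exact BNArith.not_dvd_pow_sub_one hp hpq hq1 (by norm_num) h
    · exact BNArith.not_dvd_pow_add_one hp hpq (by norm_num) h
    · exact BNArith.not_dvd_pow_sub_one hp hpq hq1 (by norm_num) h
  · intro i
    have hi : i = 0 ∨ i = 1 ∨ i = 2 ∨ i = 3 := by fin_cases i <;> simp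
    rcases hi with rfl | rfl | rfl | rfl
    · exact ⟨φ.eqLocusField (RingHom.id K), inferInstance, inferInstance,
        ⟨locSingle single0 hφ hqq fun c hc h => tor0 hφ c hc h⟩⟩
    · exact ⟨φ.eqLocusField (RingHom.id K), inferInstance, inferInstance,
        ⟨locSingle single1 hφ hqq fun c hc h => tor1 hφ c hc h⟩⟩
    · exact ⟨K, inferInstance, inferInstance, ⟨locPair pair2 hφ hqq hq0 fun c hc => tor2 hφ c hc⟩⟩
    · exact ⟨K, inferInstance, inferInstance, ⟨locPair pair3 hφ hqq hq0 fun c hc => tor3 hφ c hc⟩⟩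

end E6

end Cfsg.Agent.FixBN.TwESixSplit
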