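import Cfsg.Agent.FixBN.Split
import Cfsg.Agent.FixBN.Transport
import Cfsg.Agent.FixBN.TwESixSplit
import Cfsg.Agent.Schreier.ThreeD4
import Cfsg.Agent.S1071
import Cfsg.Prelude.Def_LieTypeChar

/-!
# The split (B,N)-pair of ³D₄(q)
-/

set_option autoImplicit false

namespace Cfsg.Agent.FixBN.ThreeD4Split

open Cfsg.Lie
open Cfsg.Agent.Schreier.ThreeD4
open Cfsg.Agent.Schreier.Basic Cfsg.Agent.Schreier.Tools Cfsg.Agent.Schreier.BNSch Cfsg.Agent.Schreier.BNUse
open Cfsg.Agent.ChevalleyStructure.D4Fixed (sig coe_sig fix mem_fix twisted_le_fix twisted_induction)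
open Cfsg.Agent.ChevalleyStructure.D4Cols (xU coe_xU wU)
open Cfsg.Agent.ChevalleyStructure
open Cfsg.Agent.ChevalleyStructure.D4Comm
open Cfsg.Agent.ChevalleyStructure.D4CommTab
open Cfsg.Agent.ChevalleyStructure.D4Pos
open Cfsg.Agent.ChevalleyStructure.D4NCheck
open Cfsg.Agent.ChevalleyStructure.D4NConj (nR nR_def nG nG_conj nG_def hR hR_def nR_eq nR_inv xG_inv torG torG_conj
  torG_mul torG_one chi chi_def chi_ne_zero dv_def hR_eq_torG)
open Cfsg.Agent.ChevalleyStructure.SparseHDiag (cartanRS)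
open Cfsg.Agent.ChevalleyStructure.TwistedU
open Cfsg.Agent.ChevalleyStructure.D4U
open Cfsg.Agent.ChevalleyStructure.D4RGD
open Cfsg.Agent.ChevalleyStructure.D4Twisted

theorem node_of_field {K : Type*} [Group K] [Finite K] (P : Cfsg.BNPair K) (U H V : Subgroup K) (s : K)
    (hB : ∀ b ∈ P.B, ∃ u ∈ U, ∃ h ∈ H, b = u * h) (hHB : H ≤ P.B)
    {F : Type*} [Field F] [Finite F] (x : F → K) (hx : ∀ t, x t ∈ U) (hadd : ∀ t t', x (t + t') = x t * x t')
    (hVU : V ≤ U) (hdec : ∀ u ∈ U, ∃ v ∈ V, ∃ t, u = v * x t)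
    (hxV : ∀ t, ∀ v ∈ V, x t * v * (x t)⁻¹ ∈ V) (hHV : ∀ h ∈ H, ∀ v ∈ V, h * v * h⁻¹ ∈ V)
    (hsV : ∀ v ∈ V, s⁻¹ * v * s ∈ V) (hVB : V ≤ P.B) (hsx : ∀ t, s⁻¹ * x t * s ∈ P.B → t = 0)
    (hH : ∀ h ∈ H, ∃ c : F, ∀ t, h * x t * h⁻¹ = x (c * t))
    (hsq : ∀ c : F, c ≠ 0 → ∃ h ∈ H, h * x 1 * h⁻¹ = x (c ^ 2)) : ∃ V : Subgroup K, Node P U s V :=
  (loc_of_field P U H V s hB hHB x hx hadd hVU hdec hxV hHV hsV hVB hsx hH hsq).imp fun _ h => h.1

section Twisted
variable {K : Type*} [Field K] {q : ℕ} {φ : K →+* K}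

theorem hasSplit_aux [Finite K] (hφ : ∀ x, φ x = x ^ q) (hle : twistedD4 K q ≤ fix φ) {p : ℕ} [Fact p.Prime]
    (hUp : IsPGroup p ((chevD4.posUnipotent K).subgroupOf (twistedD4 K q))) (hcop : ¬ p ∣ Nat.card K - 1)
    (hfin : Finite (twistedD4 K q)) (hsimple : IsSimpleGroup (twistedD4 K q)) : HasSplit p ↥(twistedD4 K q) := by
  obtain ⟨P, hPB, hPN, hPS⟩ := exists_bnPair_aux hφ hle
  let U : Subgroup ↥(twistedD4 K q) := (chevD4.posUnipotent K).subgroupOf (twistedD4 K q)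
  let H : Subgroup ↥(twistedD4 K q) := (chevD4.diagonalSubgroup K).subgroupOf (twistedD4 K q)
  have memB : ∀ g : ↥(twistedD4 K q), g ∈ P.B ↔ (g : GL chevD4.Idx K) ∈ chevD4.borelSubgroup K := by
    intro g
    rw [hPB, Subgroup.mem_subgroupOf, Subgroup.mem_inf]
    exact ⟨fun h => h.1, fun h => ⟨h, g.2⟩⟩
  have memN : ∀ g : ↥(twistedD4 K q), g ∈ P.N ↔ (g : GL chevD4.Idx K) ∈ chevD4.monomialSubgroup K := by
    intro g
    rw [hPN, Subgroup.mem_subgroupOf, Subgroup.mem_inf]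
    exact ⟨fun h => h.1, fun h => ⟨h, g.2⟩⟩
  have hBUH : ∀ b ∈ P.B, ∃ u ∈ U, ∃ h ∈ H, b = u * h := by
    intro b hb
    obtain ⟨u, hu, huG, h, hh, hhG, e⟩ := ((tdata hφ hle).mem_B_iff (b : GL chevD4.Idx K) b.2).1 ((memB b).1 hb)
    exact ⟨⟨u, huG⟩, hu, ⟨h, hhG⟩, hh, Subtype.ext e⟩
  have hUB : U ≤ P.B := fun u hu => (memB u).2 (Subgroup.mem_sup_left hu)
  have hHB : H ≤ P.B := fun h hh => (memB h).2 (Subgroup.mem_sup_right hh)
  have hHU : ∀ h ∈ H, ∀ u ∈ U, h * u * h⁻¹ ∈ U := fun h hh u hu => (tdata hφ hle).conj_H_U h hh u hu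
  have hBU : ∀ b ∈ P.B, ∀ u ∈ U, b * u * b⁻¹ ∈ U := by
    intro b hb u hu
    obtain ⟨v, hv, h, hh, rfl⟩ := hBUH b hb
    have e : v * h * u * (v * h)⁻¹ = v * (h * u * h⁻¹) * v⁻¹ := by group
    rw [e]
    exact mul_mem (mul_mem hv (hHU h hh u hu)) (inv_mem hv)
  have hfix : ∀ g : ↥(twistedD4 K q), (g : GL chevD4.Idx K) ∈ fix φ := fun g => hle g.2
  have hXfix : ∀ t : K, D4Fixed.X φ t ∈ fix φ := fun t => hle (D4Fixed.X_mem hφ t)
  have hcore : P.B.normalCore = ⊥ := core_eq_bot P (by rw [hPS]; exact ⟨_, Or.inl rfl⟩)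
  refine ⟨P, U, by rw [hPS]; exact ⟨_, Or.inl rfl⟩, hUB, hBU, hUp, ?_, ⟨Nat.card K - 1, hcop, ?_⟩, ?_, hcore⟩
  · intro b hb
    obtain ⟨u, hu, h, hh, rfl⟩ := hBUH b hb
    refine ⟨u, hu, ?_⟩
    rw [inv_mul_cancel_left, memN]
    exact diagonal_le_monomial K hh
  · intro h hh hn
    have h1 : (h : GL chevD4.Idx K) ∈ chevD4.diagonalSubgroup K := by
      rw [← borel_inf_monomial]
      exact ⟨(memB h).1 hh, (memN h).1 hn⟩
    apply Subtype.ext
    exact pow_card_sub_one h1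
  · intro s hs
    rw [hPS] at hs
    rcases hs with rfl | hs
    · -- the node `{p₂}`
      let F : Subfield K := RingHom.eqLocusField φ (RingHom.id K)
      have hF : ∀ t : F, φ t = t := fun t => t.2
      refine node_of_field P U H ((RS K ordA.tail).subgroupOf (twistedD4 K q)) (nA hφ) hBUH hHB
        (F := F) (fun t => ⟨xG 14 (t : K), xG14_mem hφ (hF t)⟩) ?_ ?_ ?_ ?_ ?_ ?_ ?_ ?_ ?_ ?_ ?_
      · intro t
        exact RS14_le_U (mem_rspan xG (S := {k | k ∈ [14]}) (by simp) _)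
      · intro t t'
        apply Subtype.ext
        exact xG_add 14 (t : K) (t' : K)
      · intro v hv
        exact tail_le_U hv
      · intro u hu
        obtain ⟨v, hv, t, ht, e⟩ := decomp_a φ (u := (u : GL chevD4.Idx K)) hu (hfix u)
        have hvG : v ∈ twistedD4 K q := by
          have e2 : v = (u : GL chevD4.Idx K) * (xG 14 t)⁻¹ := by rw [e]; group
          rw [e2]
          exact mul_mem u.2 (inv_mem (xG14_mem hφ ht))
        exact ⟨⟨v, hvG⟩, hv, ⟨t, ht⟩, Subtype.ext e⟩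
      · intro t v hv
        exact conj_mem_RS (r := 14) (l := ordA.tail) (by decide +kernel) (t : K) hv
      · intro h hh v hv
        exact diag_conj_RS (l := ordA.tail) (by decide) hh hv
      · intro v hv
        exact na_inv_RS K (l := ordA.tail) (l' := ordA.tail) (by decide +kernel) hv
      · intro v hv
        exact hUB (tail_le_U hv)
      · intro t ht
        apply Subtype.ext
        exact xa_eq_zero ((memB _).1 ht)
      · intro h hh
        obtain ⟨c, hc, e⟩ := H_conj_a (φ := φ) hh (hfix h)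
        exact ⟨⟨c, hc⟩, fun t => Subtype.ext (e t)⟩
      · intro c hc
        have hc' : (c : K) ≠ 0 := fun h => hc (Subtype.ext h)
        refine ⟨⟨hR 14 (c : K), h14_mem hφ (hF c)⟩, hR_mem (by norm_num) hc', Subtype.ext ?_⟩
        exact sq_a hc'
    · -- the node `{p₁, p₃, p₄}`
      have hs' : s = nB hφ := hs
      subst hs'
      refine node_of_field P U H ((RS K (ordB.drop 3)).subgroupOf (twistedD4 K q)) (nB hφ) hBUH hHB
        (F := K) (fun t => ⟨D4Fixed.X φ t, D4Fixed.X_mem hφ t⟩) ?_ ?_ ?_ ?_ ?_ ?_ ?_ ?_ ?_ ?_ ?_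
      · intro t
        exact RSouter_le_U (X_mem_RS t)
      · intro t t'
        apply Subtype.ext
        exact X_add t t'
      · intro v hv
        exact drop_le_U hv
      · intro u hu
        obtain ⟨v, hv, t, e⟩ := decomp_b φ (u := (u : GL chevD4.Idx K)) hu (hfix u)
        have hvG : v ∈ twistedD4 K q := by
          have e2 : v = (u : GL chevD4.Idx K) * (D4Fixed.X φ t)⁻¹ := by rw [e]; group
          rw [e2]
          exact mul_mem u.2 (inv_mem (D4Fixed.X_mem hφ t))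
        exact ⟨⟨v, hvG⟩, hv, t, Subtype.ext e⟩
      · intro t v hv
        show D4Fixed.X φ t * (v : GL chevD4.Idx K) * (D4Fixed.X φ t)⁻¹ ∈ RS K (ordB.drop 3)
        have h12 := conj_mem_RS (r := 12) (l := ordB.drop 3) (by decide +kernel) (φ (φ t)) hv
        have h13 := conj_mem_RS (r := 13) (l := ordB.drop 3) (by decide +kernel) (φ t) h12
        have h18 := conj_mem_RS (r := 18) (l := ordB.drop 3) (by decide +kernel) t h13
        have e : D4Fixed.X φ t * (v : GL chevD4.Idx K) * (D4Fixed.X φ t)⁻¹ =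
            xG 18 t * (xG 13 (φ t) * (xG 12 (φ (φ t)) * (v : GL chevD4.Idx K) * (xG 12 (φ (φ t)))⁻¹) *
              (xG 13 (φ t))⁻¹) * (xG 18 t)⁻¹ := by
          unfold D4Fixed.X
          rw [xU_eq, xU_eq, xU_eq]
          group
        rw [e]
        exact h18
      · intro h hh v hv
        exact diag_conj_RS (l := ordB.drop 3) (by decide) hh hv
      · intro v hv
        exact nb_inv_RS K (l := ordB.drop 3) (l' := ordB.drop 3) (by decide +kernel) hv
      · intro v hv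
        exact hUB (drop_le_U hv)
      · intro t ht
        exact xb_eq_zero ((memB _).1 ht)
      · intro h hh
        obtain ⟨c, e⟩ := H_conj_b (φ := φ) hh (hfix h) hXfix
        exact ⟨c, fun t => Subtype.ext (e t)⟩
      · intro c hc
        refine ⟨⟨hb φ c, hb_mem hφ c⟩, hb_mem_diagonal φ hc, Subtype.ext ?_⟩
        exact sq_b hc

end Twisted

/-- **The split (B,N)-pair of ³D₄(q).** -/
theorem hasSplit_D4 {K : Type*} [Field K] [Fintype K] {p : ℕ} [CharP K p] {q : ℕ} (hq : IsPrimePow q)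
    (hK : Fintype.card K = q ^ 3) : HasSplit p ↥(twistedD4 K q) := by
  obtain ⟨hsimple, -⟩ := Cfsg.Agent.S1071.result hq hK
  have hfin : Finite ↥(twistedD4 K q) := inferInstance
  obtain ⟨φ, hφ⟩ := D4Fixed.exists_frob hq hK
  have hle := twisted_le_fix hK hφ
  have hcard := card_U1 hq hK
  obtain ⟨p', k, hp, hk, rfl⟩ := (isPrimePow_nat_iff _).1 hq
  obtain rfl : p = p' := TwESixSplit.char_eq (K := K) hp (n := k * 3) (by rw [hK, pow_mul])
  have : Fact p.Prime := ⟨hp⟩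
  refine hasSplit_aux (p := p) hφ hle ?_ ?_ hfin hsimple
  · apply IsPGroup.of_card (n := k * 12)
    have h1 : Nat.card ((chevD4.posUnipotent K).subgroupOf (twistedD4 K (p ^ k))) =
        Nat.card ↥(chevD4.posUnipotent K ⊓ twistedD4 K (p ^ k)) := by
      rw [← Subgroup.inf_subgroupOf_right]
      exact Nat.card_congr (Subgroup.subgroupOfEquivOfLe inf_le_right).toEquiv
    rw [h1, hcard, pow_mul]
  · rw [Nat.card_eq_fintype_card, hK, ← pow_mul]
    intro h
    have h2 : p ∣ p ^ (k * 3) := dvd_pow_self p (by positivity)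
    have h3 : p ∣ 1 := by
      have h4 : 1 ≤ p ^ (k * 3) := Nat.one_le_pow _ _ hp.pos
      have := (Nat.dvd_sub h2 h)
      rwa [Nat.sub_sub_self h4] at this
    exact hp.one_lt.ne' (Nat.dvd_one.1 h3)

end Cfsg.Agent.FixBN.ThreeD4Split
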