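import Cfsg.Agent.FixBN.U3Model

/-!
# Automorphisms of the rank one unitary group fixing two points are semilinear
-/

set_option autoImplicit false

namespace Cfsg.Agent.FixBN.U3Core

open Cfsg.Agent.FixBN.U3Model

variable {F : Type*} [Field F] {σ : F →+* F} [H : Inv2 σ]

/-- A point with given first coordinate. -/
theorem exists_pt (hF : UF σ) (a : F) : ∃ x : Pt σ, x.a = a := by
  have h2 := hF.two
  refine ⟨⟨a, -(a * σ a) / 2, ?_⟩, rfl⟩
  rw [map_div₀, map_neg, map_mul, H.invol, map_ofNat]
  field_simp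
  ring

/-- A point with given second coordinate. -/
theorem exists_pt_b (hF : UF σ) (b : F) : ∃ x : Pt σ, x.b = b := by
  obtain ⟨a, ha⟩ := hF.norm (-(b + σ b)) (by rw [map_neg, map_add, H.invol, add_comm])
  exact ⟨⟨a, b, by rw [ha]; ring⟩, rfl⟩

/-- The centre. -/
theorem central_iff (hF : UF σ) (x : Pt σ) : (∀ y : Pt σ, x * y = y * x) ↔ x.a = 0 := by
  constructor
  · intro h
    by_contra hx
    obtain ⟨c, hc⟩ := hF.ne
    obtain ⟨y, hy⟩ := exists_pt hF (c * x.a)
    have h1 := congrArg Pt.b (h y)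
    rw [mul_b, mul_b, hy, map_mul] at h1
    have h2 : σ x.a ≠ 0 := fun h2 => hx ((map_eq_zero σ).1 h2)
    apply hc
    have h3 : (σ c - c) * (σ x.a * x.a) = 0 := by linear_combination h1
    rcases mul_eq_zero.1 h3 with h3 | h3
    · exact sub_eq_zero.1 h3
    · exact absurd h3 (mul_ne_zero h2 hx)
  · intro hx y
    apply ext'
    · rw [mul_a, mul_a, add_comm]
    · rw [mul_b, mul_b, hx, map_zero]; ring

/-- The data of an automorphism fixing the two base points. -/
structure Au (β : Equiv.Perm (Om σ)) (φ φ' : Pt σ → Pt σ) : Prop where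
  val : ∀ x, β (some x) = some (φ x)
  tr : ∀ x z, β (tr x z) = U3Model.tr (φ x) (β z)
  jj : ∀ z, jj (β (jj z)) = (Option.map φ' z)
  tr' : ∀ x z, Option.map φ' (U3Model.tr x z) = U3Model.tr (φ' x) (Option.map φ' z)
  none : β none = none
  one : β (some 1) = some 1
  inj' : Function.Injective φ'

theorem exists_au_aux (β : Equiv.Perm (Om σ)) (h0 : β none = none)
    (hT : ∀ x, ∃ y, β * tr x * β⁻¹ = tr y) (h1 : β (some 1) = some 1) :
    ∃ φ : Pt σ → Pt σ, (∀ z, β z = Option.map φ z) ∧ ∀ x z, β (tr x z) = tr (φ x) (β z) := by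
  have key : ∀ x, ∃ y, β (some x) = some y := by
    intro x
    rcases h : β (some x) with _ | y
    · exfalso
      have h2 : β (some x) = β none := by rw [h, h0]
      exact absurd (β.injective h2) (by simp)
    · exact ⟨y, rfl⟩
  choose φ hφ using key
  refine ⟨φ, ?_, ?_⟩
  · rintro (_ | x)
    · exact h0
    · exact hφ x
  · intro x z
    obtain ⟨y, hy⟩ := hT x
    have h2 : ∀ z, β (tr x z) = tr y (β z) := by
      intro z
      have h3 := congrArg (fun g : Equiv.Perm (Om σ) => g (β z)) hy
      simpa using h3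
    have h3 : φ x = y := by
      have h4 := h2 (some 1)
      rw [tr_some, mul_one, h1, tr_some, mul_one, hφ] at h4
      exact Option.some_injective _ h4
    rw [h3]
    exact h2 z

theorem exists_au (β : Equiv.Perm (Om σ)) (h0 : β none = none) (h1 : β (some 1) = some 1)
    (hT : ∀ x, ∃ y, β * tr x * β⁻¹ = tr y)
    (hT' : ∀ x, ∃ y, (jj * β * jj) * tr x * (jj * β * jj)⁻¹ = tr y) : ∃ φ φ', Au β φ φ' := by
  obtain ⟨φ, h2, h3⟩ := exists_au_aux β h0 hT h1
  obtain ⟨φ', h4, h5⟩ := exists_au_aux (jj * β * jj)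
    (by simp only [Equiv.Perm.mul_apply, jj_none, h1, jj_one]) hT'
    (by simp only [Equiv.Perm.mul_apply, jj_one, h0, jj_none])
  refine ⟨φ, φ', ⟨fun x => h2 (some x), h3, fun z => h4 z, ?_, h0, h1, ?_⟩⟩
  · intro x z
    rw [← h4, ← h4]
    exact h5 x z
  · intro x y hxy
    have h6 : (jj * β * jj : Equiv.Perm (Om σ)) (some x) = (jj * β * jj : Equiv.Perm (Om σ)) (some y) := by
      rw [h4, h4]; simp [hxy]
    exact Option.some_injective _ ((jj * β * jj : Equiv.Perm (Om σ)).injective h6)

namespace Au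

variable {β : Equiv.Perm (Om σ)} {φ φ' : Pt σ → Pt σ} (A : Au β φ φ')

include A

theorem inj : Function.Injective φ := by
  intro x y h
  have h1 : β (some x) = β (some y) := by rw [A.val, A.val, h]
  exact Option.some_injective _ (β.injective h1)

theorem surj : Function.Surjective φ := by
  intro y
  rcases h : β⁻¹ (some y) with _ | x
  · have h1 : β (β⁻¹ (some y)) = some y := by simp
    rw [h, A.none] at h1
    exact absurd h1 (by simp)
  · refine ⟨x, ?_⟩
    have h1 : β (β⁻¹ (some y)) = some y := by simp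
    rw [h, A.val] at h1
    exact Option.some_injective _ h1

theorem mul (x y : Pt σ) : φ (x * y) = φ x * φ y := by
  have h1 := A.tr x (some y)
  rw [tr_some, A.val, A.val, tr_some] at h1
  exact Option.some_injective _ h1

theorem mul' (x y : Pt σ) : φ' (x * y) = φ' x * φ' y := by
  have h1 := A.tr' x (some y)
  rw [tr_some] at h1
  exact Option.some_injective _ h1

theorem map_one : φ 1 = 1 := by
  have h1 := A.mul 1 1
  rw [mul_one] at h1
  exact (mul_eq_left.1 h1.symm)

theorem map_one' : φ' 1 = 1 := by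
  have h1 := A.mul' 1 1
  rw [mul_one] at h1
  exact (mul_eq_left.1 h1.symm)

theorem inv (x : Pt σ) : φ x⁻¹ = (φ x)⁻¹ := by
  rw [eq_inv_iff_mul_eq_one, ← A.mul, inv_mul_cancel, A.map_one]

theorem inv' (x : Pt σ) : φ' x⁻¹ = (φ' x)⁻¹ := by
  rw [eq_inv_iff_mul_eq_one, ← A.mul', inv_mul_cancel, A.map_one']

theorem ne_one {x : Pt σ} (hx : x ≠ 1) : φ x ≠ 1 := by
  intro h
  rw [← A.map_one] at h
  exact hx (A.inj h)

theorem ne_one' {x : Pt σ} (hx : x ≠ 1) : φ' x ≠ 1 := by
  intro h
  rw [← A.map_one'] at h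
  exact hx (A.inj' h)

theorem map_J' {x : Pt σ} (hx : x ≠ 1) : φ' (J x) = J (φ x) := by
  have h1 := A.jj (some (J x))
  rw [jj_some (J_ne_one hx), J_J, A.val, jj_some (A.ne_one hx)] at h1
  exact (Option.some_injective _ h1).symm

/-- The `μ`-maps are permuted. -/
theorem mu {x : Pt σ} (hx : x ≠ 1) (w : Pt σ) : φ (D (lam x) w) = D (lam (φ x)) (φ' w) := by
  have hβ' : ∀ z, β (U3Model.jj z) = U3Model.jj (Option.map φ' z) := fun z => by
    rw [← A.jj, jj_jj]
  have hβ : ∀ z, Option.map φ' (U3Model.jj z) = U3Model.jj (β z) := fun z => by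
    rw [← A.jj, jj_jj]
  have h1 := congrArg β (mu_eq hx (U3Model.jj (some w)))
  rw [hβ', A.tr', hβ, A.tr, hβ', A.tr', hβ, hβ', jj_jj, A.inv', A.map_J' hx, A.map_J' (inv_ne_one.2 hx), A.inv,
    jj_jj] at h1
  have h2 := mu_eq (A.ne_one hx) (U3Model.jj (Option.map φ' (some w)))
  rw [jj_jj] at h2
  rw [h2] at h1
  have h3 : β (dd (lam x) (some w)) = some (φ (D (lam x) w)) := A.val _
  rw [h3] at h1
  exact (Option.some_injective _ h1).symm

/-- The first coordinate of `φ x` depends only on the first coordinate of `x`. -/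
theorem a_congr (hF : UF σ) {x y : Pt σ} (h : x.a = y.a) : (φ x).a = (φ y).a := by
  have h1 : (x⁻¹ * y).a = 0 := by rw [mul_a, inv_a, h]; ring
  have h2 := (central_iff hF _).2 h1
  have h3 : ∀ z, φ (x⁻¹ * y) * z = z * φ (x⁻¹ * y) := by
    intro z
    obtain ⟨w, rfl⟩ := A.surj z
    rw [← A.mul, ← A.mul, h2]
  have h4 := (central_iff hF _).1 h3
  rw [A.mul, A.inv, mul_a, inv_a] at h4
  linear_combination -h4

theorem a_eq_zero (hF : UF σ) {x : Pt σ} (h : (φ x).a = 0) : x.a = 0 := by
  apply (central_iff hF _).1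
  intro y
  apply A.inj
  rw [A.mul, A.mul, (central_iff hF _).2 h]

/-- The function on first coordinates. -/
theorem exists_f (hF : UF σ) : ∃ f : F → F, (∀ x : Pt σ, (φ x).a = f x.a) ∧ (∀ a b, f (a + b) = f a + f b) ∧
    (∀ a, f a = 0 → a = 0) := by
  choose pt hpt using fun a => exists_pt (σ := σ) hF a
  have h1 : ∀ x : Pt σ, (φ x).a = (φ (pt x.a)).a := fun x => A.a_congr hF (hpt x.a).symm
  refine ⟨fun a => (φ (pt a)).a, h1, ?_, ?_⟩
  · intro a b
    have h2 := h1 (pt a * pt b)
    rw [A.mul, mul_a, mul_a, hpt, hpt] at h2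
    exact h2.symm
  · intro a ha
    have h2 := A.a_eq_zero hF ha
    rwa [hpt] at h2

end Au

/-- The subring generated by the multipliers is everything. -/
theorem mem_of_lam (hF : UF σ) (S : Subring F) (hS : ∀ x : Pt σ, x ≠ 1 → lam x ∈ S) (c : F) : c ∈ S := by
  have hfix : ∀ r, σ r = r → r ∈ S := by
    intro r hr
    by_cases h0 : r = 0
    · rw [h0]; exact zero_mem S
    · obtain ⟨x, hx⟩ := exists_pt_b hF r
      have hx1 : x ≠ 1 := by
        rintro rfl
        exact h0 (by rw [← hx, one_b])
      have h1 := hS x hx1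
      unfold lam at h1
      rw [hx, hr, mul_div_assoc, div_self h0, mul_one] at h1
      exact h1
  have hex : ∃ κ ∈ S, σ κ ≠ κ := by
    by_contra hcon
    push Not at hcon
    have hcube : ∀ b : F, σ b * σ b * σ b = b * b * b := by
      intro b
      by_cases h0 : b = 0
      · rw [h0, map_zero]
      · obtain ⟨x, hx⟩ := exists_pt_b hF b
        have hx1 : x ≠ 1 := by
          rintro rfl
          exact h0 (by rw [← hx, one_b])
        have h1 := hcon _ (hS x hx1)
        unfold lam at h1
        rw [hx, map_div₀, map_mul, H.invol] at h1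
        have h2 : σ b ≠ 0 := fun h2 => h0 ((map_eq_zero σ).1 h2)
        field_simp at h1
        linear_combination -h1
    obtain ⟨b, hb⟩ := hF.ne
    have h1 := hcube b
    have h2 := hcube (b + 1)
    have h3 := hcube (b - 1)
    rw [map_add, map_one] at h2
    rw [map_sub, map_one] at h3
    have h4 : (2 : F) * (3 * (σ b - b)) = 0 := by linear_combination h2 + h3 - 2 * h1
    have h5 := (mul_eq_zero.1 h4).resolve_left hF.two
    have h6 : (σ b - b) ^ 3 = 0 := by linear_combination h1 - σ b * b * h5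
    exact hb (sub_eq_zero.1 (pow_eq_zero_iff (by norm_num) |>.1 h6))
  obtain ⟨κ, hκS, hκ⟩ := hex
  have hne : κ - σ κ ≠ 0 := fun h => hκ (sub_eq_zero.1 h).symm
  have hne' : σ κ - κ ≠ 0 := fun h => hκ (sub_eq_zero.1 h)
  have hs : (c - σ c) / (κ - σ κ) ∈ S := by
    apply hfix
    rw [map_div₀, map_sub, map_sub, H.invol, H.invol]
    field_simp
    ring
  have hr : c - κ * ((c - σ c) / (κ - σ κ)) ∈ S := by
    apply hfix
    rw [map_sub, map_mul, map_div₀, map_sub, map_sub, H.invol, H.invol]
    field_simp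
    ring
  have h5 := S.add_mem hr (S.mul_mem hκS hs)
  rwa [sub_add_cancel] at h5

/-- **Automorphisms fixing the two base points are semilinear.** -/
theorem Au.semilinear (hF : UF σ) {β : Equiv.Perm (Om σ)} {φ φ' : Pt σ → Pt σ} (A : Au β φ φ') :
    ∃ (c : F) (τ : F →+* F), c ≠ 0 ∧ ∀ x : Pt σ, (φ x).a = c * τ x.a ∧ (φ x).b = c * σ c * τ x.b := by
  obtain ⟨f, hfa, hadd, hf0⟩ := A.exists_f hF
  have h2 := hF.two
  have hf1 : f 1 ≠ 0 := fun h => one_ne_zero (hf0 1 h)
  have hfz : f 0 = 0 := by
    have := hadd 0 0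
    rw [add_zero] at this
    linear_combination -this
  have hfn : ∀ a, f (-a) = -f a := by
    intro a
    have := hadd a (-a)
    rw [add_neg_cancel, hfz] at this
    linear_combination -this
  -- the base multiplier
  obtain ⟨x₀, hx₀⟩ := exists_pt_b hF (1 : F)
  have hx₀1 : x₀ ≠ 1 := by
    rintro rfl
    rw [one_b] at hx₀
    exact zero_ne_one hx₀
  have hl₀ : lam x₀ = 1 := by unfold lam; rw [hx₀, _root_.map_one]; simp
  have hφ' : ∀ w, φ w = D (lam (φ x₀)) (φ' w) := fun w => by
    have := A.mu hx₀1 w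
    rwa [hl₀, D_one'] at this
  have hl0 : lam (φ x₀) ≠ 0 := lam_ne_zero (A.ne_one hx₀1)
  have hκ : ∀ x : Pt σ, x ≠ 1 → ∀ w, φ (D (lam x) w) = D (lam (φ x) * (lam (φ x₀))⁻¹) (φ w) := by
    intro x hx w
    rw [A.mu hx, hφ' w, D_D, mul_assoc, inv_mul_cancel₀ hl0, mul_one]
  have hκf : ∀ x : Pt σ, x ≠ 1 → ∀ a, f (lam x * a) = lam (φ x) * (lam (φ x₀))⁻¹ * f a := by
    intro x hx a
    obtain ⟨w, rfl⟩ := exists_pt (σ := σ) hF a
    rw [← hfa, ← D_a, ← hfa, hκ x hx, D_a]
  -- multiplicativity
  have hS : ∀ c, ∀ a, f (c * a) * f 1 = f c * f a := by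
    let S : Subring F :=
      { carrier := {c | ∀ a, f (c * a) * f 1 = f c * f a}
        mul_mem' := by
          intro c d hc hd a
          show f (c * d * a) * f 1 = f (c * d) * f a
          have h3 := hc (d * a)
          have h4 := hd a
          have h5 := hc d
          rw [← mul_assoc] at h3
          have h6 : (f (c * d * a) * f 1) * f 1 = (f (c * d) * f a) * f 1 := by
            linear_combination f 1 * h3 + f c * h4 - f a * h5
          exact mul_right_cancel₀ hf1 h6
        one_mem' := by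
          intro a
          rw [one_mul, mul_comm]
        add_mem' := by
          intro c d hc hd a
          show f ((c + d) * a) * f 1 = f (c + d) * f a
          have h3 : f (c * a) * f 1 = f c * f a := hc a
          have h4 : f (d * a) * f 1 = f d * f a := hd a
          rw [add_mul, hadd, hadd]
          linear_combination h3 + h4
        zero_mem' := by
          intro a
          rw [zero_mul, hfz]; ring
        neg_mem' := by
          intro c hc a
          show f (-c * a) * f 1 = f (-c) * f a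
          have h3 : f (c * a) * f 1 = f c * f a := hc a
          rw [neg_mul, hfn, hfn]
          linear_combination -h3 }
    intro c
    have : c ∈ S := by
      apply mem_of_lam hF
      intro x hx a
      show f (lam x * a) * f 1 = f (lam x) * f a
      have h3 := hκf x hx a
      have h4 := hκf x hx 1
      rw [mul_one] at h4
      rw [h3, h4]; ring
    exact this
  let τ : F →+* F :=
    { toFun := fun a => f a / f 1
      map_one' := div_self hf1
      map_mul' := by
        intro a b
        have := hS a b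
        field_simp
        linear_combination this
      map_zero' := by simp [hfz]
      map_add' := by
        intro a b
        rw [hadd]; ring }
  have hτ : ∀ a, f a = f 1 * τ a := by
    intro a
    show f a = f 1 * (f a / f 1)
    field_simp
  have hτσ := hF.comm τ
  -- the defect
  set c := f 1 with hc
  have hmul : ∀ x y : Pt σ, (φ (x * y)).b - c * σ c * τ (x * y).b =
      ((φ x).b - c * σ c * τ x.b) + ((φ y).b - c * σ c * τ y.b) := by
    intro x y
    rw [A.mul, mul_b, mul_b, map_sub, map_add, map_mul, hfa, hfa, hτ, hτ, map_mul, hτσ]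
    ring
  have hneg : ∀ w, φ (D (-1) w) = D (-1) (φ w) := by
    obtain ⟨x, hx⟩ := exists_pt_b hF (-1 : F)
    have hx1 : x ≠ 1 := by
      rintro rfl
      rw [one_b] at hx
      exact absurd hx.symm (neg_ne_zero.2 one_ne_zero)
    have hl : lam x = -1 := by unfold lam; rw [hx, map_neg, _root_.map_one]; simp
    have h3 := hκf x hx1 1
    rw [hl, mul_one, hfn] at h3
    have h4 : lam (φ x) * (lam (φ x₀))⁻¹ = -1 := by
      have h5 : (lam (φ x) * (lam (φ x₀))⁻¹ + 1) * f 1 = 0 := by linear_combination -h3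
      rcases mul_eq_zero.1 h5 with h5 | h5
      · linear_combination h5
      · exact absurd h5 hf1
    intro w
    have h5 := hκ x hx1 w
    rwa [hl, h4] at h5
  -- the defect vanishes on the centre
  have hz : ∀ x : Pt σ, x.a = 0 → (φ x).b - c * σ c * τ x.b = 0 := by
    intro x hx
    obtain ⟨y, hy⟩ := exists_pt (σ := σ) hF (x.b / 2)
    obtain ⟨z, hz⟩ := exists_pt (σ := σ) hF (1 : F)
    have hxb : σ x.b = -x.b := by
      have := x.h
      rw [hx] at this
      linear_combination this
    have h3 : y * z = x * (z * y) := by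
      apply ext'
      · simp only [mul_a, hx]; ring
      · simp only [mul_a, mul_b, hx, hy, hz, map_zero, map_div₀, hxb, map_ofNat, _root_.map_one]
        field_simp
        ring
    have h4 := hmul y z
    have h5 := hmul x (z * y)
    have h6 := hmul z y
    rw [h3] at h4
    linear_combination h4 - h5 - h6
  refine ⟨c, τ, hf1, fun x => ⟨by rw [hfa, hτ], ?_⟩⟩
  have h3 := hmul (D (-1) x) x
  have h4 : (D (-1) x * x).a = 0 := by rw [mul_a, D_a]; ring
  rw [hz _ h4, hneg, D_b, D_b, map_neg, _root_.map_one] at h3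
  have h5 : (2 : F) * ((φ x).b - c * σ c * τ x.b) = 0 := by
    rw [map_mul, map_mul, map_neg, _root_.map_one] at h3
    linear_combination -h3
  have h6 := (mul_eq_zero.1 h5).resolve_left h2
  linear_combination h6

end Cfsg.Agent.FixBN.U3Core
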