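import Mathlib

/-!
# The rank one unitary group as a permutation group

`Pt σ` is the group of pairs `(a, b)`, `b + σ b + a σ a = 0`; `Option (Pt σ)` is the set of isotropic points of the
hermitian space of dimension three; `tr`, `jj`, `dd` are the translations, the standard involution and the torus.
-/

set_option autoImplicit false

namespace Cfsg.Agent.FixBN.U3Model

variable {F : Type*} [Field F]

/-- The facts on the field which are used. -/
structure UF (σ : F →+* F) : Prop where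
  two : (2 : F) ≠ 0
  invol : ∀ x, σ (σ x) = x
  ne : ∃ x, σ x ≠ x
  norm : ∀ r, σ r = r → ∃ a, a * σ a = r
  sq : ∀ r, σ r = r → ∃ a, a * a = r
  comm : ∀ (τ : F →+* F) (x : F), τ (σ x) = σ (τ x)
  invs : ∀ τ : F →+* F, (∀ x, τ (τ x) = x) → (∀ x, τ x = x) ∨ (∀ x, τ x = σ x)

/-- The points different from `∞`. -/
@[ext]
structure Pt (σ : F →+* F) where
  a : F
  b : F
  h : b + σ b + a * σ a = 0

variable {σ : F →+* F}

/-- We need the involution property for the group structure. -/
class Inv2 (σ : F →+* F) : Prop where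
  invol : ∀ x, σ (σ x) = x

variable [H : Inv2 σ]

instance : Mul (Pt σ) where
  mul x y := ⟨x.a + y.a, x.b + y.b - σ x.a * y.a, by
    have h1 := x.h
    have h2 := y.h
    rw [map_sub, map_add, map_add, map_mul, H.invol]
    linear_combination h1 + h2⟩

omit H in
theorem b_eq (x : Pt σ) : σ x.b = -x.b - x.a * σ x.a := by
  linear_combination x.h

theorem mul_a (x y : Pt σ) : (x * y).a = x.a + y.a := rfl

theorem mul_b (x y : Pt σ) : (x * y).b = x.b + y.b - σ x.a * y.a := rfl

instance : One (Pt σ) where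
  one := ⟨0, 0, by simp⟩

omit H in
theorem one_a : (1 : Pt σ).a = 0 := rfl

omit H in
theorem one_b : (1 : Pt σ).b = 0 := rfl

instance : Inv (Pt σ) where
  inv x := ⟨-x.a, σ x.b, by
    have h1 := x.h
    rw [H.invol, map_neg]
    linear_combination h1⟩

theorem inv_a (x : Pt σ) : (x⁻¹).a = -x.a := rfl

theorem inv_b (x : Pt σ) : (x⁻¹).b = σ x.b := rfl

instance : Group (Pt σ) :=
  Group.ofLeftAxioms
    (fun x y z => by
      ext
      · simp only [mul_a]; ring
      · simp only [mul_a, mul_b, map_add]; ring)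
    (fun x => by
      ext
      · simp only [mul_a, one_a]; ring
      · simp only [mul_b, one_b, one_a, map_zero]; ring)
    (fun x => by
      ext
      · simp only [mul_a, inv_a, one_a]; ring
      · simp only [mul_b, inv_a, inv_b, one_b, map_neg]
        linear_combination x.h)

omit H in
theorem ext' {x y : Pt σ} (h1 : x.a = y.a) (h2 : x.b = y.b) : x = y := Pt.ext h1 h2

omit H in
theorem b_ne_zero {x : Pt σ} (hx : x ≠ 1) : x.b ≠ 0 := by
  intro h
  apply hx
  have h1 := x.h
  rw [h, map_zero, zero_add, zero_add] at h1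
  have h2 : x.a = 0 := by
    rcases mul_eq_zero.1 h1 with h2 | h2
    · exact h2
    · exact (map_eq_zero σ).1 h2
  exact ext' h2 h

open Classical in
/-- The inversion `(a, b) ↦ (-a/b, 1/b)`. -/
noncomputable def J (x : Pt σ) : Pt σ :=
  if h : x.b = 0 then 1 else ⟨-x.a / x.b, 1 / x.b, by
    have h1 : σ x.b ≠ 0 := fun h2 => h ((map_eq_zero σ).1 h2)
    rw [map_div₀, map_div₀, map_neg, map_one]
    field_simp
    linear_combination x.h⟩

omit H in
theorem J_a {x : Pt σ} (hx : x ≠ 1) : (J x).a = -x.a / x.b := by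
  unfold J; rw [dif_neg (b_ne_zero hx)]

omit H in
theorem J_b {x : Pt σ} (hx : x ≠ 1) : (J x).b = 1 / x.b := by
  unfold J; rw [dif_neg (b_ne_zero hx)]

omit H in
theorem J_one : J (1 : Pt σ) = 1 := by
  unfold J; rw [dif_pos one_b]

theorem J_ne_one {x : Pt σ} (hx : x ≠ 1) : J x ≠ 1 := by
  intro h
  have h1 := J_b hx
  rw [h, one_b] at h1
  exact one_div_ne_zero (b_ne_zero hx) h1.symm

theorem J_J (x : Pt σ) : J (J x) = x := by
  by_cases hx : x = 1
  · rw [hx, J_one, J_one]
  · have h1 := b_ne_zero hx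
    apply ext'
    · rw [J_a (J_ne_one hx), J_a hx, J_b hx]; field_simp
    · rw [J_b (J_ne_one hx), J_b hx]; field_simp

/-- The torus. -/
def D (c : F) (x : Pt σ) : Pt σ := ⟨c * x.a, c * σ c * x.b, by
  rw [map_mul, map_mul, map_mul, H.invol]
  linear_combination (c * σ c) * x.h⟩

theorem D_a (c : F) (x : Pt σ) : (D c x).a = c * x.a := rfl

theorem D_b (c : F) (x : Pt σ) : (D c x).b = c * σ c * x.b := rfl

theorem D_D (c d : F) (x : Pt σ) : D c (D d x) = D (c * d) x := by
  apply ext'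
  · simp only [D_a]; ring
  · simp only [D_b, map_mul]; ring

theorem D_one' (x : Pt σ) : D 1 x = x := by
  apply ext'
  · simp only [D_a]; ring
  · simp only [D_b, map_one]; ring

/-! ### The permutations of the isotropic points -/

/-- The isotropic points. -/
abbrev Om (σ : F →+* F) := Option (Pt σ)

/-- Translations. -/
def tr (x : Pt σ) : Equiv.Perm (Om σ) where
  toFun := Option.map (x * ·)
  invFun := Option.map (x⁻¹ * ·)
  left_inv := by rintro (_ | y) <;> simp
  right_inv := by rintro (_ | y) <;> simp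

theorem tr_none (x : Pt σ) : tr x none = none := rfl

theorem tr_some (x y : Pt σ) : tr x (some y) = some (x * y) := rfl

open Classical in
/-- The function underlying `jj`. -/
noncomputable def jf : Om σ → Om σ
  | none => some 1
  | some x => if x = 1 then none else some (J x)

omit H in
theorem jf_none : jf (none : Om σ) = some 1 := rfl

omit H in
theorem jf_one : jf (some 1 : Om σ) = none := by
  unfold jf; simp

omit H in
theorem jf_some {x : Pt σ} (hx : x ≠ 1) : jf (some x) = some (J x) := by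
  unfold jf; simp [hx]

theorem jf_jf (z : Om σ) : jf (jf z) = z := by
  rcases z with _ | x
  · rw [jf_none, jf_one]
  · by_cases hx : x = 1
    · rw [hx, jf_one, jf_none]
    · rw [jf_some hx, jf_some (J_ne_one hx), J_J]

/-- The standard involution. -/
noncomputable def jj : Equiv.Perm (Om σ) := ⟨jf, jf, jf_jf, jf_jf⟩

theorem jj_none : jj (none : Om σ) = some 1 := rfl

theorem jj_one : jj (some 1 : Om σ) = none := jf_one

theorem jj_some {x : Pt σ} (hx : x ≠ 1) : jj (some x) = some (J x) := jf_some hx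

theorem jj_jj (z : Om σ) : jj (jj z) = z := jf_jf z

theorem jj_mul_jj : (jj : Equiv.Perm (Om σ)) * jj = 1 := Equiv.ext jj_jj

theorem jj_inv : (jj : Equiv.Perm (Om σ))⁻¹ = jj := rfl

/-! ### Isotropic vectors -/

/-- `v` represents the point `p`. -/
def Rep (v : F × F × F) : Om σ → Prop
  | none => v.2.2 = 0 ∧ v.2.1 = 0 ∧ v.1 ≠ 0
  | some x => v.2.2 ≠ 0 ∧ v.2.1 = x.a * v.2.2 ∧ v.1 = x.b * v.2.2

omit H in
theorem Rep.unique {v : F × F × F} {p p' : Om σ} (h : Rep v p) (h' : Rep v p') : p = p' := by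
  rcases p with _ | x <;> rcases p' with _ | x'
  · rfl
  · exact absurd h.1 h'.1
  · exact absurd h'.1 h.1
  · obtain ⟨h1, h2, h3⟩ := h
    obtain ⟨_, h2', h3'⟩ := h'
    rw [h2'] at h2
    rw [h3'] at h3
    rw [Pt.ext (mul_right_cancel₀ h1 h2).symm (mul_right_cancel₀ h1 h3).symm]

/-- scalar multiples -/
def sv (c : F) (v : F × F × F) : F × F × F := (c * v.1, c * v.2.1, c * v.2.2)

omit H in
theorem Rep.smul {v : F × F × F} {p : Om σ} (h : Rep v p) {c : F} (hc : c ≠ 0) : Rep (sv c v) p := by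
  rcases p with _ | x
  · obtain ⟨h1, h2, h3⟩ := h
    exact ⟨by simp [sv, h1], by simp [sv, h2], by simp [sv, h3, hc]⟩
  · obtain ⟨h1, h2, h3⟩ := h
    refine ⟨mul_ne_zero hc h1, ?_, ?_⟩
    · simp only [sv, h2]; ring
    · simp only [sv, h3]; ring

/-- translations on vectors -/
def tv (x : Pt σ) (v : F × F × F) : F × F × F := (v.1 - σ x.a * v.2.1 + x.b * v.2.2, v.2.1 + x.a * v.2.2, v.2.2)

theorem Rep.tr {v : F × F × F} {p : Om σ} (h : Rep v p) (x : Pt σ) : Rep (tv x v) (tr x p) := by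
  rcases p with _ | y
  · obtain ⟨h1, h2, h3⟩ := h
    exact ⟨h1, by simp [tv, h1, h2], by simp [tv, h1, h2, h3]⟩
  · obtain ⟨h1, h2, h3⟩ := h
    refine ⟨h1, ?_, ?_⟩
    · simp only [tv, h2, mul_a]; ring
    · simp only [tv, h2, h3, mul_b]; ring

/-- the involution on vectors -/
def jv (v : F × F × F) : F × F × F := (v.2.2, -v.2.1, v.1)

theorem Rep.jj {v : F × F × F} {p : Om σ} (h : Rep v p) : Rep (jv v) (jj p) := by
  rcases p with _ | y
  · obtain ⟨h1, h2, h3⟩ := h
    exact ⟨h3, by simp [jv, h2, one_a], by simp [jv, h1, one_b]⟩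
  · obtain ⟨h1, h2, h3⟩ := h
    by_cases hy : y = 1
    · subst hy
      rw [jj_one]
      rw [one_a] at h2
      rw [one_b] at h3
      exact ⟨by simp [jv, h3], by simp [jv, h2], h1⟩
    · rw [jj_some hy]
      have hb := b_ne_zero hy
      refine ⟨?_, ?_, ?_⟩
      · simp only [jv, h3]
        exact mul_ne_zero hb h1
      · simp only [jv, h2, h3, J_a hy]; field_simp
      · simp only [jv, h3, J_b hy]; field_simp

/-- the torus on vectors -/
def dv (σ : F →+* F) (c : F) (v : F × F × F) : F × F × F := (c * σ c * v.1, c * v.2.1, v.2.2)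

/-- The torus on points. -/
def dd (c : F) : Om σ → Om σ := Option.map (D c)

theorem Rep.dd {v : F × F × F} {p : Om σ} (h : Rep v p) {c : F} (hc : c ≠ 0) : Rep (dv σ c v) (dd c p) := by
  have hc' : σ c ≠ 0 := fun h => hc ((map_eq_zero σ).1 h)
  rcases p with _ | y
  · obtain ⟨h1, h2, h3⟩ := h
    exact ⟨h1, by simp [dv, h2], by simp [dv, h3, hc, hc']⟩
  · obtain ⟨h1, h2, h3⟩ := h
    refine ⟨h1, ?_, ?_⟩
    · simp only [dv, h2, D_a]; ring
    · simp only [dv, h3, D_b]; ring

omit H in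
theorem exists_rep (p : Om σ) : ∃ v, Rep v p := by
  rcases p with _ | y
  · exact ⟨(1, 0, 0), rfl, rfl, one_ne_zero⟩
  · exact ⟨(y.b, y.a, 1), one_ne_zero, by simp, by simp⟩

/-- The multiplier of the `μ`-map of `x`. -/
def lam (x : Pt σ) : F := σ x.b * σ x.b / x.b

omit H in
theorem lam_ne_zero [Inv2 σ] {x : Pt σ} (hx : x ≠ 1) : lam x ≠ 0 := by
  have h1 := b_ne_zero hx
  have h2 : σ x.b ≠ 0 := fun h => h1 ((map_eq_zero σ).1 h)
  exact div_ne_zero (mul_ne_zero h2 h2) h1

/-- **The `μ`-map**, on points. -/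
theorem mu_eq {x : Pt σ} (hx : x ≠ 1) (z : Om σ) :
    jj (tr (J x)⁻¹ (jj (tr x (jj (tr (J x⁻¹) (jj z)))))) = dd (lam x) (jj z) := by
  obtain ⟨v, hv⟩ := exists_rep z
  have h1 := hv.jj.tr (J x⁻¹) |>.jj.tr x |>.jj.tr (J x)⁻¹ |>.jj
  have hb := b_ne_zero hx
  have hb' : σ x.b ≠ 0 := fun h => hb ((map_eq_zero σ).1 h)
  have hx' : x⁻¹ ≠ 1 := inv_ne_one.2 hx
  have h2 := (hv.jj.dd (lam_ne_zero hx)).smul (c := (σ x.b)⁻¹) (inv_ne_zero hb')
  refine Rep.unique h1 ?_
  have h3 : jv (tv (J x)⁻¹ (jv (tv x (jv (tv (J x⁻¹) (jv v)))))) = sv (σ x.b)⁻¹ (dv σ (lam x) (jv v)) := by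
    obtain ⟨A, hA⟩ : ∃ A, σ x.a = A := ⟨_, rfl⟩
    obtain ⟨B, hB⟩ : ∃ B, σ x.b = B := ⟨_, rfl⟩
    have ha := x.h
    have hA2 : σ A = x.a := by rw [← hA, H.invol]
    have hB2 : σ B = x.b := by rw [← hB, H.invol]
    unfold jv tv sv dv
    simp only [J_a hx, J_b hx, J_a hx', J_b hx', inv_a, inv_b, map_neg, map_div₀, map_one, lam, map_mul,
      neg_neg, hA, hB, hB2] at ha ⊢
    rw [hB] at hb'
    have hb2 : x.b = -B - x.a * A := by linear_combination ha
    rw [hb2] at hb ⊢
    have hb3 : -B - A * x.a ≠ 0 := by rwa [mul_comm]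
    refine Prod.ext ?_ (Prod.ext ?_ ?_)
    · simp only
      field_simp
      ring
    · simp only
      field_simp
      ring
    · simp only
      field_simp
      ring
  rw [h3]
  exact h2

end Cfsg.Agent.FixBN.U3Model
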