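import Cfsg.Agent.FixBN.RankOneU3

/-!
# The rank one unitary group: odd order automorphisms commuting with an involution

`exists_line`: `th`, `d` permute the root groups of the rank one unitary group, `th * th = 1 ≠ th`, `d ≠ 1` has odd
order, commutes with `th` and with all root elements which commute with `th`; then there are points `P ≠ Q = th P`
such that `d` normalises the long group `⟨Z(U_P), Z(U_Q)⟩` and does not centralise `Z(U_P)`.
-/

set_option autoImplicit false

namespace Cfsg.Agent.FixBN.U3One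

open Cfsg.Agent.FixBN.U3Model Cfsg.Agent.FixBN.U3Core Cfsg.Agent.FixBN.RankOneU3

variable {F : Type*} [Field F] {σ : F →+* F} [H : Inv2 σ]

/-- translations -/
local notation "tl" => U3Model.tr

/-- the element mapping `∞` to a point -/
local notation "tp" => RankOneU3.toPt

theorem D_mul (c : F) (x y : Pt σ) : D c (x * y) = D c x * D c y := by
  apply ext'
  · simp only [D_a, mul_a]; ring
  · simp only [D_a, D_b, mul_b, map_mul]; ring

theorem tl_one : tl (1 : Pt σ) = 1 := by
  apply Equiv.ext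
  rintro (_ | z)
  · rfl
  · rw [U3Model.tr_some, one_mul]; rfl

theorem tl_injective : Function.Injective (U3Model.tr : Pt σ → Equiv.Perm (Om σ)) := by
  intro x y h
  have h1 := congrArg (fun g : Equiv.Perm (Om σ) => g (some 1)) h
  simp only [U3Model.tr_some, mul_one] at h1
  exact Option.some_injective _ h1

/-- the torus, as a permutation -/
def dp (c : F) (hc : c ≠ 0) : Equiv.Perm (Om σ) where
  toFun := dd c
  invFun := dd c⁻¹
  left_inv := by
    rintro (_ | y)
    · rfl
    · show some (D c⁻¹ (D c y)) = some y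
      rw [D_D, inv_mul_cancel₀ hc, D_one']
  right_inv := by
    rintro (_ | y)
    · rfl
    · show some (D c (D c⁻¹ y)) = some y
      rw [D_D, mul_inv_cancel₀ hc, D_one']

theorem dp_tl (c : F) (hc : c ≠ 0) (x : Pt σ) : dp c hc * tl x = tl (D c x) * dp c hc := by
  apply Equiv.ext
  rintro (_ | y)
  · rfl
  · show some (D c (x * y)) = some (D c x * D c y)
    rw [D_mul]

/-! ### The group preserves the family -/

theorem mem_famStab_of {Om : Type*} {U : Om → Subgroup (Equiv.Perm Om)} {c : Equiv.Perm Om}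
    (h : ∀ y g, g ∈ U y → c * g * c⁻¹ ∈ U (c y)) (h' : ∀ y g, g ∈ U y → c⁻¹ * g * c ∈ U (c⁻¹ y)) :
    c ∈ famStab U := by
  intro y g
  refine ⟨h y g, fun h1 => ?_⟩
  have h2 := h' _ _ h1
  have h3 : c⁻¹ * (c * g * c⁻¹) * c = g := by group
  rwa [h3, show c⁻¹ (c y) = y from c.symm_apply_apply y] at h2

theorem toPt_none : tp (none : Om σ) = 1 := rfl

theorem toPt_some (x : Pt σ) : tp (some x : Om σ) = tl x * jj := rfl

theorem mem_u3Fam {y : Om σ} {g : Equiv.Perm (Om σ)} :
    g ∈ u3Fam σ y ↔ ∃ a : Pt σ, g = tp y * tl a * (tp y)⁻¹ := Iff.rfl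

theorem toPt_apply (y : Om σ) : tp y (none : Om σ) = y := by
  rcases y with _ | x
  · rfl
  · show tl x (jj none) = some x
    rw [jj_none, U3Model.tr_some, mul_one]

theorem tl_mem (a : Pt σ) : tl a ∈ famStab (u3Fam σ) := by
  have key : ∀ a : Pt σ, ∀ y g, g ∈ u3Fam σ y → tl a * g * (tl a)⁻¹ ∈ u3Fam σ (tl a y) := by
    rintro a (_ | x) g hg
    · obtain ⟨b, rfl⟩ := mem_none.1 hg
      rw [U3Model.tr_none, mem_none]
      exact ⟨a * b * a⁻¹, by rw [← tl_mul, ← tl_mul, ← tl_inv]⟩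
    · obtain ⟨b, rfl⟩ := mem_some.1 hg
      rw [U3Model.tr_some, mem_some]
      exact ⟨b, by rw [← tl_mul]; group⟩
  refine mem_famStab_of (key a) fun y g hg => ?_
  have h1 := key a⁻¹ y g hg
  rwa [← tl_inv, inv_inv] at h1

/-- The relation behind the `μ`-maps. -/
theorem mu_perm {x : Pt σ} (hx : x ≠ 1) :
    jj * (tl (J x))⁻¹ * jj * tl x * jj = dp (lam x) (lam_ne_zero hx) * (tl (J x⁻¹))⁻¹ := by
  apply Equiv.ext
  intro w
  have h1 := mu_eq hx (jj ((tl (J x⁻¹))⁻¹ w))
  have h2 : tl (J x⁻¹) (jj (jj ((tl (J x⁻¹))⁻¹ w))) = w := by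
    rw [jj_jj]; exact (tl (J x⁻¹)).apply_symm_apply w
  rw [jj_jj] at h1
  have h3 : tl (J x⁻¹) ((tl (J x⁻¹))⁻¹ w) = w := (tl (J x⁻¹)).apply_symm_apply w
  rw [h3, ← tl_inv] at h1
  exact h1

theorem jj_mem : (jj : Equiv.Perm (Om σ)) ∈ famStab (u3Fam σ) := by
  have key : ∀ y g, g ∈ u3Fam σ y → jj * g * jj⁻¹ ∈ u3Fam σ (jj y) := by
    rintro (_ | x) g hg
    · obtain ⟨b, rfl⟩ := mem_none.1 hg
      rw [jj_none, mem_some]
      exact ⟨b, by rw [tl_one, one_mul]⟩
    · obtain ⟨b, rfl⟩ := mem_some.1 hg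
      by_cases hx : x = 1
      · subst hx
        rw [jj_one, mem_none]
        refine ⟨b, ?_⟩
        rw [tl_one, one_mul, jj_inv]
        have h1 : (jj : Equiv.Perm (Om σ)) * (jj * tl b * jj) * jj = (jj * jj) * tl b * (jj * jj) := by group
        rw [h1, jj_mul_jj]; group
      · rw [jj_some hx, mem_some]
        have h1 := mu_perm hx
        set m := jj * (tl (J x))⁻¹ * jj * tl x * jj with hm
        have h2 : ∃ a, m * tl b * m⁻¹ = tl a := by
          refine ⟨D (lam x) ((J x⁻¹)⁻¹ * b * J x⁻¹), ?_⟩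
          rw [h1]
          have h3 : dp (lam x) (lam_ne_zero hx) * (tl (J x⁻¹))⁻¹ * tl b * (dp (lam x) (lam_ne_zero hx) * (tl (J x⁻¹))⁻¹)⁻¹
              = dp (lam x) (lam_ne_zero hx) * tl ((J x⁻¹)⁻¹ * b * J x⁻¹) * (dp (lam x) (lam_ne_zero hx))⁻¹ := by
            rw [← tl_mul, ← tl_mul, ← tl_inv]; group
          rw [h3, dp_tl, mul_inv_cancel_right]
        obtain ⟨a, ha⟩ := h2
        refine ⟨a, ?_⟩
        rw [← ha, hm]
        have hj : (jj : Equiv.Perm (Om σ)) * jj = 1 := jj_mul_jj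
        have h4 : tl (J x) * jj * (jj * (tl (J x))⁻¹ * jj * tl x * jj * tl b * (jj * (tl (J x))⁻¹ * jj * tl x * jj)⁻¹) *
            (tl (J x) * jj)⁻¹ = tl (J x) * (jj * jj) * (tl (J x))⁻¹ * jj * tl x * jj * tl b *
              (tl (J x) * (jj * jj) * (tl (J x))⁻¹ * jj * tl x * jj)⁻¹ := by group
        rw [h4, hj]
        group
  refine mem_famStab_of key fun y g hg => ?_
  have h1 := key y g hg
  rwa [jj_inv] at h1 ⊢

theorem toPt_mem (y : Om σ) : tp y ∈ famStab (u3Fam σ) := by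
  rcases y with _ | x
  · exact one_mem _
  · exact mul_mem (tl_mem x) jj_mem

/-! ### The centres of the root groups -/

/-- The centre of the root group at `y`. -/
def zFam (σ : F →+* F) [Inv2 σ] (y : Om σ) : Subgroup (Equiv.Perm (Om σ)) where
  carrier := {g | ∃ a : Pt σ, a.a = 0 ∧ g = tp y * tl a * (tp y)⁻¹}
  one_mem' := ⟨1, rfl, by rw [tl_one]; group⟩
  mul_mem' := by
    rintro _ _ ⟨a, ha, rfl⟩ ⟨b, hb, rfl⟩
    exact ⟨a * b, by rw [mul_a, ha, hb, add_zero], by rw [← tl_mul]; group⟩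
  inv_mem' := by
    rintro _ ⟨a, ha, rfl⟩
    exact ⟨a⁻¹, by rw [inv_a, ha, neg_zero], by rw [← tl_inv]; group⟩

theorem mem_zFam {y : Om σ} {g : Equiv.Perm (Om σ)} :
    g ∈ zFam σ y ↔ ∃ a : Pt σ, a.a = 0 ∧ g = tp y * tl a * (tp y)⁻¹ := Iff.rfl

theorem zFam_le (y : Om σ) : zFam σ y ≤ u3Fam σ y := by
  rintro _ ⟨a, _, rfl⟩
  exact ⟨a, rfl⟩

theorem mem_zFam_iff (hF : UF σ) {y : Om σ} {g : Equiv.Perm (Om σ)} :
    g ∈ zFam σ y ↔ g ∈ u3Fam σ y ∧ ∀ h ∈ u3Fam σ y, g * h = h * g := by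
  have key : ∀ a b : Pt σ, (tp y * tl a * (tp y)⁻¹) * (tp y * tl b * (tp y)⁻¹) =
      tp y * tl (a * b) * (tp y)⁻¹ := by
    intro a b
    rw [← tl_mul]; group
  constructor
  · rintro ⟨a, ha, rfl⟩
    refine ⟨⟨a, rfl⟩, ?_⟩
    rintro _ ⟨b, rfl⟩
    rw [key, key, (central_iff hF a).2 ha b]
  · rintro ⟨⟨a, rfl⟩, h⟩
    refine ⟨a, (central_iff hF a).1 fun b => ?_, rfl⟩
    have h1 := h _ ⟨b, rfl⟩
    rw [key, key] at h1
    exact tl_injective (mul_left_cancel (mul_right_cancel h1))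

theorem conj_zFam (hF : UF σ) {c : Equiv.Perm (Om σ)} (hc : c ∈ famStab (u3Fam σ)) {y : Om σ}
    {g : Equiv.Perm (Om σ)} : c * g * c⁻¹ ∈ zFam σ (c y) ↔ g ∈ zFam σ y := by
  rw [mem_zFam_iff hF, mem_zFam_iff hF, ← hc y g]
  refine and_congr Iff.rfl ⟨fun h k hk => ?_, fun h k hk => ?_⟩
  · have h1 := h _ ((hc y k).1 hk)
    have h2 : c * (g * k) * c⁻¹ = c * (k * g) * c⁻¹ := by
      calc c * (g * k) * c⁻¹ = c * g * c⁻¹ * (c * k * c⁻¹) := by group
        _ = c * k * c⁻¹ * (c * g * c⁻¹) := h1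
        _ = _ := by group
    exact mul_left_cancel (mul_right_cancel h2)
  · have h0 : k = c * (c⁻¹ * k * c) * c⁻¹ := by group
    have h1 : c⁻¹ * k * c ∈ u3Fam σ y := by
      rw [hc y]
      have h2 : c * (c⁻¹ * k * c) * c⁻¹ = k := by group
      rwa [h2]
    have h2 := h _ h1
    calc c * g * c⁻¹ * k = c * (g * (c⁻¹ * k * c)) * c⁻¹ := by group
      _ = c * (c⁻¹ * k * c * g) * c⁻¹ := by rw [h2]
      _ = k * (c * g * c⁻¹) := by group

/-- A nontrivial root element fixes one point only. -/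
theorem eq_of_fix {y z : Om σ} {g : Equiv.Perm (Om σ)} (hg : g ∈ u3Fam σ y) (h1 : g ≠ 1) (hz : g z = z) :
    z = y := by
  obtain ⟨a, rfl⟩ := hg
  have h2 : tl a ((tp y)⁻¹ z) = (tp y)⁻¹ z := by
    have h3 : tp y (tl a ((tp y)⁻¹ z)) = z := hz
    rw [← h3]
    show _ = (tp y).symm (tp y _)
    rw [Equiv.symm_apply_apply, h3]
  rcases hw : (tp y)⁻¹ z with _ | w
  · have h3 : tp y ((tp y)⁻¹ z) = z := (tp y).apply_symm_apply z
    rw [hw, toPt_apply] at h3
    exact h3.symm
  · exfalso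
    apply h1
    rw [hw, U3Model.tr_some] at h2
    have h3 : a * w = w := Option.some_injective _ h2
    rw [mul_eq_right.1 h3, tl_one]
    group

/-- The long group of the line through two points. -/
theorem zFam_le_line (hF : UF σ) {k : Equiv.Perm (Om σ)} (hk : k ∈ famStab (u3Fam σ)) {y1 y2 : Pt σ}
    (h : y1.a = y2.a) : zFam σ (k (some y2)) ≤ zFam σ (k none) ⊔ zFam σ (k (some y1)) := by
  intro g hg
  have hu : (y2 * y1⁻¹).a = 0 := by rw [mul_a, inv_a, h]; ring
  have hu' : tl (y2 * y1⁻¹) ∈ zFam σ none := ⟨_, hu, by rw [toPt_none]; group⟩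
  have hk2 : k * tl (y2 * y1⁻¹) * k⁻¹ ∈ zFam σ (k none) := (conj_zFam hF hk).2 hu'
  set u := k * tl (y2 * y1⁻¹) * k⁻¹ with hudef
  have hum : u ∈ famStab (u3Fam σ) := mul_mem (mul_mem hk (tl_mem _)) (inv_mem hk)
  have h1 : u (k (some y1)) = k (some y2) := by
    show k (tl (y2 * y1⁻¹) (k⁻¹ (k (some y1)))) = _
    rw [show k⁻¹ (k (some y1)) = some y1 from k.symm_apply_apply _, U3Model.tr_some, inv_mul_cancel_right]
  have h2 : u⁻¹ * g * u ∈ zFam σ (k (some y1)) := by
    rw [← conj_zFam hF hum, h1]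
    have h3 : u * (u⁻¹ * g * u) * u⁻¹ = g := by group
    rwa [h3]
  have h3 : g = u * (u⁻¹ * g * u) * u⁻¹ := by group
  rw [h3]
  exact mul_mem (mul_mem (Subgroup.mem_sup_left hk2) (Subgroup.mem_sup_right h2))
    (inv_mem (Subgroup.mem_sup_left hk2))

/-! ### Elements fixing the two base points -/

/-- The data of an element fixing the two base points. -/
structure Sl (c : Equiv.Perm (Om σ)) (φ : Pt σ → Pt σ) (e : F) (τ : F →+* F) : Prop where
  none : c none = none
  val : ∀ x, c (some x) = some (φ x)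
  ne : e ≠ 0
  a : ∀ x, (φ x).a = e * τ x.a
  b : ∀ x, (φ x).b = e * σ e * τ x.b

theorem exists_sl (hF : UF σ) {c : Equiv.Perm (Om σ)} (hc : c ∈ famStab (u3Fam σ)) (h0 : c none = none)
    (h1 : c (some 1) = some 1) : ∃ φ e τ, Sl c φ e τ := by
  have key : ∀ c : Equiv.Perm (Om σ), c ∈ famStab (u3Fam σ) → c none = none → ∀ x, ∃ y, c * tl x * c⁻¹ = tl y := by
    intro c hc h0 x
    have h3 := (hc none (tl x)).1 (mem_none.2 ⟨_, rfl⟩)
    rw [h0] at h3
    exact mem_none.1 h3
  obtain ⟨φ, φ', A⟩ := exists_au c h0 h1 (key c hc h0)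
    (key (jj * c * jj) (mul_mem (mul_mem jj_mem hc) jj_mem)
      (by show jj (c (jj none)) = none; rw [jj_none, h1, jj_one]))
  obtain ⟨e, τ, he, h⟩ := A.semilinear hF
  exact ⟨φ, e, τ, h0, A.val, he, fun x => (h x).1, fun x => (h x).2⟩

namespace Sl

variable {c : Equiv.Perm (Om σ)} {φ : Pt σ → Pt σ} {e : F} {τ : F →+* F} (A : Sl c φ e τ)

include A

omit H in
theorem one : φ 1 = 1 := by
  apply ext'
  · rw [A.a, one_a, map_zero, mul_zero]
  · rw [A.b, one_b, map_zero, mul_zero]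

theorem mul (hF : UF σ) (x y : Pt σ) : φ (x * y) = φ x * φ y := by
  apply ext'
  · rw [A.a, mul_a, mul_a, A.a, A.a, map_add]; ring
  · rw [A.b, mul_b, mul_b, A.a, A.a, A.b, A.b, map_sub, map_add, map_mul, map_mul, hF.comm]; ring

theorem conj_tl (hF : UF σ) (x : Pt σ) : c * tl x = tl (φ x) * c := by
  apply Equiv.ext
  rintro (_ | y)
  · show c (tl x Option.none) = tl (φ x) (c Option.none)
    rw [U3Model.tr_none, A.none, U3Model.tr_none]
  · show c (tl x (some y)) = tl (φ x) (c (some y))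
    rw [U3Model.tr_some, A.val, A.val, U3Model.tr_some, A.mul hF]

theorem commute_iff (hF : UF σ) (x : Pt σ) : c * tl x = tl x * c ↔ φ x = x := by
  rw [A.conj_tl hF]
  constructor
  · intro h
    exact tl_injective (mul_right_cancel h)
  · intro h
    rw [h]

end Sl

/-- an element `≠ 0` of `F` inverted by `σ` -/
theorem exists_skew (hF : UF σ) : ∃ b : F, b ≠ 0 ∧ σ b = -b := by
  obtain ⟨w, hw⟩ := hF.ne
  exact ⟨w - σ w, fun h => hw (sub_eq_zero.1 h).symm, by rw [map_sub, H.invol]; ring⟩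

/-- A ring endomorphism trivial on the fixed points of `σ` is `1` or `σ`. -/
theorem one_or_sigma (hF : UF σ) (τ : F →+* F) (h : ∀ r, σ r = r → τ r = r) :
    (∀ x, τ x = x) ∨ (∀ x, τ x = σ x) := by
  apply hF.invs
  intro x
  have h1 := h (x + σ x) (by rw [map_add, H.invol]; ring)
  have h2 := h (x * σ x) (by rw [map_mul, H.invol]; ring)
  rw [map_add, hF.comm] at h1
  rw [map_mul, hF.comm] at h2
  have h3 : (τ x - x) * (τ x - σ x) = 0 := by linear_combination τ x * h1 - h2
  rcases mul_eq_zero.1 h3 with h4 | h4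
  · rw [sub_eq_zero.1 h4, sub_eq_zero.1 h4]
  · rw [sub_eq_zero.1 h4, hF.comm, sub_eq_zero.1 h4, H.invol]

/-- `d` commutes with the root elements which commute with `th`. -/
def Cen (σ : F →+* F) [Inv2 σ] (th d : Equiv.Perm (Om σ)) : Prop :=
  ∀ y, ∀ g ∈ u3Fam σ y, th * g = g * th → d * g = g * d

theorem Cen.conj {th d : Equiv.Perm (Om σ)} (h : Cen σ th d) {k : Equiv.Perm (Om σ)}
    (hk : k ∈ famStab (u3Fam σ)) : Cen σ (k⁻¹ * th * k) (k⁻¹ * d * k) := by
  intro y g hg hgt
  have h1 := h (k y) (k * g * k⁻¹) ((hk y g).1 hg) (by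
    have h2 : k * (k⁻¹ * th * k * g) * k⁻¹ = k * (g * (k⁻¹ * th * k)) * k⁻¹ := by rw [hgt]
    calc th * (k * g * k⁻¹) = k * (k⁻¹ * th * k * g) * k⁻¹ := by group
      _ = k * (g * (k⁻¹ * th * k)) * k⁻¹ := h2
      _ = k * g * k⁻¹ * th := by group)
  calc k⁻¹ * d * k * g = k⁻¹ * (d * (k * g * k⁻¹)) * k := by group
    _ = k⁻¹ * (k * g * k⁻¹ * d) * k := by rw [h1]
    _ = g * (k⁻¹ * d * k) := by group

/-- The two types of involutions fixing the base points. -/
theorem Sl.inv_cases (hF : UF σ) {th : Equiv.Perm (Om σ)} {φ : Pt σ → Pt σ} {c : F} {τ : F →+* F}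
    (A : Sl th φ c τ) (h2 : th * th = 1) :
    ((∀ x, τ x = x) ∧ (c = 1 ∨ c = -1)) ∨ ((∀ x, τ x = σ x) ∧ c * σ c = 1) := by
  have hφφ : ∀ x, φ (φ x) = x := by
    intro x
    have h3 := congrArg (fun g : Equiv.Perm (Om σ) => g (some x)) h2
    have h4 : th (th (some x)) = some x := h3
    rw [A.val, A.val] at h4
    exact Option.some_injective _ h4
  have ha : ∀ a : F, c * τ (c * τ a) = a := by
    intro a
    obtain ⟨x, rfl⟩ := exists_pt (σ := σ) hF a
    rw [← A.a, ← A.a, hφφ]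
  have h1 : c * τ c = 1 := by
    have := ha 1
    rwa [map_one, mul_one] at this
  have hττ : ∀ a, τ (τ a) = a := by
    intro a
    have := ha a
    rw [map_mul, ← mul_assoc, h1, one_mul] at this
    exact this
  rcases hF.invs τ hττ with hτ | hτ
  · left
    refine ⟨hτ, ?_⟩
    rw [hτ] at h1
    have h3 : (c - 1) * (c + 1) = 0 := by linear_combination h1
    rcases mul_eq_zero.1 h3 with h4 | h4
    · exact Or.inl (sub_eq_zero.1 h4)
    · exact Or.inr (eq_neg_of_add_eq_zero_left h4)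
  · right
    rw [hτ] at h1
    exact ⟨hτ, h1⟩

/-- a nonzero solution of `c σ(a) = a` -/
theorem exists_hilbert (hF : UF σ) {c : F} (hc : c * σ c = 1) : ∃ a : F, a ≠ 0 ∧ c * σ a = a := by
  have key : ∀ e : F, c * σ (e + c * σ e) = e + c * σ e := by
    intro e
    rw [map_add, map_mul, H.invol]
    linear_combination e * hc
  by_contra hno
  push Not at hno
  have h0 : ∀ e : F, e + c * σ e = 0 := by
    intro e
    by_contra hne
    exact hno _ hne (key e)
  obtain ⟨w, hw⟩ := hF.ne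
  have h1 := h0 1
  have h3 := h0 w
  rw [map_one, mul_one] at h1
  apply hw
  linear_combination (σ w) * h1 - h3

theorem exists_pt_half (hF : UF σ) (a : F) : ∃ x : Pt σ, x.a = a ∧ σ x.b = x.b := by
  have h2 := hF.two
  have h3 : σ (-(a * σ a) / 2) = -(a * σ a) / 2 := by
    rw [map_div₀, map_neg, map_mul, H.invol, map_ofNat, mul_comm]
  refine ⟨⟨a, -(a * σ a) / 2, ?_⟩, rfl, h3⟩
  rw [h3]
  field_simp
  ring

/-- an element of the root group fixed by the involution -/
theorem Sl.exists_fixed_elt (hF : UF σ) {th : Equiv.Perm (Om σ)} {φ : Pt σ → Pt σ} {c : F} {τ : F →+* F}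
    (A : Sl th φ c τ) (h2 : th * th = 1) : ∃ x, x ≠ 1 ∧ φ x = x := by
  rcases A.inv_cases hF h2 with ⟨hτ, hc⟩ | ⟨hτ, hc⟩
  · obtain ⟨b, hb0, hb⟩ := exists_skew hF
    refine ⟨⟨0, b, by rw [hb]; ring⟩, fun h => hb0 (congrArg Pt.b h), ?_⟩
    apply ext'
    · rw [A.a, map_zero, mul_zero]
    · rw [A.b, hτ]
      show c * σ c * b = b
      rcases hc with rfl | rfl
      · rw [map_one]; ring
      · rw [map_neg, map_one]; ring
  · obtain ⟨a, ha0, ha⟩ := exists_hilbert hF hc
    obtain ⟨x, hx, hxb⟩ := exists_pt_half hF a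
    refine ⟨x, fun h => ha0 (by rw [← hx, h, one_a]), ?_⟩
    apply ext'
    · rw [A.a, hτ, hx]
      exact ha
    · rw [A.b, hτ, hc, one_mul, hxb]

theorem fixes_none (hF : UF σ) {th d : Equiv.Perm (Om σ)} (hth : th ∈ famStab (u3Fam σ)) (h0 : th none = none)
    (h1 : th (some 1) = some 1) (h2 : th * th = 1) (hcen : Cen σ th d) : d none = none := by
  obtain ⟨φ, c, τ, A⟩ := exists_sl hF hth h0 h1
  obtain ⟨x, hx1, hx⟩ := A.exists_fixed_elt hF h2
  have h3 := hcen none (tl x) (mem_none.2 ⟨x, rfl⟩) ((A.commute_iff hF x).2 hx)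
  have h4 : tl x (d none) = d none := by
    have h5 : (d * tl x) none = (tl x * d) none := by rw [h3]
    exact h5.symm
  refine eq_of_fix (y := none) (mem_none.2 ⟨x, rfl⟩) (fun h => hx1 (tl_injective ?_)) h4
  rw [h, tl_one]

theorem fixes_one (hF : UF σ) {th d : Equiv.Perm (Om σ)} (hth : th ∈ famStab (u3Fam σ)) (h0 : th none = none)
    (h1 : th (some 1) = some 1) (h2 : th * th = 1) (hcen : Cen σ th d) : d (some 1) = some 1 := by
  have h3 := fixes_none hF (th := jj⁻¹ * th * jj) (d := jj⁻¹ * d * jj)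
    (mul_mem (mul_mem (inv_mem jj_mem) hth) jj_mem)
    (by show jj (th (jj none)) = none; rw [jj_none, h1, jj_one])
    (by show jj (th (jj (some 1))) = some 1; rw [jj_one, h0, jj_none])
    (by
      have h4 : jj⁻¹ * th * jj * (jj⁻¹ * th * jj) = jj⁻¹ * (th * th) * jj := by group
      rw [h4, h2]; group)
    (hcen.conj jj_mem)
  have h4 : jj (d (jj none)) = none := h3
  have h5 : jj (jj (d (jj none))) = jj none := by rw [h4]
  rwa [jj_jj, jj_none] at h5

theorem eq_one_of_four {G : Type*} [Group G] {d : G} {m : ℕ} (hm : Odd m) (hdm : d ^ m = 1) (h4 : d ^ 4 = 1) :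
    d = 1 := by
  have h1 := orderOf_dvd_of_pow_eq_one hdm
  have h2 := orderOf_dvd_of_pow_eq_one h4
  have h3 : Nat.Coprime m 4 := by
    have : Nat.Coprime m (2 ^ 2) := Nat.Coprime.pow_right 2 (Nat.coprime_two_right.2 hm)
    exact this
  have h5 := Nat.eq_one_of_dvd_coprimes h3 h1 h2
  exact orderOf_eq_one_iff.1 h5

/-- **The normalised form.** -/
theorem main_norm (hF : UF σ) {th d : Equiv.Perm (Om σ)} (hth : th ∈ famStab (u3Fam σ))
    (hd : d ∈ famStab (u3Fam σ)) (h0 : th none = none) (h1 : th (some 1) = some 1) (h2 : th * th = 1)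
    (hne : th ≠ 1) (hd1 : d ≠ 1) {m : ℕ} (hm : Odd m) (hdm : d ^ m = 1) (hcen : Cen σ th d) :
    ∃ e : F, e ≠ 1 ∧ -e ≠ 1 ∧ e * σ e = 1 ∧ (∀ x, th (some x) = some (D (-1) x)) ∧
      ∀ x, d (some x) = some (D e x) := by
  obtain ⟨φ, c, τ, A⟩ := exists_sl hF hth h0 h1
  obtain ⟨ψ, e, ρ, B⟩ := exists_sl hF hd (fixes_none hF hth h0 h1 h2 hcen) (fixes_one hF hth h0 h1 h2 hcen)
  have key : ∀ x, φ x = x → ψ x = x := by
    intro x hx
    exact (B.commute_iff hF x).1 (hcen none (tl x) (mem_none.2 ⟨x, rfl⟩) ((A.commute_iff hF x).2 hx))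
  -- `d ^ 4 = 1` is impossible
  have hd4 : ¬ (∀ x, ψ (ψ (ψ (ψ x))) = x) := by
    intro h
    apply hd1
    apply eq_one_of_four hm hdm
    apply Equiv.ext
    have h3 : ∀ z, (d ^ 4) z = d (d (d (d z))) := fun z => rfl
    rintro (_ | x)
    · rw [h3, B.none, B.none, B.none, B.none]; rfl
    · rw [h3, B.val, B.val, B.val, B.val, h]; rfl
  rcases A.inv_cases hF h2 with ⟨hτ, hc⟩ | ⟨hτ, hc⟩
  · -- `th` is the reflection
    have hc' : c = -1 := by
      rcases hc with rfl | rfl
      · exfalso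
        apply hne
        apply Equiv.ext
        rintro (_ | x)
        · exact A.none
        · rw [A.val]
          have h3 : φ x = x := by
            apply ext'
            · rw [A.a, hτ, one_mul]
            · rw [A.b, hτ, map_one]; ring
          rw [h3]; rfl
      · rfl
    subst hc'
    have hφ : ∀ x, φ x = D (-1) x := by
      intro x
      apply ext'
      · rw [A.a, hτ, D_a]
      · rw [A.b, hτ, D_b]
    -- the centre is fixed
    have hz : ∀ b : F, σ b = -b → e * σ e * ρ b = b := by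
      intro b hb
      have h3 : φ ⟨0, b, by rw [hb]; ring⟩ = ⟨0, b, by rw [hb]; ring⟩ := by
        rw [hφ]
        apply ext'
        · rw [D_a, mul_zero]
        · rw [D_b, map_neg, map_one]; ring
      have h4 := congrArg Pt.b (key _ h3)
      rw [B.b] at h4
      exact h4
    obtain ⟨b0, hb0, hsb⟩ := exists_skew hF
    have hρr : ∀ r, σ r = r → ρ r = r := by
      intro r hr
      have h3 := hz b0 hsb
      have h4 := hz (r * b0) (by rw [map_mul, hr, hsb]; ring)
      rw [map_mul] at h4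
      have h5 : (ρ r - r) * b0 = 0 := by linear_combination h4 - ρ r * h3
      rcases mul_eq_zero.1 h5 with h6 | h6
      · exact sub_eq_zero.1 h6
      · exact absurd h6 hb0
    rcases one_or_sigma hF ρ hρr with hρ | hρ
    · have hN : e * σ e = 1 := by
        have h3 := hz b0 hsb
        rw [hρ] at h3
        exact mul_right_cancel₀ hb0 (by rw [h3, one_mul])
      have hψ : ∀ x, ψ x = D e x := by
        intro x
        apply ext'
        · rw [B.a, hρ, D_a]
        · rw [B.b, hρ, D_b]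
      refine ⟨e, ?_, ?_, hN, fun x => by rw [A.val, hφ], fun x => by rw [B.val, hψ]⟩
      · rintro rfl
        apply hd4
        intro x
        rw [hψ, hψ, hψ, hψ, D_one', D_one', D_one', D_one']
      · intro he
        apply hd4
        intro x
        have he' : e = -1 := by linear_combination -he
        rw [hψ, hψ, hψ, hψ, D_D, D_D, D_D, he']
        apply ext'
        · rw [D_a]; ring
        · rw [D_b, map_mul, map_mul, map_mul, map_neg, map_one]; ring
    · exfalso
      have hN : e * σ e = -1 := by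
        have h3 := hz b0 hsb
        rw [hρ, hsb] at h3
        have h4 : (e * σ e + 1) * b0 = 0 := by linear_combination -h3
        rcases mul_eq_zero.1 h4 with h5 | h5
        · exact eq_neg_of_add_eq_zero_left h5
        · exact absurd h5 hb0
      have hN' : σ e * e = -1 := by rw [mul_comm]; exact hN
      apply hd4
      intro x
      have h3 : ∀ x, (ψ (ψ x)).a = -x.a := by
        intro x
        rw [B.a, B.a, hρ, hρ, map_mul, H.invol]
        linear_combination x.a * hN
      have h4 : ∀ x, (ψ (ψ x)).b = x.b := by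
        intro x
        rw [B.b, B.b, hρ, hρ, map_mul, map_mul, H.invol, H.invol, hN, hN']; ring
      apply ext'
      · rw [h3, h3]; ring
      · rw [h4, h4]
  · -- `th` is a field automorphism
    exfalso
    obtain ⟨a0, ha0, ha⟩ := exists_hilbert hF hc
    have h22 := hF.two
    have hz : ∀ r : F, σ r = r → e * ρ (r * a0) = r * a0 := by
      intro r hr
      obtain ⟨x, hx, hxb⟩ := exists_pt_half hF (r * a0)
      have h3 : φ x = x := by
        apply ext'
        · rw [A.a, hτ, hx, map_mul, hr]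
          linear_combination r * ha
        · rw [A.b, hτ, hc, one_mul, hxb]
      have h4 := congrArg Pt.a (key _ h3)
      rw [B.a, hx] at h4
      exact h4
    have hz1 : e * ρ a0 = a0 := by
      have := hz 1 (map_one σ)
      rwa [one_mul] at this
    have hρr : ∀ r, σ r = r → ρ r = r := by
      intro r hr
      have h4 := hz r hr
      rw [map_mul] at h4
      have h5 : (ρ r - r) * a0 = 0 := by linear_combination h4 - ρ r * hz1
      rcases mul_eq_zero.1 h5 with h6 | h6
      · exact sub_eq_zero.1 h6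
      · exact absurd h6 ha0
    rcases one_or_sigma hF ρ hρr with hρ | hρ
    · have he : e = 1 := by
        rw [hρ] at hz1
        exact mul_right_cancel₀ ha0 (by rw [hz1, one_mul])
      apply hd4
      have h3 : ∀ x, ψ x = x := by
        intro x
        apply ext'
        · rw [B.a, hρ, he, one_mul]
        · rw [B.b, hρ, he, map_one]; ring
      intro x
      rw [h3, h3, h3, h3]
    · have hN : e * σ e = 1 := by
        have h5 : e * σ a0 = a0 := by rw [← hρ]; exact hz1
        have h3 := congrArg σ h5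
        rw [map_mul, H.invol] at h3
        have h4 : (e * σ e - 1) * a0 = 0 := by linear_combination e * h3 + h5
        rcases mul_eq_zero.1 h4 with h5 | h5
        · exact sub_eq_zero.1 h5
        · exact absurd h5 ha0
      have hN' : σ e * e = 1 := by rw [mul_comm]; exact hN
      apply hd4
      have h3 : ∀ x, ψ (ψ x) = x := by
        intro x
        apply ext'
        · rw [B.a, B.a, hρ, hρ, map_mul, H.invol]
          linear_combination x.a * hN
        · rw [B.b, B.b, hρ, hρ, map_mul, map_mul, H.invol, H.invol, hN, hN']; ring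
      intro x
      rw [h3, h3]

/-! ### The line -/

theorem line_aux {x : Pt σ} (hx : x.a ≠ 0) {e : F} (he : e ≠ 1) (hN : e * σ e = 1) :
    (J (x⁻¹ * D e x)).a = -1 / σ x.a ∧ tp (some x : Om σ) (some (J (x⁻¹ * D e x))) = some (D e x) := by
  have hx' : σ x.a ≠ 0 := fun h => hx ((map_eq_zero σ).1 h)
  have he' : e - 1 ≠ 0 := sub_ne_zero.2 he
  have h1 : (x⁻¹ * D e x).a = (e - 1) * x.a := by rw [mul_a, inv_a, D_a]; ring
  have h2 : (x⁻¹ * D e x).b = (e - 1) * (x.a * σ x.a) := by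
    rw [mul_b, inv_a, inv_b, D_a, D_b, hN, map_neg]
    linear_combination x.h
  have h3 : x⁻¹ * D e x ≠ 1 := by
    intro h
    rw [h, one_a] at h1
    exact mul_ne_zero he' hx h1.symm
  constructor
  · rw [J_a h3, h1, h2]
    field_simp
  · show tl x (jj (some (J (x⁻¹ * D e x)))) = some (D e x)
    rw [jj_some (J_ne_one h3), J_J, U3Model.tr_some, mul_inv_cancel_left]

/-- **The normalised form of the main theorem.** -/
theorem exists_line_norm (hF : UF σ) {th d : Equiv.Perm (Om σ)} (hth : th ∈ famStab (u3Fam σ))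
    (hd : d ∈ famStab (u3Fam σ)) (h0 : th none = none) (h1 : th (some 1) = some 1) (h2 : th * th = 1)
    (hne : th ≠ 1) (hd1 : d ≠ 1) {m : ℕ} (hm : Odd m) (hdm : d ^ m = 1) (hcen : Cen σ th d) :
    ∃ P : Om σ, P ≠ th P ∧ (∀ g ∈ zFam σ P ⊔ zFam σ (th P), d * g * d⁻¹ ∈ zFam σ P ⊔ zFam σ (th P)) ∧
      ∃ g ∈ zFam σ P, d * g ≠ g * d := by
  obtain ⟨e, he1, he2, hN, hth', hd'⟩ := main_norm hF hth hd h0 h1 h2 hne hd1 hm hdm hcen
  obtain ⟨x, hx⟩ := exists_pt (σ := σ) hF (1 : F)
  have hx0 : x.a ≠ 0 := by rw [hx]; exact one_ne_zero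
  have hmN : (-1 : F) * σ (-1) = 1 := by rw [map_neg, map_one]; ring
  have hm1 : (-1 : F) ≠ 1 := by
    intro h
    apply hF.two
    linear_combination -h
  have heN : (-e) * σ (-e) = 1 := by rw [map_neg]; linear_combination hN
  obtain ⟨a1, b1⟩ := line_aux hx0 hm1 hmN
  obtain ⟨a2, b2⟩ := line_aux hx0 he1 hN
  obtain ⟨a3, b3⟩ := line_aux hx0 he2 heN
  have hP : tp (some x : Om σ) none = some x := toPt_apply _
  have hdP : d (some x) = tp (some x : Om σ) (some (J (x⁻¹ * D e x))) := by rw [hd', b2]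
  have hdQ : d (th (some x)) = tp (some x : Om σ) (some (J (x⁻¹ * D (-e) x))) := by
    rw [hth', hd', b3, D_D, mul_neg_one]
  have hQ : th (some x) = tp (some x : Om σ) (some (J (x⁻¹ * D (-1) x))) := by rw [hth', b1]
  refine ⟨some x, ?_, ?_, ?_⟩
  · rw [hth']
    intro h
    have h3 := congrArg Pt.a (Option.some_injective _ h)
    rw [D_a] at h3
    have h4 : (2 : F) * x.a = 0 := by linear_combination h3
    exact mul_ne_zero hF.two hx0 h4
  · have k1 := zFam_le_line hF (toPt_mem (some x)) (a1.trans a2.symm)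
    have k2 := zFam_le_line hF (toPt_mem (some x)) (a1.trans a3.symm)
    rw [hP, ← hQ, ← hdP] at k1
    rw [hP, ← hQ, ← hdQ] at k2
    set L := zFam σ (some x) ⊔ zFam σ (th (some x)) with hL
    have hle : L ≤ L.comap (MulAut.conj d).toMonoidHom := by
      refine sup_le (fun g hg => ?_) (fun g hg => ?_)
      · exact k1 ((conj_zFam hF hd).2 hg)
      · exact k2 ((conj_zFam hF hd).2 hg)
    intro g hg
    exact hle hg
  · obtain ⟨b, hb0, hb⟩ := exists_skew hF
    let z : Pt σ := ⟨0, b, by rw [hb]; ring⟩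
    have hz : z ≠ 1 := fun h => hb0 (congrArg Pt.b h)
    refine ⟨tp (some x) * tl z * (tp (some x))⁻¹, ⟨z, rfl, rfl⟩, fun hcomm => ?_⟩
    have hg1 : tp (some x) * tl z * (tp (some x))⁻¹ ≠ 1 := by
      intro h
      apply hz
      apply tl_injective
      rw [tl_one]
      have h3 : tl z = (tp (some x))⁻¹ * (tp (some x) * tl z * (tp (some x))⁻¹) * tp (some x) := by group
      rw [h3, h]
      group
    have hgm : tp (some x) * tl z * (tp (some x))⁻¹ ∈ u3Fam σ (some x) := ⟨z, rfl⟩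
    set g := tp (some x) * tl z * (tp (some x))⁻¹ with hg
    have hgx : g (some x) = some x := by
      show tp (some x) (tl z ((tp (some x))⁻¹ (some x))) = some x
      have h3 : (tp (some x : Om σ))⁻¹ (some x) = none := by
        rw [Equiv.Perm.inv_eq_iff_eq, hP]
      rw [h3, U3Model.tr_none, hP]
    have h3 : g (d (some x)) = d (some x) := by
      have h4 : (d * g) (some x) = (g * d) (some x) := by rw [hcomm]
      have h5 : d (g (some x)) = g (d (some x)) := h4
      rw [← h5, hgx]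
    have h4 := eq_of_fix hgm hg1 h3
    rw [hd'] at h4
    have h5 := congrArg Pt.a (Option.some_injective _ h4)
    rw [D_a, hx, mul_one] at h5
    exact he1 h5

/-! ### Two fixed points -/

theorem odd_card_pt [Finite F] (hF : UF σ) : Odd (Nat.card (Pt σ)) := by
  have hfin : Finite (Pt σ) := by
    refine Finite.of_injective (fun x : Pt σ => (x.a, x.b)) fun x y h => ?_
    exact ext' (congrArg Prod.fst h) (congrArg Prod.snd h)
  rw [← Nat.not_even_iff_odd]
  intro heven
  have : Fact (Nat.Prime 2) := ⟨Nat.prime_two⟩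
  obtain ⟨x, hx⟩ := exists_prime_orderOf_dvd_card' 2 (even_iff_two_dvd.1 heven)
  have h1 : x * x = 1 := by rw [← sq, ← hx]; exact pow_orderOf_eq_one x
  have h2 : x.a = 0 := by
    have h3 := congrArg Pt.a h1
    rw [mul_a, one_a] at h3
    have h4 : (2 : F) * x.a = 0 := by linear_combination h3
    exact (mul_eq_zero.1 h4).resolve_left hF.two
  have h3 : x.b = 0 := by
    have h3 := congrArg Pt.b h1
    rw [mul_b, one_b, h2, mul_zero, sub_zero] at h3
    have h4 : (2 : F) * x.b = 0 := by linear_combination h3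
    exact (mul_eq_zero.1 h4).resolve_left hF.two
  have h4 : x = 1 := ext' h2 h3
  rw [h4, orderOf_one] at hx
  norm_num at hx

theorem exists_two_fixed [Finite F] (hF : UF σ) {th : Equiv.Perm (Om σ)} (hth : th ∈ famStab (u3Fam σ))
    (h2 : th * th = 1) : ∃ k ∈ famStab (u3Fam σ), (k⁻¹ * th * k) none = none ∧
      (k⁻¹ * th * k) (some 1) = some 1 := by
  obtain ⟨z, hz⟩ := exists_fixed hF th hth h2
  set k1 : Equiv.Perm (Om σ) := tp z with hk1
  have hk1m : k1 ∈ famStab (u3Fam σ) := toPt_mem z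
  set t := k1⁻¹ * th * k1 with ht
  have ht0 : t none = none := by
    show k1⁻¹ (th (k1 none)) = none
    rw [hk1, toPt_apply, hz, Equiv.Perm.inv_eq_iff_eq, toPt_apply]
  have ht2 : t * t = 1 := by
    have h3 : k1⁻¹ * th * k1 * (k1⁻¹ * th * k1) = k1⁻¹ * (th * th) * k1 := by group
    rw [ht, h3, h2]; group
  have hfin : Finite (Pt σ) := by
    refine Finite.of_injective (fun x : Pt σ => (x.a, x.b)) fun x y h => ?_
    exact ext' (congrArg Prod.fst h) (congrArg Prod.snd h)
  -- the action on the points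
  have key : ∀ x : Pt σ, ∃ y, t (some x) = some y := by
    intro x
    rcases h : t (some x) with _ | y
    · exfalso
      have h3 : t (some x) = t none := by rw [h, ht0]
      exact absurd (t.injective h3) (by simp)
    · exact ⟨y, rfl⟩
  choose f hf using key
  have htt : ∀ z, t (t z) = z := fun z => by
    have := congrArg (fun g : Equiv.Perm (Om σ) => g z) ht2
    exact this
  have hff : ∀ x, f (f x) = x := by
    intro x
    have h3 := htt (some x)
    rw [hf, hf] at h3
    exact Option.some_injective _ h3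
  have hfix : ∃ x, f x = x := by
    classical
    have := Fintype.ofFinite (Pt σ)
    have hodd := odd_card_pt hF
    rw [Nat.card_eq_fintype_card] at hodd
    have : Fact (Nat.Prime 2) := ⟨Nat.prime_two⟩
    refine Equiv.Perm.exists_fixed_point_of_prime (p := 2) (n := 1) ?_ (σ := ⟨f, f, hff, hff⟩) ?_
    · intro hdvd
      exact (Nat.not_even_iff_odd.2 hodd) (even_iff_two_dvd.2 hdvd)
    · rw [pow_one, sq]
      exact Equiv.ext hff
  obtain ⟨x, hx⟩ := hfix
  refine ⟨k1 * tl x, mul_mem hk1m (tl_mem x), ?_, ?_⟩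
  · have h3 : (k1 * tl x)⁻¹ * th * (k1 * tl x) = (tl x)⁻¹ * t * tl x := by rw [ht]; group
    rw [h3]
    show (tl x)⁻¹ (t (tl x none)) = none
    rw [U3Model.tr_none, ht0, tl_inv, U3Model.tr_none]
  · have h3 : (k1 * tl x)⁻¹ * th * (k1 * tl x) = (tl x)⁻¹ * t * tl x := by rw [ht]; group
    rw [h3]
    show (tl x)⁻¹ (t (tl x (some 1))) = some 1
    rw [U3Model.tr_some, mul_one, hf, hx, tl_inv, U3Model.tr_some, inv_mul_cancel]

/-- **Main theorem.** -/
theorem exists_line [Finite F] (hF : UF σ) {th d : Equiv.Perm (Om σ)} (hth : th ∈ famStab (u3Fam σ))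
    (hd : d ∈ famStab (u3Fam σ)) (h2 : th * th = 1) (hne : th ≠ 1) (hd1 : d ≠ 1) {m : ℕ} (hm : Odd m)
    (hdm : d ^ m = 1) (hcen : Cen σ th d) :
    ∃ P : Om σ, P ≠ th P ∧ (∀ g ∈ zFam σ P ⊔ zFam σ (th P), d * g * d⁻¹ ∈ zFam σ P ⊔ zFam σ (th P)) ∧
      ∃ g ∈ zFam σ P, d * g ≠ g * d := by
  obtain ⟨k, hk, h0, h1⟩ := exists_two_fixed hF hth h2
  obtain ⟨P, hP1, hP2, g, hg, hgd⟩ := exists_line_norm hF (th := k⁻¹ * th * k) (d := k⁻¹ * d * k)
    (mul_mem (mul_mem (inv_mem hk) hth) hk) (mul_mem (mul_mem (inv_mem hk) hd) hk) h0 h1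
    (by
      have h3 : k⁻¹ * th * k * (k⁻¹ * th * k) = k⁻¹ * (th * th) * k := by group
      rw [h3, h2]; group)
    (fun h => hne (by
      have h3 : th = k * (k⁻¹ * th * k) * k⁻¹ := by group
      rw [h3, h]; group))
    (fun h => hd1 (by
      have h3 : d = k * (k⁻¹ * d * k) * k⁻¹ := by group
      rw [h3, h]; group))
    hm (by
      have h3 : (k⁻¹ * d * k) ^ m = k⁻¹ * d ^ m * k := by
        have := conj_pow (i := m) (a := k⁻¹) (b := d)
        rwa [inv_inv] at this
      rw [h3, hdm]; group)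
    (hcen.conj hk)
  have hkP : (k⁻¹ * th * k) P = k⁻¹ (th (k P)) := rfl
  have hk' : k ((k⁻¹ * th * k) P) = th (k P) := by
    rw [hkP]; exact k.apply_symm_apply _
  have hconj : ∀ h, h ∈ zFam σ P ⊔ zFam σ ((k⁻¹ * th * k) P) ↔
      k * h * k⁻¹ ∈ zFam σ (k P) ⊔ zFam σ (th (k P)) := by
    have key : ∀ (c : Equiv.Perm (Om σ)), c ∈ famStab (u3Fam σ) → ∀ A B : Om σ,
        ∀ h ∈ zFam σ A ⊔ zFam σ B, c * h * c⁻¹ ∈ zFam σ (c A) ⊔ zFam σ (c B) := by
      intro c hc A B
      have hle : zFam σ A ⊔ zFam σ B ≤ (zFam σ (c A) ⊔ zFam σ (c B)).comap (MulAut.conj c).toMonoidHom := by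
        refine sup_le (fun g hg => ?_) (fun g hg => ?_)
        · exact Subgroup.mem_sup_left ((conj_zFam hF hc).2 hg)
        · exact Subgroup.mem_sup_right ((conj_zFam hF hc).2 hg)
      exact fun h hh => hle hh
    intro h
    constructor
    · intro hh
      have := key k hk _ _ h hh
      rwa [hk'] at this
    · intro hh
      have h3 := key k⁻¹ (inv_mem hk) _ _ _ hh
      have h4 : k⁻¹ * (k * h * k⁻¹) * k⁻¹⁻¹ = h := by group
      rw [h4] at h3
      rwa [show k⁻¹ (k P) = P from k.symm_apply_apply P] at h3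
  refine ⟨k P, ?_, ?_, k * g * k⁻¹, (conj_zFam hF hk).2 hg, ?_⟩
  · intro h
    apply hP1
    apply k.injective
    rw [hk']
    exact h
  · intro h hh
    have h3 : h = k * (k⁻¹ * h * k) * k⁻¹ := by group
    rw [h3] at hh
    have h4 := hP2 _ ((hconj _).2 hh)
    have h5 := (hconj _).1 h4
    have h6 : k * (k⁻¹ * d * k * (k⁻¹ * h * k) * (k⁻¹ * d * k)⁻¹) * k⁻¹ = d * h * d⁻¹ := by group
    rwa [h6] at h5
  · intro h
    apply hgd
    calc k⁻¹ * d * k * g = k⁻¹ * (d * (k * g * k⁻¹)) * k := by group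
      _ = k⁻¹ * (k * g * k⁻¹ * d) * k := by rw [h]
      _ = g * (k⁻¹ * d * k) := by group

end Cfsg.Agent.FixBN.U3One
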