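import Mathlib

/-!
# Fixed points of involutory automorphisms of a unital

`UCount.Unital D q`: a set `D` of permutations of a set `Ω` of `q³ + 1` points which behaves like the set of
involutions of `PSU₃(q)` (`q` odd) on the isotropic points of the hermitian plane.

`UCount.Unital.exists_fixed`: a permutation `th` with `th * th = 1` normalising `D` has a fixed point.
(Count the members of `D` centralised by `th`.)
-/

set_option autoImplicit false

namespace Cfsg.Agent.FixBN.UCount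

open Equiv

variable {Ω : Type*}

/-- The combinatorial properties of the set of involutions of `PSU₃(q)`, `q` odd. -/
structure Unital (D : Set (Perm Ω)) (q : ℕ) : Prop where
  one_lt : 1 < q
  card : Nat.card Ω = q ^ 3 + 1
  fix : ∀ t ∈ D, Nat.card {y // t y = y} = q + 1
  exi : ∀ y y', y ≠ y' → ∃ t ∈ D, t y = y ∧ t y' = y'
  uni : ∀ y y', y ≠ y' → ∀ t ∈ D, ∀ t' ∈ D, t y = y → t y' = y' → t' y = y → t' y' = y' → t = t'
  third : ∀ t ∈ D, ∀ t' ∈ D, t ≠ t' → (∀ y, t y = y → t' y ≠ y) →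
    ∃ r ∈ D, r ≠ t ∧ r ≠ t' ∧ r * t = t * r ∧ r * t' = t' * r
  third_uni : ∀ t ∈ D, ∀ t' ∈ D, t ≠ t' → ∀ r ∈ D, ∀ r' ∈ D, r ≠ t → r ≠ t' → r' ≠ t → r' ≠ t' →
    r * t = t * r → r * t' = t' * r → r' * t = t * r' → r' * t' = t' * r' → r = r'
  no_third : ∀ y, ∀ t ∈ D, ∀ t' ∈ D, t ≠ t' → t y = y → t' y = y → ∀ r ∈ D, r ≠ t → r ≠ t' →
    r * t = t * r → r * t' ≠ t' * r
  not_comm : ∀ y, ∀ t ∈ D, ∀ t' ∈ D, t ≠ t' → t y = y → t' y = y → t * t' ≠ t' * t

namespace Unital

variable {D : Set (Perm Ω)} {q : ℕ}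

/-- The number of members of `D` fixing a point is `q²`. -/
theorem card_through [Finite Ω] (h : Unital D q) (y : Ω) : Nat.card {t // t ∈ D ∧ t y = y} = q ^ 2 := by
  classical
  have := Fintype.ofFinite Ω
  -- the other points
  have hO : Nat.card {y' : Ω // y' ≠ y} = q ^ 3 := by
    have h1 := Fintype.card_compl_eq_card_compl (fun y' : Ω => y' = y) (fun y' : Ω => y' = y) rfl
    have h2 : Fintype.card {y' : Ω // y' ≠ y} = Fintype.card Ω - 1 := by
      rw [Fintype.card_subtype_compl (fun y' : Ω => y' = y), Fintype.card_subtype_eq]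
    rw [Nat.card_eq_fintype_card, h2, ← Nat.card_eq_fintype_card, h.card]
    simp
  let T := {t : Perm Ω // t ∈ D ∧ t y = y}
  have e : {y' : Ω // y' ≠ y} ≃ Σ t : T, {y' : Ω // t.1 y' = y' ∧ y' ≠ y} := by
    refine Equiv.ofBijective (fun y' => ⟨⟨(h.exi y y' y'.2.symm).choose, (h.exi y y' y'.2.symm).choose_spec.1,
      (h.exi y y' y'.2.symm).choose_spec.2.1⟩, ⟨y'.1, (h.exi y y' y'.2.symm).choose_spec.2.2, y'.2⟩⟩) ⟨?_, ?_⟩
    · intro a b hab
      have h1 : ∀ (x x' : Σ t : T, {y' : Ω // t.1 y' = y' ∧ y' ≠ y}), x = x' → x.2.1 = x'.2.1 := by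
        rintro _ _ rfl; rfl
      exact Subtype.ext (h1 _ _ hab)
    · rintro ⟨⟨t, ht, hty⟩, ⟨y', hy', hne⟩⟩
      refine ⟨⟨y', hne⟩, ?_⟩
      have h1 : (h.exi y y' hne.symm).choose = t :=
        h.uni y y' hne.symm _ (h.exi y y' hne.symm).choose_spec.1 t ht (h.exi y y' hne.symm).choose_spec.2.1
          (h.exi y y' hne.symm).choose_spec.2.2 hty hy'
      subst h1
      rfl
  have h2 : ∀ t : T, Nat.card {y' : Ω // t.1 y' = y' ∧ y' ≠ y} = q := by
    intro t
    have h3 := h.fix t.1 t.2.1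
    have e2 : {y' : Ω // t.1 y' = y'} ≃ Option {y' : Ω // t.1 y' = y' ∧ y' ≠ y} := by
      refine ⟨fun x => if hx : x.1 = y then none else some ⟨x.1, x.2, hx⟩,
        fun o => o.elim ⟨y, t.2.2⟩ fun z => ⟨z.1, z.2.1⟩, ?_, ?_⟩
      · rintro ⟨x, hx⟩
        by_cases hxy : x = y
        · subst hxy; simp
        · simp [hxy]
      · rintro (_ | ⟨x, hx, hxy⟩)
        · simp
        · simp [hxy]
    rw [Nat.card_congr e2, Finite.card_option] at h3
    omega
  have h4 := Nat.card_congr e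
  rw [hO, Nat.card_sigma] at h4
  simp only [h2] at h4
  rw [Finset.sum_const, Finset.card_univ, smul_eq_mul, ← Nat.card_eq_fintype_card] at h4
  have h5 : 0 < q := lt_trans Nat.zero_lt_one h.one_lt
  apply Nat.eq_of_mul_eq_mul_right h5
  rw [← h4]
  ring

/-- An involutory permutation normalising `D` has a fixed point. -/
theorem exists_fixed [Finite Ω] (h : Unital D q) (th : Perm Ω) (hth : ∀ t ∈ D, th * t * th⁻¹ ∈ D)
    (h2 : th * th = 1) : ∃ y, th y = y := by
  classical
  have := Fintype.ofFinite Ω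
  by_contra hcon
  push Not at hcon
  have hinv : th⁻¹ = th := inv_eq_iff_mul_eq_one.2 h2
  have htt : ∀ y, th (th y) = y := fun y => by
    have := congrArg (fun g : Perm Ω => g y) h2
    exact this
  -- the conjugate of t fixes th y iff t fixes y
  have hfixc : ∀ (t : Perm Ω) (y : Ω), t y = y → (th * t * th⁻¹) (th y) = th y := by
    intro t y hy
    show th (t (th⁻¹ (th y))) = th y
    rw [show th⁻¹ (th y) = y from th.symm_apply_apply y, hy]
  have hcomm : ∀ a b : Perm Ω, a * b = b * a → (th * a * th⁻¹) * (th * b * th⁻¹) = (th * b * th⁻¹) * (th * a * th⁻¹) := by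
    intro a b hab
    have h3 : (th * a * th⁻¹) * (th * b * th⁻¹) = th * (a * b) * th⁻¹ := by group
    have h4 : (th * b * th⁻¹) * (th * a * th⁻¹) = th * (b * a) * th⁻¹ := by group
    rw [h3, h4, hab]
  have hdd : ∀ a : Perm Ω, th * (th * a * th⁻¹) * th⁻¹ = a := by
    intro a
    have h3 : th * (th * a * th⁻¹) * th⁻¹ = (th * th) * a * (th * th)⁻¹ := by group
    rw [h3, h2, one_mul, inv_one, mul_one]
  have hinj : ∀ a b : Perm Ω, th * a * th⁻¹ = th * b * th⁻¹ → a = b := by
    intro a b hab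
    rw [← hdd a, hab, hdd b]
  let Fx := {t : Perm Ω // t ∈ D ∧ th * t * th⁻¹ = t}
  -- upper bound
  have hup : Nat.card Fx * (q + 1) ≤ q ^ 3 + 1 := by
    let f : (Σ t : Fx, {y : Ω // t.1 y = y}) → Ω := fun x => x.2.1
    have hf : Function.Injective f := by
      rintro ⟨⟨t, ht, htt'⟩, ⟨y, hy⟩⟩ ⟨⟨t', ht', htt''⟩, ⟨y', hy'⟩⟩ (hyy : y = y')
      subst hyy
      have h3 : t = t' := by
        refine h.uni y (th y) (hcon y).symm t ht t' ht' hy ?_ hy' ?_
        · have := hfixc t y hy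
          rwa [htt'] at this
        · have := hfixc t' y hy'
          rwa [htt''] at this
      subst h3
      rfl
    have h3 := Nat.card_le_card_of_injective f hf
    rw [Nat.card_sigma, h.card] at h3
    have h4 : ∀ t : Fx, Nat.card {y : Ω // t.1 y = y} = q + 1 := fun t => h.fix t.1 t.2.1
    simp only [h4] at h3
    rwa [Finset.sum_const, Finset.card_univ, smul_eq_mul, ← Nat.card_eq_fintype_card] at h3
  -- lower bound
  have hlow : q ^ 2 ≤ Nat.card Fx := by
    have hne : Nonempty Ω := by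
      by_contra hne
      rw [not_nonempty_iff] at hne
      have := h.card
      rw [Nat.card_of_isEmpty] at this
      omega
    obtain ⟨y⟩ := hne
    obtain ⟨t0, ht0, h0y, h0y'⟩ := h.exi y (th y) (hcon y).symm
    have ht0F : th * t0 * th⁻¹ = t0 := by
      refine h.uni y (th y) (hcon y).symm _ (hth t0 ht0) t0 ht0 ?_ (hfixc t0 y h0y) h0y h0y'
      have := hfixc t0 (th y) h0y'
      rwa [htt] at this
    -- no other member of D through y is fixed
    have hnf : ∀ t ∈ D, t y = y → t ≠ t0 → th * t * th⁻¹ ≠ t := by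
      intro t ht hty htn hc
      refine htn (h.uni y (th y) (hcon y).symm t ht t0 ht0 hty ?_ h0y h0y')
      have := hfixc t y hty
      rwa [hc] at this
    have hnc : ∀ t ∈ D, t y = y → t ≠ t0 → ∀ w, t w = w → (th * t * th⁻¹) w ≠ w := by
      intro t ht hty htn w hw hw'
      refine hnf t ht hty htn (h.uni w (th w) (hcon w).symm _ (hth t ht) t ht hw' (hfixc t w hw) hw ?_)
      have := hfixc _ w hw'
      rwa [hdd] at this
    have hr : ∀ t : {t // t ∈ D ∧ t y = y}, t.1 ≠ t0 → ∃ r ∈ D, r ≠ t.1 ∧ r ≠ th * t.1 * th⁻¹ ∧ r * t.1 = t.1 * r ∧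
        r * (th * t.1 * th⁻¹) = (th * t.1 * th⁻¹) * r := fun t htn =>
      h.third t.1 t.2.1 _ (hth t.1 t.2.1) (hnf t.1 t.2.1 t.2.2 htn).symm (hnc t.1 t.2.1 t.2.2 htn)
    let r : {t // t ∈ D ∧ t y = y} → Perm Ω := fun t => if htn : t.1 = t0 then t0 else (hr t htn).choose
    have hrF : ∀ t, r t ∈ D ∧ th * r t * th⁻¹ = r t := by
      intro t
      by_cases htn : t.1 = t0
      · have h3 : r t = t0 := dif_pos htn
        rw [h3]
        exact ⟨ht0, ht0F⟩
      · have h3 : r t = (hr t htn).choose := dif_neg htn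
        obtain ⟨h4, h5, h6, h7, h8⟩ := (hr t htn).choose_spec
        rw [← h3] at h4 h5 h6 h7 h8
        refine ⟨h4, ?_⟩
        refine h.third_uni t.1 t.2.1 _ (hth t.1 t.2.1) (hnf t.1 t.2.1 t.2.2 htn).symm _ (hth _ h4) _ h4 ?_ ?_ h5 h6 ?_ ?_ h7 h8
        · intro h9
          apply h6
          rw [← h9, hdd]
        · intro h9
          exact h5 (hinj _ _ h9)
        · have := hcomm _ _ h8
          rwa [hdd] at this
        · exact hcomm _ _ h7
    let g : {t // t ∈ D ∧ t y = y} → Fx := fun t => ⟨r t, hrF t⟩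
    have hg : Function.Injective g := by
      have key : ∀ t t' : {t // t ∈ D ∧ t y = y}, t.1 ≠ t0 → t.1 ≠ t'.1 → r t ≠ r t' := by
        intro t t' htn htt' hrr
        have h3 : r t = (hr t htn).choose := dif_neg htn
        obtain ⟨h4, h5, h6, h7, h8⟩ := (hr t htn).choose_spec
        rw [← h3] at h4 h5 h6 h7 h8
        by_cases htn' : t'.1 = t0
        · have h9 : r t' = t0 := dif_pos htn'
          rw [h9] at hrr
          rw [hrr] at h7
          exact h.not_comm y t0 ht0 t.1 t.2.1 (Ne.symm htn) h0y t.2.2 h7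
        · have h3' : r t' = (hr t' htn').choose := dif_neg htn'
          obtain ⟨h4', h5', h6', h7', h8'⟩ := (hr t' htn').choose_spec
          rw [← h3'] at h4' h5' h6' h7' h8'
          rw [← hrr] at h5' h7'
          exact h.no_third y t.1 t.2.1 t'.1 t'.2.1 htt' t.2.2 t'.2.2 (r t) h4 h5 h5' h7 h7'
      intro t t' htt'
      have h3 : r t = r t' := congrArg Subtype.val htt'
      by_contra hne
      have hne' : t.1 ≠ t'.1 := fun h4 => hne (Subtype.ext h4)
      by_cases htn : t.1 = t0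
      · have htn' : t'.1 ≠ t0 := fun h4 => hne' (htn.trans h4.symm)
        exact key t' t htn' (Ne.symm hne') h3.symm
      · exact key t t' htn hne' h3
    have h3 := Nat.card_le_card_of_injective g hg
    rwa [h.card_through y] at h3
  have h3 : q ^ 2 * (q + 1) ≤ q ^ 3 + 1 := le_trans (Nat.mul_le_mul_right _ hlow) hup
  have h4 : q ^ 2 * (q + 1) = q ^ 3 + q ^ 2 := by ring
  have h5 : 1 < q ^ 2 := one_lt_pow₀ h.one_lt (by norm_num)
  omega

end Unital

end Cfsg.Agent.FixBN.UCount
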