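import Cfsg.Agent.FixBN.UCount
import Cfsg.Agent.FixBN.GoodOne
import Cfsg.Agent.ClassicalGeometry.HermWitt

/-!
# The hermitian plane: isotropic points, reflections

`Dat F`: an involution `σ ≠ 1` of the field `F`, `2 ≠ 0`. `Herm d`: the group of the pairs `(a, b)` with
`b + σ b + a σ a = 0` and `(a, b) (a', b') = (a + a', b + b' - σ a a')`. The points are `Option (Herm d)`, embedded by
`vec` as the isotropic points of the form `h`; `tr u` are the translations, `ni` the map `(a, b) ↦ (-a/b, 1/b)`.
-/

set_option autoImplicit false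

namespace Cfsg.Agent.FixBN.UHerm

open Equiv

/-- An involution of a field of characteristic not two. -/
structure Dat (F : Type*) [Field F] where
  /-- the involution -/
  σ : F →+* F
  inv : ∀ a, σ (σ a) = a
  ne : σ ≠ RingHom.id F
  two : (2 : F) ≠ 0

variable {F : Type*} [Field F]

/-- The points other than `∞` of the hermitian curve. -/
def Herm (d : Dat F) : Type _ := {u : F × F // u.2 + d.σ u.2 + u.1 * d.σ u.1 = 0}

variable {d : Dat F}

namespace Herm

/-- first coordinate -/
def a (u : Herm d) : F := u.1.1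

/-- second coordinate -/
def b (u : Herm d) : F := u.1.2

theorem rel (u : Herm d) : u.b + d.σ u.b + u.a * d.σ u.a = 0 := u.2

@[ext] theorem ext {u v : Herm d} (h1 : u.a = v.a) (h2 : u.b = v.b) : u = v := Subtype.ext (Prod.ext h1 h2)

/-- constructor -/
def mk (x y : F) (h : y + d.σ y + x * d.σ x = 0) : Herm d := ⟨(x, y), h⟩

@[simp] theorem mk_a (x y : F) (h : y + d.σ y + x * d.σ x = 0) : (mk x y h).a = x := rfl

@[simp] theorem mk_b (x y : F) (h : y + d.σ y + x * d.σ x = 0) : (mk x y h).b = y := rfl

theorem a_eq_zero {u : Herm d} (h : u.b = 0) : u.a = 0 := by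
  have h1 := u.rel
  rw [h, map_zero, add_zero, zero_add, mul_eq_zero] at h1
  rcases h1 with h1 | h1
  · exact h1
  · exact (map_eq_zero d.σ).1 h1

instance : One (Herm d) := ⟨mk 0 0 (by simp)⟩

instance : Mul (Herm d) := ⟨fun u v => mk (u.a + v.a) (u.b + v.b - d.σ u.a * v.a) (by
  have h1 := u.rel
  have h2 := v.rel
  rw [map_sub, map_add, map_mul, d.inv, map_add]
  linear_combination h1 + h2)⟩

instance : Inv (Herm d) := ⟨fun u => mk (-u.a) (d.σ u.b) (by
  have h1 := u.rel
  rw [d.inv, map_neg]
  linear_combination h1)⟩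

@[simp] theorem one_a : (1 : Herm d).a = 0 := rfl

@[simp] theorem one_b : (1 : Herm d).b = 0 := rfl

@[simp] theorem mul_a (u v : Herm d) : (u * v).a = u.a + v.a := rfl

@[simp] theorem mul_b (u v : Herm d) : (u * v).b = u.b + v.b - d.σ u.a * v.a := rfl

@[simp] theorem inv_a (u : Herm d) : (u⁻¹).a = -u.a := rfl

@[simp] theorem inv_b (u : Herm d) : (u⁻¹).b = d.σ u.b := rfl

instance : Group (Herm d) := Group.ofLeftAxioms
  (by
    intro u v w
    ext
    · simp only [mul_a]; ring
    · simp only [mul_b, mul_a, map_add]; ring)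
  (by intro u; ext <;> simp)
  (by
    intro u
    ext
    · simp
    · simp only [mul_b, inv_b, inv_a, one_b, map_neg]
      linear_combination u.rel)

theorem eq_one_of_b {u : Herm d} (h : u.b = 0) : u = 1 := ext (a_eq_zero h) h

/-- the central elements -/
def cen (c : F) (h : c + d.σ c = 0) : Herm d := mk 0 c (by rw [h]; simp)

@[simp] theorem cen_a (c : F) (h : c + d.σ c = 0) : (cen c h).a = 0 := rfl

@[simp] theorem cen_b (c : F) (h : c + d.σ c = 0) : (cen c h).b = c := rfl

end Herm

/-- The translations. -/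
def tr (u : Herm d) : Perm (Option (Herm d)) := (Equiv.mulLeft u).optionCongr

@[simp] theorem tr_none (u : Herm d) : tr u none = none := rfl

@[simp] theorem tr_some (u v : Herm d) : tr u (some v) = some (u * v) := rfl

theorem tr_mul (u v : Herm d) : tr u * tr v = tr (u * v) := by
  apply Equiv.ext
  rintro (_ | w)
  · rfl
  · show tr u (tr v (some w)) = tr (u * v) (some w)
    rw [tr_some, tr_some, tr_some, mul_assoc]

theorem tr_one : tr (1 : Herm d) = 1 := by
  apply Equiv.ext
  rintro (_ | w)
  · rfl
  · show tr 1 (some w) = some w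
    rw [tr_some, one_mul]

/-- The elements `(-a/b, 1/b)`. -/
def flip (u : Herm d) (h : u.b ≠ 0) : Herm d := Herm.mk (-u.a / u.b) (u.b)⁻¹ (by
  have h1 := u.rel
  have h2 : d.σ u.b ≠ 0 := fun h3 => h ((map_eq_zero d.σ).1 h3)
  rw [map_div₀, map_inv₀, map_neg]
  field_simp
  linear_combination h1)

open Classical in
/-- The map `(a, b) ↦ (-a/b, 1/b)`. -/
noncomputable def niFun : Option (Herm d) → Option (Herm d)
  | none => some 1
  | some u => if h : u.b = 0 then none else some (flip u h)

theorem niFun_none : niFun (none : Option (Herm d)) = some 1 := rfl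

theorem niFun_one : niFun (some (1 : Herm d)) = none := dif_pos rfl

theorem niFun_some {u : Herm d} (h : u.b ≠ 0) : niFun (some u) = some (flip u h) := dif_neg h

theorem niFun_niFun (x : Option (Herm d)) : niFun (niFun x) = x := by
  rcases x with _ | u
  · rw [niFun_none, niFun_one]
  · by_cases h : u.b = 0
    · rw [Herm.eq_one_of_b h, niFun_one, niFun_none]
    · have h1 : (flip u h).b ≠ 0 := inv_ne_zero h
      rw [niFun_some h, niFun_some h1]
      congr 1
      ext
      · show -(-u.a / u.b) / (u.b)⁻¹ = u.a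
        field_simp
      · show ((u.b)⁻¹)⁻¹ = u.b
        rw [inv_inv]

/-- The map `(a, b) ↦ (-a/b, 1/b)`. -/
noncomputable def ni : Perm (Option (Herm d)) := ⟨niFun, niFun, niFun_niFun, niFun_niFun⟩

theorem ni_none : ni (none : Option (Herm d)) = some 1 := rfl

theorem ni_one : ni (some (1 : Herm d)) = none := niFun_one

theorem ni_some {u : Herm d} (h : u.b ≠ 0) : ni (some u) = some (flip u h) := niFun_some h

theorem ni_mul_ni : (ni : Perm (Option (Herm d))) * ni = 1 := by
  apply Equiv.ext
  intro x
  exact niFun_niFun x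

theorem inv_ni : (ni : Perm (Option (Herm d)))⁻¹ = ni := by rw [inv_eq_iff_mul_eq_one, ni_mul_ni]

/-! ### The form -/

/-- The hermitian form. -/
def h (d : Dat F) (x y : Fin 3 → F) : F := x 0 * d.σ (y 2) + x 1 * d.σ (y 1) + x 2 * d.σ (y 0)

theorem h_add_left (x x' y : Fin 3 → F) : h d (x + x') y = h d x y + h d x' y := by
  simp only [h, Pi.add_apply]; ring

theorem h_sub_left (x x' y : Fin 3 → F) : h d (x - x') y = h d x y - h d x' y := by
  simp only [h, Pi.sub_apply]; ring

theorem h_smul_left (c : F) (x y : Fin 3 → F) : h d (c • x) y = c * h d x y := by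
  simp only [h, Pi.smul_apply, smul_eq_mul]; ring

theorem h_add_right (x y y' : Fin 3 → F) : h d x (y + y') = h d x y + h d x y' := by
  simp only [h, Pi.add_apply, map_add]; ring

theorem h_sub_right (x y y' : Fin 3 → F) : h d x (y - y') = h d x y - h d x y' := by
  simp only [h, Pi.sub_apply, map_sub]; ring

theorem h_smul_right (c : F) (x y : Fin 3 → F) : h d x (c • y) = d.σ c * h d x y := by
  simp only [h, Pi.smul_apply, smul_eq_mul, map_mul]; ring

theorem h_swap (x y : Fin 3 → F) : d.σ (h d x y) = h d y x := by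
  simp only [h, map_add, map_mul, d.inv]; ring

theorem h_zero_left (y : Fin 3 → F) : h d 0 y = 0 := by simp [h]

theorem h_zero_right (y : Fin 3 → F) : h d y 0 = 0 := by simp [h]

theorem h_comm_zero {x y : Fin 3 → F} (hxy : h d x y = 0) : h d y x = 0 := by
  rw [← h_swap, hxy, map_zero]

theorem eq_zero_of_h {x : Fin 3 → F} (hx : ∀ z, h d x z = 0) : x = 0 := by
  funext i
  have h0 := hx ![1, 0, 0]
  have h1 := hx ![0, 1, 0]
  have h2 := hx ![0, 0, 1]
  simp [h] at h0 h1 h2
  fin_cases i
  · exact h2
  · exact h1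
  · exact h0

/-! ### Points as vectors -/

/-- A vector spanning the isotropic point. -/
def vec : Option (Herm d) → (Fin 3 → F)
  | none => ![0, 0, 1]
  | some u => ![1, u.a, u.b]

theorem vec_none : vec (none : Option (Herm d)) = ![0, 0, 1] := rfl

theorem vec_some (u : Herm d) : vec (some u) = ![1, u.a, u.b] := rfl

theorem vec_one : vec (some (1 : Herm d)) = ![1, 0, 0] := rfl

theorem vec_iso (y : Option (Herm d)) : h d (vec y) (vec y) = 0 := by
  rcases y with _ | u
  · simp [h, vec_none]
  · have h1 := u.rel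
    simp only [h, vec_some, Matrix.cons_val_zero, Matrix.cons_val_one, Matrix.cons_val, map_one]
    linear_combination h1

theorem vec_ne_zero (y : Option (Herm d)) : vec y ≠ 0 := by
  rcases y with _ | u
  · intro h1
    have := congrFun h1 2
    simp [vec_none] at this
  · intro h1
    have := congrFun h1 0
    simp [vec_some] at this

theorem vec_inj {y y' : Option (Herm d)} {c : F} (hc : vec y = c • vec y') : y = y' := by
  rcases y with _ | u
  · rcases y' with _ | v
    · rfl
    · exfalso
      have h0 := congrFun hc 0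
      have h2 := congrFun hc 2
      simp [vec_none, vec_some] at h0 h2
      rw [← h0] at h2
      simp at h2
  · rcases y' with _ | v
    · exfalso
      have h0 := congrFun hc 0
      simp [vec_none, vec_some] at h0
    · have h0 := congrFun hc 0
      have h1 := congrFun hc 1
      have h2 := congrFun hc 2
      simp [vec_some] at h0 h1 h2
      rw [← h0, one_mul] at h1 h2
      rw [Herm.ext h1 h2]

theorem smul_vec_inj {y y' : Option (Herm d)} {c c' : F} (hc0 : c ≠ 0) (hc : c • vec y = c' • vec y') : y = y' := by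
  apply vec_inj (c := c⁻¹ * c')
  rw [mul_smul, ← hc, smul_smul, inv_mul_cancel₀ hc0, one_smul]

theorem exists_vec {v : Fin 3 → F} (hv : v ≠ 0) (hi : h d v v = 0) :
    ∃ (y : Option (Herm d)) (c : F), c ≠ 0 ∧ v = c • vec y := by
  by_cases h0 : v 0 = 0
  · have h1 : v 1 = 0 := by
      simp only [h, h0, map_zero, mul_zero, add_zero, zero_mul, zero_add, mul_eq_zero] at hi
      rcases hi with hi | hi
      · exact hi
      · exact (map_eq_zero d.σ).1 hi
    refine ⟨none, v 2, ?_, ?_⟩
    · intro h2
      apply hv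
      funext i
      fin_cases i
      · exact h0
      · exact h1
      · exact h2
    · funext i
      fin_cases i
      · simp [vec_none, h0]
      · simp [vec_none, h1]
      · simp [vec_none]
  · have hs : d.σ (v 0) ≠ 0 := fun h3 => h0 ((map_eq_zero d.σ).1 h3)
    refine ⟨some (Herm.mk (v 1 / v 0) (v 2 / v 0) ?_), v 0, h0, ?_⟩
    · rw [map_div₀, map_div₀]
      simp only [h] at hi
      field_simp
      linear_combination hi
    · funext i
      fin_cases i
      · simp [vec_some]
      · simp [vec_some]; field_simp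
      · simp [vec_some]; field_simp

/-- Different isotropic points are not orthogonal. -/
theorem h_vec_ne {y y' : Option (Herm d)} (hy : y ≠ y') : h d (vec y) (vec y') ≠ 0 := by
  intro h0
  apply hy
  rcases y with _ | u
  · rcases y' with _ | v
    · rfl
    · simp [h, vec_none, vec_some] at h0
  · rcases y' with _ | v
    · simp [h, vec_none, vec_some] at h0
    · simp only [h, vec_some, Matrix.cons_val_zero, Matrix.cons_val_one, Matrix.cons_val, map_one] at h0
      have h1 := u.rel
      have h2 := v.rel
      have h0' := congrArg d.σ h0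
      simp only [map_add, map_mul, d.inv, map_one, map_zero] at h0'
      have h3 : (u.a - v.a) * d.σ (u.a - v.a) = 0 := by
        rw [map_sub]
        linear_combination h1 + h2 - h0 - h0'
      have h4 : u.a = v.a := by
        rcases mul_eq_zero.1 h3 with h5 | h5
        · exact sub_eq_zero.1 h5
        · exact sub_eq_zero.1 ((map_eq_zero d.σ).1 h5)
      have h5 : u.b = v.b := by
        have h6 : d.σ u.b = d.σ v.b := by
          rw [h4] at h1
          rw [h4] at h0
          linear_combination h1 - h0
        exact d.σ.injective h6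
      rw [Herm.ext h4 h5]

/-! ### Orthogonal complements of two vectors -/

/-- the cross product -/
def cr (x y : Fin 3 → F) : Fin 3 → F := ![x 1 * y 2 - x 2 * y 1, x 2 * y 0 - x 0 * y 2, x 0 * y 1 - x 1 * y 0]

theorem par_of_cr {p x : Fin 3 → F} (hp : p ≠ 0) (hx : cr p x = 0) : ∃ c : F, x = c • p := by
  have h0 := congrFun hx 0
  have h1 := congrFun hx 1
  have h2 := congrFun hx 2
  simp only [cr, Matrix.cons_val_zero, Matrix.cons_val_one, Matrix.cons_val, Pi.zero_apply] at h0 h1 h2
  by_cases p0 : p 0 = 0
  · by_cases p1 : p 1 = 0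
    · have p2 : p 2 ≠ 0 := by
        intro p2
        apply hp
        funext i
        fin_cases i
        · exact p0
        · exact p1
        · exact p2
      refine ⟨x 2 / p 2, ?_⟩
      funext i
      fin_cases i
      · show x 0 = x 2 / p 2 * p 0
        field_simp
        linear_combination h1
      · show x 1 = x 2 / p 2 * p 1
        field_simp
        linear_combination -h0
      · show x 2 = x 2 / p 2 * p 2
        field_simp
    · refine ⟨x 1 / p 1, ?_⟩
      funext i
      fin_cases i
      · show x 0 = x 1 / p 1 * p 0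
        field_simp
        linear_combination -h2
      · show x 1 = x 1 / p 1 * p 1
        field_simp
      · show x 2 = x 1 / p 1 * p 2
        field_simp
        linear_combination h0
  · refine ⟨x 0 / p 0, ?_⟩
    funext i
    fin_cases i
    · show x 0 = x 0 / p 0 * p 0
      field_simp
    · show x 1 = x 0 / p 0 * p 1
      field_simp
      linear_combination h2
    · show x 2 = x 0 / p 0 * p 2
      field_simp
      linear_combination -h1

/-- the vector whose standard product with `w` is `h w x` -/
def fl (d : Dat F) (x : Fin 3 → F) : Fin 3 → F := ![d.σ (x 2), d.σ (x 1), d.σ (x 0)]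

theorem par_of_fl {x y : Fin 3 → F} (hx : x ≠ 0) (hxy : cr (fl d x) (fl d y) = 0) : ∃ c : F, y = c • x := by
  have hx' : fl d x ≠ 0 := by
    intro h1
    apply hx
    have h0 := congrFun h1 0
    have h2 := congrFun h1 1
    have h3 := congrFun h1 2
    simp only [fl, Matrix.cons_val_zero, Matrix.cons_val_one, Matrix.cons_val, Pi.zero_apply, map_eq_zero] at h0 h2 h3
    funext i
    fin_cases i
    · exact h3
    · exact h2
    · exact h0
  obtain ⟨c, hc⟩ := par_of_cr hx' hxy
  refine ⟨d.σ c, ?_⟩
  have h0 := congrArg d.σ (congrFun hc 0)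
  have h2 := congrArg d.σ (congrFun hc 1)
  have h3 := congrArg d.σ (congrFun hc 2)
  simp only [fl, Matrix.cons_val_zero, Matrix.cons_val_one, Matrix.cons_val, Pi.smul_apply, smul_eq_mul, map_mul,
    d.inv] at h0 h2 h3
  funext i
  fin_cases i
  · exact h3
  · exact h2
  · exact h0

/-- a vector orthogonal to `x` and `y` -/
def perp (d : Dat F) (x y : Fin 3 → F) : Fin 3 → F := cr (fl d x) (fl d y)

theorem h_perp_left (x y : Fin 3 → F) : h d (perp d x y) x = 0 := by
  simp only [perp, cr, fl, h, Matrix.cons_val_zero, Matrix.cons_val_one, Matrix.cons_val]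
  ring

theorem h_perp_right (x y : Fin 3 → F) : h d (perp d x y) y = 0 := by
  simp only [perp, cr, fl, h, Matrix.cons_val_zero, Matrix.cons_val_one, Matrix.cons_val]
  ring

theorem perp_ne_zero {x y : Fin 3 → F} (hx : x ≠ 0) (hxy : ∀ c : F, y ≠ c • x) : perp d x y ≠ 0 := by
  intro h0
  obtain ⟨c, hc⟩ := par_of_fl hx h0
  exact hxy c hc

theorem eq_smul_perp {x y w : Fin 3 → F} (hp : perp d x y ≠ 0) (h1 : h d w x = 0) (h2 : h d w y = 0) :
    ∃ c : F, w = c • perp d x y := by
  apply par_of_cr hp
  have e : cr (perp d x y) w = (h d w x) • (fl d y) - (h d w y) • (fl d x) := by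
    funext i
    fin_cases i <;>
    · simp only [perp, cr, fl, h, Pi.sub_apply, Pi.smul_apply, smul_eq_mul, Matrix.cons_val_zero, Matrix.cons_val_one,
        Matrix.cons_val, Fin.zero_eta, Fin.mk_one, Fin.reduceFinMk]
      ring
  rw [e, h1, h2, zero_smul, zero_smul, sub_zero]

/-- The orthogonal complement of two independent vectors is a line. -/
theorem par_of_perp {x y w w' : Fin 3 → F} (hx : x ≠ 0) (hxy : ∀ c : F, y ≠ c • x) (hw : w ≠ 0)
    (h1 : h d w x = 0) (h2 : h d w y = 0) (h1' : h d w' x = 0) (h2' : h d w' y = 0) : ∃ c : F, w' = c • w := by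
  have hp := perp_ne_zero (d := d) hx hxy
  obtain ⟨c, hc⟩ := eq_smul_perp hp h1 h2
  obtain ⟨c', hc'⟩ := eq_smul_perp hp h1' h2'
  have hc0 : c ≠ 0 := by
    rintro rfl
    rw [zero_smul] at hc
    exact hw hc
  refine ⟨c' / c, ?_⟩
  rw [hc', hc, smul_smul, div_mul_cancel₀ _ hc0]

theorem exists_perp (x : Fin 3 → F) : ∃ w : Fin 3 → F, w ≠ 0 ∧ h d w x = 0 := by
  by_cases hx : x 1 = 0 ∧ x 2 = 0
  · refine ⟨![1, 0, 0], ?_, ?_⟩
    · intro h1
      have := congrFun h1 0
      simp at this
    · simp [h, hx.1, hx.2]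
  · refine ⟨![d.σ (x 1), -d.σ (x 2), 0], ?_, ?_⟩
    · intro h1
      apply hx
      have h2 := congrFun h1 0
      have h3 := congrFun h1 1
      simp only [Matrix.cons_val_zero, Matrix.cons_val_one, Pi.zero_apply, map_eq_zero, neg_eq_zero] at h2 h3
      exact ⟨h2, h3⟩
    · simp only [h, Matrix.cons_val_zero, Matrix.cons_val_one, Matrix.cons_val]
      ring

/-- A vector which is not isotropic is orthogonal to two isotropic points. -/
theorem exists_two [Finite F] {u : Fin 3 → F} (hu : h d u u ≠ 0) :
    ∃ y y' : Option (Herm d), y ≠ y' ∧ h d (vec y) u = 0 ∧ h d (vec y') u = 0 := by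
  have hu0 : u ≠ 0 := by
    rintro rfl
    exact hu (h_zero_left _)
  -- an isotropic vector orthogonal to u
  obtain ⟨v, hv0, hvu, hvv⟩ : ∃ v : Fin 3 → F, v ≠ 0 ∧ h d v u = 0 ∧ h d v v = 0 := by
    obtain ⟨v1, h10, h1u⟩ := exists_perp (d := d) u
    by_cases h11 : h d v1 v1 = 0
    · exact ⟨v1, h10, h1u, h11⟩
    have hnp : ∀ c : F, v1 ≠ c • u := by
      rintro c rfl
      rw [h_smul_left] at h1u
      rcases mul_eq_zero.1 h1u with h2 | h2
      · subst h2; exact h10 (zero_smul _ _)
      · exact hu h2
    set v2 := perp d u v1 with hv2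
    have h20 : v2 ≠ 0 := perp_ne_zero hu0 hnp
    have h2u : h d v2 u = 0 := h_perp_left u v1
    have h21 : h d v2 v1 = 0 := h_perp_right u v1
    by_cases h22 : h d v2 v2 = 0
    · exact ⟨v2, h20, h2u, h22⟩
    have hs1 : d.σ (h d v1 v1) = h d v1 v1 := h_swap v1 v1
    have hs2 : d.σ (h d v2 v2) = h d v2 v2 := h_swap v2 v2
    obtain ⟨c, hc0, hc⟩ := ClassicalGeometry.HermWitt.norm_surj d.σ d.ne d.inv (-h d v1 v1 / h d v2 v2)
      (by rw [map_div₀, map_neg, hs1, hs2]) (div_ne_zero (neg_ne_zero.2 h11) h22)
    refine ⟨v1 + c • v2, ?_, ?_, ?_⟩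
    · intro h3
      have h4 : h d (v1 + c • v2) v1 = 0 := by rw [h3, h_zero_left]
      rw [h_add_left, h_smul_left, h21, mul_zero, add_zero] at h4
      exact h11 h4
    · rw [h_add_left, h_smul_left, h1u, h2u]; ring
    · rw [h_add_left, h_add_right, h_smul_left, h_add_right, h_smul_right, h_smul_right, h21, h_comm_zero h21]
      have h3 : c * d.σ c * h d v2 v2 = -h d v1 v1 := by rw [hc]; field_simp
      linear_combination h3
  -- a second one
  obtain ⟨y, c, hc0, rfl⟩ := exists_vec hv0 hvv
  have hyu : h d (vec y) u = 0 := by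
    rw [h_smul_left] at hvu
    exact (mul_eq_zero.1 hvu).resolve_left hc0
  have hnp : ∀ c : F, vec y ≠ c • u := by
    intro c hc
    have h1 := hyu
    rw [hc, h_smul_left] at h1
    rcases mul_eq_zero.1 h1 with h2 | h2
    · subst h2; exact vec_ne_zero y (by rw [hc, zero_smul])
    · exact hu h2
  obtain ⟨w, hwu, hwy⟩ : ∃ w : Fin 3 → F, h d w u = 0 ∧ h d w (vec y) ≠ 0 := by
    -- otherwise everything orthogonal to u is orthogonal to vec y
    by_contra hcon
    push Not at hcon
    apply vec_ne_zero y
    apply eq_zero_of_h (d := d)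
    intro z
    have h1 : h d (z - (h d z u / h d u u) • u) u = 0 := by
      rw [h_sub_left, h_smul_left]; field_simp; ring
    have h2 := hcon _ h1
    rw [h_sub_left, h_smul_left, h_comm_zero hyu, mul_zero, sub_zero] at h2
    exact h_comm_zero h2
  have hyw : h d (vec y) w ≠ 0 := fun h1 => hwy (h_comm_zero h1)
  have h2' : (2 : F) ≠ 0 := d.two
  obtain ⟨l, hlw⟩ : ∃ l : F, l * h d (vec y) w = -h d w w / 2 :=
    ⟨-h d w w / (2 * h d (vec y) w), by field_simp⟩
  have hlw' : d.σ l * h d w (vec y) = -h d w w / 2 := by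
    have h3 := congrArg d.σ hlw
    rw [map_mul, h_swap, map_div₀, map_neg, h_swap, map_ofNat] at h3
    exact h3
  have hv2 : h d (w + l • vec y) (w + l • vec y) = 0 := by
    rw [h_add_left, h_add_right, h_smul_left, h_add_right, h_smul_right, h_smul_right, vec_iso]
    have h3 : (2 : F) * (h d w w / 2) = h d w w := by field_simp
    linear_combination hlw + hlw' - h3
  have hv20 : w + l • vec y ≠ 0 := by
    intro h3
    have h4 : h d (w + l • vec y) (vec y) = 0 := by rw [h3, h_zero_left]
    rw [h_add_left, h_smul_left, vec_iso, mul_zero, add_zero] at h4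
    exact hwy h4
  obtain ⟨y', c', hc0', hc'⟩ := exists_vec hv20 hv2
  refine ⟨y, y', ?_, hyu, ?_⟩
  · rintro rfl
    have h4 : h d (w + l • vec y) (vec y) = 0 := by rw [hc', h_smul_left, vec_iso, mul_zero]
    rw [h_add_left, h_smul_left, vec_iso, mul_zero, add_zero] at h4
    exact hwy h4
  · have h4 : h d (w + l • vec y) u = 0 := by rw [h_add_left, h_smul_left, hwu, hyu]; ring
    rw [hc', h_smul_left] at h4
    exact (mul_eq_zero.1 h4).resolve_left hc0'

end Cfsg.Agent.FixBN.UHerm
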