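import Cfsg.Agent.FixBN.UHerm

/-!
# Unitary maps and the permutations they induce on the isotropic points; reflections

`Lift A g`: the linear map `A` preserves the form and induces the permutation `g` on the points. `Pole g u`: the
permutation `g` is induced by the reflection `refl u`.
-/

set_option autoImplicit false

namespace Cfsg.Agent.FixBN.UHerm

open Equiv

variable {F : Type*} [Field F] {d : Dat F}

/-- The linear map `A` preserves the form and induces the permutation `g`. -/
structure Lift (A : (Fin 3 → F) →ₗ[F] (Fin 3 → F)) (g : Perm (Option (Herm d))) : Prop where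
  uni : ∀ x y, h d (A x) (A y) = h d x y
  acts : ∀ y, ∃ c : F, c ≠ 0 ∧ A (vec y) = c • vec (g y)

namespace Lift

variable {A B : (Fin 3 → F) →ₗ[F] (Fin 3 → F)} {g k : Perm (Option (Herm d))}

theorem one : Lift LinearMap.id (1 : Perm (Option (Herm d))) :=
  ⟨fun _ _ => rfl, fun y => ⟨1, one_ne_zero, by rw [one_smul]; rfl⟩⟩

theorem mul (hA : Lift A g) (hB : Lift B k) : Lift (A ∘ₗ B) (g * k) := by
  refine ⟨fun x y => ?_, fun y => ?_⟩
  · show h d (A (B x)) (A (B y)) = _
    rw [hA.uni, hB.uni]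
  · obtain ⟨c, hc, e⟩ := hB.acts y
    obtain ⟨c', hc', e'⟩ := hA.acts (k y)
    refine ⟨c * c', mul_ne_zero hc hc', ?_⟩
    show A (B (vec y)) = (c * c') • vec (g (k y))
    rw [e, map_smul, e', smul_smul]

theorem injective (hA : Lift A g) : Function.Injective A := by
  intro x y hxy
  rw [← sub_eq_zero]
  apply eq_zero_of_h (d := d)
  intro z
  rw [← hA.uni, map_sub, hxy, sub_self, h_zero_left]

/-- the inverse map -/
theorem inv (hA : Lift A g) : ∃ B : (Fin 3 → F) →ₗ[F] (Fin 3 → F), Lift B g⁻¹ ∧ (∀ x, A (B x) = x) ∧ ∀ x, B (A x) = x := by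
  let e := LinearEquiv.ofInjectiveEndo A hA.injective
  have h1 : ∀ x, A (e.symm x) = x := fun x => e.apply_symm_apply x
  have h2 : ∀ x, e.symm (A x) = x := fun x => e.symm_apply_apply x
  refine ⟨e.symm.toLinearMap, ⟨fun x y => ?_, fun y => ?_⟩, h1, h2⟩
  · show h d (e.symm x) (e.symm y) = h d x y
    rw [← hA.uni, h1, h1]
  · obtain ⟨c, hc, hcy⟩ := hA.acts (g⁻¹ y)
    refine ⟨c⁻¹, inv_ne_zero hc, ?_⟩
    rw [show g (g⁻¹ y) = y from g.apply_symm_apply y] at hcy
    apply hA.injective
    show A (e.symm (vec y)) = A (c⁻¹ • vec (g⁻¹ y))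
    rw [h1, map_smul, hcy, smul_smul, inv_mul_cancel₀ hc, one_smul]

theorem of_closure {s : Set (Perm (Option (Herm d)))} (hs : ∀ g ∈ s, ∃ A, Lift A g) {g : Perm (Option (Herm d))}
    (hg : g ∈ Subgroup.closure s) : ∃ A, Lift A g := by
  induction hg using Subgroup.closure_induction with
  | mem x hx => exact hs x hx
  | one => exact ⟨_, one⟩
  | mul x y _ _ hx hy =>
    obtain ⟨A, hA⟩ := hx
    obtain ⟨B, hB⟩ := hy
    exact ⟨_, hA.mul hB⟩
  | inv x _ hx =>
    obtain ⟨A, hA⟩ := hx
    obtain ⟨B, hB, -⟩ := hA.inv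
    exact ⟨B, hB⟩

end Lift

/-- the matrix of a translation -/
def trM (u : Herm d) : (Fin 3 → F) →ₗ[F] (Fin 3 → F) where
  toFun x := ![x 0, u.a * x 0 + x 1, u.b * x 0 - d.σ u.a * x 1 + x 2]
  map_add' x y := by
    funext i
    fin_cases i <;> simp <;> ring
  map_smul' c x := by
    funext i
    fin_cases i <;> simp <;> ring

theorem trM_apply (u : Herm d) (x : Fin 3 → F) :
    trM u x = ![x 0, u.a * x 0 + x 1, u.b * x 0 - d.σ u.a * x 1 + x 2] := rfl

theorem lift_tr (u : Herm d) : Lift (trM u) (tr u) := by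
  refine ⟨fun x y => ?_, fun y => ?_⟩
  · have h1 := u.rel
    simp only [h, trM_apply, Matrix.cons_val_zero, Matrix.cons_val_one, Matrix.cons_val, map_add, map_sub, map_mul,
      d.inv]
    linear_combination (x 0 * d.σ (y 0)) * h1
  · refine ⟨1, one_ne_zero, ?_⟩
    rw [one_smul]
    rcases y with _ | v
    · rw [tr_none, vec_none, trM_apply]
      funext i
      fin_cases i <;> simp
    · rw [tr_some, vec_some, vec_some, trM_apply]
      funext i
      fin_cases i
      · simp
      · simp
      · simp only [Herm.mul_b, Matrix.cons_val_zero, Matrix.cons_val_one, Matrix.cons_val, Fin.reduceFinMk]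
        ring

/-- the matrix of `ni` -/
def niM (F : Type*) [Field F] : (Fin 3 → F) →ₗ[F] (Fin 3 → F) where
  toFun x := ![x 2, -x 1, x 0]
  map_add' x y := by
    funext i
    fin_cases i <;> simp; ring
  map_smul' c x := by
    funext i
    fin_cases i <;> simp

theorem niM_apply (x : Fin 3 → F) : niM F x = ![x 2, -x 1, x 0] := rfl

theorem lift_ni : Lift (niM F) (ni : Perm (Option (Herm d))) := by
  refine ⟨fun x y => ?_, fun y => ?_⟩
  · simp only [h, niM_apply, Matrix.cons_val_zero, Matrix.cons_val_one, Matrix.cons_val, map_neg]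
    ring
  · rcases y with _ | v
    · refine ⟨1, one_ne_zero, ?_⟩
      rw [ni_none, vec_none, vec_one, niM_apply]
      funext i
      fin_cases i <;> simp
    · by_cases hv : v.b = 0
      · refine ⟨1, one_ne_zero, ?_⟩
        rw [Herm.eq_one_of_b hv, ni_one, vec_none, vec_one, niM_apply]
        funext i
        fin_cases i <;> simp
      · refine ⟨v.b, hv, ?_⟩
        rw [ni_some hv, vec_some, vec_some, niM_apply]
        funext i
        fin_cases i
        · simp
        · show -v.a = v.b * (-v.a / v.b)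
          field_simp
        · show (1 : F) = v.b * (v.b)⁻¹
          field_simp

/-! ### Reflections -/

/-- The reflection with centre `u`. -/
def refl (d : Dat F) (u : Fin 3 → F) : (Fin 3 → F) →ₗ[F] (Fin 3 → F) where
  toFun x := x - (2 * h d x u / h d u u) • u
  map_add' x y := by
    rw [h_add_left]
    funext i
    simp only [Pi.sub_apply, Pi.add_apply, Pi.smul_apply, smul_eq_mul]
    ring
  map_smul' c x := by
    rw [h_smul_left]
    funext i
    simp only [Pi.sub_apply, Pi.smul_apply, smul_eq_mul, RingHom.id_apply]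
    ring

theorem refl_apply (u x : Fin 3 → F) : refl d u x = x - (2 * h d x u / h d u u) • u := rfl

theorem refl_uni {u : Fin 3 → F} (hu : h d u u ≠ 0) (x y : Fin 3 → F) :
    h d (refl d u x) (refl d u y) = h d x y := by
  have h1 : d.σ (h d u u) = h d u u := h_swap u u
  have h2 : d.σ (h d y u) = h d u y := h_swap y u
  rw [refl_apply, refl_apply, h_sub_left, h_sub_right, h_smul_left, h_sub_right, h_smul_right, h_smul_right,
    map_div₀, map_mul, map_ofNat, h1, h2]
  field_simp
  ring

theorem refl_self {u : Fin 3 → F} (hu : h d u u ≠ 0) : refl d u u = -u := by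
  rw [refl_apply]
  have h1 : 2 * h d u u / h d u u = 2 := by field_simp
  rw [h1, two_smul]
  abel

theorem refl_of_perp {u x : Fin 3 → F} (hx : h d x u = 0) : refl d u x = x := by
  rw [refl_apply, hx, mul_zero, zero_div, zero_smul, sub_zero]

theorem refl_refl {u : Fin 3 → F} (hu : h d u u ≠ 0) (x : Fin 3 → F) : refl d u (refl d u x) = x := by
  rw [refl_apply u x, map_sub, map_smul, refl_self hu, refl_apply]
  module

theorem refl_smul {u : Fin 3 → F} {c : F} (hc : c ≠ 0) (x : Fin 3 → F) : refl d (c • u) x = refl d u x := by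
  have hc' : d.σ c ≠ 0 := fun h3 => hc ((map_eq_zero d.σ).1 h3)
  rw [refl_apply, refl_apply, h_smul_right, h_smul_left, h_smul_right, smul_smul]
  congr 2
  by_cases hu : h d u u = 0
  · rw [hu]; simp
  · field_simp

/-- conjugating a reflection -/
theorem map_refl {A : (Fin 3 → F) →ₗ[F] (Fin 3 → F)} (hA : ∀ x y, h d (A x) (A y) = h d x y) (u x : Fin 3 → F) :
    A (refl d u x) = refl d (A u) (A x) := by
  rw [refl_apply, refl_apply, map_sub, map_smul, hA, hA]

/-- `g` is induced by the reflection with centre `u`. -/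
structure Pole (g : Perm (Option (Herm d))) (u : Fin 3 → F) : Prop where
  ne : h d u u ≠ 0
  acts : ∀ y, ∃ c : F, c ≠ 0 ∧ refl d u (vec y) = c • vec (g y)

namespace Pole

variable {g g' : Perm (Option (Herm d))} {u u' : Fin 3 → F}

theorem ne_zero (p : Pole g u) : u ≠ 0 := by
  rintro rfl
  exact p.ne (h_zero_left _)

theorem eq (p : Pole g u) (p' : Pole g' u) : g = g' := by
  apply Equiv.ext
  intro y
  obtain ⟨c, hc, e⟩ := p.acts y
  obtain ⟨c', hc', e'⟩ := p'.acts y
  exact smul_vec_inj hc (e.symm.trans e')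

theorem smul (p : Pole g u) {c : F} (hc : c ≠ 0) : Pole g (c • u) := by
  have hc' : d.σ c ≠ 0 := fun h3 => hc ((map_eq_zero d.σ).1 h3)
  refine ⟨?_, fun y => ?_⟩
  · rw [h_smul_left, h_smul_right]
    exact mul_ne_zero hc (mul_ne_zero hc' p.ne)
  · obtain ⟨c', hc', e⟩ := p.acts y
    exact ⟨c', hc', by rw [refl_smul hc, e]⟩

theorem mul_self (p : Pole g u) : g * g = 1 := by
  apply Equiv.ext
  intro y
  obtain ⟨c, hc, e⟩ := p.acts y
  obtain ⟨c', hc', e'⟩ := p.acts (g y)
  have h1 := refl_refl p.ne (vec y)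
  rw [e, map_smul, e', smul_smul] at h1
  exact smul_vec_inj (mul_ne_zero hc hc') (h1.trans (one_smul F _).symm)

theorem fix_iff (p : Pole g u) {y : Option (Herm d)} : g y = y ↔ h d (vec y) u = 0 := by
  obtain ⟨c, hc, e⟩ := p.acts y
  constructor
  · intro hy
    rw [hy] at e
    by_contra hne
    rw [refl_apply] at e
    have h1 : (2 * h d (vec y) u / h d u u) • u = (1 - c) • vec y := by
      rw [sub_smul, one_smul, ← e]; abel
    have h2 : 2 * h d (vec y) u / h d u u ≠ 0 := div_ne_zero (mul_ne_zero d.two hne) p.ne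
    have h3 : h d ((2 * h d (vec y) u / h d u u) • u) ((2 * h d (vec y) u / h d u u) • u) = 0 := by
      rw [h1, h_smul_left, h_smul_right, vec_iso, mul_zero, mul_zero]
    rw [h_smul_left, h_smul_right] at h3
    have h4 : d.σ (2 * h d (vec y) u / h d u u) ≠ 0 := fun h3 => h2 ((map_eq_zero d.σ).1 h3)
    exact mul_ne_zero h2 (mul_ne_zero h4 p.ne) h3
  · intro hy
    rw [refl_of_perp hy] at e
    exact (smul_vec_inj (c := 1) one_ne_zero ((one_smul F _).trans e)).symm

theorem ne_one [Finite F] (p : Pole g u) : g ≠ 1 := by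
  rintro rfl
  apply p.ne_zero
  have h1 : ∀ y : Option (Herm d), h d (vec y) u = 0 := fun y => p.fix_iff.1 rfl
  have h2 := h1 none
  have h3 := h1 (some 1)
  obtain ⟨c, hc⟩ : ∃ c : F, d.σ c ≠ c := by
    by_contra hcon
    push Not at hcon
    exact d.ne (RingHom.ext hcon)
  -- a point with nonzero first coordinate
  have h4 := h1 (some (Herm.mk 1 (-(1 / 2)) (by
    have h2 : (2 : F) ≠ 0 := d.two
    rw [map_neg, map_div₀, map_ofNat, map_one]; field_simp; norm_num)))
  simp [h, vec_none] at h2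
  simp [h, vec_one] at h3
  simp [h, vec_some, h2, h3] at h4
  funext i
  fin_cases i
  · exact h2
  · exact h4
  · exact h3

/-- the poles of a reflection are proportional -/
theorem par [Finite F] (p : Pole g u) (p' : Pole g u') : ∃ c : F, u' = c • u := by
  obtain ⟨y, y', hne, hy, hy'⟩ := exists_two p.ne
  have h1 : h d (vec y) u' = 0 := p'.fix_iff.1 (p.fix_iff.2 hy)
  have h2 : h d (vec y') u' = 0 := p'.fix_iff.1 (p.fix_iff.2 hy')
  refine par_of_perp (x := vec y) (y := vec y') (vec_ne_zero y) ?_ p.ne_zero (h_comm_zero hy) (h_comm_zero hy')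
    (h_comm_zero h1) (h_comm_zero h2)
  intro c hc
  exact hne (vec_inj hc).symm

theorem conj (p : Pole g u) {k : Perm (Option (Herm d))} {A : (Fin 3 → F) →ₗ[F] (Fin 3 → F)} (hA : Lift A k) :
    Pole (k * g * k⁻¹) (A u) := by
  refine ⟨by rw [hA.uni]; exact p.ne, fun y => ?_⟩
  obtain ⟨c, hc, e⟩ := hA.acts (k⁻¹ y)
  obtain ⟨c', hc', e'⟩ := p.acts (k⁻¹ y)
  obtain ⟨c'', hc'', e''⟩ := hA.acts (g (k⁻¹ y))
  rw [show k (k⁻¹ y) = y from k.apply_symm_apply y] at e
  refine ⟨c⁻¹ * (c' * c''), mul_ne_zero (inv_ne_zero hc) (mul_ne_zero hc' hc''), ?_⟩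
  have h1 : vec y = c⁻¹ • A (vec (k⁻¹ y)) := by rw [e, smul_smul, inv_mul_cancel₀ hc, one_smul]
  rw [h1, map_smul, ← map_refl hA.uni, e', map_smul, e'']
  rw [smul_smul, smul_smul, mul_assoc]
  rfl

/-- A pole acts as a lift of its permutation. -/
theorem lift (p : Pole g u) : Lift (refl d u) g := ⟨refl_uni p.ne, p.acts⟩

theorem comm_iff [Finite F] (p : Pole g u) (p' : Pole g' u') (hgg : g ≠ g') : g * g' = g' * g ↔ h d u u' = 0 := by
  constructor
  · intro hc
    have h1 := p'.conj p.lift
    have h2 : g * g' * g⁻¹ = g' := by rw [hc]; group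
    rw [h2] at h1
    obtain ⟨c, hc⟩ := p'.par h1
    rw [refl_apply] at hc
    by_contra hne
    have hne' : h d u' u ≠ 0 := fun h3 => hne (h_comm_zero h3)
    have h3 : 2 * h d u' u / h d u u ≠ 0 := div_ne_zero (mul_ne_zero d.two hne') p.ne
    have h4 : (2 * h d u' u / h d u u) • u = (1 - c) • u' := by
      rw [sub_smul, one_smul, ← hc]; abel
    apply hgg
    have h5 : u = ((2 * h d u' u / h d u u)⁻¹ * (1 - c)) • u' := by
      rw [mul_smul, ← h4, smul_smul, inv_mul_cancel₀ h3, one_smul]
    have h6 : (2 * h d u' u / h d u u)⁻¹ * (1 - c) ≠ 0 := by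
      intro h7
      rw [h7, zero_smul] at h5
      exact p.ne_zero h5
    have h7 := p'.smul h6
    rw [← h5] at h7
    exact p.eq h7
  · intro hu
    have h1 := p'.conj p.lift
    rw [refl_of_perp (h_comm_zero hu)] at h1
    have h2 := h1.eq p'
    exact mul_inv_eq_iff_eq_mul.1 h2

end Pole

end Cfsg.Agent.FixBN.UHerm
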