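import Cfsg.Agent.FixBN.ULift

/-!
# Rank one unitary groups: no fixed point free involution

`Big L`: the group `L` of permutations of the isotropic points contains the root groups at `∞` and `0`, and its elements
are induced by unitary maps. `Big.exists_fixed`: every permutation `th` with `th * th = 1` normalising `L` has a fixed
point. `goodFam_of`: `GoodFam` for every family of root groups containing the two root groups.
-/

set_option autoImplicit false

namespace Cfsg.Agent.FixBN.UHerm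

open Equiv

variable {F : Type*} [Field F] {d : Dat F}

/-- a nonzero skew element -/
theorem exists_skew (d : Dat F) : ∃ c : F, c ≠ 0 ∧ c + d.σ c = 0 := by
  obtain ⟨x, hx⟩ : ∃ x : F, d.σ x ≠ x := by
    by_contra hcon
    push Not at hcon
    exact d.ne (RingHom.ext hcon)
  refine ⟨x - d.σ x, sub_ne_zero.2 (Ne.symm hx), ?_⟩
  rw [map_sub, d.inv]
  ring

/-- The group contains the two opposite root groups and acts by unitary maps. -/
structure Big (L : Subgroup (Perm (Option (Herm d)))) : Prop where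
  tr : ∀ u : Herm d, tr u ∈ L
  opp : ∀ u : Herm d, ni * UHerm.tr u * ni⁻¹ ∈ L
  lift : ∀ g ∈ L, ∃ A, Lift A g

variable {L : Subgroup (Perm (Option (Herm d)))}

namespace Big

theorem exists_none (hL : Big L) (y : Option (Herm d)) : ∃ k ∈ L, k y = none := by
  rcases y with _ | u
  · exact ⟨1, one_mem _, rfl⟩
  · obtain ⟨c, hc0, hc⟩ := exists_skew d
    set w : Herm d := Herm.cen c hc with hw
    have hwb : w.b ≠ 0 := hc0
    have h1 : (ni * UHerm.tr w * ni⁻¹ : Perm (Option (Herm d))) none = some (flip w hwb) := by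
      rw [inv_ni]
      show ni (UHerm.tr w (ni none)) = _
      rw [ni_none, tr_some, mul_one, ni_some hwb]
    refine ⟨(ni * UHerm.tr w * ni⁻¹)⁻¹ * UHerm.tr (flip w hwb * u⁻¹),
      mul_mem (inv_mem (hL.opp w)) (hL.tr _), ?_⟩
    show (ni * UHerm.tr w * ni⁻¹ : Perm (Option (Herm d)))⁻¹ (UHerm.tr (flip w hwb * u⁻¹) (some u)) = none
    rw [tr_some, inv_mul_cancel_right, ← h1]
    exact (ni * UHerm.tr w * ni⁻¹ : Perm (Option (Herm d))).symm_apply_apply _

theorem exists_two_trans (hL : Big L) {y y' : Option (Herm d)} (hy : y ≠ y') :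
    ∃ k ∈ L, k y = none ∧ k y' = some 1 := by
  obtain ⟨k, hk, hky⟩ := hL.exists_none y
  have h1 : k y' ≠ none := fun h2 => hy (k.injective (hky.trans h2.symm))
  obtain ⟨v, hv⟩ := Option.ne_none_iff_exists'.1 h1
  refine ⟨UHerm.tr v⁻¹ * k, mul_mem (hL.tr _) hk, ?_, ?_⟩
  · show UHerm.tr v⁻¹ (k y) = none
    rw [hky, tr_none]
  · show UHerm.tr v⁻¹ (k y') = some 1
    rw [hv, tr_some, inv_mul_cancel]

/-- the base reflection -/
theorem base (hL : Big L) : ∃ g ∈ L, Pole g ![0, 1, 0] := by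
  obtain ⟨c, hc0, hc⟩ := exists_skew d
  have hσc : d.σ c = -c := by linear_combination hc
  have hc' : -c⁻¹ + d.σ (-c⁻¹) = 0 := by
    rw [map_neg, map_inv₀, hσc]
    field_simp
    ring
  set w : Perm (Option (Herm d)) := UHerm.tr (Herm.cen c hc) * (ni * UHerm.tr (Herm.cen (-c⁻¹) hc') * ni⁻¹) *
    UHerm.tr (Herm.cen c hc) with hw
  have hwL : w ∈ L := mul_mem (mul_mem (hL.tr _) (hL.opp _)) (hL.tr _)
  have hlift := ((lift_tr (Herm.cen c hc)).mul ((lift_ni (d := d)).mul ((lift_tr (Herm.cen (-c⁻¹) hc')).mul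
    (lift_ni (d := d))))).mul (lift_tr (Herm.cen c hc))
  have hwe : UHerm.tr (Herm.cen c hc) * (ni * (UHerm.tr (Herm.cen (-c⁻¹) hc') * ni)) * UHerm.tr (Herm.cen c hc) = w := by
    rw [hw, inv_ni, mul_assoc ni]
  rw [hwe] at hlift
  have hW : ∀ x : Fin 3 → F, ((trM (Herm.cen c hc) ∘ₗ (niM F ∘ₗ (trM (Herm.cen (-c⁻¹) hc') ∘ₗ niM F))) ∘ₗ
      trM (Herm.cen c hc)) x = ![-(c⁻¹ * x 2), x 1, c * x 0] := by
    intro x
    simp only [LinearMap.comp_apply, trM_apply, niM_apply, Herm.cen_a, Herm.cen_b, Matrix.cons_val_zero,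
      Matrix.cons_val_one, Matrix.cons_val, map_zero]
    funext i
    fin_cases i
    · simp only [Fin.zero_eta, Matrix.cons_val_zero]; field_simp; ring
    · simp
    · simp only [Fin.reduceFinMk, Matrix.cons_val]; field_simp; ring
  set W := (trM (Herm.cen c hc) ∘ₗ (niM F ∘ₗ (trM (Herm.cen (-c⁻¹) hc') ∘ₗ niM F))) ∘ₗ trM (Herm.cen c hc)
  have h2 := hlift.mul hlift
  refine ⟨w * w, mul_mem hwL hwL, ?_, fun y => ?_⟩
  · simp [h]
  · obtain ⟨c1, hc1, e⟩ := h2.acts y
    refine ⟨-c1, neg_ne_zero.2 hc1, ?_⟩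
    have h3 : refl d ![0, 1, 0] (vec y) = -(W ∘ₗ W) (vec y) := by
      rw [LinearMap.comp_apply, hW, hW, refl_apply]
      funext i
      fin_cases i
      · simp [h]; field_simp
      · simp [h]; ring
      · simp [h]; field_simp
    rw [h3, e, neg_smul]

theorem par_base {A : (Fin 3 → F) →ₗ[F] (Fin 3 → F)} {k : Perm (Option (Herm d))} (hA : Lift A k)
    {y y' : Option (Herm d)} (hy : k y = none) (hy' : k y' = some 1) {u : Fin 3 → F} (hu : h d (vec y) u = 0)
    (hu' : h d (vec y') u = 0) : A u = (A u 1) • ![0, 1, 0] := by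
  obtain ⟨c, hc, e⟩ := hA.acts y
  obtain ⟨c', hc', e'⟩ := hA.acts y'
  rw [hy] at e
  rw [hy'] at e'
  have h1 : h d (vec (none : Option (Herm d))) (A u) = 0 := by
    have h2 := hA.uni (vec y) u
    rw [hu, e, h_smul_left] at h2
    exact (mul_eq_zero.1 h2).resolve_left hc
  have h2 : h d (vec (some (1 : Herm d))) (A u) = 0 := by
    have h2 := hA.uni (vec y') u
    rw [hu', e', h_smul_left] at h2
    exact (mul_eq_zero.1 h2).resolve_left hc'
  simp [h, vec_none] at h1
  simp [h, vec_one] at h2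
  funext i
  fin_cases i
  · simp [h1]
  · simp
  · simp [h2]

/-- every vector which is not isotropic is the pole of an element of `L` -/
theorem exists_pole [Finite F] (hL : Big L) {u : Fin 3 → F} (hu : h d u u ≠ 0) : ∃ g ∈ L, Pole g u := by
  obtain ⟨y, y', hne, hy, hy'⟩ := exists_two hu
  obtain ⟨k, hk, hky, hky'⟩ := hL.exists_two_trans hne
  obtain ⟨A, hA⟩ := hL.lift k hk
  obtain ⟨B, hB, hAB, hBA⟩ := hA.inv
  obtain ⟨g, hg, hp⟩ := hL.base
  have h1 := par_base hA hky hky' hy hy'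
  have h2 : A u 1 ≠ 0 := by
    intro h3
    rw [h3, zero_smul] at h1
    apply hu
    rw [← hA.uni, h1, h_zero_left]
  have h3 : (A u 1) • B ![0, 1, 0] = u := by
    rw [← map_smul, ← h1, hBA]
  have h4 := (hp.conj hB).smul h2
  rw [h3] at h4
  exact ⟨_, mul_mem (mul_mem (inv_mem hk) hg) (inv_mem (inv_mem hk)), h4⟩

/-- every involution of `L` is a reflection -/
theorem pole_of_mem (hL : Big L) {g : Perm (Option (Herm d))} (hg : g ∈ L) (h2 : g * g = 1) (h1 : g ≠ 1) :
    ∃ u, Pole g u := by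
  obtain ⟨y, hy⟩ : ∃ y, g y ≠ y := by
    by_contra hcon
    push Not at hcon
    exact h1 (Equiv.ext hcon)
  obtain ⟨k, hk, hky, hky'⟩ := hL.exists_two_trans (Ne.symm hy)
  have hggy : g (g y) = y := congrArg (fun x : Perm (Option (Herm d)) => x y) h2
  set g' := k * g * k⁻¹ with hg'
  have hk1 : k⁻¹ none = y := by rw [← hky]; exact k.symm_apply_apply y
  have hk2 : k⁻¹ (some 1) = g y := by rw [← hky']; exact k.symm_apply_apply _
  have e1 : g' none = some 1 := by
    show k (g (k⁻¹ none)) = some 1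
    rw [hk1, hky']
  have e2 : g' (some 1) = none := by
    show k (g (k⁻¹ (some 1))) = none
    rw [hk2, hggy, hky]
  have hg'L : g' ∈ L := mul_mem (mul_mem hk hg) (inv_mem hk)
  have hg'2 : g' * g' = 1 := by
    have h3 : g' * g' = k * (g * g) * k⁻¹ := by rw [hg']; group
    rw [h3, h2]; group
  obtain ⟨A, hA⟩ := hL.lift g' hg'L
  obtain ⟨γ, hγ, eγ⟩ := hA.acts none
  obtain ⟨β, hβ, eβ⟩ := hA.acts (some 1)
  rw [e1, vec_none, vec_one] at eγ
  rw [e2, vec_none, vec_one] at eβ
  -- the image of the middle vector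
  set m := A ![0, 1, 0] with hm
  have hm0 : m 0 = 0 := by
    have h3 := hA.uni ![0, 1, 0] ![1, 0, 0]
    rw [eβ, ← hm, h_smul_right] at h3
    simp [h, hβ] at h3
    exact h3
  have hm2 : m 2 = 0 := by
    have h3 := hA.uni ![0, 1, 0] ![0, 0, 1]
    rw [eγ, ← hm, h_smul_right] at h3
    simp [h, hγ] at h3
    exact h3
  set δ := m 1 with hδ
  have hmd : m = δ • ![0, 1, 0] := by
    funext i
    fin_cases i
    · simp [hm0]
    · simp [hδ]
    · simp [hm2]
  have hAx : ∀ x : Fin 3 → F, A x = ![x 2 * γ, x 1 * δ, x 0 * β] := by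
    intro x
    have hx : x = x 0 • ![1, 0, 0] + x 1 • ![0, 1, 0] + x 2 • ![0, 0, 1] := by
      funext i
      fin_cases i <;> simp
    conv_lhs => rw [hx]
    rw [map_add, map_add, map_smul, map_smul, map_smul, eβ, eγ, ← hm, hmd]
    funext i
    fin_cases i <;> simp
  have hδδ : δ * d.σ δ = 1 := by
    have h3 := hA.uni ![0, 1, 0] ![0, 1, 0]
    rw [hAx] at h3
    simp [h] at h3
    exact h3
  have hβγ : β * d.σ γ = 1 := by
    have h3 := hA.uni ![1, 0, 0] ![0, 0, 1]
    rw [hAx, hAx] at h3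
    simp [h] at h3
    exact h3
  have hγβ : γ * d.σ β = 1 := by
    have h3 := congrArg d.σ hβγ
    rw [map_mul, d.inv, map_one] at h3
    linear_combination h3
  have hδ0 : δ ≠ 0 := by
    intro h3
    rw [h3, zero_mul] at hδδ
    exact zero_ne_one hδδ
  have h22 : (2 : F) ≠ 0 := d.two
  have hsq : β * γ = δ * δ := by
    obtain ⟨c, hc, e⟩ := (hA.mul hA).acts (some (Herm.mk 1 (-(1 / 2)) (by
      rw [map_neg, map_div₀, map_ofNat, map_one]; field_simp; norm_num)))
    rw [hg'2] at e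
    have e' : A (A (vec (some (Herm.mk 1 (-(1 / 2)) (by
      rw [map_neg, map_div₀, map_ofNat, map_one]; field_simp; norm_num))))) = c • vec (some (Herm.mk 1 (-(1 / 2)) (by
      rw [map_neg, map_div₀, map_ofNat, map_one]; field_simp; norm_num : (-(1 / 2) : F) + d.σ (-(1 / 2)) + 1 * d.σ 1 = 0))) := e
    rw [hAx, hAx] at e'
    have h3 := congrFun e' 0
    have h4 := congrFun e' 1
    simp [vec_some] at h3 h4
    rw [h3, h4]
  have hσβ : d.σ β = γ⁻¹ := eq_inv_of_mul_eq_one_right hγβ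
  have hσδ : d.σ δ = δ⁻¹ := eq_inv_of_mul_eq_one_right hδδ
  have hb : d.σ (β / δ) = β / δ := by
    rw [map_div₀, hσβ, hσδ]
    field_simp
    linear_combination -hsq
  have hb0 : β / δ ≠ 0 := div_ne_zero hβ hδ0
  have hhu : h d ![1, 0, -(β / δ)] ![1, 0, -(β / δ)] = -2 * (β / δ) := by
    simp only [h, Matrix.cons_val_zero, Matrix.cons_val_one, Matrix.cons_val, map_neg, map_one, map_zero, hb]
    ring
  have hpole : Pole g' ![1, 0, -(β / δ)] := by
    refine ⟨?_, fun z => ?_⟩
    · rw [hhu]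
      exact mul_ne_zero (neg_ne_zero.2 h22) hb0
    · obtain ⟨c, hc, e⟩ := hA.acts z
      refine ⟨δ⁻¹ * c, mul_ne_zero (inv_ne_zero hδ0) hc, ?_⟩
      rw [mul_smul, ← e, hAx, refl_apply, hhu]
      have hhz : h d (vec z) ![1, 0, -(β / δ)] = vec z 2 - vec z 0 * (β / δ) := by
        simp only [h, Matrix.cons_val_zero, Matrix.cons_val_one, Matrix.cons_val, map_neg, map_one, map_zero, hb]
        ring
      rw [hhz]
      funext i
      fin_cases i
      · simp only [Fin.zero_eta, Pi.sub_apply, Pi.smul_apply, smul_eq_mul, Matrix.cons_val_zero]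
        field_simp
        linear_combination (-vec z 2) * hsq
      · simp only [Fin.mk_one, Pi.sub_apply, Pi.smul_apply, smul_eq_mul, Matrix.cons_val_one, Matrix.cons_val_zero]
        field_simp
        ring
      · simp only [Fin.reduceFinMk, Pi.sub_apply, Pi.smul_apply, smul_eq_mul, Matrix.cons_val]
        field_simp
        ring
  obtain ⟨K, hK⟩ := hL.lift k hk
  obtain ⟨K', hK', -, -⟩ := hK.inv
  refine ⟨K' ![1, 0, -(β / δ)], ?_⟩
  have h3 := hpole.conj hK'
  have h4 : k⁻¹ * g' * k⁻¹⁻¹ = g := by rw [hg']; group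
  rwa [h4] at h3

end Big

/-! ### Counting -/

/-- the skew elements -/
def Skew (d : Dat F) : Type _ := {c : F // c + d.σ c = 0}

theorem one_lt_card_skew [Finite F] (d : Dat F) : 1 < Nat.card (Skew d) := by
  obtain ⟨c, hc0, hc⟩ := exists_skew d
  have : Finite (Skew d) := Subtype.finite
  rw [Finite.one_lt_card_iff_nontrivial]
  exact ⟨⟨⟨0, by simp⟩, ⟨c, hc⟩, fun h1 => hc0 (congrArg Subtype.val h1).symm⟩⟩

/-- `F` is the product of two copies of the skew elements. -/
theorem card_field (d : Dat F) : Nat.card F = Nat.card (Skew d) ^ 2 := by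
  obtain ⟨c, hc0, hc⟩ := exists_skew d
  have hσc : d.σ c = -c := by linear_combination hc
  have h22 : (2 : F) ≠ 0 := d.two
  have e : F ≃ Skew d × Skew d := by
    refine ⟨fun x => (⟨(x - d.σ x) / 2, ?_⟩, ⟨c * ((x + d.σ x) / 2), ?_⟩), fun p => p.1.1 + p.2.1 / c, ?_, ?_⟩
    · rw [map_div₀, map_sub, d.inv, map_ofNat]; ring
    · rw [map_mul, map_div₀, map_add, d.inv, map_ofNat, hσc]; ring
    · intro x
      show (x - d.σ x) / 2 + c * ((x + d.σ x) / 2) / c = x
      field_simp
      ring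
    · rintro ⟨⟨s, hs⟩, ⟨t, ht⟩⟩
      have hs' : d.σ s = -s := by linear_combination hs
      have ht' : d.σ t = -t := by linear_combination ht
      have h1 : d.σ (s + t / c) = -s + t / c := by
        rw [map_add, map_div₀, hs', ht', hσc]
        field_simp
      refine Prod.ext (Subtype.ext ?_) (Subtype.ext ?_)
      · show (s + t / c - d.σ (s + t / c)) / 2 = s
        rw [h1]
        field_simp
        ring
      · show c * ((s + t / c + d.σ (s + t / c)) / 2) = t
        rw [h1]
        field_simp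
        ring
  rw [Nat.card_congr e, Nat.card_prod, sq]

theorem card_herm (d : Dat F) : Nat.card (Herm d) = Nat.card (Skew d) ^ 3 := by
  have h22 : (2 : F) ≠ 0 := d.two
  have e : Herm d ≃ F × Skew d := by
    refine ⟨fun u => (u.a, ⟨u.b + u.a * d.σ u.a / 2, ?_⟩), fun p => Herm.mk p.1 (p.2.1 - p.1 * d.σ p.1 / 2) ?_, ?_, ?_⟩
    · have := u.rel
      rw [map_add, map_div₀, map_mul, d.inv, map_ofNat]
      field_simp
      linear_combination 2 * this
    · have := p.2.2
      rw [map_sub, map_div₀, map_mul, d.inv, map_ofNat]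
      field_simp
      linear_combination 2 * this
    · intro u
      ext
      · rfl
      · show u.b + u.a * d.σ u.a / 2 - u.a * d.σ u.a / 2 = u.b
        ring
    · rintro ⟨x, ⟨c, hc⟩⟩
      refine Prod.ext rfl (Subtype.ext ?_)
      show c - x * d.σ x / 2 + x * d.σ x / 2 = c
      ring
  rw [Nat.card_congr e, Nat.card_prod, card_field d]
  ring

theorem finite_herm [Finite F] : Finite (Herm d) := Subtype.finite

theorem card_fix_base : Nat.card {y : Option (Herm d) // vec y 1 = 0} = Nat.card (Option (Skew d)) := by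
  apply Nat.card_congr
  refine ⟨fun y => match y with
    | ⟨none, _⟩ => none
    | ⟨some u, hu⟩ => some ⟨u.b, ?_⟩, fun o => match o with
    | none => ⟨none, ?_⟩
    | some c => ⟨some (Herm.cen c.1 c.2), ?_⟩, ?_, ?_⟩
  · have h1 : u.a = 0 := hu
    have h2 := u.rel
    rwa [h1, zero_mul, add_zero] at h2
  · simp [vec_none]
  · rfl
  · rintro ⟨_ | u, hu⟩
    · rfl
    · have h1 : u.a = 0 := hu
      apply Subtype.ext
      show some (Herm.cen u.b _) = some u
      congr 1
      ext
      · exact h1.symm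
      · rfl
  · rintro (_ | c)
    · rfl
    · rfl

/-- the involutions of `L` -/
def invs (L : Subgroup (Perm (Option (Herm d)))) : Set (Perm (Option (Herm d))) := {g | g ∈ L ∧ g * g = 1 ∧ g ≠ 1}

/-- The involutions of `L` form a unital. -/
theorem Big.unital [Finite F] (hL : Big L) : UCount.Unital (invs L) (Nat.card (Skew d)) := by
  have hfin : Finite (Herm d) := finite_herm
  have hpole : ∀ t ∈ invs L, ∃ u, Pole t u := fun t ht => hL.pole_of_mem ht.1 ht.2.1 ht.2.2
  have hmem : ∀ u, h d u u ≠ 0 → ∃ g ∈ invs L, Pole g u := by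
    intro u hu
    obtain ⟨g, hg, hp⟩ := hL.exists_pole hu
    exact ⟨g, ⟨hg, hp.mul_self, hp.ne_one⟩, hp⟩
  have hnpar : ∀ {y y' : Option (Herm d)}, y ≠ y' → ∀ c : F, vec y' ≠ c • vec y := fun hne c hc =>
    hne (vec_inj hc).symm
  have hpp : ∀ {t t' : Perm (Option (Herm d))} {u u' : Fin 3 → F}, Pole t u → Pole t' u' → t ≠ t' →
      ∀ c : F, u' ≠ c • u := by
    intro t t' u u' p p' hne c hc
    have hc0 : c ≠ 0 := by
      rintro rfl
      rw [zero_smul] at hc
      exact p'.ne_zero hc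
    rw [hc] at p'
    exact hne ((p.smul hc0).eq p')
  have heq : ∀ {t t' : Perm (Option (Herm d))} {u u' : Fin 3 → F}, Pole t u → Pole t' u' → (∃ c : F, u' = c • u) →
      t = t' := by
    intro t t' u u' p p' hc
    by_contra hne
    obtain ⟨c, hc⟩ := hc
    exact hpp p p' hne c hc
  refine ⟨one_lt_card_skew d, ?_, ?_, ?_, ?_, ?_, ?_, ?_, ?_⟩
  · rw [Finite.card_option, card_herm]
  · intro t ht
    obtain ⟨u, p⟩ := hpole t ht
    obtain ⟨y, y', hne, hy, hy'⟩ := exists_two p.ne
    obtain ⟨k, hk, hky, hky'⟩ := hL.exists_two_trans hne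
    obtain ⟨A, hA⟩ := hL.lift k hk
    have h1 := Big.par_base hA hky hky' hy hy'
    have h2 : A u 1 ≠ 0 := by
      intro h3
      rw [h3, zero_smul] at h1
      apply p.ne
      rw [← hA.uni, h1, h_zero_left]
    have h3 : Pole (k * t * k⁻¹) ![0, 1, 0] := by
      obtain ⟨m, hm, hm0⟩ : ∃ m : F, A u = m • ![0, 1, 0] ∧ m ≠ 0 := ⟨A u 1, h1, h2⟩
      have h4 := (p.conj hA).smul (inv_ne_zero hm0)
      rwa [hm, smul_smul, inv_mul_cancel₀ hm0, one_smul] at h4
    have e : {z // t z = z} ≃ {z : Option (Herm d) // vec z 1 = 0} := by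
      refine (Equiv.subtypeEquiv k fun z => ?_)
      have h4 : (k * t * k⁻¹) (k z) = k (t z) := by
        show k (t (k⁻¹ (k z))) = k (t z)
        rw [show k⁻¹ (k z) = z from k.symm_apply_apply z]
      have h5 : h d (vec (k z)) ![0, 1, 0] = vec (k z) 1 := by simp [h]
      rw [← h5, ← h3.fix_iff, h4]
      exact ⟨fun h6 => by rw [h6], fun h6 => k.injective h6⟩
    rw [Nat.card_congr e, card_fix_base]
    have : Finite (Skew d) := Subtype.finite
    rw [Finite.card_option]
  · intro y y' hne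
    have hp0 : perp d (vec y) (vec y') ≠ 0 := perp_ne_zero (vec_ne_zero y) (hnpar hne)
    have h1 := h_perp_left (d := d) (vec y) (vec y')
    have h2 := h_perp_right (d := d) (vec y) (vec y')
    have h3 : h d (perp d (vec y) (vec y')) (perp d (vec y) (vec y')) ≠ 0 := by
      intro h4
      obtain ⟨z, c, hc, e⟩ := exists_vec hp0 h4
      rw [e, h_smul_left] at h1 h2
      have h5 : z = y := by
        by_contra h6
        exact h_vec_ne h6 ((mul_eq_zero.1 h1).resolve_left hc)
      have h6 : z = y' := by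
        by_contra h6
        exact h_vec_ne h6 ((mul_eq_zero.1 h2).resolve_left hc)
      exact hne (h5.symm.trans h6)
    obtain ⟨g, hg, hp⟩ := hmem _ h3
    exact ⟨g, hg, hp.fix_iff.2 (h_comm_zero h1), hp.fix_iff.2 (h_comm_zero h2)⟩
  · intro y y' hne t ht t' ht' h1 h2 h3 h4
    obtain ⟨u, p⟩ := hpole t ht
    obtain ⟨u', p'⟩ := hpole t' ht'
    exact heq p p' (par_of_perp (vec_ne_zero y) (hnpar hne) p.ne_zero (h_comm_zero (p.fix_iff.1 h1))
      (h_comm_zero (p.fix_iff.1 h2)) (h_comm_zero (p'.fix_iff.1 h3)) (h_comm_zero (p'.fix_iff.1 h4)))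
  · intro t ht t' ht' hne hno
    obtain ⟨u, p⟩ := hpole t ht
    obtain ⟨u', p'⟩ := hpole t' ht'
    have hp0 : perp d u u' ≠ 0 := perp_ne_zero p.ne_zero (hpp p p' hne)
    have h1 := h_perp_left (d := d) u u'
    have h2 := h_perp_right (d := d) u u'
    have h3 : h d (perp d u u') (perp d u u') ≠ 0 := by
      intro h4
      obtain ⟨z, c, hc, e⟩ := exists_vec hp0 h4
      rw [e, h_smul_left] at h1 h2
      exact hno z (p.fix_iff.2 ((mul_eq_zero.1 h1).resolve_left hc))
        (p'.fix_iff.2 ((mul_eq_zero.1 h2).resolve_left hc))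
    obtain ⟨g, hg, hp⟩ := hmem _ h3
    have hgt : g ≠ t := by
      rintro rfl
      obtain ⟨c, hc⟩ := p.par hp
      rw [hc, h_smul_left] at h1
      rcases mul_eq_zero.1 h1 with h4 | h4
      · rw [h4, zero_smul] at hc
        exact hp0 hc
      · exact p.ne h4
    have hgt' : g ≠ t' := by
      rintro rfl
      obtain ⟨c, hc⟩ := p'.par hp
      rw [hc, h_smul_left] at h2
      rcases mul_eq_zero.1 h2 with h4 | h4
      · rw [h4, zero_smul] at hc
        exact hp0 hc
      · exact p'.ne h4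
    exact ⟨g, hg, hgt, hgt', (hp.comm_iff p hgt).2 h1, (hp.comm_iff p' hgt').2 h2⟩
  · intro t ht t' ht' hne r hr r' hr' h1 h2 h3 h4 c1 c2 c3 c4
    obtain ⟨u, p⟩ := hpole t ht
    obtain ⟨u', p'⟩ := hpole t' ht'
    obtain ⟨v, pv⟩ := hpole r hr
    obtain ⟨v', pv'⟩ := hpole r' hr'
    exact heq pv pv' (par_of_perp p.ne_zero (hpp p p' hne) pv.ne_zero ((pv.comm_iff p h1).1 c1)
      ((pv.comm_iff p' h2).1 c2) ((pv'.comm_iff p h3).1 c3) ((pv'.comm_iff p' h4).1 c4))
  · intro y t ht t' ht' hne hy hy' r hr h1 h2 c1 c2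
    obtain ⟨u, p⟩ := hpole t ht
    obtain ⟨u', p'⟩ := hpole t' ht'
    obtain ⟨v, pv⟩ := hpole r hr
    obtain ⟨c, hc⟩ := par_of_perp p.ne_zero (hpp p p' hne) (vec_ne_zero y) (p.fix_iff.1 hy) (p'.fix_iff.1 hy')
      ((pv.comm_iff p h1).1 c1) ((pv.comm_iff p' h2).1 c2)
    apply pv.ne
    rw [hc, h_smul_left, h_smul_right, vec_iso, mul_zero, mul_zero]
  · intro y t ht t' ht' hne hy hy' hc
    obtain ⟨u, p⟩ := hpole t ht
    obtain ⟨u', p'⟩ := hpole t' ht'
    have h1 : h d u u' = 0 := (p.comm_iff p' hne).1 hc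
    have h2 : ∀ c : F, u ≠ c • vec y := by
      intro c hc
      apply p.ne
      rw [hc, h_smul_left, h_smul_right, vec_iso, mul_zero, mul_zero]
    obtain ⟨c, hc⟩ := par_of_perp (vec_ne_zero y) h2 (vec_ne_zero y) (vec_iso y) (p.fix_iff.1 hy)
      (h_comm_zero (p'.fix_iff.1 hy')) (h_comm_zero h1)
    apply p'.ne
    rw [hc, h_smul_left, h_smul_right, vec_iso, mul_zero, mul_zero]

/-- A permutation `th` with `th * th = 1` normalising `L` has a fixed point. -/
theorem Big.exists_fixed [Finite F] (hL : Big L) {th : Perm (Option (Herm d))}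
    (hth : th ∈ Subgroup.normalizer (L : Set (Perm (Option (Herm d))))) (h2 : th * th = 1) : ∃ y, th y = y := by
  have hfin : Finite (Herm d) := finite_herm
  refine hL.unital.exists_fixed th (fun t ht => ⟨(Subgroup.mem_normalizer_iff.1 hth t).1 ht.1, ?_, ?_⟩) h2
  · have h3 : th * t * th⁻¹ * (th * t * th⁻¹) = th * (t * t) * th⁻¹ := by group
    rw [h3, ht.2.1]; group
  · intro h3
    apply ht.2.2
    have h4 : t = th⁻¹ * (th * t * th⁻¹) * th := by group
    rw [h4, h3]; group

/-- The group generated by the translations and `ni`. -/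
def psu3 (d : Dat F) : Subgroup (Perm (Option (Herm d))) := Subgroup.closure (Set.range (tr (d := d)) ∪ {ni})

theorem big_of_le (h1 : ∀ u : Herm d, tr u ∈ L) (h2 : ∀ u : Herm d, ni * tr u * ni⁻¹ ∈ L) (h3 : L ≤ psu3 d) :
    Big L := by
  refine ⟨h1, h2, fun g hg => Lift.of_closure ?_ (h3 hg)⟩
  rintro _ (⟨u, rfl⟩ | rfl)
  · exact ⟨_, lift_tr u⟩
  · exact ⟨_, lift_ni⟩

theorem big_psu3 (d : Dat F) : Big (psu3 d) :=
  big_of_le (fun u => Subgroup.subset_closure (Or.inl ⟨u, rfl⟩))
    (fun u => mul_mem (mul_mem (Subgroup.subset_closure (Or.inr rfl)) (Subgroup.subset_closure (Or.inl ⟨u, rfl⟩)))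
      (inv_mem (Subgroup.subset_closure (Or.inr rfl)))) le_rfl

/-- Families of root groups: every family whose members generate a group `Big` is good (vacuously). -/
theorem Big.goodFam [Finite F] {U : Option (Herm d) → Subgroup (Perm (Option (Herm d)))} (hU : Big (⨆ y, U y)) :
    GoodFam U := by
  intro th hth h2 hfree
  obtain ⟨y, hy⟩ := hU.exists_fixed (famStab_le_normalizer U hth) h2
  exact absurd hy (hfree y)

/-! ### The family of root groups -/

/-- the element of `psu3 d` mapping `∞` to `y` -/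
noncomputable def toPt : Option (Herm d) → Perm (Option (Herm d))
  | none => 1
  | some u => tr u * ni

theorem toPt_apply (y : Option (Herm d)) : toPt y none = y := by
  rcases y with _ | u
  · rfl
  · show tr u (ni none) = some u
    rw [ni_none, tr_some, mul_one]

/-- The translations. -/
def trGroup (d : Dat F) : Subgroup (Perm (Option (Herm d))) where
  carrier := Set.range (tr (d := d))
  one_mem' := ⟨1, tr_one⟩
  mul_mem' := by
    rintro _ _ ⟨a, rfl⟩ ⟨b, rfl⟩
    exact ⟨a * b, (tr_mul a b).symm⟩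
  inv_mem' := by
    rintro _ ⟨a, rfl⟩
    refine ⟨a⁻¹, ?_⟩
    rw [eq_inv_iff_mul_eq_one, tr_mul, inv_mul_cancel, tr_one]

/-- The root groups of the hermitian curve. -/
noncomputable def hermFam (d : Dat F) (y : Option (Herm d)) : Subgroup (Perm (Option (Herm d))) :=
  (trGroup d).map (MulAut.conj (toPt y)).toMonoidHom

theorem mem_hermFam {y : Option (Herm d)} {g : Perm (Option (Herm d))} :
    g ∈ hermFam d y ↔ ∃ u : Herm d, g = toPt y * tr u * (toPt y)⁻¹ := by
  constructor
  · rintro ⟨_, ⟨a, rfl⟩, rfl⟩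
    exact ⟨a, rfl⟩
  · rintro ⟨a, rfl⟩
    exact ⟨_, ⟨a, rfl⟩, rfl⟩

theorem big_hermFam (d : Dat F) : Big (⨆ y, hermFam d y) := by
  have hp : ∀ y : Option (Herm d), toPt y ∈ psu3 d := by
    intro y
    rcases y with _ | u
    · exact one_mem _
    · exact mul_mem (Subgroup.subset_closure (Or.inl ⟨u, rfl⟩)) (Subgroup.subset_closure (Or.inr rfl))
  refine big_of_le (fun u => le_iSup (hermFam d) none (mem_hermFam.2 ⟨u, ?_⟩))
    (fun u => le_iSup (hermFam d) (some 1) (mem_hermFam.2 ⟨u, ?_⟩)) (iSup_le fun y g hg => ?_)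
  · show tr u = 1 * tr u * 1⁻¹
    simp
  · show ni * tr u * ni⁻¹ = (tr 1 * ni) * tr u * (tr 1 * ni)⁻¹
    rw [tr_one, one_mul]
  · obtain ⟨u, rfl⟩ := mem_hermFam.1 hg
    exact mul_mem (mul_mem (hp y) (Subgroup.subset_closure (Or.inl ⟨u, rfl⟩))) (inv_mem (hp y))

/-- The family of root groups of the hermitian curve is good. -/
theorem goodFam_herm [Finite F] (d : Dat F) : GoodFam (hermFam d) := (big_hermFam d).goodFam

/-- `psu3 d` is good. -/
theorem goodOne_psu3 [Finite F] (d : Dat F) : GoodOne (psu3 d) := by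
  intro th hth h2 hfree
  obtain ⟨y, hy⟩ := (big_psu3 d).exists_fixed hth h2
  exact absurd hy (hfree y)

end Cfsg.Agent.FixBN.UHerm
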