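import Cfsg.Agent.FixBN.GoodSplit
import Cfsg.Agent.FixBN.SplitRGD

/-!
# Good nodes from a root group datum

`fieldNode`, `uNode` : a parametrisation of the simple root group of a root group datum by a field (by a unitary
group) with the rank one relation gives a `FieldNode` (a `UNode`); `goodSplit` : the resulting `GoodSplit`.
-/

set_option autoImplicit false

namespace Cfsg.Agent.FixBN.WittNodeA

open CoxeterSystem Cfsg.Agent.ChevalleyStructure.CoxeterGeom Cfsg.Agent.Tits.Roots Cfsg.Agent.Tits.Core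
  Cfsg.Agent.Tits.RootComb Cfsg.Agent.Nodes.Comb Cfsg.Agent.Nodes.Reps Cfsg.Agent.Nodes.BNOf
  Cfsg.Agent.FixBN.NodeRGD Cfsg.Agent.FixBN.UNode Cfsg.Agent.FixBN.U3Model

variable {I W Y : Type*} [Fintype I] [DecidableEq I] [Group W] [Group Y] {M : CoxeterMatrix I}
  {cs : CoxeterSystem M W} {A : I → I → ℤ} {h : IsCartan M A} {p : ℕ} {T : Subgroup Y} {n : I → Y}
  {X : (I → ℤ) → Subgroup Y}

theorem exists_of_mem_U (R : RGD cs h p T n X) (i : I) {u : Y} (hu : u ∈ RGD.Sup X (RGD.Pos cs h)) :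
    ∃ x ∈ X (sr i), x⁻¹ * u ∈ RGD.Sup X (RGD.PosNe cs h i) := by
  rw [R.Upos_eq i] at hu
  have h1 : u ∈ ((X (sr i) ⊔ RGD.Sup X (RGD.PosNe cs h i) : Subgroup Y) : Set Y) := hu
  rw [Subgroup.coe_mul_of_left_le_normalizer_right _ _ (R.X_le_normalizer_V i), Set.mem_mul] at h1
  obtain ⟨x, hx, v, hv, rfl⟩ := h1
  exact ⟨x, hx, by rwa [inv_mul_cancel_left]⟩

theorem eq_one_of_mem_V [Finite W] (R : RGD cs h p T n X) (i : I) {x : Y} (hx : x ∈ X (sr i))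
    (hv : x ∈ RGD.Sup X (RGD.PosNe cs h i)) : x = 1 := by
  have h1 : (n i)⁻¹ * x * n i ∈ X (-sr i) := by
    have := R.conj_mem' (rp_simple cs R.nsys i) (isRoot_sr cs h i) hx
    rwa [inv_simple, rep_simple_sr] at this
  have h2 : (n i)⁻¹ * x * n i ∈ RGD.B cs h T X :=
    RGD.U_le_B (RGD.Sup_mono (S := RGD.PosNe cs h i) (S' := RGD.Pos cs h) (fun z hz => ⟨hz.1, hz.2.1⟩)
      (conj_V_mem R i hv))
  have h4 : (n i)⁻¹ * x * n i = 1 := by
    by_contra hne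
    exact not_mem_B_of_neg R i h1 hne h2
  have : x = n i * ((n i)⁻¹ * x * n i) * (n i)⁻¹ := by group
  rw [this, h4]; group

/-- A field parametrisation of a simple root group gives a `FieldNode`. -/
def fieldNode [Finite W] (R : RGD cs h p T n X) (hgen : RGD.B cs h T X ⊔ NN cs R.nsys = ⊤) (i : I) {F : Type*}
    [Field F] (x : F → Y) (add : ∀ a b, x (a + b) = x a * x b) (mem : ∀ a, x a ∈ X (sr i))
    (onto : ∀ u ∈ X (sr i), ∃ a, u = x a) (inj : ∀ a, x a = 1 → a = 0)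
    (inv : ∀ a, a ≠ 0 → (x (-a⁻¹) * n i)⁻¹ * (n i * x a * n i) ∈ RGD.B cs h T X) :
    FieldNode (R.bnPair hgen) (RGD.Sup X (RGD.Pos cs h)) (n i) (RGD.Sup X (RGD.PosNe cs h i)) F where
  x := x
  add := add
  mem a := RGD.le_Sup (X := X) (S := RGD.Pos cs h) ⟨isRoot_sr cs h i, sr_nonneg i⟩ (mem a)
  cover u hu := by
    obtain ⟨y, hy, hv⟩ := exists_of_mem_U R i hu
    obtain ⟨a, rfl⟩ := onto y hy
    exact ⟨a, hv⟩
  ne a ha := inj a (eq_one_of_mem_V R i (mem a) ha)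
  inv := inv

/-- A unitary parametrisation of a simple root group gives a `UNode`. -/
def uNode [Finite W] (R : RGD cs h p T n X) (hgen : RGD.B cs h T X ⊔ NN cs R.nsys = ⊤) (i : I) {F : Type*}
    [Field F] {σ : F →+* F} [Inv2 σ] (x : Pt σ → Y) (mul : ∀ a b, x (a * b) = x a * x b)
    (mem : ∀ a, x a ∈ X (sr i)) (onto : ∀ u ∈ X (sr i), ∃ a, u = x a) (inj : ∀ a, x a = 1 → a = 1)
    (inv : ∀ a, a ≠ 1 → (x (J a) * n i)⁻¹ * (n i * x a * n i) ∈ RGD.B cs h T X) :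
    UNode (R.bnPair hgen) (RGD.Sup X (RGD.Pos cs h)) (n i) (RGD.Sup X (RGD.PosNe cs h i)) σ where
  x := x
  mul := mul
  mem a := RGD.le_Sup (X := X) (S := RGD.Pos cs h) ⟨isRoot_sr cs h i, sr_nonneg i⟩ (mem a)
  cover u hu := by
    obtain ⟨y, hy, hv⟩ := exists_of_mem_U R i hu
    obtain ⟨a, rfl⟩ := onto y hy
    exact ⟨a, hv⟩
  ne a ha := inj a (eq_one_of_mem_V R i (mem a) ha)
  inv := inv

/-- The data at the node `i` of a root group datum. -/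
def GoodAt (R : RGD cs h p T n X) (i : I) : Prop :=
  (∃ (F : Type) (_ : Field F) (_ : Finite F) (x : F → Y), (2 : F) ≠ 0 ∧ (∀ a b, x (a + b) = x a * x b) ∧
    (∀ a, x a ∈ X (sr i)) ∧ (∀ u ∈ X (sr i), ∃ a, u = x a) ∧ (∀ a, x a = 1 → a = 0) ∧
    ∀ a, a ≠ 0 → (x (-a⁻¹) * n i)⁻¹ * (n i * x a * n i) ∈ RGD.B cs h T X) ∨
  (∃ (F : Type) (_ : Field F) (σ : F →+* F) (_ : Inv2 σ) (x : Pt σ → Y), UF σ ∧ (∀ a b, x (a * b) = x a * x b) ∧
    (∀ a, x a ∈ X (sr i)) ∧ (∀ u ∈ X (sr i), ∃ a, u = x a) ∧ (∀ a, x a = 1 → a = 1) ∧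
    ∀ a, a ≠ 1 → (x (J a) * n i)⁻¹ * (n i * x a * n i) ∈ RGD.B cs h T X)

theorem GoodAt.goodNode [Finite W] {R : RGD cs h p T n X} (hgen : RGD.B cs h T X ⊔ NN cs R.nsys = ⊤) {i : I}
    (hi : GoodAt R i) : GoodNode (R.bnPair hgen) (RGD.Sup X (RGD.Pos cs h)) (n i) := by
  refine ⟨_, NodeRGD.node R hgen i, ?_⟩
  rcases hi with ⟨F, _, _, x, h2, h3, h4, h5, h6, h7⟩ | ⟨F, _, σ, _, x, h2, h3, h4, h5, h6, h7⟩
  · exact Or.inl ⟨F, _, ‹_›, h2, ⟨fieldNode R hgen i x h3 h4 h5 h6 h7⟩⟩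
  · exact Or.inr ⟨F, _, σ, _, h2, ⟨uNode R hgen i x h3 h4 h5 h6 h7⟩⟩

/-- The Borel subgroup is solvable if the torus is commutative. -/
theorem solvable_B [Finite W] [Finite Y] [hp : Fact p.Prime] (R : RGD cs h p T n X)
    (hT : Group.IsSolvable T) : Group.IsSolvable ↥(RGD.B cs h T X) := by
  have hle : RGD.Sup X (RGD.Pos cs h) ≤ RGD.B cs h T X := RGD.U_le_B
  have hn : ((RGD.Sup X (RGD.Pos cs h)).subgroupOf (RGD.B cs h T X)).Normal := by
    constructor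
    intro u hu b
    rw [Subgroup.mem_subgroupOf] at hu ⊢
    have h1 := mem_normalizer_iff_cj.1 (R.B_le_normalizer_U b.2)
    have h2 : (b : Y) * u * (b : Y)⁻¹ ∈ cj (b : Y) (RGD.Sup X (RGD.Pos cs h)) := conj_mem_cj.2 hu
    rw [h1] at h2
    exact h2
  rw [Group.isSolvable_iff_subgroup_quotient ((RGD.Sup X (RGD.Pos cs h)).subgroupOf (RGD.B cs h T X))]
  constructor
  · have h1 : IsPGroup p ↥((RGD.Sup X (RGD.Pos cs h)).subgroupOf (RGD.B cs h T X)) :=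
      R.isPGroup_Upos.comap_subtype
    have h2 : Group.IsNilpotent ↥((RGD.Sup X (RGD.Pos cs h)).subgroupOf (RGD.B cs h T X)) := h1.isNilpotent
    infer_instance
  · let f : ↥T →* ↥(RGD.B cs h T X) ⧸ (RGD.Sup X (RGD.Pos cs h)).subgroupOf (RGD.B cs h T X) :=
      (QuotientGroup.mk' _).comp (Subgroup.inclusion RGD.T_le_B)
    refine Group.isSolvable_of_surjective (f := f) ?_
    intro y
    obtain ⟨b, rfl⟩ := QuotientGroup.mk_surjective y
    obtain ⟨t, ht, u, hu, hb⟩ := R.mem_B.1 b.2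
    refine ⟨⟨t, ht⟩, ?_⟩
    change (QuotientGroup.mk (⟨t, RGD.T_le_B ht⟩ : ↥(RGD.B cs h T X)) :
      ↥(RGD.B cs h T X) ⧸ (RGD.Sup X (RGD.Pos cs h)).subgroupOf (RGD.B cs h T X)) = QuotientGroup.mk b
    rw [QuotientGroup.eq, Subgroup.mem_subgroupOf]
    change t⁻¹ * (b : Y) ∈ _
    rw [hb, inv_mul_cancel_left]
    exact hu

/-- **A simple group with a root group datum all of whose nodes are good.** -/
theorem hasGoodSplit [Finite W] [Finite Y] [Nonempty I] [IsSimpleGroup Y] [hp : Fact p.Prime]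
    (R : RGD cs h p T n X) (hgen : RGD.B cs h T X ⊔ NN cs R.nsys = ⊤) (hT : Group.IsSolvable T)
    (hg : ∀ i, GoodAt R i) : HasGoodSplit p Y := by
  obtain ⟨i⟩ := (inferInstance : Nonempty I)
  have hne : (R.bnPair hgen).S.Nonempty := ⟨n i, i, rfl⟩
  refine ⟨R.bnPair hgen, _, hne, ⟨SplitRGD.split_of_rgd hp.out R hgen
    (Cfsg.Agent.Tits.OfBN.normalCore_eq_bot (R.bnPair hgen) hne), ?_, ?_⟩⟩
  · rintro _ ⟨j, rfl⟩
    exact (hg j).goodNode hgen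
  · exact solvable_B R hT

end Cfsg.Agent.FixBN.WittNodeA
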