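import Cfsg.Agent.FixBN.WittNodeA
import Cfsg.Agent.Nodes.WittU

/-!
# The nodes of a group modelled on a Witt frame

* `Jm` : the rank one map of the last node: `(w, c) ↦ (ε⁻¹ σ(c₀) c⁻¹ r(w), ε⁻¹ c₀ σ(c₀) c⁻¹)`;
* `inv_Z`, `inv_X` : the rank one relations in the form of `GoodAt`;
* `goodAt_X` : the nodes of type I are good.
-/

set_option autoImplicit false

namespace Cfsg.Agent.FixBN.WittNodeB

open Cfsg.Agent.ChevalleyStructure.CoxeterGeom Cfsg.Agent.Tits.Roots Cfsg.Agent.Nodes.TypeC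
open Cfsg.Agent.Nodes.Comb Cfsg.Agent.Nodes.Reps Cfsg.Agent.Nodes.WittRoot Cfsg.Agent.Nodes.BNOf
open Cfsg.Agent.Nodes.WittRGD Cfsg.Agent.Nodes.RGDLib Cfsg.Agent.Nodes.WittModel
open Cfsg.Agent.TitsThree Cfsg.Agent.TitsThree.Siegel Cfsg.Agent.TitsThree.WittFrame
  Cfsg.Agent.TitsThree.WittWeyl Cfsg.Agent.TitsThree.FrameCN
open Cfsg.Agent.FixBN.WittNodeA

section FrameLevel

variable {F : Type*} [Field F] {V : Type*} [AddCommGroup V] [Module F V] {H : HForm F V}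
  {ι : Type*} [DecidableEq ι] (Fr : Frame H ι)

/-- The rank one map. -/
def Jm (p0 : Fr.Adm) (h0 : p0.c ≠ 0) (p : Fr.Adm) : Fr.Adm :=
  (Frame.Adm.smul (-(H.ε⁻¹ * H.σ p0.c * p.c⁻¹)) (refl Fr p0 h0 p))⁻¹

theorem Jm_w (p0 : Fr.Adm) (h0 : p0.c ≠ 0) (p : Fr.Adm) :
    (Jm Fr p0 h0 p).w = (H.ε⁻¹ * H.σ p0.c * p.c⁻¹) • (refl Fr p0 h0 p).w := by
  rw [Jm, Frame.Adm.inv_w, Frame.Adm.smul_w, neg_smul, _root_.neg_neg]

theorem Jm_c (p0 : Fr.Adm) (h0 : p0.c ≠ 0) (p : Fr.Adm) (hp : p.c ≠ 0) :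
    (Jm Fr p0 h0 p).c = H.ε⁻¹ * (p0.c * H.σ p0.c) * p.c⁻¹ := by
  have h5 := H.ε_ne
  have h1 : ∀ q : Fr.Adm, (q⁻¹).c = H.ε⁻¹ * H.σ q.c := by
    intro q
    rw [Frame.Adm.inv_c, show H.h q.w q.w = -(H.ε * q.c + H.σ q.c) by rw [q.herm, _root_.neg_neg]]
    field_simp
    ring
  have hσ : H.σ p.c ≠ 0 := by simpa using hp
  rw [Jm, h1, Frame.Adm.smul_c, refl_c]
  simp only [map_neg, map_mul, map_inv₀, H.σσ, H.σε, inv_inv]
  field_simp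

/-- Rank one relation of type II. -/
theorem conj_Z_eq (x : ι × Bool) (p0 : Fr.Adm) (h0 : p0.c ≠ 0) (p : Fr.Adm) (hp : p.c ≠ 0) :
    ∃ q p1 : Fr.Adm, p1.c ≠ 0 ∧
      nZ Fr x p0 * Fr.Z x p * (nZ Fr x p0)⁻¹ = Fr.Z x (Jm Fr p0 h0 p) * nZ Fr x p1 * Fr.Z x q := by
  have h5 := H.ε_ne
  have hσ : H.σ p.c ≠ 0 := by simpa using hp
  have hσ0 : H.σ p0.c ≠ 0 := by simpa using h0
  have hη := Fr.η_ne x
  set a : F := -(H.ε⁻¹ * H.σ p0.c * p.c⁻¹) with ha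
  set p1 : Fr.Adm := Frame.Adm.smul a (refl Fr p0 h0 p) with hp1
  have e1 : p1.c = p0.c * H.σ p0.c * (H.σ p.c)⁻¹ := by
    rw [hp1, Frame.Adm.smul_c, refl_c, ha]
    simp only [map_neg, map_mul, map_inv₀, H.σσ, H.σε, inv_inv]
    field_simp
  have e2 : Frame.Adm.smul (-(Fr.η x * (H.σ p1.c)⁻¹)) p1 =
      Frame.Adm.smul (H.ε⁻¹ * Fr.η x * p0.c⁻¹) (refl Fr p0 h0 p) := by
    rw [hp1, Frame.Adm.smul_smul, ← hp1, e1]
    congr 1
    rw [ha]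
    simp only [map_mul, map_inv₀, H.σσ]
    field_simp
  refine ⟨(Frame.Adm.smul (H.ε * p1.c * (H.σ p1.c)⁻¹) p1)⁻¹, p1, ?_, ?_⟩
  · rw [e1]
    exact mul_ne_zero (mul_ne_zero h0 hσ0) (inv_ne_zero hσ)
  · rw [nZ_conj_Z Fr x p0 h0 p, ← e2, Fr.Z_inv]
    have e3 : Fr.Z x (Jm Fr p0 h0 p) = (Fr.Z x p1)⁻¹ := by rw [Jm, Fr.Z_inv]
    rw [e3, nZ]
    group

/-- Rank one relation of type I. -/
theorem conj_X_eq {x y : ι × Bool} (hxy : x.1 ≠ y.1) {t : F} (ht : t ≠ 0) :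
    nX Fr x y 1 * Fr.X x y t * (nX Fr x y 1)⁻¹ = Fr.X x y (-t⁻¹) * nX Fr x y t⁻¹ * Fr.X x y (-t⁻¹) := by
  have h5 := H.ε_ne
  have hx := Fr.η_ne x
  have hy := Fr.η_ne y
  have e1 : nX Fr x y 1 (Fr.b x) = (-1 : F) • Fr.b (neg y) := by
    rw [nX_apply_self Fr hxy one_ne_zero, inv_one, _root_.one_smul, neg_one_smul]
  have e2 : nX Fr x y 1 (Fr.b y) = (H.ε⁻¹ * Fr.η x * Fr.η y * H.σ 1)⁻¹ • Fr.b (neg x) :=
    nX_apply_self' Fr hxy one_ne_zero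
  have e3 : nX Fr x y 1 * Fr.X x y t * (nX Fr x y 1)⁻¹ = Fr.X (neg y) (neg x) (-t) := by
    rw [conj_X Fr (isIso_nX Fr x y 1) hxy (x' := neg y) (y' := neg x) hxy.symm e1 e2]
    congr 1
    have h6 : Fr.η (neg x) = H.ε * (Fr.η x)⁻¹ := by rw [← Fr.η_neg x]; field_simp
    simp only [h6, map_mul, map_inv₀, H.σσ, H.σε, Fr.σ_η, inv_inv, map_one, mul_one]
    field_simp
  rw [e3, nX, inv_inv]
  have e4 : Fr.X x y (-t⁻¹) = (Fr.X x y t⁻¹)⁻¹ := Fr.X_neg x y t⁻¹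
  rw [e4]
  group

end FrameLevel

section Model

variable {F : Type*} [Field F] {V : Type*} [AddCommGroup V] [Module F V] {H : HForm F V} {n : ℕ}
  {Fr : Frame H (Fin n)} {K : Type*} [Group K] (M : Model Fr K)

/-- abstract computation of the rank one condition -/
theorem mem_B_of_eq {W : Type*} [Group W] {cs : CoxeterSystem (CoxeterMatrix.B n) W} {p : ℕ} {T : Subgroup K}
    {nn : Fin n → K} {X : (Fin n → ℤ) → Subgroup K} (R : RGD cs (isCartan n) p T nn X) (i : Fin n) {x y m z : K}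
    (e : nn i * x * (nn i)⁻¹ = y * m * z) (hm : (nn i)⁻¹ * m ∈ T) (hz : z ∈ X (sr i)) :
    (y * nn i)⁻¹ * (nn i * x * nn i) ∈ RGD.B cs (isCartan n) T X := by
  have h1 : (y * nn i)⁻¹ * (nn i * x * nn i) = ((nn i)⁻¹ * m) * z * (nn i * nn i) := by
    have h2 : nn i * x = y * m * z * nn i := by rw [← e]; group
    rw [h2]; group
  rw [h1]
  exact mul_mem (mul_mem (RGD.T_le_B hm) (RGD.X_le_B (isRoot_sr cs _ i) (sr_nonneg i) hz))
    (RGD.T_le_B (R.sq_mem_T i))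

variable (hA : Amb Fr M.I)

theorem mem_T_of_mono {g k : V ≃ₗ[F] V} (hg : g ∈ M.I) (hk : k ∈ M.I) {i : Fin n} (h1 : Mono Fr g (sg i))
    (h2 : Mono Fr k (sg i)) : (M.φ ⟨g, hg⟩)⁻¹ * M.φ ⟨k, hk⟩ ∈ T M := by
  have h3 : g⁻¹ * k ∈ Tor Fr M.I := by
    refine ⟨mul_mem (inv_mem hg) hk, ((h1.inv (sg_sg i)).mul h2).congr fun x => sg_sg i x⟩
  rw [← map_inv, ← map_mul]
  exact ⟨_, Subgroup.mem_subgroupOf.2 h3, rfl⟩

section

variable {M} {p0 : Fr.Adm} (hp0 : p0.c ≠ 0) {W : Type*} [Group W]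
  {cs : CoxeterSystem (CoxeterMatrix.B n) W} {p : ℕ} (R : RGD cs (isCartan n) p (T M) (nw M hA p0) (X M))

theorem nx_of_not {i : Fin n} (hi : ¬ (i : ℕ) + 1 < n) : nx i = (i, true) := by unfold nx; rw [dif_neg hi]

theorem mem_X_last {i : Fin n} (hi : ¬ (i : ℕ) + 1 < n) {k : K} :
    k ∈ X M (sr i) ↔ ∃ q : Fr.Adm, k = M.Z (i, true) q := by
  rw [mem_X]
  constructor
  · rintro ⟨g, hg, h, rfl⟩
    rw [rg_sr, nx_of_not hi, PG_self] at h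
    obtain ⟨q, rfl⟩ := h
    exact ⟨q, rfl⟩
  · rintro ⟨q, rfl⟩
    refine ⟨_, M.hZ _ q, ?_, rfl⟩
    rw [rg_sr, nx_of_not hi, PG_self]
    exact ⟨q, rfl⟩

theorem mem_X_I {i : Fin n} (hi : (i : ℕ) + 1 < n) {k : K} :
    k ∈ X M (sr i) ↔ ∃ t : F, k = M.X (i, true) (nx i) t := by
  have hne' : ((i, true) : Fin n × Bool).1 ≠ (nx i).1 := by
    unfold nx; rw [dif_pos hi]; simp [Fin.ext_iff]
  rw [mem_X]
  constructor
  · rintro ⟨g, hg, h, rfl⟩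
    rw [rg_sr, PG_ne Fr hne'] at h
    obtain ⟨q, rfl⟩ := h
    exact ⟨q, rfl⟩
  · rintro ⟨q, rfl⟩
    refine ⟨_, M.hX _ _ q, ?_, rfl⟩
    rw [rg_sr, PG_ne Fr hne']
    exact ⟨q, rfl⟩

include hp0 R in
/-- The rank one relation at the last node. -/
theorem inv_Z {i : Fin n} (hi : ¬ (i : ℕ) + 1 < n) {q : Fr.Adm} (hq : q.c ≠ 0) :
    (M.Z (i, true) (Jm Fr p0 hp0 q) * nw M hA p0 i)⁻¹ * (nw M hA p0 i * M.Z (i, true) q * nw M hA p0 i) ∈
      RGD.B cs (isCartan n) (T M) (X M) := by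
  obtain ⟨q', p1, hp1, e⟩ := conj_Z_eq Fr (i, true) p0 hp0 q hq
  have hnn : Nodes.WittRGD.nn Fr p0 i = nZ Fr (i, true) p0 := by unfold Nodes.WittRGD.nn; rw [if_neg hi]
  have e' : nw M hA p0 i * M.Z (i, true) q * (nw M hA p0 i)⁻¹ =
      M.Z (i, true) (Jm Fr p0 hp0 q) * M.φ ⟨nZ Fr (i, true) p1, nZ_mem hA _ _⟩ * M.Z (i, true) q' := by
    unfold nw Model.Z
    rw [← map_inv, ← map_mul, ← map_mul, ← map_mul, ← map_mul]
    congr 1
    apply Subtype.ext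
    show Nodes.WittRGD.nn Fr p0 i * Fr.Z (i, true) q * (Nodes.WittRGD.nn Fr p0 i)⁻¹ = _
    rw [hnn, e]
    rfl
  refine mem_B_of_eq R i e' ?_ ((mem_X_last hi).2 ⟨q', rfl⟩)
  exact mem_T_of_mono M _ _ (mono_nn hp0 i) (mono_nZ hi hp1)

include hp0 R in
/-- The rank one relation at the other nodes. -/
theorem inv_X {i : Fin n} (hi : (i : ℕ) + 1 < n) {t : F} (ht : t ≠ 0) :
    (M.X (i, true) (nx i) (-t⁻¹) * nw M hA p0 i)⁻¹ * (nw M hA p0 i * M.X (i, true) (nx i) t * nw M hA p0 i) ∈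
      RGD.B cs (isCartan n) (T M) (X M) := by
  have hne' : ((i, true) : Fin n × Bool).1 ≠ (nx i).1 := by
    unfold nx; rw [dif_pos hi]; simp [Fin.ext_iff]
  have hnn : Nodes.WittRGD.nn Fr p0 i = nX Fr (i, true) (nx i) 1 := by unfold Nodes.WittRGD.nn; rw [if_pos hi]
  have e' : nw M hA p0 i * M.X (i, true) (nx i) t * (nw M hA p0 i)⁻¹ =
      M.X (i, true) (nx i) (-t⁻¹) * M.φ ⟨nX Fr (i, true) (nx i) t⁻¹, nX_mem hA _ _ _⟩ *
        M.X (i, true) (nx i) (-t⁻¹) := by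
    unfold nw Model.X
    rw [← map_inv, ← map_mul, ← map_mul, ← map_mul, ← map_mul]
    congr 1
    apply Subtype.ext
    show Nodes.WittRGD.nn Fr p0 i * Fr.X (i, true) (nx i) t * (Nodes.WittRGD.nn Fr p0 i)⁻¹ = _
    rw [hnn, conj_X_eq Fr hne' ht]
    rfl
  refine mem_B_of_eq R i e' ?_ ((mem_X_I hi).2 ⟨_, rfl⟩)
  exact mem_T_of_mono M _ _ (mono_nn hp0 i) (mono_nX hi (inv_ne_zero ht))

end

theorem Z_mul' (x : Fin n × Bool) (q q' : Fr.Adm) : M.Z x (q * q') = M.Z x q * M.Z x q' := by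
  unfold Model.Z
  rw [← map_mul]
  exact congrArg _ (Subtype.ext (Fr.Z_mul x q q'))

theorem X_add' (x y : Fin n × Bool) (s t : F) : M.X x y (s + t) = M.X x y s * M.X x y t := by
  unfold Model.X
  rw [← map_mul]
  exact congrArg _ (Subtype.ext (Fr.X_add x y s t))

/-- `M.X` is injective. -/
theorem X_eq_one {x y : Fin n × Bool} (hxy : x.1 ≠ y.1) {t : F} (h : M.X x y t = 1) : t = 0 := by
  obtain ⟨a, ha⟩ := M.ker (Fr.b (neg y)) ⟨Fr.X x y t, M.hX x y t⟩ h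
  change Fr.X x y t (Fr.b (neg y)) = a • Fr.b (neg y) at ha
  rw [X_apply_neg Fr hxy] at ha
  have h1 : H.h (Fr.b (neg y) + t • Fr.b x) (Fr.b (neg x)) = H.h (a • Fr.b (neg y)) (Fr.b (neg x)) := by rw [ha]
  rw [H.add_left, H.smul_left, H.smul_left, Fr.hb_of_ne (x := neg y) (y := neg x) hxy.symm, mul_zero, zero_add,
    Fr.hb_self_neg] at h1
  exact (mul_eq_zero.1 h1).resolve_right (Fr.η_ne _)

/-- `M.Z` is injective. -/
theorem Z_eq_one {x : Fin n × Bool} {q : Fr.Adm} (h : M.Z x q = 1) : q = 1 := by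
  obtain ⟨a, ha⟩ := M.ker (Fr.b (neg x)) ⟨Fr.Z x q, M.hZ x q⟩ h
  change Fr.Z x q (Fr.b (neg x)) = a • Fr.b (neg x) at ha
  rw [Z_apply_neg] at ha
  have hη := Fr.η_ne x
  have h1 : H.h (Fr.b (neg x) + Fr.η x • q.w + (q.c * Fr.η x) • Fr.b x) (Fr.b (neg x)) =
      H.h (a • Fr.b (neg x)) (Fr.b (neg x)) := by rw [ha]
  rw [H.add_left, H.add_left, H.smul_left, H.smul_left, H.smul_left, Fr.hb_self, Fr.h0' _ (Fr.ok_mem q.ok),
    Fr.hb_self_neg, mul_zero, mul_zero, zero_add, zero_add] at h1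
  have hc : q.c = 0 := by
    rcases mul_eq_zero.1 h1 with h2 | h2
    · exact (mul_eq_zero.1 h2).resolve_right hη
    · exact absurd h2 (Fr.η_ne _)
  rw [hc, zero_mul, zero_smul, add_zero] at ha
  have h2 : H.h (Fr.b (neg x) + Fr.η x • q.w) (Fr.b x) = H.h (a • Fr.b (neg x)) (Fr.b x) := by rw [ha]
  rw [H.add_left, H.smul_left, H.smul_left, Fr.h0' _ (Fr.ok_mem q.ok), Fr.hb_neg_self, mul_zero, add_zero] at h2
  have ha1 : a = 1 := by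
    have h3 : (1 - a) * Fr.η x = 0 := by linear_combination h2
    exact (sub_eq_zero.1 ((mul_eq_zero.1 h3).resolve_right hη)).symm
  rw [ha1, _root_.one_smul, add_eq_left] at ha
  have hw : q.w = 0 := (smul_eq_zero.1 ha).resolve_left hη
  exact Frame.Adm.ext hw hc

end Model

section Good

variable {F : Type} [Field F] {V : Type*} [AddCommGroup V] [Module F V] {H : HForm F V} {n : ℕ}
  {Fr : Frame H (Fin n)} {K : Type*} [Group K] {M : Model Fr K} (hA : Amb Fr M.I)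
  {p0 : Fr.Adm} (hp0 : p0.c ≠ 0) {W : Type*} [Group W]
  {cs : CoxeterSystem (CoxeterMatrix.B n) W} {p : ℕ} (R : RGD cs (isCartan n) p (T M) (nw M hA p0) (X M))

include hp0 in
/-- The nodes of type I are good. -/
theorem goodAt_X [Finite F] (h2 : (2 : F) ≠ 0) {i : Fin n} (hi : (i : ℕ) + 1 < n) : GoodAt R i := by
  have hne' : ((i, true) : Fin n × Bool).1 ≠ (nx i).1 := by
    unfold nx; rw [dif_pos hi]; simp [Fin.ext_iff]
  refine Or.inl ⟨F, inferInstance, inferInstance, M.X (i, true) (nx i), h2, X_add' M _ _,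
    fun a => (mem_X_I hi).2 ⟨a, rfl⟩, fun u hu => (mem_X_I hi).1 hu, fun a ha => X_eq_one M hne' ha,
    fun a ha => inv_X hA hp0 R hi ha⟩

include hp0 in
/-- The last node: a field parametrisation of the admissible pairs. -/
theorem goodAt_Z {i : Fin n} (hi : ¬ (i : ℕ) + 1 < n) {E : Type} [Field E] [Finite E] (h2 : (2 : E) ≠ 0)
    (f : E → Fr.Adm) (hf : ∀ a b, f (a + b) = f a * f b) (hs : Function.Surjective f)
    (hc : ∀ a, (f a).c = 0 → a = 0)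
    (hJw : ∀ a, a ≠ 0 → (H.ε⁻¹ * H.σ p0.c * (f a).c⁻¹) • (refl Fr p0 hp0 (f a)).w = (f (-a⁻¹)).w)
    (hJc : ∀ a, a ≠ 0 → H.ε⁻¹ * (p0.c * H.σ p0.c) * (f a).c⁻¹ = (f (-a⁻¹)).c) : GoodAt R i := by
  refine Or.inl ⟨E, inferInstance, inferInstance, fun a => M.Z (i, true) (f a), h2, fun a b => ?_,
    fun a => (mem_X_last hi).2 ⟨_, rfl⟩, fun u hu => ?_, fun a ha => ?_, fun a ha => ?_⟩
  · show M.Z (i, true) (f (a + b)) = M.Z (i, true) (f a) * M.Z (i, true) (f b)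
    rw [hf, Z_mul']
  · obtain ⟨q, rfl⟩ := (mem_X_last hi).1 hu
    obtain ⟨a, rfl⟩ := hs q
    exact ⟨a, rfl⟩
  · have h1 := Z_eq_one M ha
    exact hc a (by rw [h1]; rfl)
  · have hca : (f a).c ≠ 0 := fun h => ha (hc a h)
    have h1 := inv_Z hA hp0 R hi hca
    have h3 : Jm Fr p0 hp0 (f a) = f (-a⁻¹) := by
      apply Frame.Adm.ext
      · rw [Jm_w, hJw a ha]
      · rw [Jm_c Fr p0 hp0 _ hca, hJc a ha]
    rw [h3] at h1
    exact h1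

open Cfsg.Agent.FixBN.U3Model in
include hp0 in
/-- The last node: a unitary parametrisation of the admissible pairs. -/
theorem goodAt_U {i : Fin n} (hi : ¬ (i : ℕ) + 1 < n) {E : Type} [Field E] {σ : E →+* E} [Inv2 σ] (hσ : UF σ)
    (f : Pt σ → Fr.Adm) (hf : ∀ a b, f (a * b) = f a * f b) (hs : Function.Surjective f)
    (hc : ∀ a, (f a).c = 0 → a = 1)
    (hJw : ∀ a, a ≠ 1 → (H.ε⁻¹ * H.σ p0.c * (f a).c⁻¹) • (refl Fr p0 hp0 (f a)).w = (f (J a)).w)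
    (hJc : ∀ a, a ≠ 1 → H.ε⁻¹ * (p0.c * H.σ p0.c) * (f a).c⁻¹ = (f (J a)).c) : GoodAt R i := by
  refine Or.inr ⟨E, inferInstance, σ, inferInstance, fun a => M.Z (i, true) (f a), hσ, fun a b => ?_,
    fun a => (mem_X_last hi).2 ⟨_, rfl⟩, fun u hu => ?_, fun a ha => ?_, fun a ha => ?_⟩
  · show M.Z (i, true) (f (a * b)) = M.Z (i, true) (f a) * M.Z (i, true) (f b)
    rw [hf, Z_mul']
  · obtain ⟨q, rfl⟩ := (mem_X_last hi).1 hu
    obtain ⟨a, rfl⟩ := hs q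
    exact ⟨a, rfl⟩
  · have h1 := Z_eq_one M ha
    exact hc a (by rw [h1]; rfl)
  · have hca : (f a).c ≠ 0 := fun h => ha (hc a h)
    have h1 := inv_Z hA hp0 R hi hca
    have h3 : Jm Fr p0 hp0 (f a) = f (J a) := by
      apply Frame.Adm.ext
      · rw [Jm_w, hJw a ha]
      · rw [Jm_c Fr p0 hp0 _ hca, hJc a ha]
    rw [h3] at h1
    exact h1

end Good

end Cfsg.Agent.FixBN.WittNodeB
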