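import Cfsg.Agent.FixBN.WittNodeB
import Cfsg.Agent.S0270
import Cfsg.Agent.LieClassical.HermGen

/-!
# `PSp_{2m}(q)` and `PSU_N(q)` have good split (B, N)-pairs

`hasGoodSplit_PSp`, `hasGoodSplit_PSU` (odd characteristic, simple groups), `hasGoodSplit_PSpChar`,
`hasGoodSplit_PSUChar` (Prelude predicates).
-/

set_option autoImplicit false

namespace Cfsg.Agent.FixBN.WittNodeC

open Cfsg Cfsg.Agent.LieClassical.HermBasic Cfsg.Agent.LieClassical.HermGen
open Cfsg.Agent.ChevalleyStructure.CoxeterGeom Cfsg.Agent.Tits.Roots Cfsg.Agent.Nodes.TypeC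
open Cfsg.Agent.Nodes.Comb Cfsg.Agent.Nodes.Reps Cfsg.Agent.Nodes.WittRoot Cfsg.Agent.Nodes.BNOf
open Cfsg.Agent.Nodes.WittRGD Cfsg.Agent.Nodes.RGDLib Cfsg.Agent.Nodes.WittModel Cfsg.Agent.Nodes.WittU
open Cfsg.Agent.TitsThree Cfsg.Agent.TitsThree.Siegel Cfsg.Agent.TitsThree.SiegelGen
  Cfsg.Agent.TitsThree.WittFrame Cfsg.Agent.TitsThree.WBridge Cfsg.Agent.TitsThree.WittWeyl
  Cfsg.Agent.TitsThree.FrameCN Cfsg.Agent.TitsThree.KSideU Cfsg.Agent.TitsThree.KSideUDesc
open Cfsg.Agent.FixBN.WittNodeA Cfsg.Agent.FixBN.WittNodeB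

/-! ### The torus -/

section Torus

variable {F : Type*} [Field F] {V : Type*} [AddCommGroup V] [Module F V] {H : HForm F V} {P : PQ H} {n : ℕ}

/-- Elements commuting on the frame and on the anisotropic line commute. -/
theorem comm_of_frame (W : WFrame P n) (d : V) (hd : W.V0 = Submodule.span F {d}) {g k : V ≃ₗ[F] V}
    (hg : ∀ x, ∃ l : F, g ((toFrame W).b x) = l • (toFrame W).b x)
    (hk : ∀ x, ∃ l : F, k ((toFrame W).b x) = l • (toFrame W).b x) (h0 : g (k d) = k (g d)) : g * k = k * g := by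
  have hb : ∀ x, g (k ((toFrame W).b x)) = k (g ((toFrame W).b x)) := by
    intro x
    obtain ⟨l, e1⟩ := hg x
    obtain ⟨m, e2⟩ := hk x
    rw [e1, e2, map_smul, map_smul, e1, e2, smul_smul, smul_smul, mul_comm]
  ext v
  show g (k v) = k (g v)
  obtain ⟨a, b, w, hw, rfl⟩ := W.span v
  rw [hd] at hw
  obtain ⟨c, rfl⟩ := Submodule.mem_span_singleton.1 hw
  have he : ∀ i, g (k (W.e i)) = k (g (W.e i)) := fun i => hb (i, true)
  have hf : ∀ i, g (k (W.f i)) = k (g (W.f i)) := fun i => hb (i, false)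
  simp only [map_add, map_sum, map_smul, he, hf, h0]

/-- The torus is commutative if the anisotropic part is at most one-dimensional. -/
theorem comm_Tor (W : WFrame P n) {G0 : Subgroup (V ≃ₗ[F] V)} (hA : Amb (toFrame W) G0) (d : V)
    (hd : W.V0 = Submodule.span F {d}) {g k : V ≃ₗ[F] V} (hg : g ∈ Tor (toFrame W) G0)
    (hk : k ∈ Tor (toFrame W) G0) : g * k = k * g := by
  refine comm_of_frame W d hd (fun x => ?_) (fun x => ?_) ?_
  · obtain ⟨l, -, e1⟩ := hg.2 x
    exact ⟨l, e1⟩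
  · obtain ⟨l, -, e1⟩ := hk.2 x
    exact ⟨l, e1⟩
  have hdV : d ∈ W.V0 := by rw [hd]; exact Submodule.mem_span_singleton_self d
  have h1 : g d ∈ W.V0 := hA.map_V0 hg.1 hg.2 (ρ := id) (fun _ => rfl) hdV
  have h2 : k d ∈ W.V0 := hA.map_V0 hk.1 hk.2 (ρ := id) (fun _ => rfl) hdV
  rw [hd] at h1 h2
  obtain ⟨l, e1⟩ := Submodule.mem_span_singleton.1 h1
  obtain ⟨m, e2⟩ := Submodule.mem_span_singleton.1 h2
  rw [← e1, ← e2, map_smul, map_smul, ← e1, ← e2, smul_smul, smul_smul, mul_comm]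

theorem isSolvable_T {Fr : Frame H (Fin n)} {K : Type*} [Group K] (M : Model Fr K)
    (h : ∀ g k : V ≃ₗ[F] V, g ∈ Tor Fr M.I → k ∈ Tor Fr M.I → g * k = k * g) : Group.IsSolvable (T M) := by
  refine Group.isSolvable_of_comm ?_
  rintro ⟨_, g, hg, rfl⟩ ⟨_, k, hk, rfl⟩
  apply Subtype.ext
  show M.φ g * M.φ k = M.φ k * M.φ g
  rw [← map_mul, ← map_mul]
  exact congrArg _ (Subtype.ext (h _ _ (Subgroup.mem_subgroupOf.1 hg) (Subgroup.mem_subgroupOf.1 hk)))

end Torus

/-! ### General form -/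

section General

variable {F : Type} [Field F] [Finite F] {V : Type*} [AddCommGroup V] [Module F V] [Finite V] {H : HForm F V} {n : ℕ}
  {Fr : Frame H (Fin n)} {K : Type*} [Group K] (M : Model Fr K)

omit [Finite F] in
theorem two_ne_zero_of_odd {p : ℕ} [Fact p.Prime] [CharP F p] (hp2 : Odd p) : (2 : F) ≠ 0 := by
  intro h
  have h1 : p ∣ 2 := by
    rw [← CharP.cast_eq_zero_iff F p 2]
    exact_mod_cast h
  have h2 : p = 2 := (Nat.prime_dvd_prime_iff_eq (Fact.out : p.Prime) Nat.prime_two).1 h1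
  rw [h2] at hp2
  exact absurd hp2 (by decide)

/-- A simple group modelled on a Witt frame with a good last node has a good split (B, N)-pair. -/
theorem hasGoodSplit_of_model [IsSimpleGroup K] [Finite K] {p : ℕ} [Fact p.Prime] [CharP F p] (hp2 : Odd p)
    (hA : Amb Fr M.I) {p0 : Fr.Adm} (hp0 : p0.c ≠ 0) (hn : 0 < n)
    (hT : ∀ g k : V ≃ₗ[F] V, g ∈ Tor Fr M.I → k ∈ Tor Fr M.I → g * k = k * g)
    (hlast : ∀ (R : RGD (CoxeterMatrix.B n).toCoxeterSystem (isCartan n) p (T M) (nw M hA p0) (X M)) (i : Fin n),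
      ¬ (i : ℕ) + 1 < n → GoodAt R i) : HasGoodSplit p K := by
  have hne : Nonempty (Fin n) := ⟨⟨0, hn⟩⟩
  have hfin : Finite (CoxeterMatrix.B n).Group := finite_W (CoxeterMatrix.B n).toCoxeterSystem
  have R := Nodes.WittModel.rgd M hA hp2 hp0 (CoxeterMatrix.B n).toCoxeterSystem
  have hgen := NodeRGD.gen_of_top R (Nodes.WittModel.G1_eq_top M hn (CoxeterMatrix.B n).toCoxeterSystem)
  refine hasGoodSplit R hgen (isSolvable_T M hT) fun i => ?_
  by_cases hi : (i : ℕ) + 1 < n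
  · exact goodAt_X hA hp0 R (two_ne_zero_of_odd hp2) hi
  · exact hlast R i hi

end General

/-! ### Symplectic groups -/

section Symplectic

open SpIdent SpGen

theorem hasGoodSplit_PSp {F : Type} [Field F] [Finite F] {m : ℕ} (hm : 1 ≤ m) [IsSimpleGroup (PSp m F)] {p : ℕ}
    [Fact p.Prime] [CharP F p] (hp2 : Odd p) : HasGoodSplit p (PSp m F) := by
  have hfin : Finite (PSp m F) := Quotient.finite _
  have h10 : (SpIdent.adm 1 : (frame m F).Adm).c ≠ 0 := one_ne_zero
  refine hasGoodSplit_of_model (KInstSp.model m F) hp2 amb_Sp h10 (by omega) ?_ ?_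
  · intro g k hg hk
    refine comm_of_frame (wframe m F) 0 ?_ (fun x => ?_) (fun x => ?_) (by simp only [map_zero])
    · rw [Submodule.span_zero_singleton]; rfl
    · obtain ⟨l, -, e1⟩ := hg.2 x
      exact ⟨l, e1⟩
    · obtain ⟨l, -, e1⟩ := hk.2 x
      exact ⟨l, e1⟩
  · intro R i hi
    refine goodAt_Z amb_Sp h10 R hi (two_ne_zero_of_odd hp2) SpIdent.adm
      SpIdent.adm_add (fun q => ⟨q.c, (SpIdent.eq_adm q).symm⟩) (fun a ha => ha) (fun a ha => ?_) fun a ha => ?_
    · show _ • ((0 : Fin m ⊕ Fin m → F) + _ • (0 : Fin m ⊕ Fin m → F)) = 0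
      rw [smul_zero, add_zero, smul_zero]
    · show (-1 : F)⁻¹ * (1 * 1) * a⁻¹ = -a⁻¹
      rw [inv_neg, inv_one]; ring

end Symplectic

/-! ### Unitary groups -/

section Unitary

variable {F : Type} [Field F] [Fintype F] {q N : ℕ} (hF : Fintype.card F = q ^ 2) {m : ℕ} {p : ℕ} [Fact p.Prime]
  [CharP F p]

omit [Fact p.Prime] in
include hF in
theorem odd_q (hp2 : Odd p) : Odd q := by
  obtain ⟨n, -, hn⟩ := FiniteField.card F p
  have h1 : Odd (q ^ 2) := by rw [← hF, hn]; exact hp2.pow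
  by_contra hq
  rw [Nat.not_odd_iff_even] at hq
  rw [sq] at h1
  exact (Nat.not_odd_iff_even.2 (hq.mul_right q)) h1

/-- Even dimension. -/
theorem hasGoodSplit_even (hN : 3 ≤ N) [IsSimpleGroup (PSU N F q)] (hp2 : Odd p) (W : WFrame (PU hF N) m)
    (hm : 0 < m) (hW : W.V0 = ⊥) : HasGoodSplit p (PSU N F q) := by
  have hfin : Finite (PSU N F q) := Quotient.finite _
  obtain ⟨c0, hc0, hc⟩ := exists_trace_zero_ne hF
  have hσc : c0 ^ q = -c0 := by linear_combination hc
  have hok : ∀ a : F, a ^ q = a → (toFrame W).ok 0 (a * c0) := by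
    intro a ha
    refine ⟨W.V0.zero_mem, ?_⟩
    rw [ok_iff, herm_zero_left, mul_pow, ha, hσc]
    ring
  let E : Subfield F := RingHom.eqLocusField ((conj hF : F ≃+* F) : F →+* F) (RingHom.id F)
  have hE : ∀ a : E, (a : F) ^ q = a := fun a => a.2
  let p0 : (toFrame W).Adm := ⟨0, 1 * c0, hok 1 (one_pow q)⟩
  have hp0 : p0.c ≠ 0 := by
    show 1 * c0 ≠ 0
    rwa [one_mul]
  refine hasGoodSplit_of_model (KInstU.model hF hN W) hp2 (amb_U hF W) hp0 hm ?_ ?_
  · intro g k hg hk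
    exact comm_Tor W (amb_U hF W) 0 (by rw [hW, Submodule.span_zero_singleton]) hg hk
  · intro R i hi
    refine goodAt_Z (amb_U hF W) hp0 R hi (E := E) ?_ (fun a => ⟨0, (a : F) * c0, hok a (hE a)⟩) ?_ ?_ ?_ ?_ ?_
    · intro h2
      apply two_ne_zero_of_odd (F := F) hp2
      exact congrArg Subtype.val h2
    · intro a b
      apply Frame.Adm.ext
      · show (0 : Fin N → F) = 0 + 0
        rw [add_zero]
      · show ((a : F) + b) * c0 = a * c0 + b * c0 - (HU hF N).ε⁻¹ * (HU hF N).h 0 0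
        rw [HForm.zero_left]; ring
    · rintro ⟨w, c, hw, hok'⟩
      have hw0 : w = 0 := by
        rw [hW] at hw
        exact (Submodule.mem_bot F).1 hw
      subst hw0
      rw [ok_iff, herm_zero_left, neg_zero] at hok'
      refine ⟨⟨c * c0⁻¹, ?_⟩, ?_⟩
      · show (c * c0⁻¹) ^ q = c * c0⁻¹
        rw [mul_pow, inv_pow, hσc]
        have h1 : c ^ q = -c := by linear_combination hok'
        rw [h1]
        field_simp
      · apply Frame.Adm.ext
        · rfl
        · show c * c0⁻¹ * c0 = c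
          field_simp
    · intro a ha
      change (a : F) * c0 = 0 at ha
      exact Subtype.ext ((mul_eq_zero.1 ha).resolve_right hc0)
    · intro a ha
      show _ • ((0 : Fin N → F) + _ • (0 : Fin N → F)) = 0
      rw [smul_zero, add_zero, smul_zero]
    · intro a ha
      have ha' : (a : F) ≠ 0 := fun h => ha (Subtype.ext h)
      show (1 : F)⁻¹ * ((1 * c0) * (1 * c0) ^ q) * ((a : F) * c0)⁻¹ = (-(a : F)⁻¹) * c0
      rw [one_mul, hσc]
      field_simp

/-- Odd dimension. -/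
theorem hasGoodSplit_odd (hN : 3 ≤ N) [IsSimpleGroup (PSU N F q)] (hp2 : Odd p) (W : WFrame (PU hF N) m)
    (hm : 0 < m) (d : Fin N → F) (hd : hermForm N F q d d = 1) (hW : W.V0 = Submodule.span F {d}) :
    HasGoodSplit p (PSU N F q) := by
  have hfin : Finite (PSU N F q) := Quotient.finite _
  have h2 := two_ne_zero_of_odd (F := F) hp2
  obtain ⟨a0, ha0, hn⟩ := exists_norm_eq_ne hF (c := (-2 : F)) (by
    rw [neg_pow_q hF, show (2 : F) = 1 + 1 by norm_num, add_pow_q hF, one_pow]) (neg_ne_zero.2 h2)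
  let σ : F →+* F := ((conj hF : F ≃+* F) : F →+* F)
  have hσ : ∀ x, σ x = x ^ q := fun x => rfl
  have hI : U3Model.Inv2 σ := ⟨fun x => pow_q_pow_q hF x⟩
  have hd0 : d ∈ W.V0 := by rw [hW]; exact Submodule.mem_span_singleton_self d
  let p0 : (toFrame W).Adm := ⟨a0 • d, 1, W.V0.smul_mem _ hd0, by
    rw [ok_iff, herm_smul_left, herm_smul_right, hd, mul_one, hn, one_pow]; ring⟩
  have hp0 : p0.c ≠ 0 := one_ne_zero
  refine hasGoodSplit_of_model (KInstU.model hF hN W) hp2 (amb_U hF W) hp0 hm ?_ ?_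
  · intro g k hg hk
    exact comm_Tor W (amb_U hF W) d hW hg hk
  · intro R i hi
    refine goodAt_U (amb_U hF W) hp0 R hi (σ := σ) (UNode.uf_of_card hF (odd_q hF hp2) σ hσ)
      (fun x => ⟨x.a • d, x.b, W.V0.smul_mem _ hd0, ?_⟩) ?_ ?_ ?_ ?_ ?_
    · rw [ok_iff, herm_smul_left, herm_smul_right, hd, mul_one]
      have := x.h
      rw [hσ, hσ] at this
      linear_combination this
    · intro x y
      apply Frame.Adm.ext
      · show (x.a + y.a) • d = x.a • d + y.a • d
        rw [add_smul]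
      · show x.b + y.b - σ x.a * y.a = x.b + y.b - (1 : F)⁻¹ * hermForm N F q (y.a • d) (x.a • d)
        rw [herm_smul_left, herm_smul_right, hd, hσ, inv_one]
        ring
    · rintro ⟨w, c, hw, hok'⟩
      obtain ⟨a, rfl⟩ : ∃ a : F, a • d = w := by
        rw [hW] at hw
        exact Submodule.mem_span_singleton.1 hw
      rw [ok_iff, herm_smul_left, herm_smul_right, hd, mul_one] at hok'
      exact ⟨⟨a, c, by rw [hσ, hσ]; linear_combination hok'⟩, rfl⟩
    · intro x hx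
      by_contra hne
      exact U3Model.b_ne_zero hne hx
    · intro x hx
      have hb := U3Model.b_ne_zero hx
      show ((1 : F)⁻¹ * (1 : F) ^ q * x.b⁻¹) • (x.a • d + ((1 : F)⁻¹ * (1 : F)⁻¹ *
        hermForm N F q (x.a • d) (a0 • d)) • (a0 • d)) = (U3Model.J x).a • d
      rw [U3Model.J_a hx, herm_smul_left, herm_smul_right, hd, smul_smul, ← add_smul, smul_smul, one_pow]
      congr 1
      have h3 : x.a * (a0 ^ q * 1) * a0 = -2 * x.a := by linear_combination x.a * hn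
      field_simp
      linear_combination h3
    · intro x hx
      have hb := U3Model.b_ne_zero hx
      show (1 : F)⁻¹ * (1 * (1 : F) ^ q) * x.b⁻¹ = (U3Model.J x).b
      rw [U3Model.J_b hx, one_pow]
      field_simp

include hF in
theorem hasGoodSplit_PSU (hN : 3 ≤ N) [IsSimpleGroup (PSU N F q)] (hp2 : Odd p) : HasGoodSplit p (PSU N F q) := by
  obtain ⟨m, hm⟩ : ∃ m, N = 2 * m ∨ N = 2 * m + 1 := ⟨N / 2, by omega⟩
  rcases hm with hm | hm
  · obtain ⟨W, hW⟩ := exists_wframe_even hF hm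
    exact hasGoodSplit_even hF hN hp2 W (by omega) hW
  · obtain ⟨W, d, hd, hW⟩ := exists_wframe_odd hF hm
    exact hasGoodSplit_odd hF hN hp2 W (by omega) d hd hW

end Unitary

end Cfsg.Agent.FixBN.WittNodeC
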