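import Cfsg.Agent.FixBN.WittNodeO
import Cfsg.Agent.Nodes.RGDOrth

/-!
# `PΩ⁺_{2m}(q)` has a good split (B, N)-pair

`hasGoodSplit_plus` (odd characteristic, simple group), type `D_m`; and the three orthogonal families for the
Prelude predicates: `hasGoodSplit_POmegaOddChar`, `hasGoodSplit_POmegaPlusChar`, `hasGoodSplit_POmegaMinusChar`.
-/

set_option autoImplicit false

namespace Cfsg.Agent.FixBN.WittNodeD

open CoxeterSystem Cfsg.Agent.ChevalleyStructure.CoxeterGeom Cfsg.Agent.Tits.Roots Cfsg.Agent.Tits.Core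
  Cfsg.Agent.Tits.RootComb Cfsg.Agent.Nodes.Comb Cfsg.Agent.Nodes.Reps Cfsg.Agent.Nodes.BNOf
  Cfsg.Agent.Nodes.RGDLib
open QuadraticMap
open Cfsg.Agent.LieClassical Cfsg.Agent.LieClassical.OrthCore Cfsg.Agent.LieClassical.OrthTrans
open Cfsg.Agent.LieClassical.OrthSimple Cfsg.Agent.LieClassical.OrthFinite Cfsg.Agent.LieClassical.OrthForms
open Cfsg.Agent.TitsThree Cfsg.Agent.TitsThree.Siegel Cfsg.Agent.TitsThree.SiegelGen
  Cfsg.Agent.TitsThree.WittFrame Cfsg.Agent.TitsThree.WittWeyl Cfsg.Agent.TitsThree.WBridge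
  Cfsg.Agent.TitsThree.KSideO
open Cfsg.Agent.Nodes
open Cfsg.Agent.Nodes.WittRoot (Amb XG ZG PG Mono)
open Cfsg.Agent.Nodes.WittRGD (Tor mem_Tor b_ne_zero)
open Cfsg.Agent.Nodes.RGDOrth
open Cfsg.Agent.FixBN.WittNodeA Cfsg.Agent.FixBN.WittNodeB Cfsg.Agent.FixBN.WittNodeC

/-! ### Generalities on root group data -/

section RGD

variable {I W Y : Type*} [Fintype I] [DecidableEq I] [Group W] [Group Y] {M : CoxeterMatrix I}
  {cs : CoxeterSystem M W} {A : I → I → ℤ} {h : IsCartan M A} {p : ℕ} {T : Subgroup Y} {n : I → Y}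
  {X : (I → ℤ) → Subgroup Y}

/-- An element of a simple root group commuting with `n i` is trivial. -/
theorem eq_one_of_comm [Finite W] (R : RGD cs h p T n X) (i : I) {x : Y} (hx : x ∈ X (sr i))
    (hc : n i * x = x * n i) : x = 1 := by
  have h1 : (n i)⁻¹ * x * n i ∈ X (-sr i) := by
    have := R.conj_mem' (rp_simple cs R.nsys i) (isRoot_sr cs h i) hx
    rwa [inv_simple, rep_simple_sr] at this
  have h2 : (n i)⁻¹ * x * n i = x := by rw [mul_assoc, ← hc]; group
  rw [h2] at h1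
  by_contra hne
  exact NodeRGD.not_mem_B_of_neg R i h1 hne (RGD.X_le_B (isRoot_sr cs h i) (sr_nonneg i) hx)

/-- abstract computation of the rank one condition -/
theorem mem_B_of_eq' (R : RGD cs h p T n X) (i : I) {x y m z : Y}
    (e : n i * x * (n i)⁻¹ = y * m * z) (hm : (n i)⁻¹ * m ∈ T) (hz : z ∈ X (sr i)) :
    (y * n i)⁻¹ * (n i * x * n i) ∈ RGD.B cs h T X := by
  have h1 : (y * n i)⁻¹ * (n i * x * n i) = ((n i)⁻¹ * m) * z * (n i * n i) := by
    have h2 : n i * x = y * m * z * n i := by rw [← e]; group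
    rw [h2]; group
  rw [h1]
  exact mul_mem (mul_mem (RGD.T_le_B hm) (RGD.X_le_B (isRoot_sr cs _ i) (sr_nonneg i) hz))
    (RGD.T_le_B (R.sq_mem_T i))

end RGD

/-! ### Type `D` -/

section Matrix

variable {ι : Type} [Fintype ι] [DecidableEq ι] {F : Type} [Field F] {Q : QuadraticForm F (ι → F)}

theorem hasGoodSplit_D [Finite F] (hG : Good Q) {p : ℕ} [Fact p.Prime] [CharP F p] (hp2 : Odd p) {m : ℕ}
    (W : WFrame (PO Q) (m + 2)) (h0 : ∀ p : (toFrame W).Adm, p = 1) (hV : W.V0 = ⊥)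
    [IsSimpleGroup (Cfsg.POmega F ⇑Q)] : HasGoodSplit p (Cfsg.POmega F ⇑Q) := by
  have h2 : (2 : F) ≠ 0 := two_ne_zero_of_odd hp2
  have hA := amb W h2
  have hW : Finite (TypeD.M m).Group := TypeD.finite_W (TypeD.M m).toCoxeterSystem
  have hfin : Finite ((ι → F) ≃ₗ[F] (ι → F)) :=
    Finite.of_injective (fun g : (ι → F) ≃ₗ[F] (ι → F) => (g : (ι → F) → (ι → F))) DFunLike.coe_injective
  have hK : Finite (Cfsg.POmega F ⇑Q) := Quotient.finite _
  have hle : ∀ x, WittRGDD.rg (toFrame W) x ≤ E Q := fun x => iSup_le fun q => by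
    rintro _ ⟨t, rfl⟩; exact hA.X_mem _ _ _
  have R := WittRGDD.rgd hA hp2 h0 (TypeD.M m).toCoxeterSystem
  have hgen0 : E Q ≤ G1 (TypeD.M m).toCoxeterSystem (TypeD.isCartan m) (WittRGDD.rg (toFrame W)) := by
    set K := G1 (TypeD.M m).toCoxeterSystem (TypeD.isCartan m) (WittRGDD.rg (toFrame W)) with hK
    have key : ∀ a b : Fin (m + 2) × Bool, TypeD.Ok a b → ∀ t, (toFrame W).X a b t ∈ K := by
      intro a b hab t
      obtain ⟨z, hz, ez⟩ := TypeD.rt_of_ok (cs := (TypeD.M m).toCoxeterSystem) hab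
      have h1 : XG (toFrame W) a b ≤ K := by
        rw [← WittRGDD.rg_eq (toFrame W) hab ez]
        exact X_le_G1 hz
      exact h1 ⟨t, rfl⟩
    have hkl : (0 : Fin (m + 2)) ≠ 1 := by simp
    refine E_le_of_contains W (contains_D W 0 1 hkl ?_ ?_ h0)
    · intro i j hij t
      have hne : i ≠ j := fun h => by rw [h] at hij; omega
      exact ⟨key (i, true) (j, false) hne t, key (j, true) (i, false) hne.symm t⟩
    · intro t
      exact ⟨key (0, true) (1, true) hkl t, key (0, false) (1, false) hkl t⟩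
  have R1 := rgd_restrict R (E Q) (fun x _ => hle x) (fun i => WittRGDD.nn_mem hA i)
  have R2 := rgd_map_of_ker_le_center R1 (toPOmega hG) fun g hg => center_of_toPOmega hG hg
  have e1 : G1 (TypeD.M m).toCoxeterSystem (TypeD.isCartan m)
      (fun x => (WittRGDD.rg (toFrame W) x).subgroupOf (E Q)) = ⊤ := by
    have e2 : (G1 (TypeD.M m).toCoxeterSystem (TypeD.isCartan m) (WittRGDD.rg (toFrame W))).subgroupOf (E Q) =
        G1 (TypeD.M m).toCoxeterSystem (TypeD.isCartan m)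
          (fun x => (WittRGDD.rg (toFrame W) x).subgroupOf (E Q)) := by
      unfold G1 RGD.Sup
      exact iSup_subgroupOf
        (fun z : {x | IsRoot (TypeD.M m).toCoxeterSystem (TypeD.isCartan m) x} => WittRGDD.rg (toFrame W) z.1)
        fun z => hle z.1
    rw [← e2]
    exact Subgroup.subgroupOf_eq_top.2 hgen0
  have e3 : (G1 (TypeD.M m).toCoxeterSystem (TypeD.isCartan m)
      (fun x => (WittRGDD.rg (toFrame W) x).subgroupOf (E Q))).map (toPOmega hG) =
      G1 (TypeD.M m).toCoxeterSystem (TypeD.isCartan m)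
        (fun x => ((WittRGDD.rg (toFrame W) x).subgroupOf (E Q)).map (toPOmega hG)) := by
    unfold G1 RGD.Sup
    rw [Subgroup.map_iSup]
  have hgen := rgd_gen_of_G1 R2 (by
    rw [← e3, e1, Subgroup.map_top_of_surjective _ (toPOmega_surjective hG)])
  refine hasGoodSplit R2 hgen ?_ fun i => ?_
  · refine Group.isSolvable_of_comm ?_
    rintro ⟨_, g, hg, rfl⟩ ⟨_, k, hk, rfl⟩
    apply Subtype.ext
    show toPOmega hG g * toPOmega hG k = toPOmega hG k * toPOmega hG g
    rw [← map_mul, ← map_mul]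
    exact congrArg _ (Subtype.ext (comm_Tor W hA 0 (by rw [hV, Submodule.span_zero_singleton])
      (Subgroup.mem_subgroupOf.1 hg) (Subgroup.mem_subgroupOf.1 hk)))
  · have hne : ((i, true) : Fin (m + 2) × Bool).1 ≠ (TypeD.nx i).1 := TypeD.ok_nx i
    have hmem : ∀ {u}, u ∈ ((WittRGDD.rg (toFrame W) (sr i)).subgroupOf (E Q)).map (toPOmega hG) ↔
        ∃ a : F, u = toPOmega hG ⟨(toFrame W).X (i, true) (TypeD.nx i) a, hA.X_mem _ _ _⟩ := by
      intro u
      constructor
      · rintro ⟨g, hg, rfl⟩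
        have h1 : (g : (ι → F) ≃ₗ[F] (ι → F)) ∈ WittRGDD.rg (toFrame W) (sr i) := hg
        rw [WittRGDD.rg_sr] at h1
        obtain ⟨a, ha⟩ := h1
        exact ⟨a, congrArg _ (Subtype.ext ha)⟩
      · rintro ⟨a, rfl⟩
        refine ⟨_, ?_, rfl⟩
        show (toFrame W).X (i, true) (TypeD.nx i) a ∈ WittRGDD.rg (toFrame W) (sr i)
        rw [WittRGDD.rg_sr]
        exact ⟨a, rfl⟩
    refine Or.inl ⟨F, inferInstance, inferInstance,
      fun a => toPOmega hG ⟨(toFrame W).X (i, true) (TypeD.nx i) a, hA.X_mem _ _ _⟩, h2, fun a b => ?_,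
      fun a => hmem.2 ⟨a, rfl⟩, fun u hu => hmem.1 hu, fun a ha => ?_, fun a ha => ?_⟩
    · rw [← map_mul]
      exact congrArg _ (Subtype.ext ((toFrame W).X_add _ _ _ _))
    · have h3 := center_of_toPOmega hG ha
      have h4 := eq_one_of_comm R1 i (x := ⟨(toFrame W).X (i, true) (TypeD.nx i) a, hA.X_mem _ _ _⟩) (by
        show (toFrame W).X (i, true) (TypeD.nx i) a ∈ WittRGDD.rg (toFrame W) (sr i)
        rw [WittRGDD.rg_sr]
        exact ⟨a, rfl⟩) (Subgroup.mem_center_iff.1 h3 _)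
      have h5 : (toFrame W).X (i, true) (TypeD.nx i) a = 1 := congrArg Subtype.val h4
      have h6 := X_apply_neg (toFrame W) hne a
      rw [h5] at h6
      have h7 : a • (toFrame W).b (i, true) = 0 := by
        have h8 : (toFrame W).b (neg (TypeD.nx i)) = (toFrame W).b (neg (TypeD.nx i)) + a • (toFrame W).b (i, true) := h6
        exact (add_eq_left.1 h8.symm)
      exact (smul_eq_zero.1 h7).resolve_right (b_ne_zero _)
    · refine mem_B_of_eq' R2 i (m := toPOmega hG ⟨nX (toFrame W) (i, true) (TypeD.nx i) a⁻¹,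
        WittRGDD.nX_mem hA _ _ _⟩) (z := toPOmega hG ⟨(toFrame W).X (i, true) (TypeD.nx i) (-a⁻¹), hA.X_mem _ _ _⟩)
        ?_ ?_ (hmem.2 ⟨_, rfl⟩)
      · rw [← map_inv, ← map_mul, ← map_mul, ← map_mul, ← map_mul]
        exact congrArg _ (Subtype.ext (conj_X_eq (toFrame W) hne ha))
      · rw [← map_inv, ← map_mul]
        refine ⟨_, ?_, rfl⟩
        show (WittRGDD.nn (toFrame W) i)⁻¹ * nX (toFrame W) (i, true) (TypeD.nx i) a⁻¹ ∈ Tor (toFrame W) (E Q)
        exact ⟨mul_mem (inv_mem (WittRGDD.nn_mem hA i)) (WittRGDD.nX_mem hA _ _ _),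
          (((WittRGDD.mono_nn i).inv (TypeD.sg_sg i)).mul (WittRGDD.mono_nX' i (inv_ne_zero ha))).congr
            fun x => TypeD.sg_sg i x⟩

end Matrix

/-! ### The simple groups -/

section Main

theorem hasGoodSplit_plus {F : Type} [Field F] [Finite F] {p : ℕ} [Fact p.Prime] [CharP F p] (hp2 : Odd p) {m : ℕ}
    (hm : 3 ≤ m) [IsSimpleGroup (Cfsg.POmega F (Cfsg.quadFormPlus m F))] :
    HasGoodSplit p (Cfsg.POmega F (Cfsg.quadFormPlus m F)) := by
  revert ‹IsSimpleGroup (Cfsg.POmega F (Cfsg.quadFormPlus m F))›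
  rw [← coe_plusForm]
  intro hs
  have hG : Good (plusForm m F) := by
    apply good_of_finite (nondeg_plusForm m F)
    rw [Module.finrank_fintype_fun_eq_card, Fintype.card_sum, Fintype.card_fin]
    omega
  obtain ⟨m, rfl⟩ : ∃ k, m = k + 2 := ⟨m - 2, by omega⟩
  exact hasGoodSplit_D hG hp2 (wplus (m + 2) F) (wplus_adm _ F) rfl

end Main

end Cfsg.Agent.FixBN.WittNodeD
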