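import Cfsg.Agent.FixBN.WittNodeC
import Cfsg.Agent.TitsThree.KSideO

/-!
# `PΩ_{2m+1}(q)` and `PΩ⁻_{2m}(q)` have good split (B, N)-pairs

The last node: the anisotropic part is a line (parametrised by `F`) or a plane (parametrised by the field
`QuadraticAlgebra F (-b) a` with `q ^ 2` elements).
-/

set_option autoImplicit false

namespace Cfsg.Agent.FixBN.WittNodeO

open QuadraticMap
open Cfsg Cfsg.Agent.LieClassical Cfsg.Agent.LieClassical.OrthCore Cfsg.Agent.LieClassical.OrthTrans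
open Cfsg.Agent.LieClassical.OrthSimple Cfsg.Agent.LieClassical.OrthFinite Cfsg.Agent.LieClassical.OrthForms
open Cfsg.Agent.ChevalleyStructure.CoxeterGeom Cfsg.Agent.Tits.Roots Cfsg.Agent.Nodes.TypeC
open Cfsg.Agent.Nodes.Comb Cfsg.Agent.Nodes.Reps Cfsg.Agent.Nodes.WittRoot Cfsg.Agent.Nodes.BNOf
open Cfsg.Agent.Nodes.WittRGD Cfsg.Agent.Nodes.RGDLib Cfsg.Agent.Nodes.WittModel Cfsg.Agent.Nodes.WittU
open Cfsg.Agent.TitsThree Cfsg.Agent.TitsThree.Siegel Cfsg.Agent.TitsThree.SiegelGen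
  Cfsg.Agent.TitsThree.WittFrame Cfsg.Agent.TitsThree.WBridge Cfsg.Agent.TitsThree.WittWeyl
  Cfsg.Agent.TitsThree.FrameCN Cfsg.Agent.TitsThree.KSideO
open Cfsg.Agent.FixBN.WittNodeA Cfsg.Agent.FixBN.WittNodeB Cfsg.Agent.FixBN.WittNodeC

/-! ### Solvable tori -/

open scoped commutatorElement in
theorem isSolvable_of_comm_comm {G : Type*} [Group G] (h : ∀ a b c d : G, ⁅a, b⁆ * ⁅c, d⁆ = ⁅c, d⁆ * ⁅a, b⁆) :
    Group.IsSolvable G := by
  have h1 : commutator G ≤ Subgroup.centralizer (commutator G : Set G) := by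
    rw [commutator_def, Subgroup.commutator_le]
    intro g1 _ g2 _
    rw [Subgroup.mem_centralizer_iff]
    intro x hx
    have h2 : ⁅(⊤ : Subgroup G), ⊤⁆ ≤ Subgroup.centralizer {⁅g1, g2⁆} := by
      rw [Subgroup.commutator_le]
      intro g3 _ g4 _
      rw [Subgroup.mem_centralizer_iff]
      rintro _ rfl
      exact h g1 g2 g3 g4
    have h3 := Subgroup.mem_centralizer_iff.1 (h2 hx) _ rfl
    exact h3.symm
  refine ⟨⟨2, ?_⟩⟩
  show ⁅⁅(⊤ : Subgroup G), ⊤⁆, ⁅(⊤ : Subgroup G), ⊤⁆⁆ = ⊥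
  exact Subgroup.commutator_eq_bot_iff_le_centralizer.2 h1

section General

variable {F : Type} [Field F] [Finite F] {V : Type*} [AddCommGroup V] [Module F V] [Finite V] {H : HForm F V} {n : ℕ}
  {Fr : Frame H (Fin n)} {K : Type*} [Group K] (M : Model Fr K)

/-- A simple group modelled on a Witt frame with a good last node has a good split (B, N)-pair. -/
theorem hasGoodSplit_of_solvable [IsSimpleGroup K] [Finite K] {p : ℕ} [Fact p.Prime] [CharP F p] (hp2 : Odd p)
    (hA : Amb Fr M.I) {p0 : Fr.Adm} (hp0 : p0.c ≠ 0) (hn : 0 < n) (hT : Group.IsSolvable (T M))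
    (hlast : ∀ (R : RGD (CoxeterMatrix.B n).toCoxeterSystem (isCartan n) p (T M) (nw M hA p0) (X M)) (i : Fin n),
      ¬ (i : ℕ) + 1 < n → GoodAt R i) : HasGoodSplit p K := by
  have hne : Nonempty (Fin n) := ⟨⟨0, hn⟩⟩
  have hfin : Finite (CoxeterMatrix.B n).Group := finite_W (CoxeterMatrix.B n).toCoxeterSystem
  have R := Nodes.WittModel.rgd M hA hp2 hp0 (CoxeterMatrix.B n).toCoxeterSystem
  have hgen := NodeRGD.gen_of_top R (Nodes.WittModel.G1_eq_top M hn (CoxeterMatrix.B n).toCoxeterSystem)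
  refine hasGoodSplit R hgen hT fun i => ?_
  by_cases hi : (i : ℕ) + 1 < n
  · exact goodAt_X hA hp0 R (two_ne_zero_of_odd hp2) hi
  · exact hlast R i hi

omit [Finite F] [Finite V] in
open scoped commutatorElement in
theorem isSolvable_T_of {K : Type*} [Group K] (M : Model Fr K)
    (h : ∀ g k g' k' : V ≃ₗ[F] V, g ∈ Tor Fr M.I → k ∈ Tor Fr M.I → g' ∈ Tor Fr M.I → k' ∈ Tor Fr M.I →
      ⁅g, k⁆ * ⁅g', k'⁆ = ⁅g', k'⁆ * ⁅g, k⁆) : Group.IsSolvable (T M) := by
  refine isSolvable_of_comm_comm ?_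
  rintro ⟨_, g, hg, rfl⟩ ⟨_, k, hk, rfl⟩ ⟨_, g', hg', rfl⟩ ⟨_, k', hk', rfl⟩
  apply Subtype.ext
  show ⁅M.φ g, M.φ k⁆ * ⁅M.φ g', M.φ k'⁆ = ⁅M.φ g', M.φ k'⁆ * ⁅M.φ g, M.φ k⁆
  rw [← map_commutatorElement, ← map_commutatorElement, ← map_mul, ← map_mul]
  exact congrArg _ (Subtype.ext (h _ _ _ _ (Subgroup.mem_subgroupOf.1 hg) (Subgroup.mem_subgroupOf.1 hk)
    (Subgroup.mem_subgroupOf.1 hg') (Subgroup.mem_subgroupOf.1 hk')))

end General

section Amb

variable {F V : Type*} [Field F] [AddCommGroup V] [Module F V] {Q : QuadraticForm F V} {n : ℕ}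

theorem amb_O (h2 : (2 : F) ≠ 0) (W : WFrame (PO Q) n) : Amb (toFrame W) (E Q) := by
  refine amb_of W _ ?_ ?_ ?_ ?_ ?_
  · intro g hg v w
    show polar Q (g v) (g w) = polar Q v w
    exact polar_map (E_le_O hg) v w
  · rintro g hg w c hc
    show c = -Q (g w)
    rw [mem_O.1 (E_le_O hg)]
    exact hc
  · intro x y t
    by_cases h : x.1 = y.1
    · rw [Frame.X, dif_neg (not_not.2 h)]; exact Subgroup.one_mem _
    · rw [Frame.X_eq _ h]
      exact sie_mem _ _ (b_sing W x) ((PO Q).sing_smul (b_sing W y) _)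
  · intro x p
    exact sie_mem _ _ (b_sing W x) p.ok.2
  · intro w _ h
    rw [sing_iff]
    have h1 : polar Q w w = 0 := h
    rw [polar_self'] at h1
    exact (mul_eq_zero.1 h1).resolve_left h2

end Amb

/-! ### Odd dimension -/

section Odd

variable {F : Type} [Field F] [Finite F] {p : ℕ} [Fact p.Prime] [CharP F p]

theorem hasGoodSplit_odd {m : ℕ} (hm : 2 ≤ m) (hp2 : Odd p)
    [IsSimpleGroup (Cfsg.POmega F (Cfsg.quadFormOdd m F))] :
    HasGoodSplit p (Cfsg.POmega F (Cfsg.quadFormOdd m F)) := by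
  have h2 := two_ne_zero_of_odd (F := F) hp2
  revert ‹IsSimpleGroup (Cfsg.POmega F (Cfsg.quadFormOdd m F))›
  rw [← coe_oddForm]
  intro hs
  have hfin : Finite (Cfsg.POmega F ⇑(oddForm m F)) := Quotient.finite _
  have hG : Good (oddForm m F) := by
    apply good_of_finite (nondeg_oddForm m F h2)
    rw [Module.finrank_fintype_fun_eq_card, Fintype.card_sum, Fintype.card_sum, Fintype.card_fin,
      Fintype.card_unit]
    omega
  let d : Unit ⊕ (Fin m ⊕ Fin m) → F := Pi.single (Sum.inl ()) 1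
  have hd : d ∈ (wodd m F).V0 := fun j => by simp [d]
  have hQ : ∀ a : F, (oddForm m F) (a • d) = a ^ 2 := by
    intro a
    rw [coe_oddForm, quadFormOdd_apply]
    simp [d]
  have hW : (wodd m F).V0 = Submodule.span F {d} := by
    ext v
    rw [Submodule.mem_span_singleton]
    constructor
    · intro hv
      have hv' : ∀ j, v (Sum.inr j) = 0 := hv
      refine ⟨v (Sum.inl ()), ?_⟩
      funext j
      rcases j with j | j
      · simp [d]
      · simp [d, hv']
    · rintro ⟨c, rfl⟩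
      exact Submodule.smul_mem _ _ hd
  let f : F → (toFrame (wodd m F)).Adm := fun a =>
    ⟨a • d, -a ^ 2, Submodule.smul_mem _ _ hd, by rw [← hQ]; rfl⟩
  have hp0 : (f 1).c ≠ 0 := by show -(1 : F) ^ 2 ≠ 0; simp
  refine hasGoodSplit_of_model (model (wodd m F) hG ⟨f 1, hp0⟩) hp2 (amb_O h2 _) hp0 (by omega) ?_ ?_
  · intro g k hg hk
    exact comm_Tor _ (amb_O h2 _) d hW hg hk
  · intro R i hi
    have hpol : ∀ a b : F, polar (oddForm m F) (a • d) (b • d) = 2 * a * b := by
      intro a b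
      rw [polar_oddForm]
      simp [d]
    refine goodAt_Z (amb_O h2 _) hp0 R hi h2 f ?_ ?_ ?_ ?_ ?_
    · intro a b
      apply Frame.Adm.ext
      · show (a + b) • d = a • d + b • d
        rw [add_smul]
      · show -(a + b) ^ 2 = -a ^ 2 + -b ^ 2 - (1 : F)⁻¹ * polar (oddForm m F) (b • d) (a • d)
        rw [hpol]; ring
    · rintro ⟨w, c, hw, hok⟩
      obtain ⟨a, rfl⟩ : ∃ a : F, a • d = w := by
        rw [hW] at hw
        exact Submodule.mem_span_singleton.1 hw
      have h3 : c = -(oddForm m F) (a • d) := hok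
      rw [hQ] at h3
      subst h3
      exact ⟨a, rfl⟩
    · intro a ha
      change -a ^ 2 = 0 at ha
      simpa using ha
    · intro a ha
      show ((1 : F)⁻¹ * -(1 : F) ^ 2 * (-a ^ 2)⁻¹) • (a • d + ((1 : F)⁻¹ * (-(1 : F) ^ 2)⁻¹ *
        polar (oddForm m F) (a • d) ((1 : F) • d)) • ((1 : F) • d)) = (-a⁻¹) • d
      rw [hpol, smul_smul, ← add_smul, smul_smul]
      congr 1
      field_simp
      ring
    · intro a ha
      show (1 : F)⁻¹ * (-(1 : F) ^ 2 * -(1 : F) ^ 2) * (-a ^ 2)⁻¹ = -(-a⁻¹) ^ 2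
      field_simp

end Odd

/-! ### Minus type -/

section Minus

variable {F : Type} [Field F] (m : ℕ) (a b : F)

open scoped QuadraticAlgebra

/-- The vector of the anisotropic plane attached to an element of the quadratic extension. -/
def vec (z : QuadraticAlgebra F (-b) a) : (Fin m ⊕ Fin m) ⊕ Fin 2 → F :=
  Sum.elim (fun _ => 0) ![z.re, z.im]

variable {m a b}

@[simp] theorem vec_inl (z : QuadraticAlgebra F (-b) a) (j) : vec m a b z (Sum.inl j) = 0 := rfl
@[simp] theorem vec_inr0 (z : QuadraticAlgebra F (-b) a) : vec m a b z (Sum.inr 0) = z.re := rfl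
@[simp] theorem vec_inr1 (z : QuadraticAlgebra F (-b) a) : vec m a b z (Sum.inr 1) = z.im := rfl

theorem vec_add (z w : QuadraticAlgebra F (-b) a) : vec m a b (z + w) = vec m a b z + vec m a b w := by
  funext j
  rcases j with j | j
  · simp
  · fin_cases j <;> rfl

theorem vec_smul (c : F) (z : QuadraticAlgebra F (-b) a) : vec m a b (c • z) = c • vec m a b z := by
  funext j
  rcases j with j | j
  · simp
  · fin_cases j <;> rfl

theorem vec_zero : vec m a b 0 = 0 := by
  funext j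
  rcases j with j | j
  · rfl
  · fin_cases j <;> rfl

/-- inverse of `vec` -/
def unvec (v : (Fin m ⊕ Fin m) ⊕ Fin 2 → F) : QuadraticAlgebra F (-b) a := ⟨v (Sum.inr 0), v (Sum.inr 1)⟩

theorem unvec_vec (z : QuadraticAlgebra F (-b) a) : unvec (vec m a b z) = z := rfl

theorem vec_unvec {v : (Fin m ⊕ Fin m) ⊕ Fin 2 → F} (hv : ∀ j, v (Sum.inl j) = 0) :
    vec m a b (unvec v) = v := by
  funext j
  rcases j with j | j
  · rw [vec_inl, hv]
  · fin_cases j <;> rfl

theorem vec_injective : Function.Injective (vec m a b) := fun z w h => by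
  rw [← unvec_vec (m := m) z, h, unvec_vec]

theorem form_vec (z : QuadraticAlgebra F (-b) a) : minusForm m F a b (vec m a b z) = z.norm := by
  rw [coe_minusForm, quadFormMinus_apply, QuadraticAlgebra.norm_def]
  simp only [vec_inl, vec_inr0, vec_inr1, mul_zero, Finset.sum_const_zero, zero_add]
  ring

theorem polar_vec (z w : QuadraticAlgebra F (-b) a) :
    polar (minusForm m F a b) (vec m a b z) (vec m a b w) =
      2 * z.re * w.re + a * (z.re * w.im + z.im * w.re) + 2 * b * z.im * w.im := by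
  rw [polar_minusForm]
  simp

variable [Hab : Fact (∀ r : F, r ^ 2 ≠ -b + a * r)]

/-- An `F`-linear map preserving the norm is a multiplication, up to conjugation. -/
theorem exists_type (γ : QuadraticAlgebra F (-b) a → QuadraticAlgebra F (-b) a)
    (hadd : ∀ z w, γ (z + w) = γ z + γ w) (hsmul : ∀ (c : F) z, γ (c • z) = c • γ z)
    (hnorm : ∀ z, (γ z).norm = z.norm) :
    ∃ u : QuadraticAlgebra F (-b) a, u ≠ 0 ∧ ((∀ z, γ z = u * z) ∨ (∀ z, γ z = u * star z)) := by
  set u := γ 1 with hu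
  have hun : u.norm = 1 := by rw [hu, hnorm, map_one]
  have hu0 : u ≠ 0 := by
    rintro h
    rw [h, QuadraticAlgebra.norm_zero] at hun
    exact zero_ne_one hun
  refine ⟨u, hu0, ?_⟩
  set w : QuadraticAlgebra F (-b) a := u⁻¹ * γ ⟨0, 1⟩ with hw
  have hγ : ∀ z, γ z = u * (z.re • 1 + z.im • w) := by
    intro z
    have h1 : z = z.re • (1 : QuadraticAlgebra F (-b) a) + z.im • ⟨0, 1⟩ := by
      ext <;> simp
    conv_lhs => rw [h1, hadd, hsmul, hsmul, ← hu]
    rw [hw, mul_add, mul_smul_comm, mul_smul_comm, mul_one, mul_inv_cancel_left₀ hu0]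
  have hn : ∀ z : QuadraticAlgebra F (-b) a, (z.re • (1 : QuadraticAlgebra F (-b) a) + z.im • w).norm = z.norm := by
    intro z
    have h1 := hnorm z
    rw [hγ, map_mul, hun, one_mul] at h1
    exact h1
  have h1 : w.norm = b := by
    have := hn ⟨0, 1⟩
    simp only [zero_smul, one_smul, zero_add] at this
    rw [this, QuadraticAlgebra.norm_def]; ring
  have h2 : 2 * w.re + a * w.im = a := by
    have := hn ⟨1, 1⟩
    rw [QuadraticAlgebra.norm_def] at h1
    simp only [one_smul, QuadraticAlgebra.norm_def, QuadraticAlgebra.re_add, QuadraticAlgebra.im_add,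
      QuadraticAlgebra.re_one, QuadraticAlgebra.im_one] at this
    linear_combination this - h1
  -- `w` is a root of the minimal polynomial of `ω`
  have h3 : (w - ⟨0, 1⟩) * (w - ⟨a, -1⟩) = 0 := by
    rw [QuadraticAlgebra.norm_def] at h1
    ext
    · simp only [QuadraticAlgebra.re_mul, QuadraticAlgebra.re_sub, QuadraticAlgebra.im_sub, QuadraticAlgebra.re_zero]
      linear_combination w.re * h2 - h1
    · simp only [QuadraticAlgebra.im_mul, QuadraticAlgebra.re_sub, QuadraticAlgebra.im_sub, QuadraticAlgebra.im_zero]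
      linear_combination w.im * h2
  rcases mul_eq_zero.1 h3 with h4 | h4
  · left
    intro z
    rw [hγ, sub_eq_zero.1 h4]
    congr 1
    ext <;> simp
  · right
    intro z
    rw [hγ, sub_eq_zero.1 h4]
    congr 1
    ext
    · simp [mul_comm]
    · simp

/-- conjugation or not -/
def cj' (s : Bool) (z : QuadraticAlgebra F (-b) a) : QuadraticAlgebra F (-b) a := if s then star z else z

omit Hab in
theorem cj'_mul (s : Bool) (z w : QuadraticAlgebra F (-b) a) : cj' s (z * w) = cj' s z * cj' s w := by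
  cases s
  · rfl
  · show star (z * w) = star z * star w
    rw [star_mul, mul_comm]

omit Hab in
theorem cj'_comm (s t : Bool) (z : QuadraticAlgebra F (-b) a) : cj' s (cj' t z) = cj' t (cj' s z) := by
  cases s <;> cases t <;> rfl

omit Hab in
theorem cj'_ne_zero (s : Bool) {z : QuadraticAlgebra F (-b) a} (hz : z ≠ 0) : cj' s z ≠ 0 := by
  cases s
  · exact hz
  · show star z ≠ 0
    exact fun h => hz (star_eq_zero.1 h)

variable (hab : ∀ z₁ z₂ : F, z₁ ^ 2 + a * z₁ * z₂ + b * z₂ ^ 2 = 0 → z₁ = 0 ∧ z₂ = 0)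

omit Hab in
theorem vec_mem (z : QuadraticAlgebra F (-b) a) : vec m a b z ∈ (wminus m F a b hab).V0 := fun _ => rfl

omit Hab in
theorem exists_vec {v : (Fin m ⊕ Fin m) ⊕ Fin 2 → F} (hv : v ∈ (wminus m F a b hab).V0) :
    ∃ z, v = vec m a b z := ⟨unvec v, (vec_unvec hv).symm⟩

theorem tor_type (h2 : (2 : F) ≠ 0) {g : ((Fin m ⊕ Fin m) ⊕ Fin 2 → F) ≃ₗ[F] ((Fin m ⊕ Fin m) ⊕ Fin 2 → F)}
    (hg : g ∈ Tor (toFrame (wminus m F a b hab)) (E (minusForm m F a b))) :
    ∃ u : QuadraticAlgebra F (-b) a, u ≠ 0 ∧ ∃ s : Bool, ∀ z, g (vec m a b z) = vec m a b (u * cj' s z) := by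
  have hA := amb_O h2 (wminus m F a b hab)
  have hV : ∀ z, vec m a b (unvec (g (vec m a b z))) = g (vec m a b z) := fun z =>
    vec_unvec (hA.map_V0 hg.1 hg.2 (ρ := id) (fun _ => rfl) (vec_mem hab z))
  obtain ⟨u, hu, h⟩ := exists_type (fun z => unvec (g (vec m a b z)))
    (fun z w => vec_injective (m := m) (by
      show vec m a b (unvec (g (vec m a b (z + w)))) = vec m a b (unvec (g (vec m a b z)) + unvec (g (vec m a b w)))
      rw [hV, vec_add (m := m) z w, map_add, vec_add (m := m) (unvec _) (unvec _), hV, hV]))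
    (fun c z => vec_injective (m := m) (by
      show vec m a b (unvec (g (vec m a b (c • z)))) = vec m a b (c • unvec (g (vec m a b z)))
      rw [hV, vec_smul (m := m) c z, map_smul, vec_smul (m := m) c (unvec _), hV]))
    (fun z => by rw [← form_vec (m := m), hV, mem_O.1 (E_le_O hg.1), form_vec])
  refine ⟨u, hu, ?_⟩
  rcases h with h | h
  · exact ⟨false, fun z => by rw [← hV, h]; rfl⟩
  · exact ⟨true, fun z => by rw [← hV, h]; rfl⟩

open scoped commutatorElement in
theorem tor_comm (h2 : (2 : F) ≠ 0) {g k : ((Fin m ⊕ Fin m) ⊕ Fin 2 → F) ≃ₗ[F] ((Fin m ⊕ Fin m) ⊕ Fin 2 → F)}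
    (hg : g ∈ Tor (toFrame (wminus m F a b hab)) (E (minusForm m F a b)))
    (hk : k ∈ Tor (toFrame (wminus m F a b hab)) (E (minusForm m F a b))) :
    (∀ x, ⁅g, k⁆ ((toFrame (wminus m F a b hab)).b x) = (toFrame (wminus m F a b hab)).b x) ∧
      ∃ v : QuadraticAlgebra F (-b) a, ∀ z, ⁅g, k⁆ (vec m a b z) = vec m a b (v * z) := by
  have hA := amb_O h2 (wminus m F a b hab)
  have key : ∀ y, ⁅g, k⁆ (k (g y)) = g (k y) := by
    intro y
    have h1 : ⁅g, k⁆ * (k * g) = g * k := by rw [commutatorElement_def]; group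
    have h2 := congrArg (fun f : ((Fin m ⊕ Fin m) ⊕ Fin 2 → F) ≃ₗ[F] ((Fin m ⊕ Fin m) ⊕ Fin 2 → F) => f y) h1
    exact h2
  constructor
  · intro x
    obtain ⟨l, hl, e1⟩ := hg.2 x
    obtain ⟨n, hn, e2⟩ := hk.2 x
    change g _ = l • (toFrame (wminus m F a b hab)).b x at e1
    change k _ = n • (toFrame (wminus m F a b hab)).b x at e2
    have h3 := key ((toFrame (wminus m F a b hab)).b x)
    have h5 : k (g ((toFrame (wminus m F a b hab)).b x)) = (l * n) • (toFrame (wminus m F a b hab)).b x := by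
      rw [e1, map_smul, e2, smul_smul]
    have h6 : g (k ((toFrame (wminus m F a b hab)).b x)) = (l * n) • (toFrame (wminus m F a b hab)).b x := by
      rw [e2, map_smul, e1, smul_smul, mul_comm]
    rw [h5, h6, map_smul] at h3
    have h4 := congrArg ((l * n)⁻¹ • ·) h3
    simp only [smul_smul, inv_mul_cancel₀ (mul_ne_zero hl hn), one_smul] at h4
    exact h4
  · obtain ⟨u, hu, s, hs⟩ := tor_type hab h2 hg
    obtain ⟨w, hw, t, ht⟩ := tor_type hab h2 hk
    refine ⟨(u * cj' s w) * (w * cj' t u)⁻¹, fun z => ?_⟩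
    have hkg : (k * g)⁻¹ ∈ Tor (toFrame (wminus m F a b hab)) (E (minusForm m F a b)) := inv_mem (mul_mem hk hg)
    obtain ⟨z', hz'⟩ := exists_vec hab (hA.map_V0 hkg.1 hkg.2 (ρ := id) (fun _ => rfl) (vec_mem hab z))
    have h3 : k (g (vec m a b z')) = vec m a b z := by
      rw [← hz']
      show (k * g) ((k * g)⁻¹ (vec m a b z)) = _
      rw [← mul_apply', mul_inv_cancel]; rfl
    have h4 := key (vec m a b z')
    rw [h3] at h4
    rw [h4, ht, hs]
    rw [hs, ht] at h3
    have h5 := vec_injective h3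
    rw [cj'_mul] at h5
    rw [cj'_mul, cj'_comm s t, ← h5]
    congr 1
    have h6 : w * cj' t u ≠ 0 := mul_ne_zero hw (cj'_ne_zero t hu)
    have h7 : w * (cj' t u * cj' t (cj' s z')) = (w * cj' t u) * cj' t (cj' s z') := by ring
    rw [h7, ← mul_assoc ((u * cj' s w) * (w * cj' t u)⁻¹), mul_assoc (u * cj' s w), inv_mul_cancel₀ h6, mul_one]
    ring

open scoped commutatorElement in
theorem isSolvable_minus {K : Type*} [Group K] (h2 : (2 : F) ≠ 0) (M : Model (toFrame (wminus m F a b hab)) K)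
    (hM : M.I = E (minusForm m F a b)) : Group.IsSolvable (T M) := by
  refine isSolvable_T_of M fun g k g' k' hg hk hg' hk' => ?_
  rw [hM] at hg hk hg' hk'
  obtain ⟨h1, v, hv⟩ := tor_comm hab h2 hg hk
  obtain ⟨h1', v', hv'⟩ := tor_comm hab h2 hg' hk'
  ext1 y
  show ⁅g, k⁆ (⁅g', k'⁆ y) = ⁅g', k'⁆ (⁅g, k⁆ y)
  obtain ⟨c, d, w, hw, rfl⟩ := (wminus m F a b hab).span y
  obtain ⟨z, rfl⟩ := exists_vec hab hw
  have he : ∀ i, ⁅g, k⁆ ((wminus m F a b hab).e i) = (wminus m F a b hab).e i := fun i => h1 (i, true)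
  have hf : ∀ i, ⁅g, k⁆ ((wminus m F a b hab).f i) = (wminus m F a b hab).f i := fun i => h1 (i, false)
  have he' : ∀ i, ⁅g', k'⁆ ((wminus m F a b hab).e i) = (wminus m F a b hab).e i := fun i => h1' (i, true)
  have hf' : ∀ i, ⁅g', k'⁆ ((wminus m F a b hab).f i) = (wminus m F a b hab).f i := fun i => h1' (i, false)
  simp only [map_add, map_sum, map_smul, he, hf, he', hf', hv, hv']
  congr 2
  ring

end Minus

section MinusMain

variable {F : Type} [Field F] [Finite F] {p : ℕ} [Fact p.Prime] [CharP F p]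

open scoped QuadraticAlgebra in
theorem hasGoodSplit_minus {m : ℕ} (hm : 2 ≤ m) (hp2 : Odd p) (a b : F)
    (hab : ∀ z₁ z₂ : F, z₁ ^ 2 + a * z₁ * z₂ + b * z₂ ^ 2 = 0 → z₁ = 0 ∧ z₂ = 0)
    [IsSimpleGroup (Cfsg.POmega F (Cfsg.quadFormMinus m F a b))] :
    HasGoodSplit p (Cfsg.POmega F (Cfsg.quadFormMinus m F a b)) := by
  have h2 := two_ne_zero_of_odd (F := F) hp2
  have Hab : Fact (∀ r : F, r ^ 2 ≠ -b + a * r) := ⟨fun r hr => by
    have h3 := (hab (-r) 1 (by linear_combination hr)).2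
    exact one_ne_zero h3⟩
  revert ‹IsSimpleGroup (Cfsg.POmega F (Cfsg.quadFormMinus m F a b))›
  rw [← coe_minusForm]
  intro hs
  have hfin : Finite (Cfsg.POmega F ⇑(minusForm m F a b)) := Quotient.finite _
  have hG : Good (minusForm m F a b) := by
    apply good_of_finite (nondeg_minusForm m F a b hab)
    rw [Module.finrank_fintype_fun_eq_card, Fintype.card_sum, Fintype.card_sum, Fintype.card_fin,
      Fintype.card_fin]
    omega
  let f : QuadraticAlgebra F (-b) a → (toFrame (wminus m F a b hab)).Adm := fun z =>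
    ⟨vec m a b z, -z.norm, vec_mem hab z, by rw [← form_vec (m := m)]; rfl⟩
  have hp0 : (f 1).c ≠ 0 := by
    show -(1 : QuadraticAlgebra F (-b) a).norm ≠ 0
    rw [map_one]; simp
  have hfinE : Finite (QuadraticAlgebra F (-b) a) := Finite.of_equiv _ (QuadraticAlgebra.equivProd (-b) a).symm
  have hI : Group.IsSolvable (T (model (wminus m F a b hab) hG ⟨f 1, hp0⟩)) := isSolvable_minus hab h2 _ rfl
  refine hasGoodSplit_of_solvable (model (wminus m F a b hab) hG ⟨f 1, hp0⟩) hp2 (amb_O h2 _) hp0 (by omega) hI ?_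
  intro R i hi
  have h2' : (2 : QuadraticAlgebra F (-b) a) ≠ 0 := by
    intro h
    apply h2
    exact congrArg QuadraticAlgebra.re h
  refine goodAt_Z (amb_O h2 _) hp0 R hi h2' f ?_ ?_ ?_ ?_ ?_
  · intro z w
    apply Frame.Adm.ext
    · exact vec_add z w
    · show -(z + w).norm = -z.norm + -w.norm - (1 : F)⁻¹ * polar (minusForm m F a b) (vec m a b w) (vec m a b z)
      rw [polar_vec]
      simp only [QuadraticAlgebra.norm_def, QuadraticAlgebra.re_add, QuadraticAlgebra.im_add]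
      ring
  · rintro ⟨w, c, hw, hok⟩
    obtain ⟨z, rfl⟩ := exists_vec hab hw
    have h3 : c = -(minusForm m F a b) (vec m a b z) := hok
    rw [form_vec] at h3
    subst h3
    exact ⟨z, rfl⟩
  · intro z hz
    change -z.norm = 0 at hz
    exact QuadraticAlgebra.norm_eq_zero_iff_eq_zero.1 (neg_eq_zero.1 hz)
  · intro z hz
    have hn : z.norm ≠ 0 := fun h => hz (QuadraticAlgebra.norm_eq_zero_iff_eq_zero.1 h)
    show ((1 : F)⁻¹ * -(1 : QuadraticAlgebra F (-b) a).norm * (-z.norm)⁻¹) • (vec m a b z +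
      ((1 : F)⁻¹ * (-(1 : QuadraticAlgebra F (-b) a).norm)⁻¹ *
        polar (minusForm m F a b) (vec m a b z) (vec m a b 1)) • vec m a b 1) = vec m a b (-z⁻¹)
    rw [polar_vec, ← vec_smul, ← vec_add, ← vec_smul]
    congr 1
    rw [QuadraticAlgebra.inv_def, map_one]
    ext
    · simp only [QuadraticAlgebra.re_smul, QuadraticAlgebra.re_add, QuadraticAlgebra.re_neg, QuadraticAlgebra.re_star,
        QuadraticAlgebra.re_one, QuadraticAlgebra.im_one, smul_eq_mul]
      field_simp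
      ring
    · simp only [QuadraticAlgebra.im_smul, QuadraticAlgebra.im_add, QuadraticAlgebra.im_neg, QuadraticAlgebra.im_star,
        QuadraticAlgebra.re_one, QuadraticAlgebra.im_one, smul_eq_mul]
      field_simp
      ring
  · intro z hz
    have hn : z.norm ≠ 0 := fun h => hz (QuadraticAlgebra.norm_eq_zero_iff_eq_zero.1 h)
    show (1 : F)⁻¹ * (-(1 : QuadraticAlgebra F (-b) a).norm * -(1 : QuadraticAlgebra F (-b) a).norm) * (-z.norm)⁻¹ =
      -(-z⁻¹).norm
    have h3 : (-z⁻¹).norm = z.norm⁻¹ := by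
      rw [QuadraticAlgebra.norm_neg, eq_comm, inv_eq_of_mul_eq_one_right]
      rw [← map_mul, mul_inv_cancel₀ hz, map_one]
    rw [h3, map_one]
    field_simp

end MinusMain

end Cfsg.Agent.FixBN.WittNodeO
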